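import Mathlib
import Cfsg.Agent.Lib.Basic
import Cfsg.Agent.Lib.SmallSimple.EightSubgroups
import Cfsg.Agent.S0044

/-!
Solvable subgroups of `A₈` without normal 2-subgroups have a normal 2-complement.

Blueprint: `blueprint/S0517.md`, (LX).
-/

set_option autoImplicit false
set_option linter.unusedSectionVars false
set_option linter.style.haveILetI false

namespace CfsgLib.SRFour

open Cfsg Equiv
open scoped commutatorElement

universe u

variable {X : Type u} [Group X] [Finite X]

theorem card_dvd_of_injective {f : X →* alternatingGroup (Fin 8)} (hf : Function.Injective f) :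
    Nat.card X ∣ 20160 :=
  EightSubgroups.card_A8 ▸ Subgroup.card_dvd_of_injective f hf

theorem odd_card_fitting (hO : pCore 2 X = ⊥) : Odd (Nat.card ↥(fittingSubgroup X)) := by
  haveI : Fact (Nat.Prime 2) := ⟨Nat.prime_two⟩
  rw [← Nat.not_even_iff_odd, even_iff_two_dvd]
  intro h2
  obtain ⟨P⟩ : Nonempty (Sylow 2 ↥(fittingSubgroup X)) := inferInstance
  have hn : ∀ (p : ℕ) (_ : Fact p.Prime) (Q : Sylow p ↥(fittingSubgroup X)),
      (Q : Subgroup ↥(fittingSubgroup X)).Normal :=
    ((Group.isNilpotent_of_finite_tfae (G := ↥(fittingSubgroup X))).out 0 3).mp CfsgLib.isNilpotent_fittingSubgroup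
  have hPn := hn 2 inferInstance P
  have h := CfsgLib.map_pCore_le 2 (fittingSubgroup X)
  rw [← CfsgLib.sylow_eq_pCore_of_normal P, hO, le_bot_iff] at h
  have hP : (P : Subgroup ↥(fittingSubgroup X)) = ⊥ :=
    (Subgroup.map_eq_bot_iff_of_injective _ (fittingSubgroup X).subtype_injective).mp h
  have := P.not_dvd_index
  rw [hP, Subgroup.index_bot] at this
  exact this h2

/-- In a group of order dividing `20160` odd elements act centrally on a normal `p`-subgroup. -/
theorem commutator_mem_centralizer (hX : Nat.card X ∣ 20160) {p : ℕ} [hp : Fact p.Prime] (hp2 : p ≠ 2)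
    {P : Subgroup X} [P.Normal] (hP : IsPGroup p ↥P) {g y : X} (hy : Odd (orderOf y)) :
    ⁅g, y⁆ ∈ Subgroup.centralizer (P : Set X) := by
  classical
  obtain ⟨n, hn⟩ := IsPGroup.iff_card.mp hP
  have hPd : p ^ n ∣ 20160 := hn ▸ (Subgroup.card_subgroup_dvd_card P).trans hX
  set φ : X →* MulAut ↥P := MulAut.conjNormal with hφ
  suffices h : φ ⁅g, y⁆ = 1 by
    rw [Subgroup.mem_centralizer_iff]
    intro a ha
    have h' := congrArg (fun σ : MulAut ↥P => ((σ ⟨a, ha⟩ : ↥P) : X)) h
    simp only [hφ, MulAut.conjNormal_apply, MulAut.one_apply] at h'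
    calc a * ⁅g, y⁆ = (⁅g, y⁆ * a * ⁅g, y⁆⁻¹) * ⁅g, y⁆ := by rw [h']
      _ = ⁅g, y⁆ * a := by group
  rcases Nat.lt_or_ge n 2 with hn2 | hn2
  · haveI : IsCyclic ↥P := by
      interval_cases n
      · haveI : Subsingleton ↥P := (Nat.card_eq_one_iff_unique.mp (by rw [hn, pow_zero])).1
        exact isCyclic_of_subsingleton
      · exact isCyclic_of_prime_card (p := p) (by rw [hn, pow_one])
    rw [map_commutatorElement, commutatorElement_eq_one_iff_mul_comm]
    obtain ⟨a, ha⟩ := IsCyclic.exists_generator (α := ↥P)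
    refine MulEquiv.ext fun b => ?_
    obtain ⟨k, rfl⟩ := Subgroup.mem_zpowers_iff.mp (ha b)
    obtain ⟨i, hi⟩ := Subgroup.mem_zpowers_iff.mp (ha (φ g a))
    obtain ⟨j, hj⟩ := Subgroup.mem_zpowers_iff.mp (ha (φ y a))
    simp only [MulAut.mul_apply, map_zpow, ← hi, ← hj, ← zpow_mul]
    ring_nf
  · have hp3 : p = 3 ∧ n = 2 := by
      have hd : p ∣ 20160 := (dvd_pow_self p (by omega)).trans hPd
      have hmem : p ∈ Nat.primeFactors 20160 := Nat.mem_primeFactors.mpr ⟨hp.out, hd, by norm_num⟩
      rw [show Nat.primeFactors 20160 = {2, 3, 5, 7} from by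
        rw [show (20160 : ℕ) = 2 ^ 6 * (3 ^ 2 * (5 * 7)) by norm_num]
        rw [Nat.primeFactors_mul (by norm_num) (by norm_num), Nat.primeFactors_mul (by norm_num) (by norm_num),
          Nat.primeFactors_mul (by norm_num) (by norm_num), Nat.primeFactors_prime_pow (by norm_num) Nat.prime_two,
          Nat.primeFactors_prime_pow (by norm_num) Nat.prime_three, Nat.Prime.primeFactors (by norm_num),
          Nat.Prime.primeFactors (by norm_num)]
        rfl] at hmem
      simp only [Finset.mem_insert, Finset.mem_singleton] at hmem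
      have h2 : p ^ 2 ∣ 20160 := (pow_dvd_pow p hn2).trans hPd
      rcases hmem with rfl | rfl | rfl | rfl
      · exact absurd rfl hp2
      · refine ⟨rfl, le_antisymm ?_ hn2⟩
        by_contra h3
        exact absurd ((pow_dvd_pow 3 (show 3 ≤ n by omega)).trans hPd) (by norm_num)
      · exact absurd h2 (by norm_num)
      · exact absurd h2 (by norm_num)
    obtain ⟨rfl, rfl⟩ := hp3
    -- the image of the odd element is trivial
    suffices hy1 : φ y = 1 by simp [map_commutatorElement, hy1]
    haveI : IsMulCommutative ↥P := ⟨⟨fun a b => IsPGroup.commutative_of_card_eq_prime_sq hn a b⟩⟩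
    have hPk : P ≤ φ.ker := by
      intro a ha
      rw [MonoidHom.mem_ker]
      refine MulEquiv.ext fun b => Subtype.ext ?_
      rw [hφ, MulAut.conjNormal_apply, MulAut.one_apply]
      have : a * (b : X) = (b : X) * a := congrArg Subtype.val (mul_comm' (⟨a, ha⟩ : ↥P) b)
      rw [this, mul_inv_cancel_right]
    have hr : Nat.card φ.range * Nat.card φ.ker ∣ 20160 := by
      rw [← Subgroup.index_ker, mul_comm, Subgroup.card_mul_index]; exact hX
    have h9 : 9 ∣ Nat.card φ.ker := (hn.symm ▸ Subgroup.card_dvd_of_le hPk : (3 : ℕ) ^ 2 ∣ _)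
    have hr2 : Nat.card φ.range ∣ 2240 := by
      obtain ⟨k, hk⟩ := h9
      rw [hk] at hr
      have : 9 * Nat.card φ.range ∣ 9 * 2240 := by
        refine (Dvd.intro k ?_).trans hr
        ring
      exact Nat.dvd_of_mul_dvd_mul_left (by norm_num) this
    have hAut : Nat.card (MulAut ↥P) ∣ Nat.factorial 9 := by
      have hcard : Nat.card ↥P = 9 := by rw [hn]; norm_num
      have e : Nat.card (Equiv.Perm ↥P) = Nat.factorial 9 := by rw [Nat.card_perm, hcard]
      rw [← e]
      exact Subgroup.card_dvd_of_injective (MulAut.toPerm ↥P) (fun a b h => MulEquiv.ext fun x => Equiv.congr_fun h x)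
    have hord : orderOf (φ y) ∣ Nat.card φ.range := by
      rw [← Nat.card_zpowers]
      exact Subgroup.card_dvd_of_le (by rintro _ ⟨k, rfl⟩; exact ⟨y ^ k, map_zpow φ y k⟩)
    by_contra hne
    obtain ⟨q, hq, hqd⟩ := Nat.exists_prime_and_dvd (fun h => hne (orderOf_eq_one_iff.mp h) : orderOf (φ y) ≠ 1)
    -- `q` is 5 or 7, impossible for automorphisms of a group of order 9
    haveI := Fact.mk hq
    have hqy : q ∣ orderOf y := hqd.trans (orderOf_map_dvd φ y)
    have hq2 : q ≠ 2 := by
      rintro rfl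
      exact Nat.not_even_iff_odd.mpr hy (even_iff_two_dvd.mpr hqy)
    have hq2240 := hqd.trans (hord.trans hr2)
    have hq57 : q = 5 ∨ q = 7 := by
      have hmem : q ∈ Nat.primeFactors 2240 := Nat.mem_primeFactors.mpr ⟨hq, hq2240, by norm_num⟩
      rw [show Nat.primeFactors 2240 = {2, 5, 7} from by
        rw [show (2240 : ℕ) = 2 ^ 6 * (5 * 7) by norm_num]
        rw [Nat.primeFactors_mul (by norm_num) (by norm_num), Nat.primeFactors_mul (by norm_num) (by norm_num),
          Nat.primeFactors_prime_pow (by norm_num) Nat.prime_two, Nat.Prime.primeFactors (by norm_num),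
          Nat.Prime.primeFactors (by norm_num)]
        rfl] at hmem
      simp only [Finset.mem_insert, Finset.mem_singleton] at hmem
      tauto
    obtain ⟨σ, hσmem, hσ⟩ : ∃ σ : MulAut ↥P, σ ∈ Subgroup.zpowers (φ y) ∧ orderOf σ = q := by
      refine ⟨φ y ^ (orderOf (φ y) / q), Subgroup.pow_mem _ (Subgroup.mem_zpowers _) _, ?_⟩
      rw [orderOf_pow_orderOf_div (orderOf_pos (φ y)).ne' hqd]
    have hfix : Nat.card ↥P ≡ Nat.card (MulAction.fixedPoints ↥(Subgroup.zpowers σ) ↥P) [MOD q] :=
      (IsPGroup.of_card (n := 1) (by rw [Nat.card_zpowers, hσ, pow_one])).card_modEq_card_fixedPoints ↥P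
    let Fx : Subgroup ↥P :=
      { carrier := {a | σ a = a}
        mul_mem' := fun {a b} ha hb => by simp only [Set.mem_setOf_eq] at *; rw [map_mul, ha, hb]
        one_mem' := map_one σ
        inv_mem' := fun {a} ha => by simp only [Set.mem_setOf_eq] at *; rw [map_inv, ha] }
    have hFx : Nat.card (MulAction.fixedPoints ↥(Subgroup.zpowers σ) ↥P) = Nat.card Fx := by
      refine Nat.card_congr (Equiv.subtypeEquivRight fun a => ⟨fun h => ?_, fun h τ => ?_⟩)
      · exact h ⟨σ, Subgroup.mem_zpowers σ⟩
      · obtain ⟨k, hk⟩ := Subgroup.mem_zpowers_iff.mp τ.2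
        have : (σ ^ k) a = a := by
          clear hk
          induction k using Int.induction_on with
          | zero => simp
          | succ i ih => rw [zpow_add_one, MulAut.mul_apply, h, ih]
          | pred i ih =>
            rw [zpow_sub_one, MulAut.mul_apply]
            rw [show σ⁻¹ a = a from by rw [MulAut.inv_apply, MulEquiv.symm_apply_eq]; exact h.symm]
            exact ih
        show (τ : MulAut ↥P) a = a
        rw [← hk]; exact this
    have hdv : Nat.card Fx ∣ 9 := by
      have := Subgroup.card_subgroup_dvd_card Fx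
      rwa [hn] at this
    have hne9 : Nat.card Fx ≠ 9 := by
      intro h9
      have htop : Fx = ⊤ := Subgroup.eq_top_of_card_eq _ (by rw [h9, hn]; norm_num)
      have : σ = 1 := MulEquiv.ext fun a => (htop ▸ Subgroup.mem_top a : a ∈ Fx)
      rw [this, orderOf_one] at hσ
      exact hq.one_lt.ne hσ
    rw [hFx, hn] at hfix
    have hmem : Nat.card Fx ∈ Nat.divisors 9 := Nat.mem_divisors.mpr ⟨hdv, by norm_num⟩
    rw [show Nat.divisors 9 = {1, 3, 9} from by decide] at hmem
    simp only [Finset.mem_insert, Finset.mem_singleton] at hmem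
    rcases hmem with h | h | h
    · rw [h] at hfix; rcases hq57 with rfl | rfl <;> simp [Nat.ModEq] at hfix
    · rw [h] at hfix; rcases hq57 with rfl | rfl <;> simp [Nat.ModEq] at hfix
    · exact hne9 h

/-- A solvable group with trivial 2-core embedded in `A₈` has a normal 2-complement. -/
theorem exists_complement (hs : Group.IsSolvable X) {f : X →* alternatingGroup (Fin 8)}
    (hf : Function.Injective f) (hO : pCore 2 X = ⊥) :
    ∃ N : Subgroup X, N.Normal ∧ Odd (Nat.card ↥N) ∧ ∀ y : X, Odd (orderOf y) → y ∈ N := by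
  classical
  set F := fittingSubgroup X with hF
  have hX := card_dvd_of_injective hf
  have hcen : ∀ g y : X, Odd (orderOf y) → ⁅g, y⁆ ∈ F := by
    intro g y hy
    refine Cfsg.Agent.S0044.result ?_
    rw [Subgroup.mem_centralizer_iff]
    intro a ha
    have ha' := CfsgLib.fittingSubgroup_le_iSup_pCore (G := X) ha
    refine Subgroup.iSup_induction _ (C := fun a => a * ⁅g, y⁆ = ⁅g, y⁆ * a) ha' (fun p b hb => ?_) ?_ ?_
    · haveI := Fact.mk p.2
      by_cases hp2 : (p : ℕ) = 2
      · rw [hp2, hO] at hb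
        rw [Subgroup.mem_bot.mp hb, one_mul, mul_one]
      · exact Subgroup.mem_centralizer_iff.mp
          (commutator_mem_centralizer hX hp2 (CfsgLib.isPGroup_pCore (G := X) (p : ℕ)) hy) b hb
    · rw [one_mul, mul_one]
    · intro b c hb hc
      rw [mul_assoc, hc, ← mul_assoc, hb, mul_assoc]
  set π := QuotientGroup.mk' F with hπ
  set A := Subgroup.closure (π '' {y : X | Odd (orderOf y)}) with hA
  have hAc : A ≤ Subgroup.center (X ⧸ F) := by
    refine (Subgroup.closure_le _).mpr ?_
    rintro _ ⟨y, hy, rfl⟩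
    rw [SetLike.mem_coe, Subgroup.mem_center_iff]
    intro a
    obtain ⟨g, rfl⟩ := QuotientGroup.mk'_surjective F a
    have : π ⁅g, y⁆ = 1 := (QuotientGroup.eq_one_iff _).mpr (hcen g y hy)
    rwa [map_commutatorElement, commutatorElement_eq_one_iff_mul_comm] at this
  haveI hAn : A.Normal := ⟨fun a ha g => by
    rw [Subgroup.mem_center_iff.mp (hAc ha) g, mul_inv_cancel_right]; exact ha⟩
  have hodd : ∀ a ∈ A, Odd (orderOf a) := by
    intro a ha
    induction ha using Subgroup.closure_induction with
    | mem b hb =>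
      obtain ⟨y, hy, rfl⟩ := hb
      exact Odd.of_dvd_nat hy (orderOf_map_dvd π y)
    | one => simp
    | mul b c hb hc ihb ihc =>
      exact Odd.of_dvd_nat (ihb.mul ihc)
        ((Commute.orderOf_mul_dvd_lcm (Subgroup.mem_center_iff.mp (hAc hc) b)).trans (Nat.lcm_dvd_mul _ _))
    | inv b hb ihb => rwa [orderOf_inv]
  refine ⟨A.comap π, hAn.comap π, ?_, fun y hy => Subgroup.subset_closure ⟨y, hy, rfl⟩⟩
  have hcard : Nat.card ↥(A.comap π) = Nat.card ↥F * Nat.card ↥A := by
    have h := Subgroup.card_mul_index (A.comap π)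
    rw [Subgroup.index_comap_of_surjective _ (QuotientGroup.mk'_surjective F)] at h
    have h2 : Nat.card X = Nat.card ↥F * (Nat.card ↥A * A.index) := by
      rw [Subgroup.card_mul_index A, ← Subgroup.index_eq_card, Subgroup.card_mul_index]
    rw [h2, ← mul_assoc] at h
    exact Nat.eq_of_mul_eq_mul_right (Nat.pos_of_ne_zero Subgroup.index_ne_zero_of_finite) h
  rw [hcard]
  refine (odd_card_fitting hO).mul ?_
  rw [← Nat.not_even_iff_odd, even_iff_two_dvd]
  intro h2
  haveI : Fact (Nat.Prime 2) := ⟨Nat.prime_two⟩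
  obtain ⟨a, ha⟩ := exists_prime_orderOf_dvd_card' 2 h2
  have := hodd (a : X ⧸ F) a.2
  rw [Subgroup.orderOf_coe, ha] at this
  exact absurd this (by decide)

/-- Seven does not divide the order of a solvable group of even order with trivial 2-core in `A₈`. -/
theorem not_seven_dvd (hs : Group.IsSolvable X) {f : X →* alternatingGroup (Fin 8)}
    (hf : Function.Injective f) (hO : pCore 2 X = ⊥) (h2 : 2 ∣ Nat.card X) : ¬ 7 ∣ Nat.card X := by
  intro h7
  haveI : Fact (Nat.Prime 7) := ⟨by norm_num⟩
  obtain ⟨N, hNn, hNo, hNy⟩ := exists_complement hs hf hO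
  haveI := hNn
  obtain ⟨y, hy⟩ := exists_prime_orderOf_dvd_card' 7 h7
  have hyN : y ∈ N := hNy y (hy ▸ by decide)
  obtain ⟨P⟩ : Nonempty (Sylow 7 ↥N) := inferInstance
  have hP7 : Nat.card ↥(P : Subgroup ↥N) = 7 := by
    obtain ⟨k, hk⟩ := IsPGroup.iff_card.mp P.isPGroup'
    have hdvd : 7 ^ k ∣ 20160 :=
      hk ▸ ((Subgroup.card_subgroup_dvd_card _).trans (Subgroup.card_subgroup_dvd_card N)).trans
        (card_dvd_of_injective hf)
    have hpos : k ≠ 0 := by
      rintro rfl
      have h := P.not_dvd_index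
      rw [Subgroup.eq_bot_of_card_le (P : Subgroup ↥N) (by rw [hk]; simp), Subgroup.index_bot] at h
      exact h (hy ▸ Subgroup.orderOf_dvd_natCard N hyN)
    have hk1 : k ≤ 1 := by
      by_contra hk1
      exact absurd ((pow_dvd_pow 7 (show 2 ≤ k by omega)).trans hdvd) (by norm_num)
    rw [hk, show k = 1 by omega, pow_one]
  set P' := (P : Subgroup ↥N).map N.subtype with hP'
  have hfr := Sylow.normalizer_sup_eq_top P
  have h2N : 2 ∣ Nat.card ↥(Subgroup.normalizer (P' : Set X)) := by
    have h := Subgroup.card_mul_index N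
    have hr : N.index = N.relIndex (Subgroup.normalizer (P' : Set X)) := by
      rw [← Subgroup.relIndex_top_right N, ← hfr, Subgroup.relIndex_sup_right]
    rw [hr] at h
    exact ((Nat.coprime_two_left.mpr hNo).dvd_of_dvd_mul_left (h ▸ h2)).trans (Subgroup.relIndex_dvd_card _ _)
  set g := ((alternatingGroup (Fin 8)).subtype.comp f) with hg
  have hgi : Function.Injective g := (alternatingGroup (Fin 8)).subtype_injective.comp hf
  set e := MonoidHom.ofInjective hgi with he
  refine EightSubgroups.odd_normalizer (K := g.range) ?_ (P'.map e.toMonoidHom) ?_ ?_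
  · rintro _ ⟨x, rfl⟩
    exact (f x).2
  · rw [Subgroup.card_map_of_injective (f := e.toMonoidHom) e.injective, hP',
      Subgroup.card_map_of_injective N.subtype_injective, hP7]
  · rw [← Subgroup.map_equiv_normalizer_eq P' e, Subgroup.card_map_of_injective (f := e.toMonoidHom) e.injective]
    exact h2N

end CfsgLib.SRFour
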