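import Mathlib
import Cfsg.Prelude.Def_CaseTheorems
import Cfsg.Prelude.Def_Involutions

/-!
Simple groups of sectional 2-rank at most four with solvable 2-locals: the hypotheses of the core theorem.

Blueprint: `blueprint/S0517.md`.
-/

set_option autoImplicit false

namespace CfsgLib.SRFour

open Cfsg

universe u

/-- The configuration that the core theorem excludes. -/
structure Hard (G : Type u) [Group G] [Finite G] : Prop where
  simple : IsSimpleGroup G
  nonComm : ¬ IsMulCommutative G
  rank : ¬ PRankLE 2 2 G
  sect : SectionalPRankLE 2 4 G
  solv : ∀ N : Subgroup G, IsTwoLocal N → Group.IsSolvable N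
  charTwo : IsCharacteristicTwoType G
  noSE : ∀ H : Subgroup G, ¬ IsStronglyEmbedded H

end CfsgLib.SRFour
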