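import Mathlib
import Cfsg.Agent.Lib.Basic
import Cfsg.Agent.Lib.Elementary
import Cfsg.Agent.Lib.SRFour.Hyp

/-!
Counting in groups of sectional 2-rank at most four, and small facts about 2-subgroups.

Blueprint: `blueprint/S0517.md`, §1.
-/

set_option autoImplicit false
set_option linter.unusedSectionVars false
set_option linter.style.haveILetI false

namespace CfsgLib.SRFour

open Cfsg
open scoped commutatorElement

universe u

variable {G : Type u} [Group G]

/-- If all squares of `H` lie in `N` then `H` is at most sixteen times as large as `N`. -/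
theorem card_le_of_sq [Finite G] (h4 : SectionalPRankLE 2 4 G) {N H : Subgroup G} (hN : N ≤ H)
    (hn : H ≤ Subgroup.normalizer (N : Set G)) (hsq : ∀ h ∈ H, h * h ∈ N) :
    Nat.card H ≤ 16 * Nat.card N := by
  haveI : (N.subgroupOf H).Normal := Subgroup.normal_subgroupOf_of_le_normalizer hn
  have h2 : ∀ a : ↥H ⧸ N.subgroupOf H, a * a = 1 := fun a => by
    obtain ⟨x, rfl⟩ := QuotientGroup.mk_surjective a
    rw [← QuotientGroup.mk_mul, QuotientGroup.eq_one_iff]
    exact hsq x x.2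
  have hinv : ∀ a : ↥H ⧸ N.subgroupOf H, a⁻¹ = a := fun a => inv_eq_of_mul_eq_one_right (h2 a)
  have hc : ∀ a b : ↥H ⧸ N.subgroupOf H, a * b = b * a := fun a b => by
    calc a * b = (a * b)⁻¹ := (hinv _).symm
      _ = b * a := by rw [mul_inv_rev, hinv, hinv]
  have h := h4 H (N.subgroupOf H) ⊤ ⟨⟨fun a b => Subtype.ext (hc a b)⟩⟩
    (fun a _ => by rw [pow_two]; exact h2 a)
  rw [Subgroup.card_top] at h
  rw [Subgroup.card_eq_card_quotient_mul_card_subgroup (N.subgroupOf H),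
    Nat.card_congr (Subgroup.subgroupOfEquivOfLe hN).toEquiv]
  exact Nat.mul_le_mul_right _ h

/-- An elementary abelian 2-subgroup has order at most sixteen. -/
theorem card_le_sixteen [Finite G] (h4 : SectionalPRankLE 2 4 G) {H : Subgroup G}
    (hsq : ∀ h ∈ H, h * h = 1) : Nat.card H ≤ 16 := by
  have h := card_le_of_sq h4 (N := ⊥) (H := H) bot_le
    (Subgroup.le_normalizer_iff.mpr fun n _ b hb => by
      rw [Subgroup.mem_bot] at hb ⊢; rw [hb]; group)
    (fun h hh => by rw [hsq h hh]; exact one_mem _)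
  rwa [Subgroup.card_bot, mul_one] at h

theorem comm_of_exp_two {H : Subgroup G} (hsq : ∀ h ∈ H, h * h = 1) :
    ∀ a ∈ H, ∀ b ∈ H, a * b = b * a := by
  intro a ha b hb
  have e : ∀ c ∈ H, c⁻¹ = c := fun c hc => inv_eq_of_mul_eq_one_right (hsq c hc)
  calc a * b = (a * b)⁻¹ := (e _ (H.mul_mem ha hb)).symm
    _ = b * a := by rw [mul_inv_rev, e a ha, e b hb]

/-- An element of odd order which fixes a commuting 2-element shift is central on it. -/
theorem fix_of_shift {y a c : G} (hy : Odd (orderOf y)) {k : ℕ} (hc : c ^ 2 ^ k = 1)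
    (hyc : y * c = c * y) (hac : a * c = c * a) (h : y * a * y⁻¹ = a * c) : c = 1 := by
  have hpow : ∀ n : ℕ, y ^ n * a * (y ^ n)⁻¹ = a * c ^ n := by
    intro n
    induction n with
    | zero => simp
    | succ n ih =>
      have hcn : y * c ^ n * y⁻¹ = c ^ n := by
        rw [(Commute.pow_right (hyc : Commute y c) n).eq, mul_inv_cancel_right]
      calc y ^ (n + 1) * a * (y ^ (n + 1))⁻¹ = y * (y ^ n * a * (y ^ n)⁻¹) * y⁻¹ := by
            rw [pow_succ']; group
        _ = (y * a * y⁻¹) * (y * c ^ n * y⁻¹) := by rw [ih]; group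
        _ = a * c ^ (n + 1) := by rw [h, hcn, mul_assoc, ← pow_succ']
  have h1 := hpow (orderOf y)
  rw [pow_orderOf_eq_one, one_mul, inv_one, mul_one, left_eq_mul] at h1
  refine orderOf_eq_one_iff.mp (Nat.eq_one_of_dvd_coprimes ?_ (orderOf_dvd_of_pow_eq_one h1)
    (orderOf_dvd_of_pow_eq_one hc))
  exact ((Nat.coprime_two_right.mpr hy)).pow_right k

/-- An odd element centralising `N` and acting trivially modulo `N` on `A` centralises `A`. -/
theorem fix_of_trivial_mod {N : Subgroup G} (hN : IsPGroup 2 ↥N) {y a : G} (hy : Odd (orderOf y))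
    (hyN : ∀ c ∈ N, y * c = c * y) (haN : ∀ c ∈ N, a * c = c * a) (h : a⁻¹ * (y * a * y⁻¹) ∈ N) :
    y * a = a * y := by
  obtain ⟨k, hk⟩ := hN ⟨_, h⟩
  have hc := fix_of_shift hy (k := k) (congrArg Subtype.val hk) (hyN _ h) (haN _ h) (by group)
  rw [inv_mul_eq_one] at hc
  exact (mul_inv_eq_iff_eq_mul.mp hc.symm)

theorem eq_one_of_odd_mem {P : Subgroup G} (hP : IsPGroup 2 ↥P) {y : G} (hy : Odd (orderOf y)) (h : y ∈ P) :
    y = 1 := by
  obtain ⟨k, hk⟩ := hP ⟨y, h⟩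
  refine orderOf_eq_one_iff.mp (Nat.eq_one_of_dvd_coprimes (a := orderOf y) (b := 2 ^ k) ?_ dvd_rfl
    (orderOf_dvd_of_pow_eq_one (congrArg Subtype.val hk)))
  exact ((Nat.coprime_two_right.mpr hy)).pow_right k

/-- A nontrivial normalised subgroup of a 2-group contains an involution of the centre. -/
theorem exists_central [Finite G] {S A : Subgroup G} (hS : IsPGroup 2 ↥S) (hAS : A ≤ S)
    (hn : S ≤ Subgroup.normalizer (A : Set G)) (hA : A ≠ ⊥) :
    ∃ a ∈ A, a ≠ 1 ∧ a * a = 1 ∧ ∀ s ∈ S, s * a = a * s := by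
  haveI : Fact (Nat.Prime 2) := ⟨Nat.prime_two⟩
  haveI : (A.subgroupOf S).Normal := Subgroup.normal_subgroupOf_of_le_normalizer hn
  haveI : Group.IsNilpotent ↥S := hS.isNilpotent
  have hne : A.subgroupOf S ≠ ⊥ := by
    rw [Ne, Subgroup.subgroupOf_eq_bot, disjoint_iff, inf_eq_left.mpr hAS]
    exact hA
  have hi := CfsgLib.inf_center_ne_bot_of_nilpotent hne
  set D := A.subgroupOf S ⊓ Subgroup.center ↥S with hD
  have h2 : 2 ∣ Nat.card D := by
    obtain ⟨n, hn⟩ := IsPGroup.iff_card.mp (hS.to_subgroup D)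
    rw [hn]
    refine dvd_pow_self 2 ?_
    rintro rfl
    exact hi (Subgroup.eq_bot_of_card_eq _ (by simpa using hn))
  obtain ⟨⟨⟨a, haS⟩, ha⟩, ho⟩ := exists_prime_orderOf_dvd_card' 2 h2
  rw [← Subgroup.orderOf_coe, ← Subgroup.orderOf_coe] at ho
  change orderOf a = 2 at ho
  refine ⟨a, ha.1, ?_, ?_, fun s hs => congrArg Subtype.val (Subgroup.mem_center_iff.mp ha.2 ⟨s, hs⟩)⟩
  · intro e
    rw [e, orderOf_one] at ho
    omega
  · rw [← pow_two, ← ho, pow_orderOf_eq_one]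

/-- In an abelian 2-group the fixed points of an odd group meet the commutators trivially. -/
theorem trace_eq_one [Finite G] {N F : Subgroup G} (hN : IsPGroup 2 ↥N) (hF : Odd (Nat.card ↥F))
    (hcomm : ∀ a ∈ N, ∀ b ∈ N, a * b = b * a) (hn : ∀ f ∈ F, ∀ a ∈ N, f * a * f⁻¹ ∈ N)
    {c : G} (hc : c ∈ Subgroup.closure {b | ∃ a ∈ N, ∃ f ∈ F, b = a⁻¹ * (f * a * f⁻¹)})
    (hfix : ∀ f ∈ F, f * c = c * f) : c = 1 := by
  classical
  haveI := Fintype.ofFinite ↥F
  letI : CommGroup ↥N :=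
    { (inferInstance : Group ↥N) with mul_comm := fun a b => Subtype.ext (hcomm _ a.2 _ b.2) }
  let act : ↥F → ↥N → ↥N := fun f a => ⟨f * a * (f : G)⁻¹, hn _ f.2 _ a.2⟩
  let T : ↥N →* ↥N :=
    { toFun := fun a => ∏ f, act f a
      map_one' := Finset.prod_eq_one fun f _ => Subtype.ext (by simp [act])
      map_mul' := fun a b => by
        rw [← Finset.prod_mul_distrib]
        exact Finset.prod_congr rfl fun f _ => Subtype.ext (by simp [act, mul_assoc]) }
  have hinv : ∀ (g : ↥F) (a : ↥N), T (act g a) = T a := fun g a => by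
    refine Fintype.prod_equiv (Equiv.mulRight g) _ _ fun f => Subtype.ext ?_
    show (f : G) * ((g : G) * a * (g : G)⁻¹) * (f : G)⁻¹ = _
    simp [act]; group
  have hcl : ∀ b ∈ Subgroup.closure {b | ∃ a ∈ N, ∃ f ∈ F, b = a⁻¹ * (f * a * f⁻¹)},
      ∃ h : b ∈ N, T ⟨b, h⟩ = 1 := by
    intro b hb
    induction hb using Subgroup.closure_induction with
    | mem x hx =>
      obtain ⟨a, ha, f, hf, rfl⟩ := hx
      refine ⟨N.mul_mem (N.inv_mem ha) (hn f hf a ha), ?_⟩
      show T ((⟨a, ha⟩ : ↥N)⁻¹ * act ⟨f, hf⟩ ⟨a, ha⟩) = 1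
      rw [map_mul, hinv, map_inv, inv_mul_cancel]
    | one => exact ⟨one_mem N, map_one T⟩
    | mul x y _ _ hx hy =>
      obtain ⟨h1, e1⟩ := hx
      obtain ⟨h2, e2⟩ := hy
      refine ⟨N.mul_mem h1 h2, ?_⟩
      show T (⟨x, h1⟩ * ⟨y, h2⟩) = 1
      rw [map_mul, e1, e2, one_mul]
    | inv x _ hx =>
      obtain ⟨h1, e1⟩ := hx
      refine ⟨N.inv_mem h1, ?_⟩
      show T (⟨x, h1⟩⁻¹) = 1
      rw [map_inv, e1, inv_one]
  obtain ⟨hcN, hT⟩ := hcl c hc
  have hpow : T ⟨c, hcN⟩ = (⟨c, hcN⟩ : ↥N) ^ Nat.card ↥F := by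
    show ∏ f, act f ⟨c, hcN⟩ = _
    rw [Finset.prod_congr rfl (fun f _ => (Subtype.ext (show (f : G) * c * (f : G)⁻¹ = c by
      rw [hfix _ f.2, mul_inv_cancel_right]) : act f ⟨c, hcN⟩ = ⟨c, hcN⟩)),
      Finset.prod_const, Finset.card_univ, Nat.card_eq_fintype_card]
  rw [hT] at hpow
  obtain ⟨k, hk⟩ := hN ⟨c, hcN⟩
  refine congrArg Subtype.val (show (⟨c, hcN⟩ : ↥N) = 1 from orderOf_eq_one_iff.mp ?_)
  exact Nat.eq_one_of_dvd_coprimes ((Nat.coprime_two_right.mpr hF).pow_right k)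
    (orderOf_dvd_of_pow_eq_one hpow.symm) (orderOf_dvd_of_pow_eq_one hk)

end CfsgLib.SRFour
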