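import Mathlib
import Cfsg.Agent.Lib.SRFour.GLFour
import Cfsg.Agent.Lib.SRFour.Rank
import Cfsg.Agent.Lib.SmallSimple.RadicalQuotient
import Cfsg.Agent.Lib.MinSimpleOdd.Basic
import Cfsg.Agent.Lib.ZJ.Complement

/-!
Solvable subgroups of characteristic two and their tops.

Blueprint: `blueprint/S0517.md`, (LX).
-/

set_option autoImplicit false
set_option linter.unusedSectionVars false
set_option linter.style.haveILetI false

namespace CfsgLib.SRFour

open Cfsg
open scoped commutatorElement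

universe u

variable {G : Type u} [Group G] [Finite G]

/-- A solvable subgroup whose 2-core contains its centraliser. -/
structure Good (L : Subgroup G) : Prop where
  solvable : Group.IsSolvable ↥L
  charTwo : ∀ a ∈ L, (∀ q ∈ pCoreOf 2 L, q * a = a * q) → a ∈ pCoreOf 2 L

theorem core_le (L : Subgroup G) : pCoreOf 2 L ≤ L := Subgroup.map_subtype_le _

theorem core_two (L : Subgroup G) : IsPGroup 2 ↥(pCoreOf 2 L) := (CfsgLib.isPGroup_pCore 2).map _

theorem mem_core {L : Subgroup G} {a : G} (ha : a ∈ L) : a ∈ pCoreOf 2 L ↔ (⟨a, ha⟩ : ↥L) ∈ pCore 2 ↥L := by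
  constructor
  · rintro ⟨b, hb, e⟩
    rwa [show (⟨a, ha⟩ : ↥L) = b from Subtype.ext e.symm]
  · intro h
    exact ⟨_, h, rfl⟩

theorem le_normalizer_core (L : Subgroup G) : L ≤ Subgroup.normalizer (pCoreOf 2 L : Set G) := by
  intro x hx
  have h : (⟨x, hx⟩ : ↥L) ∈ Subgroup.normalizer (pCore 2 ↥L : Set ↥L) := by
    rw [Subgroup.normalizer_eq_top]; exact Subgroup.mem_top _
  exact Subgroup.le_normalizer_map L.subtype ⟨_, h, rfl⟩

theorem conj_mem_core {L : Subgroup G} {g a : G} (hg : g ∈ L) (ha : a ∈ pCoreOf 2 L) :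
    g * a * g⁻¹ ∈ pCoreOf 2 L :=
  ((Subgroup.mem_normalizer_iff.mp (le_normalizer_core L hg)) a).mp ha

theorem le_core {L P : Subgroup G} (hP : IsPGroup 2 ↥P) (hPL : P ≤ L)
    (hn : L ≤ Subgroup.normalizer (P : Set G)) : P ≤ pCoreOf 2 L := by
  haveI : (P.subgroupOf L).Normal := Subgroup.normal_subgroupOf_of_le_normalizer hn
  intro a ha
  exact (mem_core (hPL ha)).mpr
    (CfsgLib.le_pCore (N := P.subgroupOf L) (hP.comap_of_injective L.subtype L.subtype_injective) (x := ⟨a, hPL ha⟩) ha)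

theorem core_le_sylow (S : Sylow 2 G) {L : Subgroup G} (hSL : (S : Subgroup G) ≤ L) :
    pCoreOf 2 L ≤ (S : Subgroup G) := by
  haveI : Fact (Nat.Prime 2) := ⟨Nat.prime_two⟩
  rintro _ ⟨a, ha, rfl⟩
  have h := CfsgLib.pCore_le_sylow (S.subtype hSL) ha
  rwa [Sylow.coe_subtype, Subgroup.mem_subgroupOf] at h

theorem core_le_conj (S : Sylow 2 G) {L : Subgroup G} (hSL : (S : Subgroup G) ≤ L) {g a : G} (hg : g ∈ L)
    (ha : a ∈ pCoreOf 2 L) : g * a * g⁻¹ ∈ (S : Subgroup G) :=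
  core_le_sylow S hSL (conj_mem_core hg ha)

/-- A subgroup of a good subgroup containing its 2-core is good. -/
theorem Good.mono {L K : Subgroup G} (h : Good L) (hKL : K ≤ L) (hO : pCoreOf 2 L ≤ K) : Good K := by
  have hOK : pCoreOf 2 L ≤ pCoreOf 2 K :=
    le_core (core_two L) hO (hKL.trans (le_normalizer_core L))
  refine ⟨?_, fun a ha hc => hOK (h.charTwo a (hKL ha) fun q hq => hc q (hOK hq))⟩
  haveI := h.solvable
  exact solvable_of_solvable_injective (Subgroup.inclusion_injective hKL)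

theorem Good.mono_sylow {L K : Subgroup G} (h : Good L) (S : Sylow 2 G) (hSK : (S : Subgroup G) ≤ K)
    (hKL : K ≤ L) : Good K :=
  h.mono hKL ((core_le_sylow S (hSK.trans hKL)).trans hSK)

theorem Hard.good_normalizer (h : Hard G) {P : Subgroup G} (hP : IsPGroup 2 ↥P) (hne : P ≠ ⊥) :
    Good (Subgroup.normalizer (P : Set G)) := by
  refine ⟨h.solv _ ⟨P, hP, hne, rfl⟩, fun a ha hc => ?_⟩
  refine (mem_core ha).mpr (h.charTwo.2 P hP hne ?_)
  rw [Subgroup.mem_centralizer_iff]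
  intro b hb
  exact Subtype.ext (hc b ⟨b, hb, rfl⟩)

theorem Hard.good_of_sylow (h : Hard G) {P : Subgroup G} (hP : IsPGroup 2 ↥P) (hne : P ≠ ⊥)
    (S : Sylow 2 G) {L : Subgroup G} (hSL : (S : Subgroup G) ≤ L) (hL : L ≤ Subgroup.normalizer (P : Set G)) :
    Good L :=
  (h.good_normalizer hP hne).mono_sylow S hSL hL

/-- The top of a good subgroup embeds in the alternating group of degree eight. -/
theorem Good.exists_top {L : Subgroup G} (h : Good L) (h4 : SectionalPRankLE 2 4 G) :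
    Group.IsSolvable (↥L ⧸ pCore 2 ↥L) ∧ pCore 2 (↥L ⧸ pCore 2 ↥L) = ⊥ ∧
      ∃ f : ↥L ⧸ pCore 2 ↥L →* alternatingGroup (Fin 8), Function.Injective f := by
  haveI : Fact (Nat.Prime 2) := ⟨Nat.prime_two⟩
  haveI := h.solvable
  refine ⟨solvable_of_surjective (QuotientGroup.mk'_surjective _), CfsgLib.ZJ.pCore_quotient_pCore_eq_bot,
    CfsgLib.RadicalQuotient.exists_embedding (CfsgLib.MinSimpleOdd.isPConstrained_of_solvable 2) ?_ ?_⟩
  · rw [eq_bot_iff]
    intro a ha
    have hodd : Odd (orderOf a) :=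
      Odd.of_dvd_nat CfsgLib.odd_card_oddCore (Subgroup.orderOf_dvd_natCard _ ha)
    have hdis : ∀ b ∈ pCore 2 ↥L, b * a = a * b := by
      intro b hb
      have h1 : ⁅b, a⁆ ∈ pCore 2 ↥L := by
        have := (inferInstance : (pCore 2 ↥L).Normal).conj_mem _ (inv_mem hb) a
        have := mul_mem hb this
        simpa [commutatorElement_def, mul_assoc] using this
      have h2 : ⁅b, a⁆ ∈ oddCore ↥L := by
        have := mul_mem ((inferInstance : (oddCore ↥L).Normal).conj_mem a ha b) (inv_mem ha)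
        simpa [commutatorElement_def, mul_assoc] using this
      exact commutatorElement_eq_one_iff_mul_comm.mp (eq_one_of_odd_mem (CfsgLib.isPGroup_pCore 2)
        (Odd.of_dvd_nat CfsgLib.odd_card_oddCore (Subgroup.orderOf_dvd_natCard _ h2)) h1)
    have hm := h.charTwo a a.2 fun q hq => by
      obtain ⟨b, hb, rfl⟩ := hq
      exact congrArg Subtype.val (hdis b hb)
    rw [Subgroup.mem_bot]
    exact eq_one_of_odd_mem (CfsgLib.isPGroup_pCore 2) hodd ((mem_core a.2).mp hm)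
  · intro H N _
    let ι : ↥(pCore 2 ↥L) →* G := L.subtype.comp (pCore 2 ↥L).subtype
    have hι : Function.Injective ι := L.subtype_injective.comp (Subgroup.subtype_injective _)
    let e := H.equivMapOfInjective ι hι
    haveI : (N.map e.toMonoidHom).Normal := Subgroup.Normal.map inferInstance _ e.surjective
    intro A hAc hA2
    let q := QuotientGroup.congr N (N.map e.toMonoidHom) e rfl
    have hB := h4 (H.map ι) (N.map e.toMonoidHom) (A.map q.toMonoidHom)
      ⟨⟨by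
        rintro ⟨_, a, ha, rfl⟩ ⟨_, b, hb, rfl⟩
        refine Subtype.ext ?_
        show q a * q b = q b * q a
        rw [← map_mul, ← map_mul]
        exact congrArg q (congrArg Subtype.val (hAc.is_comm.comm (⟨a, ha⟩ : ↥A) ⟨b, hb⟩))⟩⟩
      (by
        rintro _ ⟨a, ha, rfl⟩
        show q a ^ 2 = 1
        rw [← map_pow, hA2 a ha, map_one])
    rwa [← Nat.card_congr (A.equivMapOfInjective q.toMonoidHom q.injective).toEquiv] at hB

theorem eq_one_of_pow_nine {X : Type u} [Group X] [Finite X] {f : X →* alternatingGroup (Fin 8)}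
    (hf : Function.Injective f) {a : X} (ha : a ^ 9 = 1) : a ^ 3 = 1 := by
  apply hf
  rw [map_pow, map_one]
  refine Subtype.ext ?_
  show ((f a : alternatingGroup (Fin 8)) : Equiv.Perm (Fin 8)) ^ 3 = 1
  set σ : Equiv.Perm (Fin 8) := ((f a : alternatingGroup (Fin 8)) : Equiv.Perm (Fin 8))
  have h9 : σ ^ 9 = 1 := by
    show ((f a ^ 9 : alternatingGroup (Fin 8)) : Equiv.Perm (Fin 8)) = 1
    rw [← map_pow, ha, map_one]; rfl
  rw [← orderOf_dvd_iff_pow_eq_one, ← Equiv.Perm.lcm_cycleType]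
  refine Multiset.lcm_dvd.mpr fun n hn => ?_
  have hd : n ∣ 9 := (Equiv.Perm.dvd_of_mem_cycleType hn).trans (orderOf_dvd_of_pow_eq_one h9)
  have hle : n ≤ 8 := by
    have h1 := Equiv.Perm.le_card_support_of_mem_cycleType hn
    exact h1.trans ((Finset.card_le_univ _).trans (by simp))
  interval_cases n <;> first | (exact absurd hd (by decide)) | decide

theorem comm_of_dvd_forty_five {X : Type u} [Group X] [Finite X] (h : Nat.card X ∣ 45) :
    ∀ a b : X, a * b = b * a := by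
  haveI : Fact (Nat.Prime 3) := ⟨Nat.prime_three⟩
  haveI : Fact (Nat.Prime 5) := ⟨Nat.prime_five⟩
  obtain ⟨P⟩ : Nonempty (Sylow 3 X) := inferInstance
  obtain ⟨R⟩ : Nonempty (Sylow 5 X) := inferInstance
  have hP : ∃ k, k ≤ 2 ∧ Nat.card ↥(P : Subgroup X) = 3 ^ k := by
    obtain ⟨k, hk⟩ := IsPGroup.iff_card.mp P.isPGroup'
    refine ⟨k, ?_, hk⟩
    by_contra hk2
    exact absurd ((pow_dvd_pow 3 (show 3 ≤ k by omega)).trans (hk ▸ (Subgroup.card_subgroup_dvd_card _).trans h))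
      (by norm_num)
  have hR : ∃ k, k ≤ 1 ∧ Nat.card ↥(R : Subgroup X) = 5 ^ k := by
    obtain ⟨k, hk⟩ := IsPGroup.iff_card.mp R.isPGroup'
    refine ⟨k, ?_, hk⟩
    by_contra hk2
    exact absurd ((pow_dvd_pow 5 (show 2 ≤ k by omega)).trans (hk ▸ (Subgroup.card_subgroup_dvd_card _).trans h))
      (by norm_num)
  have hPi : (P : Subgroup X).index ∣ 5 := by
    have hc : Nat.Coprime (P : Subgroup X).index 9 :=
      ((Nat.Prime.coprime_iff_not_dvd Nat.prime_three).mpr P.not_dvd_index).symm.pow_right 2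
    exact hc.dvd_of_dvd_mul_left (((Subgroup.index_dvd_card _).trans h).trans (dvd_of_eq (by norm_num)))
  have hRi : (R : Subgroup X).index ∣ 9 := by
    have hc : Nat.Coprime (R : Subgroup X).index 5 :=
      ((Nat.Prime.coprime_iff_not_dvd Nat.prime_five).mpr R.not_dvd_index).symm
    exact hc.dvd_of_dvd_mul_right (((Subgroup.index_dvd_card _).trans h).trans (dvd_of_eq (by norm_num)))
  haveI hPn : (P : Subgroup X).Normal := by
    have h1 : Nat.card (Sylow 3 X) = 1 := by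
      have hd := (P.card_dvd_index).trans hPi
      have hm := card_sylow_modEq_one 3 X
      rcases (Nat.dvd_prime Nat.prime_five).mp hd with e | e
      · exact e
      · rw [e] at hm; simp [Nat.ModEq] at hm
    haveI : Subsingleton (Sylow 3 X) := (Nat.card_eq_one_iff_unique.mp h1).1
    exact Subgroup.normalizer_eq_top_iff.mp (by
      rw [eq_top_iff]; intro g _
      exact Sylow.smul_eq_iff_mem_normalizer.mp (Subsingleton.elim (g • P) P))
  haveI hRn : (R : Subgroup X).Normal := by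
    have h1 : Nat.card (Sylow 5 X) = 1 := by
      have hd := (R.card_dvd_index).trans hRi
      have hm := card_sylow_modEq_one 5 X
      have := Nat.le_of_dvd (by norm_num) hd
      generalize Nat.card (Sylow 5 X) = n at *
      interval_cases n <;> simp [Nat.ModEq] at hm hd ⊢
    haveI : Subsingleton (Sylow 5 X) := (Nat.card_eq_one_iff_unique.mp h1).1
    exact Subgroup.normalizer_eq_top_iff.mp (by
      rw [eq_top_iff]; intro g _
      exact Sylow.smul_eq_iff_mem_normalizer.mp (Subsingleton.elim (g • R) R))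
  intro a b
  rw [← commutatorElement_eq_one_iff_mul_comm, ← Subgroup.mem_bot]
  have hdisj : (P : Subgroup X) ⊓ (R : Subgroup X) = ⊥ := by
    obtain ⟨i, -, hi⟩ := hP
    obtain ⟨j, -, hj⟩ := hR
    refine Subgroup.inf_eq_bot_of_coprime ?_
    rw [hi, hj]
    exact Nat.Coprime.pow _ _ (by norm_num)
  rw [← hdisj]
  refine ⟨?_, ?_⟩
  · have hc : ∀ x y : X ⧸ (P : Subgroup X), x * y = y * x := by
      rcases (Nat.dvd_prime Nat.prime_five).mp hPi with e | e
      · haveI : Subsingleton (X ⧸ (P : Subgroup X)) :=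
          (Nat.card_eq_one_iff_unique.mp ((Subgroup.index_eq_card _).symm.trans e)).1
        exact fun x y => Subsingleton.elim _ _
      · haveI : IsCyclic (X ⧸ (P : Subgroup X)) := isCyclic_of_prime_card ((Subgroup.index_eq_card _).symm.trans e)
        exact mul_comm'
    refine (QuotientGroup.eq_one_iff _).mp ?_
    exact (map_commutatorElement (QuotientGroup.mk' (P : Subgroup X)) a b).trans
      (commutatorElement_eq_one_iff_mul_comm.mpr (hc _ _))
  · have hc : ∀ x y : X ⧸ (R : Subgroup X), x * y = y * x := by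
      obtain ⟨k, hk, e⟩ := (Nat.dvd_prime_pow Nat.prime_three).mp (show (R : Subgroup X).index ∣ 3 ^ 2 by norm_num; exact hRi)
      interval_cases k
      · haveI : Subsingleton (X ⧸ (R : Subgroup X)) :=
          (Nat.card_eq_one_iff_unique.mp (((Subgroup.index_eq_card _).symm.trans e).trans (pow_zero 3))).1
        exact fun x y => Subsingleton.elim _ _
      · haveI : IsCyclic (X ⧸ (R : Subgroup X)) :=
          isCyclic_of_prime_card (((Subgroup.index_eq_card _).symm.trans e).trans (pow_one 3))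
        exact mul_comm'
      · exact IsPGroup.commutative_of_card_eq_prime_sq (p := 3) ((Subgroup.index_eq_card _).symm.trans e)
    refine (QuotientGroup.eq_one_iff _).mp ?_
    exact (map_commutatorElement (QuotientGroup.mk' (R : Subgroup X)) a b).trans
      (commutatorElement_eq_one_iff_mul_comm.mpr (hc _ _))

/-- The preimage of the odd part of the top. -/
theorem Good.exists_oddPre {L : Subgroup G} (h : Good L) (h4 : SectionalPRankLE 2 4 G) :
    ∃ N : Subgroup G, pCoreOf 2 L ≤ N ∧ N ≤ L ∧ L ≤ Subgroup.normalizer (N : Set G) ∧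
      (∀ y ∈ L, Odd (orderOf y) → y ∈ N) ∧
      (∀ a ∈ N, (∃ k, a ^ 2 ^ k ∈ pCoreOf 2 L) → a ∈ pCoreOf 2 L) ∧
      (pCoreOf 2 L).relIndex N ∣ 315 ∧
      (∀ a ∈ N, a ^ 9 ∈ pCoreOf 2 L → a ^ 3 ∈ pCoreOf 2 L) ∧
      ((∃ s ∈ L, s ∉ pCoreOf 2 L ∧ ∃ k, s ^ 2 ^ k ∈ pCoreOf 2 L) →
        (pCoreOf 2 L).relIndex N ∣ 45 ∧ (∀ a ∈ N, ∀ b ∈ N, ⁅a, b⁆ ∈ pCoreOf 2 L) ∧
          ∀ a ∈ N, a ^ 15 ∈ pCoreOf 2 L) := by
  obtain ⟨hs, hO, f, hf⟩ := h.exists_top h4
  obtain ⟨N, hNn, hNo, hNy⟩ := exists_complement hs hf hO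
  haveI := hNn
  set π := QuotientGroup.mk' (pCore 2 ↥L)
  have hmem : ∀ {a : G} (ha : a ∈ L), π ⟨a, ha⟩ = 1 ↔ a ∈ pCoreOf 2 L := fun ha =>
    (QuotientGroup.eq_one_iff _).trans (mem_core ha).symm
  haveI : (N.comap π).Normal := hNn.comap π
  have hle : pCoreOf 2 L ≤ (N.comap π).map L.subtype := by
    intro a ha
    exact ⟨⟨a, core_le L ha⟩, by
      rw [SetLike.mem_coe, Subgroup.mem_comap, (hmem _).mpr ha]; exact one_mem _, rfl⟩
  have hrel : (pCoreOf 2 L).relIndex ((N.comap π).map L.subtype) = Nat.card N := by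
    rw [pCoreOf, Subgroup.relIndex_map_map_of_injective _ _ L.subtype_injective]
    have e : pCore 2 ↥L = π.ker := (QuotientGroup.ker_mk' _).symm
    rw [show (pCore 2 ↥L).relIndex (N.comap π) = π.ker.relIndex (N.comap π) from
      congrArg (fun H : Subgroup ↥L => H.relIndex (N.comap π)) e, ← MonoidHom.comap_bot, Subgroup.relIndex_comap,
      Subgroup.map_comap_eq_self_of_surjective (QuotientGroup.mk'_surjective _), Subgroup.relIndex_bot_left]
  have hc315 : Nat.card N ∣ 315 := by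
    have h1 := (Subgroup.card_subgroup_dvd_card N).trans (card_dvd_of_injective hf)
    exact ((Nat.coprime_two_right.mpr hNo).pow_right 6).dvd_of_dvd_mul_left
      (h1.trans (dvd_of_eq (by norm_num)))
  refine ⟨_, hle, Subgroup.map_subtype_le _, fun x hx => ?_, fun y hy hyo => ?_, ?_, hrel ▸ hc315, ?_, ?_⟩
  · exact Subgroup.le_normalizer_map L.subtype ⟨⟨x, hx⟩, by
      rw [Subgroup.normalizer_eq_top]; exact Subgroup.mem_top _, rfl⟩
  · refine ⟨⟨y, hy⟩, hNy _ (Odd.of_dvd_nat ?_ (orderOf_map_dvd π _)), rfl⟩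
    rwa [← Subgroup.orderOf_coe]
  · rintro _ ⟨⟨a, haL⟩, ha, rfl⟩ ⟨k, hk⟩
    refine (hmem haL).mp (orderOf_eq_one_iff.mp ?_)
    refine Nat.eq_one_of_dvd_coprimes (b := 2 ^ k) ((Nat.coprime_two_right.mpr hNo).pow_right k)
      (Subgroup.orderOf_dvd_natCard N ha) (orderOf_dvd_of_pow_eq_one ?_)
    rw [← map_pow]
    exact (hmem _).mpr hk
  · rintro _ ⟨⟨a, haL⟩, -, rfl⟩ h9
    refine (hmem (pow_mem haL 3)).mp ?_
    show π (⟨a, haL⟩ ^ 3) = 1
    rw [map_pow]
    refine eq_one_of_pow_nine hf ?_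
    rw [← map_pow]
    exact (hmem (pow_mem haL 9)).mpr h9
  · rintro ⟨s, hsL, hsO, k, hk⟩
    have h2 : 2 ∣ Nat.card (↥L ⧸ pCore 2 ↥L) := by
      have h1 : orderOf (π ⟨s, hsL⟩) ∣ 2 ^ k := orderOf_dvd_of_pow_eq_one (by
        rw [← map_pow]; exact (hmem _).mpr hk)
      obtain ⟨i, -, hi⟩ := (Nat.dvd_prime_pow Nat.prime_two).mp h1
      have hi0 : i ≠ 0 := by
        rintro rfl
        exact hsO ((hmem hsL).mp (orderOf_eq_one_iff.mp (by simpa using hi)))
      exact ((dvd_pow_self 2 hi0).trans (dvd_of_eq hi.symm)).trans (orderOf_dvd_natCard _)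
    have h7 : ¬ 7 ∣ Nat.card N := fun h7 =>
      not_seven_dvd hs hf hO h2 (h7.trans (Subgroup.card_subgroup_dvd_card N))
    have h45 : Nat.card N ∣ 45 :=
      (((Nat.Prime.coprime_iff_not_dvd (by norm_num : Nat.Prime 7)).mpr h7).symm).dvd_of_dvd_mul_left
        (hc315.trans (dvd_of_eq (by norm_num)))
    refine ⟨hrel ▸ h45, ?_, ?_⟩
    · rintro _ ⟨⟨a, haL⟩, ha, rfl⟩ _ ⟨⟨b, hbL⟩, hb, rfl⟩
      refine (hmem (by
        exact mul_mem (mul_mem (mul_mem haL hbL) (inv_mem haL)) (inv_mem hbL))).mp ?_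
      show π ⁅(⟨a, haL⟩ : ↥L), ⟨b, hbL⟩⁆ = 1
      rw [map_commutatorElement, commutatorElement_eq_one_iff_mul_comm]
      exact congrArg Subtype.val (comm_of_dvd_forty_five h45 (⟨π ⟨a, haL⟩, ha⟩ : ↥N) ⟨π ⟨b, hbL⟩, hb⟩)
    · rintro _ ⟨⟨a, haL⟩, ha, rfl⟩
      refine (hmem (pow_mem haL 15)).mp ?_
      show π (⟨a, haL⟩ ^ 15) = 1
      rw [map_pow]
      have h1 : π ⟨a, haL⟩ ^ 45 = 1 :=
        orderOf_dvd_iff_pow_eq_one.mp ((Subgroup.orderOf_dvd_natCard N ha).trans h45)
      have h2 := eq_one_of_pow_nine hf (a := π ⟨a, haL⟩ ^ 5) (by rw [← pow_mul]; exact h1)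
      rwa [← pow_mul] at h2

/-- Odd elements move normalised 2-subgroups only inside the 2-core. -/
theorem Good.commutator_mem {L : Subgroup G} (h : Good L) (h4 : SectionalPRankLE 2 4 G) {A : Subgroup G}
    (hA : IsPGroup 2 ↥A) (hAL : A ≤ L) {a y : G} (ha : a ∈ A) (hy : y ∈ L) (hyo : Odd (orderOf y))
    (hyA : y * a⁻¹ * y⁻¹ ∈ A) : ⁅a, y⁆ ∈ pCoreOf 2 L := by
  obtain ⟨N, -, -, hn, hNy, htwo, -⟩ := h.exists_oddPre h4
  have h1 : ⁅a, y⁆ ∈ A := by
    have := mul_mem ha hyA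
    simpa [commutatorElement_def, mul_assoc] using this
  have h2 : ⁅a, y⁆ ∈ N := by
    have := mul_mem ((Subgroup.mem_normalizer_iff.mp (hn (hAL ha)) y).mp (hNy y hy hyo)) (inv_mem (hNy y hy hyo))
    simpa [commutatorElement_def, mul_assoc] using this
  obtain ⟨k, hk⟩ := hA ⟨_, h1⟩
  refine htwo _ h2 ⟨k, ?_⟩
  rw [show ⁅a, y⁆ ^ 2 ^ k = 1 from congrArg Subtype.val hk]
  exact one_mem _

end CfsgLib.SRFour
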