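import Mathlib
import Cfsg.Agent.Lib.SRFour.Local

/-!
Minimal overgroups of a Sylow 2-subgroup outside a given subgroup.

Blueprint: `blueprint/S0517.md`, (MP).
-/

set_option autoImplicit false
set_option linter.unusedSectionVars false
set_option linter.style.haveILetI false

namespace CfsgLib.SRFour

open Cfsg
open scoped commutatorElement

universe u

variable {G : Type u} [Group G]

/-- The minimal overgroup `K = O₂(K) F S` of `S` outside `H`. -/
structure IsOver (S H K F : Subgroup G) : Prop where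
  S_le : S ≤ K
  good : Good K
  not_le : ¬ K ≤ H
  F_le : F ≤ K
  comm : ∀ a ∈ F, ∀ b ∈ F, a * b = b * a
  card : Nat.card F = 3 ∨ Nat.card F = 5 ∨ Nat.card F = 7 ∨ Nat.card F = 9
  exp : ∃ p : ℕ, p.Prime ∧ p ≠ 2 ∧ ∀ f ∈ F, f ^ p = 1
  inter : F ⊓ H = ⊥
  decomp : ∀ k ∈ K, ∃ q ∈ pCoreOf 2 K, ∃ f ∈ F, ∃ n ∈ S,
    n ∈ Subgroup.normalizer (F : Set G) ∧ k = q * f * n
  lift : ∀ s ∈ S, ∃ q ∈ pCoreOf 2 K, ∃ n ∈ S, n ∈ Subgroup.normalizer (F : Set G) ∧ s = q * n
  odd_mem : ∀ y ∈ K, Odd (orderOf y) → ∃ q ∈ pCoreOf 2 K, ∃ f ∈ F, y = q * f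
  irred : ∀ A ≤ F, (∀ n ∈ S, n ∈ Subgroup.normalizer (F : Set G) → ∀ a ∈ A, n * a * n⁻¹ ∈ A) → A = ⊥ ∨ A = F
  moved : (∃ s ∈ S, s ∉ pCoreOf 2 K) → ∀ f ∈ F, f ≠ 1 →
    ∃ n ∈ S, n ∈ Subgroup.normalizer (F : Set G) ∧ n * f ≠ f * n
  seven : (∃ s ∈ S, s ∉ pCoreOf 2 K) → Nat.card F ≠ 7

theorem IsOver.odd_card {S H K F : Subgroup G} (h : IsOver S H K F) : Odd (Nat.card F) := by
  rcases h.card with e | e | e | e <;> rw [e] <;> decide

variable [Finite G]

theorem IsOver.odd_order {S H K F : Subgroup G} (h : IsOver S H K F) {f : G} (hf : f ∈ F) : Odd (orderOf f) :=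
  Odd.of_dvd_nat h.odd_card (Subgroup.orderOf_dvd_natCard F hf)

theorem IsOver.core_inter {S H K F : Subgroup G} (h : IsOver S H K F) {f : G} (hf : f ∈ F)
    (hfO : f ∈ pCoreOf 2 K) : f = 1 :=
  eq_one_of_odd_mem (core_two K) (h.odd_order hf) hfO

/-- An invariant line of a group of order nine has an invariant complement under a 2-group. -/
theorem exists_invariant_line {F A T : Subgroup G} (hT : IsPGroup 2 ↥T) (hFc : Nat.card F = 9)
    (hcomm : ∀ a ∈ F, ∀ b ∈ F, a * b = b * a) (h3 : ∀ f ∈ F, f ^ 3 = 1) (hA : A ≤ F) (hAc : Nat.card A = 3)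
    (hTF : ∀ n ∈ T, ∀ f ∈ F, n * f * n⁻¹ ∈ F) (hTA : ∀ n ∈ T, ∀ a ∈ A, n * a * n⁻¹ ∈ A) :
    ∃ B ≤ F, Nat.card B = 3 ∧ B ≠ A ∧ ∀ n ∈ T, ∀ b ∈ B, n * b * n⁻¹ ∈ B := by
  classical
  haveI : Fact (Nat.Prime 2) := ⟨Nat.prime_two⟩
  haveI : Fact (Nat.Prime 3) := ⟨Nat.prime_three⟩
  obtain ⟨b, hbF, hbA⟩ : ∃ b ∈ F, b ∉ A := by
    by_contra hh
    push Not at hh
    have := Subgroup.card_le_of_le (show F ≤ A from hh)
    omega
  let X := {B : Subgroup G // B ≤ F ∧ Nat.card B = 3 ∧ B ≠ A}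
  have hline : ∀ a : ↥A, Nat.card (Subgroup.zpowers (b * a)) = 3 ∧ Subgroup.zpowers (b * (a : G)) ≤ F ∧
      Subgroup.zpowers (b * (a : G)) ≠ A := by
    intro a
    have hne : b * (a : G) ∉ A := fun h => hbA (by simpa using A.mul_mem h (A.inv_mem a.2))
    have hm : b * (a : G) ∈ F := F.mul_mem hbF (hA a.2)
    refine ⟨?_, Subgroup.zpowers_le.mpr hm, fun e => hne (e.le (Subgroup.mem_zpowers _))⟩
    rw [Nat.card_zpowers]
    exact orderOf_eq_prime (h3 _ hm) fun e => hne (e ▸ A.one_mem)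
  let φ : ↥A → X := fun a => ⟨Subgroup.zpowers (b * (a : G)), (hline a).2.1, (hline a).1, (hline a).2.2⟩
  have hAb : ∀ x ∈ F, ∃ i : Fin 3, ∃ a ∈ A, x = b ^ (i : ℕ) * a := by
    intro x hx
    let g : Fin 3 × ↥A → ↥F := fun p => ⟨b ^ (p.1 : ℕ) * p.2, F.mul_mem (F.pow_mem hbF _) (hA p.2.2)⟩
    have hg : Function.Injective g := by
      rintro ⟨i, a⟩ ⟨j, a'⟩ e
      have e' : b ^ (i : ℕ) * a = b ^ (j : ℕ) * a' := congrArg Subtype.val e
      have hij : ∀ (i j : ℕ) (a a' : ↥A), i ≤ j → j < 3 → b ^ i * (a : G) = b ^ j * a' → i = j := by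
        intro i j a a' hle hj e'
        obtain ⟨d, rfl⟩ := Nat.exists_eq_add_of_le hle
        rw [pow_add, mul_assoc, mul_left_cancel_iff] at e'
        have hd : b ^ d ∈ A := by
          rw [← eq_mul_inv_of_mul_eq e'.symm |>.symm]
          exact A.mul_mem a.2 (A.inv_mem a'.2)
        have hd3 : d < 3 := by omega
        interval_cases d
        · rfl
        · exact absurd (by simpa using hd) hbA
        · refine absurd ?_ hbA
          have h4 : b = (b ^ 2) ^ 2 := by rw [← pow_mul, pow_succ, h3 b hbF, one_mul]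
          rw [h4]
          exact A.pow_mem hd 2
      have hi : i = j := by
        apply Fin.ext
        rcases le_total (i : ℕ) j with hle | hle
        · exact hij _ _ a a' hle j.2 e'
        · exact (hij _ _ a' a hle i.2 e'.symm).symm
      subst hi
      rw [mul_left_cancel_iff] at e'
      exact Prod.ext rfl (Subtype.ext e')
    have hb : Function.Bijective g := by
      refine (Nat.bijective_iff_injective_and_card g).mpr ⟨hg, ?_⟩
      rw [Nat.card_prod, Nat.card_fin, hAc, hFc]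
    obtain ⟨⟨i, a⟩, e⟩ := hb.2 ⟨x, hx⟩
    exact ⟨i, a, a.2, (congrArg Subtype.val e).symm⟩
  have hφ : Function.Bijective φ := by
    constructor
    · intro a a' e
      have e' : Subgroup.zpowers (b * (a : G)) = Subgroup.zpowers (b * (a' : G)) := congrArg Subtype.val e
      obtain ⟨k, hk⟩ := Subgroup.mem_zpowers_iff.mp (e' ▸ Subgroup.mem_zpowers (b * (a' : G)))
      have hm : b * (a : G) ∈ F := F.mul_mem hbF (hA a.2)
      rw [zpow_eq_zpow_emod' k (h3 _ hm)] at hk
      have h0 : (0 : ℤ) ≤ k % ((3 : ℕ) : ℤ) := Int.emod_nonneg _ (by norm_num)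
      have h1 : k % ((3 : ℕ) : ℤ) < 3 := Int.emod_lt_of_pos _ (by norm_num)
      generalize k % ((3 : ℕ) : ℤ) = r at hk h0 h1
      interval_cases r
      · refine absurd ?_ hbA
        rw [zpow_zero] at hk
        have : b = (a' : G)⁻¹ := eq_inv_of_mul_eq_one_left hk.symm
        rw [this]; exact A.inv_mem a'.2
      · rw [zpow_one, mul_left_cancel_iff] at hk
        exact Subtype.ext hk
      · refine absurd ?_ hbA
        have hc : Commute b (a : G) := hcomm _ hbF _ (hA a.2)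
        rw [show (2 : ℤ) = ((2 : ℕ) : ℤ) from rfl, zpow_natCast, hc.mul_pow, pow_two b, mul_assoc,
          mul_left_cancel_iff] at hk
        rw [eq_mul_inv_of_mul_eq hk]
        exact A.mul_mem a'.2 (A.inv_mem (A.pow_mem a.2 2))
    · rintro ⟨B, hBF, hB3, hBA⟩
      obtain ⟨x, hxB, hxA⟩ : ∃ x ∈ B, x ∉ A := by
        by_contra hh
        push Not at hh
        exact hBA (Subgroup.eq_of_le_of_card_ge hh (by rw [hB3, hAc]))
      obtain ⟨i, a, ha, rfl⟩ := hAb x (hBF hxB)
      obtain ⟨a', ha', hmem⟩ : ∃ a' ∈ A, b * a' ∈ B := by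
        fin_cases i
        · exact absurd (by simpa using ha) hxA
        · exact ⟨a, ha, by simpa using hxB⟩
        · refine ⟨a ^ 2, A.pow_mem ha 2, ?_⟩
          have hc : Commute b a := hcomm _ hbF _ (hA ha)
          have h4 : b * a ^ 2 = (b ^ 2 * a) ^ 2 := by
            rw [((hc.pow_left 2)).mul_pow, ← pow_mul, pow_succ b 3, h3 b hbF, one_mul]
          rw [h4]
          exact B.pow_mem hxB 2
      refine ⟨⟨a', ha'⟩, Subtype.ext ?_⟩
      exact Subgroup.eq_of_le_of_card_ge (Subgroup.zpowers_le.mpr hmem)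
        (by rw [hB3, (hline ⟨a', ha'⟩).1])
  have hX : Nat.card X = 3 := by rw [← Nat.card_eq_of_bijective φ hφ, hAc]
  letI : MulAction ↥T X :=
    { smul := fun n B => ⟨B.1.map (MulAut.conj (n : G)).toMonoidHom, by
        rintro _ ⟨x, hx, rfl⟩
        exact hTF _ n.2 _ (B.2.1 hx), by
        rw [Subgroup.card_map_of_injective (f := (MulAut.conj (n : G)).toMonoidHom) (MulAut.conj (n : G)).injective]
        exact B.2.2.1, fun e => B.2.2.2 (Subgroup.eq_of_le_of_card_ge (fun x hx => by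
          have h1 : (n : G) * x * (n : G)⁻¹ ∈ A := e ▸ ⟨x, hx, rfl⟩
          simpa [mul_assoc] using hTA _ (inv_mem n.2) _ h1) (by rw [hAc, B.2.2.1]))⟩
      one_smul := fun B => Subtype.ext (by
        show B.1.map (MulAut.conj (1 : G)).toMonoidHom = B.1
        rw [map_one]; exact Subgroup.map_id _)
      mul_smul := fun m n B => Subtype.ext (by
        show B.1.map (MulAut.conj ((m : G) * n)).toMonoidHom =
          (B.1.map (MulAut.conj (n : G)).toMonoidHom).map (MulAut.conj (m : G)).toMonoidHom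
        rw [Subgroup.map_map, map_mul]; rfl) }
  have hfix := hT.card_modEq_card_fixedPoints X
  rw [hX] at hfix
  haveI : Nonempty (MulAction.fixedPoints ↥T X) := by
    by_contra hh
    rw [not_nonempty_iff] at hh
    rw [Nat.card_of_isEmpty] at hfix
    exact absurd hfix (by decide)
  obtain ⟨⟨B, hB⟩⟩ := ‹Nonempty (MulAction.fixedPoints ↥T X)›
  refine ⟨B.1, B.2.1, B.2.2.1, B.2.2.2, fun n hn x hx => ?_⟩
  have e : B.1.map (MulAut.conj n).toMonoidHom = B.1 := congrArg Subtype.val (hB ⟨n, hn⟩)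
  exact e ▸ ⟨x, hx, rfl⟩

/-- An element outside of minimal odd order has prime power order. -/
theorem exists_prime_pow_out {H : Subgroup G} {y : G} (hy : Odd (orderOf y)) (hyH : y ∉ H) :
    ∃ (z : G) (p a : ℕ), z ∈ Subgroup.zpowers y ∧ p.Prime ∧ orderOf z = p ^ a ∧ a ≠ 0 ∧ z ∉ H ∧ z ^ p ∈ H := by
  classical
  have hex : ∃ n, ∃ z ∈ Subgroup.zpowers y, z ∉ H ∧ orderOf z = n := ⟨_, y, Subgroup.mem_zpowers y, hyH, rfl⟩
  obtain ⟨z, hz, hzH, hzn⟩ := Nat.find_spec hex
  have hmin : ∀ w ∈ Subgroup.zpowers y, orderOf w < orderOf z → w ∈ H := fun w hw hlt => by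
    by_contra hwH
    exact Nat.find_min hex (hzn ▸ hlt) ⟨w, hw, hwH, rfl⟩
  have hz1 : orderOf z ≠ 1 := fun e => hzH (orderOf_eq_one_iff.mp e ▸ H.one_mem)
  set p := (orderOf z).minFac
  have hp : p.Prime := Nat.minFac_prime hz1
  have hlt : ∀ r, r.Prime → r ∣ orderOf z → z ^ r ∈ H := fun r hr hd => by
    refine hmin _ (Subgroup.pow_mem _ hz r) ?_
    rw [orderOf_pow, Nat.gcd_eq_right hd]
    exact Nat.div_lt_self (orderOf_pos z) hr.one_lt
  have hpp : ∀ {r : ℕ}, r.Prime → r ∣ orderOf z → r = p := fun {r} hr hd => by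
    by_contra hne
    have hcop : Nat.Coprime r p := (Nat.coprime_primes hr hp).mpr hne
    have hb := Nat.gcd_eq_gcd_ab r p
    rw [hcop.gcd_eq_one] at hb
    refine hzH ?_
    rw [show z = (z ^ r) ^ (Nat.gcdA r p) * (z ^ p) ^ (Nat.gcdB r p) by
      rw [← zpow_natCast, ← zpow_natCast, ← zpow_mul, ← zpow_mul, ← zpow_add, ← hb]; simp]
    exact H.mul_mem (H.zpow_mem (hlt r hr hd) _) (H.zpow_mem (hlt p hp (Nat.minFac_dvd _)) _)
  have ha := Nat.eq_prime_pow_of_unique_prime_dvd (orderOf_pos z).ne' hpp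
  refine ⟨z, p, (orderOf z).primeFactorsList.length, hz, hp, ha, fun e => hz1 (by rw [ha, e, pow_zero]), hzH,
    hlt p hp (Nat.minFac_dvd _)⟩

theorem orderOf_dvd_relIndex {O N : Subgroup G} (hn : N ≤ Subgroup.normalizer (O : Set G)) {y : G} (hy : y ∈ N)
    (htriv : ∀ k : ℕ, y ^ k ∈ O → y ^ k = 1) : orderOf y ∣ O.relIndex N := by
  haveI : (O.subgroupOf N).Normal := Subgroup.normal_subgroupOf_of_le_normalizer hn
  set π := QuotientGroup.mk' (O.subgroupOf N)
  refine (?_ : orderOf y ∣ orderOf (π ⟨y, hy⟩)).trans (orderOf_dvd_natCard _)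
  refine orderOf_dvd_of_pow_eq_one (htriv _ ?_)
  have := pow_orderOf_eq_one (π ⟨y, hy⟩)
  rw [← map_pow] at this
  exact (QuotientGroup.eq_one_iff ((⟨y, hy⟩ : ↥N) ^ orderOf (π ⟨y, hy⟩))).mp this

/-- The factorisation of `K` given by a normal subgroup `M` containing the odd elements. -/
theorem factor_of_odd {S : Sylow 2 G} {K M : Subgroup G} (hSK : (S : Subgroup G) ≤ K) (hMK : M ≤ K)
    (hn : K ≤ Subgroup.normalizer (M : Set G)) (hodd : ∀ y ∈ K, Odd (orderOf y) → y ∈ M) :
    ∀ k ∈ K, ∃ m ∈ M, ∃ s ∈ (S : Subgroup G), k = m * s := by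
  haveI : Fact (Nat.Prime 2) := ⟨Nat.prime_two⟩
  haveI : (M.subgroupOf K).Normal := Subgroup.normal_subgroupOf_of_le_normalizer hn
  set π := QuotientGroup.mk' (M.subgroupOf K)
  have h2 : IsPGroup 2 (↥K ⧸ M.subgroupOf K) := by
    intro a
    obtain ⟨x, rfl⟩ := QuotientGroup.mk'_surjective (M.subgroupOf K) a
    obtain ⟨k, m, hm, he⟩ := Nat.exists_eq_pow_mul_and_not_dvd (orderOf_pos (x : G)).ne' 2 (by norm_num)
    refine ⟨k, ?_⟩
    rw [← map_pow]
    refine (QuotientGroup.eq_one_iff _).mpr (hodd _ (pow_mem x.2 _) ?_)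
    show Odd (orderOf ((x : G) ^ 2 ^ k))
    rw [orderOf_pow, he, Nat.gcd_eq_right (dvd_mul_right _ _), Nat.mul_div_cancel_left _ (by positivity)]
    exact Nat.not_even_iff_odd.mp fun e => hm (even_iff_two_dvd.mp e)
  set P := S.subtype hSK
  have htop : (P : Subgroup ↥K).map π = ⊤ := by
    have hP := (Sylow.mapSurjective (QuotientGroup.mk'_surjective (M.subgroupOf K)) P)
    have := (Sylow.mapSurjective (QuotientGroup.mk'_surjective (M.subgroupOf K)) P).is_maximal'
      (h2.of_injective (⊤ : Subgroup _).subtype (Subgroup.subtype_injective _)) le_top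
    exact this.symm
  intro k hk
  obtain ⟨s, hs, e⟩ := (htop ▸ Subgroup.mem_top (π ⟨k, hk⟩) : π ⟨k, hk⟩ ∈ (P : Subgroup ↥K).map π)
  have hm : (⟨k, hk⟩ : ↥K) * s⁻¹ ∈ M.subgroupOf K := by
    refine (QuotientGroup.eq_one_iff _).mp ?_
    show π (_ * _) = 1
    rw [map_mul, map_inv, e, mul_inv_cancel]
  refine ⟨_, hm, (s : G), ?_, ?_⟩
  · rwa [Sylow.coe_subtype, SetLike.mem_coe, Subgroup.mem_subgroupOf] at hs
  · show k = (k * (s : G)⁻¹) * s
    rw [inv_mul_cancel_right]

/-- Minimal overgroups exist. -/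
theorem exists_over (h4 : SectionalPRankLE 2 4 G) (S : Sylow 2 G) {L H : Subgroup G} (hL : Good L)
    (hSL : (S : Subgroup G) ≤ L) (hSH : (S : Subgroup G) ≤ H) (hLH : ¬ L ≤ H) :
    ∃ K F : Subgroup G, K ≤ L ∧ IsOver (S : Subgroup G) H K F := by
  classical
  haveI : Fact (Nat.Prime 2) := ⟨Nat.prime_two⟩
  let C : Set (Subgroup G) := {K | (S : Subgroup G) ≤ K ∧ K ≤ L ∧ ¬ K ≤ H}
  obtain ⟨K, hKC, hKmin⟩ := (Set.toFinite C).exists_minimal ⟨L, hSL, le_rfl, hLH⟩
  obtain ⟨hSK, hKL, hKH⟩ := hKC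
  have hmin : ∀ R : Subgroup G, (S : Subgroup G) ≤ R → R ≤ K → ¬ R ≤ H → K ≤ R := fun R h1 h2 h3 =>
    hKmin ⟨h1, h2.trans hKL, h3⟩ h2
  have hK : Good K := hL.mono_sylow S hSK hKL
  set O := pCoreOf 2 K with hO
  have hOS : O ≤ (S : Subgroup G) := core_le_sylow S hSK
  obtain ⟨N, hON, hNK, hNn, hNy, htwo, hdvd, hnine, heven⟩ := hK.exists_oddPre h4
  have hfac := factor_of_odd hSK hNK hNn hNy
  obtain ⟨y0, hy0, hy0o, hy0H⟩ : ∃ y ∈ K, Odd (orderOf y) ∧ y ∉ H := by
    by_contra hh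
    push Not at hh
    refine hKH fun k hk => ?_
    obtain ⟨m, hm, s, hs, rfl⟩ := hfac k hk
    refine H.mul_mem ?_ (hSH hs)
    obtain ⟨i, r, hr, he⟩ := Nat.exists_eq_pow_mul_and_not_dvd (orderOf_pos m).ne' 2 (by norm_num)
    have hro : Odd r := Nat.not_even_iff_odd.mp fun e => hr (even_iff_two_dvd.mp e)
    have h1 : m ^ 2 ^ i ∈ H := by
      refine hh _ (pow_mem (hNK hm) _) ?_
      rwa [orderOf_pow, he, Nat.gcd_eq_right (dvd_mul_right _ _), Nat.mul_div_cancel_left _ (by positivity)]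
    have h2 : m ^ r ∈ H := hSH (hOS (htwo _ (N.pow_mem hm r) ⟨i, by
      rw [← pow_mul, mul_comm, ← he, pow_orderOf_eq_one]; exact one_mem _⟩))
    have hb := Nat.gcd_eq_gcd_ab (2 ^ i) r
    rw [((Nat.coprime_two_left.mpr hro).pow_left i).gcd_eq_one] at hb
    rw [show m = (m ^ 2 ^ i) ^ (Nat.gcdA (2 ^ i) r) * (m ^ r) ^ (Nat.gcdB (2 ^ i) r) by
      rw [← zpow_natCast, ← zpow_natCast, ← zpow_mul, ← zpow_mul, ← zpow_add, ← hb]; simp]
    exact H.mul_mem (H.zpow_mem h1 _) (H.zpow_mem h2 _)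
  obtain ⟨y, p, a, hyy, hp, hya, ha0, hyH, hypH⟩ := exists_prime_pow_out hy0o hy0H
  have hyK : y ∈ K := (Subgroup.zpowers_le.mpr hy0) hyy
  have hyo : Odd (orderOf y) := Odd.of_dvd_nat hy0o (orderOf_dvd_of_mem_zpowers hyy)
  have hp2 : p ≠ 2 := by
    rintro rfl
    exact Nat.not_even_iff_odd.mpr hyo (even_iff_two_dvd.mpr (hya ▸ dvd_pow_self 2 ha0))
  haveI : Fact p.Prime := ⟨hp⟩
  have hyN : y ∈ N := hNy y hyK hyo
  have hOn : N ≤ Subgroup.normalizer (O : Set G) := hNK.trans (le_normalizer_core K)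
  have hytriv : ∀ k : ℕ, y ^ k ∈ O → y ^ k = 1 := fun k hk =>
    eq_one_of_odd_mem (core_two K) (Odd.of_dvd_nat hyo (orderOf_pow_dvd k)) hk
  by_cases hcase : ∃ s ∈ (S : Subgroup G), s ∉ O
  · obtain ⟨s0, hs0, hs0O⟩ := hcase
    obtain ⟨h45, hNc, hN15⟩ := heven ⟨s0, hSK hs0, hs0O, by
      obtain ⟨k, hk⟩ := S.isPGroup' ⟨s0, hs0⟩
      exact ⟨k, by rw [show s0 ^ 2 ^ k = 1 from congrArg Subtype.val hk]; exact one_mem _⟩⟩
    have hy15 : orderOf y ∣ 15 := orderOf_dvd_of_pow_eq_one (hytriv 15 (hN15 y hyN))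
    have hp35 : p = 3 ∨ p = 5 := by
      have hd : p ∣ 3 * 5 := (hya ▸ dvd_pow_self p ha0).trans hy15
      rcases (Nat.Prime.dvd_mul hp).mp hd with e | e
      · exact Or.inl ((Nat.prime_dvd_prime_iff_eq hp Nat.prime_three).mp e)
      · exact Or.inr ((Nat.prime_dvd_prime_iff_eq hp Nat.prime_five).mp e)
    haveI hOnn : (O.subgroupOf N).Normal := Subgroup.normal_subgroupOf_of_le_normalizer hOn
    obtain ⟨P⟩ : Nonempty (Sylow p ↥N) := inferInstance
    set F := (P : Subgroup ↥N).map N.subtype with hF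
    have hFN : F ≤ N := Subgroup.map_subtype_le _
    have hFp : IsPGroup p ↥F := P.isPGroup'.map _
    have hFodd : ∀ f ∈ F, Odd (orderOf f) := fun f hf => by
      obtain ⟨k, hk⟩ := hFp ⟨f, hf⟩
      exact Odd.of_dvd_nat ((hp.odd_of_ne_two hp2).pow)
        (orderOf_dvd_of_pow_eq_one (congrArg Subtype.val hk : f ^ p ^ k = 1))
    have hFO : ∀ f ∈ F, f ∈ O → f = 1 := fun f hf hfO => eq_one_of_odd_mem (core_two K) (hFodd f hf) hfO
    have hFexp : ∀ f ∈ F, f ^ p = 1 := fun f hf => by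
      have h15 : f ^ 15 = 1 := hFO _ (pow_mem hf 15) (hN15 f (hFN hf))
      obtain ⟨k, hk⟩ := hFp ⟨f, hf⟩
      have hk' : f ^ p ^ k = 1 := congrArg Subtype.val hk
      have hd : orderOf f ∣ Nat.gcd 15 (p ^ k) :=
        Nat.dvd_gcd (orderOf_dvd_of_pow_eq_one h15) (orderOf_dvd_of_pow_eq_one hk')
      refine orderOf_dvd_iff_pow_eq_one.mp ?_
      obtain ⟨i, -, hi⟩ := (Nat.dvd_prime_pow hp).mp (hd.trans (Nat.gcd_dvd_right _ _))
      have hi1 : i ≤ 1 := by
        by_contra hi1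
        have hd2 : p ^ 2 ∣ 15 := ((pow_dvd_pow p (show 2 ≤ i by omega)).trans (dvd_of_eq hi.symm)).trans
          (hd.trans (Nat.gcd_dvd_left _ _))
        rcases hp35 with rfl | rfl <;> norm_num at hd2
      rw [hi]
      exact (pow_dvd_pow p hi1).trans (dvd_of_eq (pow_one p))
    have hFcomm : ∀ a ∈ F, ∀ b ∈ F, a * b = b * a := fun a ha b hb =>
      commutatorElement_eq_one_iff_mul_comm.mp (hFO _ (mul_mem (mul_mem (mul_mem ha hb) (inv_mem ha)) (inv_mem hb))
        (hNc a (hFN ha) b (hFN hb)))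
    set M := O ⊔ F with hM
    have hMN : M ≤ N := sup_le hON hFN
    have hFn : F ≤ Subgroup.normalizer (O : Set G) := hFN.trans hOn
    have hMmem : ∀ m ∈ M, ∃ q ∈ O, ∃ f ∈ F, m = q * f := by
      intro m hm
      rw [hM, ← SetLike.mem_coe, Subgroup.coe_mul_of_right_le_normalizer_left O F hFn] at hm
      obtain ⟨q, hq, f, hf, rfl⟩ := hm
      exact ⟨q, hq, f, hf, rfl⟩
    have hMp : ∀ a ∈ N, a ^ p ∈ O → a ∈ M := by
      intro a ha hap
      set P' := O.subgroupOf N ⊔ (P : Subgroup ↥N) with hP'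
      haveI : P'.Normal := by
        constructor
        intro x hx g
        have : g * x * g⁻¹ = ⁅g, x⁆ * x := by rw [commutatorElement_def]; group
        rw [this]
        exact P'.mul_mem (Subgroup.mem_sup_left (hNc g g.2 x x.2 : ((⁅g, x⁆ : ↥N) : G) ∈ O)) hx
      have hcop : Nat.Coprime p P'.index := by
        refine (Nat.Prime.coprime_iff_not_dvd hp).mpr fun hd => P.not_dvd_index ?_
        exact hd.trans (Subgroup.index_dvd_of_le (le_sup_right : (P : Subgroup ↥N) ≤ P'))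
      have h1 : QuotientGroup.mk' P' ⟨a, ha⟩ = 1 := by
        refine orderOf_eq_one_iff.mp (Nat.eq_one_of_dvd_coprimes hcop ?_ ?_)
        · refine orderOf_dvd_of_pow_eq_one ?_
          rw [← map_pow]
          exact (QuotientGroup.eq_one_iff _).mpr (Subgroup.mem_sup_left hap)
        · rw [Subgroup.index_eq_card]
          exact orderOf_dvd_natCard _
      have h2 := Subgroup.mem_map_of_mem N.subtype ((QuotientGroup.eq_one_iff _).mp h1)
      rw [hP', Subgroup.map_sup, Subgroup.map_subgroupOf_eq_of_le hON] at h2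
      exact h2
    have hMn : K ≤ Subgroup.normalizer (M : Set G) := Subgroup.le_normalizer_iff.mpr fun k hk m hm => by
      obtain ⟨q, hq, f, hf, rfl⟩ := hMmem m hm
      rw [show k * (q * f) * k⁻¹ = (k * q * k⁻¹) * (k * f * k⁻¹) by group]
      refine M.mul_mem (Subgroup.mem_sup_left (conj_mem_core hk hq)) (hMp _ ?_ ?_)
      · exact (Subgroup.mem_normalizer_iff.mp (hNn hk) f).mp (hFN hf)
      · rw [conj_pow, hFexp f hf, mul_one, mul_inv_cancel]
        exact one_mem _
    have hMK : M ≤ K := hMN.trans hNK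
    have hyM : y ∈ M := by
      refine hMp y hyN ?_
      have : orderOf y ∣ p := by
        rcases hp35 with rfl | rfl <;>
        · rw [hya]
          have hle : a ≤ 1 := by
            by_contra hle
            have := (pow_dvd_pow _ (show 2 ≤ a by omega)).trans (hya ▸ hy15)
            norm_num at this
          exact (pow_dvd_pow _ hle).trans (dvd_of_eq (pow_one _))
      rw [orderOf_dvd_iff_pow_eq_one.mp this]
      exact one_mem _
    have hSM : (S : Subgroup G) ≤ Subgroup.normalizer (M : Set G) := hSK.trans hMn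
    have hKeq : ∀ k ∈ K, ∃ m ∈ M, ∃ s ∈ (S : Subgroup G), k = m * s := by
      intro k hk
      have hle : K ≤ M ⊔ (S : Subgroup G) :=
        hmin _ le_sup_right (sup_le hMK hSK) fun e => hyH (e (Subgroup.mem_sup_left hyM))
      have := hle hk
      rw [← SetLike.mem_coe, Subgroup.coe_mul_of_right_le_normalizer_left M _ hSM] at this
      obtain ⟨m, hm, s, hs, e⟩ := this
      exact ⟨m, hm, s, hs, e.symm⟩
    have hSMO : ∀ s ∈ (S : Subgroup G), s ∈ M → s ∈ O := fun s hs hsM => by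
      obtain ⟨k, hk⟩ := S.isPGroup' ⟨s, hs⟩
      exact htwo s (hMN hsM) ⟨k, by rw [show s ^ 2 ^ k = 1 from congrArg Subtype.val hk]; exact one_mem _⟩
    have hfrat : ∀ k ∈ K, ∃ q ∈ O, q⁻¹ * k ∈ Subgroup.normalizer (F : Set G) := by
      intro k hk
      have hFM : F ≤ M := le_sup_right
      have hFsyl : ¬ p ∣ (F.subgroupOf M).index := by
        intro hd
        refine P.not_dvd_index (hd.trans ?_)
        have h1 : (F.subgroupOf M).index ∣ (F.subgroupOf N).index :=
          Dvd.intro _ (Subgroup.relIndex_mul_relIndex F M N hFM hMN)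
        rwa [hF, show ((P : Subgroup ↥N).map N.subtype).subgroupOf N = (P : Subgroup ↥N) from
          Subgroup.comap_map_eq_self_of_injective N.subtype_injective _, ← hF] at h1
      have hFpM : IsPGroup p ↥(F.subgroupOf M) := hFp.comap_of_injective M.subtype M.subtype_injective
      set P1 : Sylow p ↥M := hFpM.toSylow hFsyl
      let c := (MulAut.conj k).toMonoidHom
      have hcF : F.map c ≤ M := by
        rintro _ ⟨f, hf, rfl⟩
        exact (Subgroup.mem_normalizer_iff.mp (hMn hk) f).mp (hFM hf)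
      have hpG : IsPGroup p ↥((F.map c).subgroupOf M) :=
        (hFp.map c).comap_of_injective M.subtype M.subtype_injective
      obtain ⟨P2, hP2⟩ := hpG.exists_le_sylow
      obtain ⟨m, hm⟩ := MulAction.exists_smul_eq ↥M P1 P2
      obtain ⟨q, hq, f, hf, hmq⟩ := hMmem m m.2
      refine ⟨q, hq, Subgroup.mem_normalizer_fintype fun x hx => ?_⟩
      have h1 : (⟨k * x * k⁻¹, hcF ⟨x, hx, rfl⟩⟩ : ↥M) ∈ (P2 : Subgroup ↥M) := hP2 ⟨x, hx, rfl⟩
      rw [← hm, Sylow.coe_subgroup_smul, Subgroup.mem_pointwise_smul_iff_inv_smul_mem] at h1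
      have h2 : (m : G)⁻¹ * (k * x * k⁻¹) * m ∈ F := by
        simpa [P1, MulAut.conj_symm_apply, Subgroup.mem_subgroupOf] using h1
      show q⁻¹ * k * x * (q⁻¹ * k)⁻¹ ∈ F
      rw [show q⁻¹ * k * x * (q⁻¹ * k)⁻¹ = f * ((m : G)⁻¹ * (k * x * k⁻¹) * m) * f⁻¹ by rw [hmq]; group]
      exact F.mul_mem (F.mul_mem hf h2) (F.inv_mem hf)
    have hlift : ∀ s ∈ (S : Subgroup G), ∃ q ∈ O, ∃ n ∈ (S : Subgroup G),
        n ∈ Subgroup.normalizer (F : Set G) ∧ s = q * n := fun s hs => by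
      obtain ⟨q, hq, hn⟩ := hfrat s (hSK hs)
      exact ⟨q, hq, q⁻¹ * s, mul_mem (inv_mem (hOS hq)) hs, hn, by group⟩
    have hdec : ∀ k ∈ K, ∃ q ∈ O, ∃ f ∈ F, ∃ n ∈ (S : Subgroup G),
        n ∈ Subgroup.normalizer (F : Set G) ∧ k = q * f * n := by
      intro k hk
      obtain ⟨m, hm, s, hs, rfl⟩ := hKeq k hk
      obtain ⟨q, hq, f, hf, rfl⟩ := hMmem m hm
      obtain ⟨q2, hq2, n, hn, hnn, rfl⟩ := hlift s hs
      exact ⟨q * (f * q2 * f⁻¹), O.mul_mem hq (conj_mem_core (hMK (Subgroup.mem_sup_right hf)) hq2), f, hf, n, hn,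
        hnn, by group⟩
    have hmax : ∀ A ≤ F, (∀ n ∈ (S : Subgroup G), n ∈ Subgroup.normalizer (F : Set G) → ∀ a ∈ A, n * a * n⁻¹ ∈ A) →
        A ≠ F → A ≤ H := by
      intro A hAF hAn hne
      have hAnO : A ≤ Subgroup.normalizer (O : Set G) := hAF.trans hFn
      have hOA : ∀ m ∈ O ⊔ A, ∃ q ∈ O, ∃ a ∈ A, m = q * a := fun m hm => by
        rw [← SetLike.mem_coe, Subgroup.coe_mul_of_right_le_normalizer_left O A hAnO] at hm
        obtain ⟨q, hq, a, ha, rfl⟩ := hm
        exact ⟨q, hq, a, ha, rfl⟩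
      have hSn : (S : Subgroup G) ≤ Subgroup.normalizer ((O ⊔ A : Subgroup G) : Set G) :=
        Subgroup.le_normalizer_iff.mpr fun s hs m hm => by
          obtain ⟨q2, hq2, n, hn, hnn, rfl⟩ := hlift s hs
          obtain ⟨q, hq, a, ha, rfl⟩ := hOA m hm
          rw [show q2 * n * (q * a) * (q2 * n)⁻¹ = q2 * ((n * q * n⁻¹) * (n * a * n⁻¹)) * q2⁻¹ by group]
          refine mul_mem (mul_mem (Subgroup.mem_sup_left hq2) (mul_mem
            (Subgroup.mem_sup_left (conj_mem_core (hSK hn) hq)) (Subgroup.mem_sup_right (hAn n hn hnn a ha))))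
            (inv_mem (Subgroup.mem_sup_left hq2))
      by_contra hAH
      refine hne (le_antisymm hAF fun f hf => ?_)
      have hle := hmin ((O ⊔ A) ⊔ (S : Subgroup G)) le_sup_right
        (sup_le (sup_le (core_le K) (hAF.trans (le_sup_right.trans hMK))) hSK)
        fun e => hAH fun a ha => e (Subgroup.mem_sup_left (Subgroup.mem_sup_right ha))
      have hf' := hle (hMK (Subgroup.mem_sup_right hf))
      rw [← SetLike.mem_coe, Subgroup.coe_mul_of_right_le_normalizer_left _ _ hSn] at hf'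
      obtain ⟨m, hm, s, hs, rfl⟩ := hf'
      have hsM : s ∈ M := by
        have := M.mul_mem (M.inv_mem (sup_le le_sup_left (hAF.trans le_sup_right) hm))
          (Subgroup.mem_sup_right (S := O) hf)
        simpa using this
      have hms : m * s ∈ O ⊔ A := mul_mem hm (Subgroup.mem_sup_left (hSMO s hs hsM))
      obtain ⟨q, hq, a, ha, e⟩ := hOA _ hms
      have hq1 : q = 1 := hFO q (by
        rw [eq_mul_inv_of_mul_eq e.symm]; exact F.mul_mem hf (F.inv_mem (hAF ha))) hq
      show m * s ∈ A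
      rw [e, hq1, one_mul]; exact ha
    have hinv : ∀ n ∈ (S : Subgroup G), n ∈ Subgroup.normalizer (F : Set G) → ∀ a ∈ F ⊓ H, n * a * n⁻¹ ∈ F ⊓ H :=
      fun n hn hnn a ha => ⟨(Subgroup.mem_normalizer_iff.mp hnn a).mp ha.1,
        H.mul_mem (H.mul_mem (hSH hn) ha.2) (H.inv_mem (hSH hn))⟩
    have hFH : F ⊓ H ≠ F := fun e => hyH (by
      obtain ⟨q, hq, f, hf, rfl⟩ := hMmem y hyM
      exact H.mul_mem (hSH (hOS hq)) (e.ge hf).2)
    have hcard : Nat.card F = 3 ∨ Nat.card F = 5 ∨ Nat.card F = 9 := by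
      obtain ⟨k, hk⟩ := IsPGroup.iff_card.mp hFp
      have h1 : p ∣ Nat.card ↥N := by
        refine (?_ : p ∣ orderOf y).trans (Subgroup.orderOf_dvd_natCard N hyN)
        rw [hya]; exact dvd_pow_self p ha0
      have hk0 : k ≠ 0 := by
        rintro rfl
        refine P.not_dvd_index ?_
        rw [Subgroup.eq_bot_of_card_eq (P : Subgroup ↥N) (by
          rw [← Subgroup.card_map_of_injective N.subtype_injective, ← hF, hk, pow_zero]), Subgroup.index_bot]
        exact h1
      have h2 : Nat.card F ∣ 45 := by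
        obtain ⟨j, hj⟩ := IsPGroup.iff_card.mp (core_two K)
        have h3 : Nat.card F ∣ Nat.card O * O.relIndex N := by
          refine (Subgroup.card_dvd_of_le hFN).trans (dvd_of_eq ?_)
          rw [← Subgroup.card_mul_index (O.subgroupOf N), Nat.card_congr (Subgroup.subgroupOfEquivOfLe hON).toEquiv]
          rfl
        refine (Nat.Coprime.dvd_of_dvd_mul_left ?_ h3).trans h45
        rw [hk, hj]
        exact Nat.Coprime.pow _ _ ((Nat.coprime_primes hp Nat.prime_two).mpr hp2)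
      rw [hk] at h2 ⊢
      rcases hp35 with rfl | rfl
      · have : k ≤ 2 := by
          by_contra hk3
          exact absurd ((pow_dvd_pow 3 (show 3 ≤ k by omega)).trans h2) (by norm_num)
        interval_cases k <;> simp at hk0 ⊢
      · have : k ≤ 1 := by
          by_contra hk3
          exact absurd ((pow_dvd_pow 5 (show 2 ≤ k by omega)).trans h2) (by norm_num)
        interval_cases k <;> simp at hk0 ⊢
    have hbot : F ⊓ H = ⊥ := by
      by_contra hne
      have hd := Subgroup.card_dvd_of_le (inf_le_left : F ⊓ H ≤ F)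
      have hne1 : Nat.card ↥(F ⊓ H) ≠ 1 := fun e => hne (Subgroup.eq_bot_of_card_eq _ e)
      have hneF : Nat.card ↥(F ⊓ H) ≠ Nat.card F := fun e =>
        hFH (Subgroup.eq_of_le_of_card_ge inf_le_left e.ge)
      rcases hcard with e | e | e
      · rw [e] at hd hneF
        rcases (Nat.dvd_prime Nat.prime_three).mp hd with e' | e'
        · exact hne1 e'
        · exact hneF e'
      · rw [e] at hd hneF
        rcases (Nat.dvd_prime Nat.prime_five).mp hd with e' | e'
        · exact hne1 e'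
        · exact hneF e'
      · rw [e] at hd hneF
        have hA3 : Nat.card ↥(F ⊓ H) = 3 := by
          obtain ⟨i, hi, e'⟩ := (Nat.dvd_prime_pow Nat.prime_three).mp (show Nat.card ↥(F ⊓ H) ∣ 3 ^ 2 from hd)
          interval_cases i
          · exact absurd (e'.trans (pow_zero 3)) hne1
          · exact e'.trans (pow_one 3)
          · exact absurd e' hneF
        have hp3 : ∀ f ∈ F, f ^ 3 = 1 := fun f hf => by
          rcases hp35 with rfl | rfl
          · exact hFexp f hf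
          · exfalso
            obtain ⟨k, hk⟩ := IsPGroup.iff_card.mp hFp
            rw [e] at hk
            rcases Nat.lt_or_ge k 2 with h | h
            · interval_cases k <;> norm_num at hk
            · have := Nat.pow_le_pow_right (show 0 < 5 by norm_num) h
              omega
        have hT : IsPGroup 2 ↥((S : Subgroup G) ⊓ Subgroup.normalizer (F : Set G)) :=
          S.isPGroup'.to_le inf_le_left
        obtain ⟨B, hBF, hB3, hBA, hBn⟩ := exists_invariant_line hT e hFcomm hp3 inf_le_left hA3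
          (fun n hn f hf => (Subgroup.mem_normalizer_iff.mp hn.2 f).mp hf)
          (fun n hn a ha => hinv n hn.1 hn.2 a ha)
        have hBH : B ≤ H := hmax B hBF (fun n hn hnn b hb => hBn n ⟨hn, hnn⟩ b hb)
          (fun h => by rw [h, e] at hB3; omega)
        exact hBA (Subgroup.eq_of_le_of_card_ge (le_inf hBF hBH) (by rw [hB3, hA3]))
    have hirr : ∀ A ≤ F, (∀ n ∈ (S : Subgroup G), n ∈ Subgroup.normalizer (F : Set G) → ∀ a ∈ A, n * a * n⁻¹ ∈ A) →
        A = ⊥ ∨ A = F := fun A hA hAn => by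
      rcases eq_or_ne A F with e | e
      · exact Or.inr e
      · exact Or.inl (eq_bot_iff.mpr ((le_inf hA (hmax A hA hAn e)).trans hbot.le))
    refine ⟨K, F, hKL, ⟨hSK, hK, hKH, le_sup_right.trans hMK, hFcomm, ?_, ⟨p, hp, hp2, hFexp⟩, hbot, hdec,
      hlift, ?_, hirr, ?_, ?_⟩⟩
    · rcases hcard with e | e | e
      · exact Or.inl e
      · exact Or.inr (Or.inl e)
      · exact Or.inr (Or.inr (Or.inr e))
    · intro z hz hzo
      refine hMmem z ?_
      obtain ⟨m, hm, s, hs, rfl⟩ := hKeq z hz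
      haveI : (M.subgroupOf K).Normal := Subgroup.normal_subgroupOf_of_le_normalizer hMn
      have e1 : QuotientGroup.mk' (M.subgroupOf K) ⟨m * s, hz⟩ = QuotientGroup.mk' (M.subgroupOf K) ⟨s, hSK hs⟩ := by
        show QuotientGroup.mk' (M.subgroupOf K) (⟨m, hMK hm⟩ * ⟨s, hSK hs⟩) = _
        rw [map_mul, show QuotientGroup.mk' (M.subgroupOf K) ⟨m, hMK hm⟩ = 1 from (QuotientGroup.eq_one_iff _).mpr hm,
          one_mul]
      obtain ⟨k, hk⟩ := S.isPGroup' ⟨s, hs⟩
      have e2 : QuotientGroup.mk' (M.subgroupOf K) ⟨m * s, hz⟩ = 1 := by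
        refine orderOf_eq_one_iff.mp (Nat.eq_one_of_dvd_coprimes (b := 2 ^ k)
          ((Nat.coprime_two_right.mpr hzo).pow_right k) ?_ ?_)
        · refine (orderOf_map_dvd _ _).trans ?_
          rw [← Subgroup.orderOf_coe]
        · rw [e1]
          refine orderOf_dvd_of_pow_eq_one ?_
          rw [← map_pow]
          refine (QuotientGroup.eq_one_iff _).mpr ?_
          show s ^ 2 ^ k ∈ M
          rw [show s ^ 2 ^ k = 1 from congrArg Subtype.val hk]
          exact one_mem _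
      exact (QuotientGroup.eq_one_iff (⟨m * s, hz⟩ : ↥K)).mp e2
    · intro _ f hf hf1
      by_contra hh
      push Not at hh
      let A : Subgroup G :=
        { carrier := {g | g ∈ F ∧ ∀ n ∈ (S : Subgroup G), n ∈ Subgroup.normalizer (F : Set G) → n * g = g * n}
          one_mem' := ⟨F.one_mem, fun n _ _ => by simp⟩
          mul_mem' := fun {a b} ha hb => ⟨F.mul_mem ha.1 hb.1, fun n hn hnn =>
            (Commute.mul_right (ha.2 n hn hnn : Commute n a) (hb.2 n hn hnn : Commute n b))⟩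
          inv_mem' := fun {a} ha => ⟨F.inv_mem ha.1, fun n hn hnn =>
            (Commute.inv_right (ha.2 n hn hnn : Commute n a))⟩ }
      rcases hirr A (fun g hg => hg.1) (fun n hn hnn g hg => by
        rw [hg.2 n hn hnn, mul_inv_cancel_right]; exact hg) with e | e
      · exact hf1 ((Subgroup.mem_bot).mp (e ▸ (⟨hf, fun n hn hnn => hh n hn hnn⟩ : f ∈ A)))
      · refine hs0O (le_core S.isPGroup' hSK (Subgroup.le_normalizer_iff.mpr fun k hk s hs => ?_) hs0)
        obtain ⟨q, hq, g, hg, n, hn, -, rfl⟩ := hdec k hk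
        have hgS : ∀ r ∈ (S : Subgroup G), g * r * g⁻¹ ∈ (S : Subgroup G) := by
          intro r hr
          obtain ⟨q2, hq2, n2, hn2, hnn2, rfl⟩ := hlift r hr
          have hc : n2 * g = g * n2 := (e.ge hg).2 n2 hn2 hnn2
          rw [show g * (q2 * n2) * g⁻¹ = (g * q2 * g⁻¹) * (g * n2 * g⁻¹) by group, ← hc, mul_inv_cancel_right]
          exact mul_mem (hOS (conj_mem_core (hMK (Subgroup.mem_sup_right hg)) hq2)) hn2
        rw [show q * g * n * s * (q * g * n)⁻¹ = q * (g * (n * s * n⁻¹) * g⁻¹) * q⁻¹ by group]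
        exact mul_mem (mul_mem (hOS hq) (hgS _ (mul_mem (mul_mem hn hs) (inv_mem hn)))) (inv_mem (hOS hq))
    · intro _ e
      rcases hcard with h | h | h <;> omega
  · push Not at hcase
    have hSO : (S : Subgroup G) = O := le_antisymm hcase hOS
    set F := Subgroup.zpowers y with hF
    have hord : orderOf y = p := by
      have hd : p ^ a ∣ 315 := hya ▸ (orderOf_dvd_relIndex hOn hyN hytriv).trans hdvd
      suffices a = 1 by rw [hya, this, pow_one]
      by_contra ha1
      have hp3 : p = 3 := by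
        have h2 : p ^ 2 ∣ 315 := (pow_dvd_pow p (show 2 ≤ a by omega)).trans hd
        have hle : p ≤ 17 := by
          by_contra hh
          have := Nat.pow_le_pow_left (show 18 ≤ p by omega) 2
          have := Nat.le_of_dvd (by norm_num) h2
          omega
        have := hp.two_le
        interval_cases p <;> first | rfl | (revert h2 hp; norm_num)
      subst hp3
      have ha2 : a = 2 := by
        have : a ≤ 2 := by
          by_contra hh
          exact absurd ((pow_dvd_pow 3 (show 3 ≤ a by omega)).trans hd) (by norm_num)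
        omega
      subst ha2
      have h9 : y ^ 9 ∈ O := by
        rw [show (9 : ℕ) = 3 ^ 2 from rfl, ← hya, pow_orderOf_eq_one]; exact one_mem _
      have h3 := orderOf_dvd_of_pow_eq_one (hytriv 3 (hnine y hyN h9))
      rw [hya] at h3
      norm_num at h3
    have hFcard : Nat.card F = p := by rw [hF, Nat.card_zpowers, hord]
    have hFcases : Nat.card F = 3 ∨ Nat.card F = 5 ∨ Nat.card F = 7 := by
      rw [hFcard]
      have hd : p ∣ 3 ^ 2 * 5 * 7 := hord ▸ (orderOf_dvd_relIndex hOn hyN hytriv).trans hdvd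
      rcases (Nat.Prime.dvd_mul hp).mp hd with e | e
      · rcases (Nat.Prime.dvd_mul hp).mp e with e | e
        · exact Or.inl ((Nat.prime_dvd_prime_iff_eq hp Nat.prime_three).mp (hp.dvd_of_dvd_pow e))
        · exact Or.inr (Or.inl ((Nat.prime_dvd_prime_iff_eq hp Nat.prime_five).mp e))
      · exact Or.inr (Or.inr ((Nat.prime_dvd_prime_iff_eq hp (by norm_num)).mp e))
    have hFK : F ≤ K := Subgroup.zpowers_le.mpr hyK
    have hle : K ≤ O ⊔ F := hmin _ (hSO.le.trans le_sup_left) (sup_le (core_le K) hFK)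
      fun e => hyH (e (Subgroup.mem_sup_right (Subgroup.mem_zpowers y)))
    have hdec : ∀ k ∈ K, ∃ q ∈ O, ∃ f ∈ F, k = q * f := fun k hk => by
      have := hle hk
      rw [← SetLike.mem_coe, Subgroup.coe_mul_of_right_le_normalizer_left O F (hFK.trans (le_normalizer_core K))] at this
      obtain ⟨q, hq, f, hf, rfl⟩ := this
      exact ⟨q, hq, f, hf, rfl⟩
    have hprime : (Nat.card F).Prime := hFcard ▸ hp
    haveI : Fact (Nat.card F).Prime := ⟨hprime⟩
    have hsub : ∀ A ≤ F, A = ⊥ ∨ A = F := fun A hA => by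
      rcases (Nat.dvd_prime hprime).mp (Subgroup.card_dvd_of_le hA) with e | e
      · exact Or.inl (Subgroup.eq_bot_of_card_eq A e)
      · exact Or.inr (Subgroup.eq_of_le_of_card_ge hA e.ge)
    refine ⟨K, F, hKL, ⟨hSK, hK, hKH, hFK, fun a ha b hb => ?_, ?_, ⟨p, hp, hp2, fun f hf => ?_⟩, ?_, fun k hk => ?_,
      fun s hs => ⟨s, hcase s hs, 1, one_mem _, one_mem _, by simp⟩, fun z hz _ => hdec z hz,
      fun A hA _ => hsub A hA, fun ⟨s, hs, hsO⟩ => absurd (hcase s hs) hsO,
      fun ⟨s, hs, hsO⟩ => absurd (hcase s hs) hsO⟩⟩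
    · obtain ⟨i, rfl⟩ := Subgroup.mem_zpowers_iff.mp ha
      obtain ⟨j, rfl⟩ := Subgroup.mem_zpowers_iff.mp hb
      exact (Commute.refl y).zpow_zpow i j
    · rcases hFcases with e | e | e
      · exact Or.inl e
      · exact Or.inr (Or.inl e)
      · exact Or.inr (Or.inr (Or.inl e))
    · obtain ⟨i, rfl⟩ := Subgroup.mem_zpowers_iff.mp hf
      rw [← zpow_natCast, ← zpow_mul, mul_comm, zpow_mul, zpow_natCast, ← hord, pow_orderOf_eq_one, one_zpow]
    · exact (hsub _ inf_le_left).resolve_right fun e => hyH (e.ge (Subgroup.mem_zpowers y)).2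
    · obtain ⟨q, hq, f, hf, rfl⟩ := hdec k hk
      exact ⟨q, hq, f, hf, 1, one_mem _, one_mem _, by simp⟩

end CfsgLib.SRFour
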