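import Mathlib
import Cfsg.Agent.Lib.SRFour.Over

/-!
The configurations of the core theorem.

Blueprint: `blueprint/S0517.md`, §2–§5.
-/

set_option autoImplicit false
set_option linter.unusedSectionVars false

namespace CfsgLib.SRFour

open Cfsg
open scoped commutatorElement

universe u

variable {G : Type u} [Group G]

/-- `a` lies in `Ω₁(Z(S))`. -/
def InZ (S : Subgroup G) (a : G) : Prop := a ∈ S ∧ a * a = 1 ∧ ∀ s ∈ S, s * a = a * s

theorem InZ.comm {S : Subgroup G} {a b : G} (ha : InZ S a) (hb : InZ S b) : a * b = b * a := hb.2.2 a ha.1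

theorem InZ.one (S : Subgroup G) : InZ S (1 : G) := ⟨S.one_mem, one_mul 1, fun s _ => by simp⟩

theorem InZ.mul {S : Subgroup G} {a b : G} (ha : InZ S a) (hb : InZ S b) : InZ S (a * b) := by
  refine ⟨S.mul_mem ha.1 hb.1, ?_, fun s hs => ?_⟩
  · calc a * b * (a * b) = a * (b * a) * b := by group
      _ = a * (a * b) * b := by rw [ha.comm hb]
      _ = (a * a) * (b * b) := by group
      _ = 1 := by rw [ha.2.1, hb.2.1, one_mul]
  · exact (Commute.mul_right (ha.2.2 s hs : Commute s a) (hb.2.2 s hs : Commute s b))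

/-- The centraliser of `Ω₁(Z(S))`. -/
def centZ (S : Subgroup G) : Subgroup G := Subgroup.centralizer {a : G | InZ S a}

theorem mem_centZ {S : Subgroup G} {m : G} : m ∈ centZ S ↔ ∀ a, InZ S a → m * a = a * m := by
  rw [centZ, Subgroup.mem_centralizer_iff]
  exact ⟨fun h a ha => (h a ha).symm, fun h a ha => (h a ha).symm⟩

theorem le_centZ (S : Subgroup G) : S ≤ centZ S := fun s hs =>
  mem_centZ.mpr fun a ha => ha.2.2 s hs

/-- A mover `M₁ = O₂(M₁) F S` of the four-group `⟨z, v⟩` inside `C(Ω₁Z(S))`. -/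
structure MData (S M₁ F : Subgroup G) (z v : G) : Prop where
  ov : IsOver S (Subgroup.normalizer ((Subgroup.closure ({z, v} : Set G) : Subgroup G) : Set G)) M₁ F
  M_le : M₁ ≤ centZ S
  z_mem : InZ S z
  z_ne : z ≠ 1
  v_mem : v ∈ S
  v_sq : v * v = 1
  v_ne : v ≠ 1
  v_ne_z : v ≠ z
  sv : ∀ s ∈ S, s * v * s⁻¹ = v ∨ s * v * s⁻¹ = z * v

/-- The natural mover `K = ⟨S, x⟩` of the four-group `⟨z, v⟩` together with a mover `M₁`. -/
structure NData (S K M₁ F : Subgroup G) (z v x : G) : Prop extends MData S M₁ F z v where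
  S_le_K : S ≤ K
  goodK : Good K
  x_mem : x ∈ K
  x_odd : Odd (orderOf x)
  xz : x * z * x⁻¹ = v
  xv : x * v * x⁻¹ = z * v
  core_v : ∀ q ∈ pCoreOf 2 K, q * v = v * q
  fix_core : ∀ k ∈ K, k * z = z * k → k * v = v * k → k ∈ pCoreOf 2 K
  x_norm : ∀ s ∈ S, ∃ q ∈ pCoreOf 2 K, ∃ i : ℤ, s * x * s⁻¹ = q * x ^ i

/-- The mover `K` acting irreducibly on `V`, all involutions of `O₂(K)`. -/
structure IData (S K F H V : Subgroup G) : Prop where
  ov : IsOver S H K F
  centZ_le : centZ S ≤ H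
  card_F : Nat.card F = 5 ∨ Nat.card F = 9
  V_le : V ≤ pCoreOf 2 K
  card_V : Nat.card V = 16
  V_sq : ∀ a ∈ V, a * a = 1
  V_norm : K ≤ Subgroup.normalizer (V : Set G)
  V_cent : ∀ q ∈ pCoreOf 2 K, ∀ a ∈ V, q * a = a * q
  V_all : ∀ q ∈ pCoreOf 2 K, q * q = 1 → q ∈ V
  fpf : ∀ a ∈ V, (∀ f ∈ F, f * a = a * f) → a = 1
  moved : ¬ centZ S ≤ Subgroup.normalizer (V : Set G)

end CfsgLib.SRFour
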