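import Mathlib
import Cfsg.Agent.Lib.SRFour.Setting

/-!
The mover of a four-group inside the centraliser of `Ω₁Z(S)`.

Blueprint: `blueprint/S0517.md`, §3.
-/

set_option autoImplicit false
set_option linter.unusedSectionVars false
set_option linter.style.haveILetI false

namespace CfsgLib.SRFour

open Cfsg
open scoped commutatorElement

universe u

variable {G : Type u} [Group G]

/-- A subgroup without nontrivial odd elements is a 2-group. -/
theorem isPGroup_two_of_no_odd [Finite G] {A : Subgroup G} (h : ∀ y ∈ A, Odd (orderOf y) → y = 1) :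
    IsPGroup 2 ↥A := by
  rintro ⟨a, ha⟩
  obtain ⟨k, m, hm, he⟩ := Nat.exists_eq_pow_mul_and_not_dvd (orderOf_pos a).ne' 2 (by norm_num)
  refine ⟨k, Subtype.ext (h _ (A.pow_mem ha _) ?_)⟩
  show Odd (orderOf (a ^ 2 ^ k))
  rw [orderOf_pow, he, Nat.gcd_eq_right (dvd_mul_right _ _), Nat.mul_div_cancel_left _ (by positivity)]
  exact Nat.not_even_iff_odd.mp fun e => hm (even_iff_two_dvd.mp e)

/-- If the generators have squares and commutators in `N` then all squares lie in `N`. -/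
theorem sq_mem_closure {X : Set G} {N : Subgroup G} (hN : ∀ x ∈ X, ∀ n ∈ N, x * n * x⁻¹ ∈ N)
    (hN' : ∀ x ∈ X, ∀ n ∈ N, x⁻¹ * n * x ∈ N)
    (hsq : ∀ x ∈ X, x * x ∈ N) (hcm : ∀ x ∈ X, ∀ y ∈ X, ⁅x, y⁆ ∈ N) :
    ∀ g ∈ Subgroup.closure X, g * g ∈ N := by
  set T := Subgroup.closure X with hT
  have hn : ∀ g ∈ T, g ∈ Subgroup.normalizer (N : Set G) := by
    refine fun g hg => (Subgroup.closure_le (Subgroup.normalizer (N : Set G))).mpr (fun x hx => ?_) hg
    rw [SetLike.mem_coe, Subgroup.mem_normalizer_iff]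
    refine fun a => ⟨fun ha => hN x hx a ha, fun ha => ?_⟩
    have := hN' x hx _ ha
    rwa [show x⁻¹ * (x * a * x⁻¹) * x = a by group] at this
  have hNT : ((N ⊓ T).subgroupOf T).Normal := Subgroup.normal_subgroupOf_of_le_normalizer fun g hg => by
    rw [Subgroup.mem_normalizer_iff]
    intro a
    constructor
    · intro ha
      exact ⟨(Subgroup.mem_normalizer_iff.mp (hn g hg) a).mp ha.1,
        T.mul_mem (T.mul_mem hg ha.2) (T.inv_mem hg)⟩
    · intro ha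
      refine ⟨(Subgroup.mem_normalizer_iff.mp (hn g hg) a).mpr ha.1, ?_⟩
      have := T.mul_mem (T.mul_mem (T.inv_mem hg) ha.2) hg
      simpa [mul_assoc] using this
  set π := QuotientGroup.mk' ((N ⊓ T).subgroupOf T)
  have hmem : ∀ a : ↥T, π a = 1 ↔ (a : G) ∈ N := fun a =>
    (QuotientGroup.eq_one_iff a).trans ⟨fun h => h.1, fun h => ⟨h, a.2⟩⟩
  have key : ∀ g (hg : g ∈ T), π ⟨g, hg⟩ * π ⟨g, hg⟩ = 1 ∧
      ∀ x (hx : x ∈ X), Commute (π ⟨g, hg⟩) (π ⟨x, Subgroup.subset_closure hx⟩) := by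
    intro g hg
    induction hg using Subgroup.closure_induction with
    | mem y hy =>
      refine ⟨by rw [← map_mul, hmem]; exact hsq y hy, fun x hx => ?_⟩
      refine commutatorElement_eq_one_iff_mul_comm.mp ?_
      rw [← map_commutatorElement, hmem]
      exact hcm y hy x hx
    | one =>
      have h1 : π ⟨1, T.one_mem⟩ = 1 := map_one π
      exact ⟨by rw [h1, one_mul], fun x hx => by rw [h1]; exact Commute.one_left _⟩
    | mul a b ha hb iha ihb =>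
      have e : π ⟨a * b, T.mul_mem ha hb⟩ = π ⟨a, ha⟩ * π ⟨b, hb⟩ := by rw [← map_mul]; rfl
      have hab : ∀ c (hc : c ∈ T), Commute (π ⟨a, ha⟩) (π ⟨c, hc⟩) := by
        intro c hc
        induction hc using Subgroup.closure_induction with
        | mem x hx => exact iha.2 x hx
        | one => rw [show π ⟨1, T.one_mem⟩ = 1 from map_one π]; exact Commute.one_right _
        | mul c d hc hd ihc ihd =>
          rw [show π ⟨c * d, T.mul_mem hc hd⟩ = π ⟨c, hc⟩ * π ⟨d, hd⟩ by rw [← map_mul]; rfl]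
          exact ihc.mul_right ihd
        | inv c hc ihc =>
          rw [show π ⟨c⁻¹, T.inv_mem hc⟩ = (π ⟨c, hc⟩)⁻¹ by rw [← map_inv]; rfl]
          exact ihc.inv_right
      refine ⟨?_, fun x hx => by rw [e]; exact (iha.2 x hx).mul_left (ihb.2 x hx)⟩
      rw [e, (hab b hb).symm.mul_mul_mul_comm, iha.1, ihb.1, one_mul]
    | inv a ha iha =>
      have e : π ⟨a⁻¹, T.inv_mem ha⟩ = (π ⟨a, ha⟩)⁻¹ := by rw [← map_inv]; rfl
      exact ⟨by rw [e, ← mul_inv_rev, iha.1, inv_one], fun x hx => by rw [e]; exact (iha.2 x hx).inv_left⟩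
  intro g hg
  have := (key g hg).1
  rw [← map_mul, hmem] at this
  exact this

theorem mem_two {z a : G} (hz : z * z = 1) (ha : a ∈ Subgroup.zpowers z) : a = 1 ∨ a = z := by
  obtain ⟨i, rfl⟩ := Subgroup.mem_zpowers_iff.mp ha
  rcases Int.emod_two_eq_zero_or_one i with h | h
  · left; rw [zpow_eq_zpow_emod' i (by rw [pow_two]; exact hz), Nat.cast_ofNat, h, zpow_zero]
  · right; rw [zpow_eq_zpow_emod' i (by rw [pow_two]; exact hz), Nat.cast_ofNat, h, zpow_one]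

theorem card_zpowers_two {z : G} (hz : z * z = 1) (h1 : z ≠ 1) : Nat.card (Subgroup.zpowers z) = 2 := by
  rw [Nat.card_zpowers]
  exact orderOf_eq_prime (by rw [pow_two, hz]) h1

namespace MData

variable {S : Sylow 2 G} {M₁ F : Subgroup G} {z v : G}

theorem S_le (h : MData (S : Subgroup G) M₁ F z v) : (S : Subgroup G) ≤ M₁ := h.ov.S_le

theorem comm_z (h : MData (S : Subgroup G) M₁ F z v) {m : G} (hm : m ∈ M₁) : m * z = z * m :=
  mem_centZ.mp (h.M_le hm) z h.z_mem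

theorem conj_z (h : MData (S : Subgroup G) M₁ F z v) {m : G} (hm : m ∈ M₁) : m * z * m⁻¹ = z := by
  rw [h.comm_z hm, mul_inv_cancel_right]

theorem zv (h : MData (S : Subgroup G) M₁ F z v) : z * v = v * z := (h.z_mem.2.2 v h.v_mem).symm

/-- Elements fixing `z` and mapping `v` into `W` normalise `W`. -/
theorem mem_normalizer [Finite G] (h : MData (S : Subgroup G) M₁ F z v) {m : G} (hz : m * z * m⁻¹ = z)
    (hv : m * v * m⁻¹ = v ∨ m * v * m⁻¹ = z * v) :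
    m ∈ Subgroup.normalizer ((Subgroup.closure ({z, v} : Set G) : Subgroup G) : Set G) := by
  refine Subgroup.mem_normalizer_fintype fun a ha => ?_
  induction ha using Subgroup.closure_induction with
  | mem x hx =>
    rcases hx with rfl | rfl
    · rw [hz]; exact Subgroup.subset_closure (Or.inl rfl)
    · rcases hv with e | e <;> rw [e]
      · exact Subgroup.subset_closure (Or.inr rfl)
      · exact mul_mem (Subgroup.subset_closure (Or.inl rfl)) (Subgroup.subset_closure (Or.inr rfl))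
  | one => simp
  | mul a b _ _ iha ihb =>
    rw [show m * (a * b) * m⁻¹ = (m * a * m⁻¹) * (m * b * m⁻¹) by group]
    exact mul_mem iha ihb
  | inv a _ iha =>
    rw [show m * a⁻¹ * m⁻¹ = (m * a * m⁻¹)⁻¹ by group]
    exact inv_mem iha

theorem Q_le_S [Finite G] (h : MData (S : Subgroup G) M₁ F z v) : pCoreOf 2 M₁ ≤ (S : Subgroup G) :=
  core_le_sylow S h.S_le

/-- No nontrivial odd element of `M₁` keeps `v` in `W`. -/
theorem eq_one_of_fix [Finite G] (h : MData (S : Subgroup G) M₁ F z v) {y : G} (hy : y ∈ M₁)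
    (hyo : Odd (orderOf y)) (hv : y * v * y⁻¹ = v ∨ y * v * y⁻¹ = z * v) : y = 1 := by
  obtain ⟨q, hq, f, hf, rfl⟩ := h.ov.odd_mem y hy hyo
  have hqS := h.Q_le_S hq
  have hq' := h.mem_normalizer (h.conj_z (core_le M₁ hq)) (h.sv q hqS)
  have hf' : f ∈ F ⊓ Subgroup.normalizer ((Subgroup.closure ({z, v} : Set G) : Subgroup G) : Set G) :=
    ⟨hf, by simpa using mul_mem (inv_mem hq') (h.mem_normalizer (h.conj_z hy) hv)⟩
  rw [h.ov.inter, Subgroup.mem_bot] at hf'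
  subst hf'
  rw [mul_one] at hyo ⊢
  exact eq_one_of_odd_mem (core_two M₁) hyo hq

theorem conj_mem_Q [Finite G] (h : MData (S : Subgroup G) M₁ F z v) {m q : G} (hm : m ∈ M₁)
    (hq : q ∈ pCoreOf 2 M₁) : m * q * m⁻¹ ∈ pCoreOf 2 M₁ :=
  conj_mem_core hm hq

theorem comm_v [Finite G] (h : MData (S : Subgroup G) M₁ F z v) {q : G} (hq : q ∈ (S : Subgroup G)) :
    ⁅q, v⁆ = 1 ∨ ⁅q, v⁆ = z := by
  have hv : v⁻¹ = v := inv_eq_of_mul_eq_one_right h.v_sq
  rw [commutatorElement_def]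
  rcases h.sv q hq with e | e
  · left; rw [e, mul_inv_cancel]
  · right; rw [e, mul_inv_cancel_right]

/-- An element of `M₁` moving `v` only by elements centralising `Q₁` is trivial. -/
theorem eq_one_of_shift [Finite G] (h : MData (S : Subgroup G) M₁ F z v) {y : G} (hy : y ∈ M₁)
    (hyo : Odd (orderOf y)) {u : G} (hu : y * v * y⁻¹ = v * u) (hyu : y * u = u * y) {k : ℕ}
    (hu2 : u ^ 2 ^ k = 1) (hvu : v * u = u * v) : y = 1 :=
  h.eq_one_of_fix hy hyo (Or.inl (by rw [hu, fix_of_shift hyo hu2 hyu hvu hu, mul_one]))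

/-- The normal subgroups of `M₁` without odd elements lie in `Q₁`. -/
theorem le_Q [Finite G] (h : MData (S : Subgroup G) M₁ F z v) {A : Subgroup G} (hA : A ≤ M₁)
    (hn : M₁ ≤ Subgroup.normalizer (A : Set G)) (hodd : ∀ y ∈ A, Odd (orderOf y) → y = 1) :
    A ≤ pCoreOf 2 M₁ :=
  le_core (isPGroup_two_of_no_odd hodd) hA hn

/-- `Λ`: odd elements of `M₁` centralise abelian normal 2-subgroups centralised by `Q₁`. -/
theorem centralize [Finite G] (h : MData (S : Subgroup G) M₁ F z v) {N : Subgroup G} (hN2 : IsPGroup 2 ↥N)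
    (hNM : N ≤ M₁) (hn : M₁ ≤ Subgroup.normalizer (N : Set G)) (hcomm : ∀ a ∈ N, ∀ b ∈ N, a * b = b * a)
    (hQ : ∀ q ∈ pCoreOf 2 M₁, ∀ a ∈ N, q * a = a * q) {y : G} (hy : y ∈ M₁) (hyo : Odd (orderOf y))
    {a : G} (ha : a ∈ N) : y * a = a * y := by
  have hconj : ∀ m ∈ M₁, ∀ a ∈ N, m * a * m⁻¹ ∈ N := fun m hm a ha =>
    (Subgroup.mem_normalizer_iff.mp (hn hm) a).mp ha
  have hF : ∀ f ∈ F, ∀ a ∈ N, f * a * f⁻¹ ∈ N := fun f hf => hconj f (h.ov.F_le hf)
  set B := Subgroup.closure {b | ∃ a ∈ N, ∃ f ∈ F, b = a⁻¹ * (f * a * f⁻¹)} with hB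
  have hBN : B ≤ N := (Subgroup.closure_le N).mpr (by
    rintro _ ⟨a, ha, f, hf, rfl⟩
    exact N.mul_mem (N.inv_mem ha) (hF f hf a ha))
  have hBS : (S : Subgroup G) ≤ Subgroup.normalizer (B : Set G) := Subgroup.le_normalizer_iff.mpr fun s hs b hb => by
    induction hb using Subgroup.closure_induction with
    | mem x hx =>
      obtain ⟨a, ha, f, hf, rfl⟩ := hx
      obtain ⟨q, hq, n, hn', hnn, rfl⟩ := h.ov.lift s hs
      have hnM := h.S_le hn'
      set a' := n * a * n⁻¹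
      set f' := n * f * n⁻¹
      have ha' : a' ∈ N := hconj n hnM a ha
      have hf' : f' ∈ F := (Subgroup.mem_normalizer_iff.mp hnn f).mp hf
      have hm : a'⁻¹ * (f' * a' * f'⁻¹) ∈ N := N.mul_mem (N.inv_mem ha') (hF f' hf' a' ha')
      rw [show q * n * (a⁻¹ * (f * a * f⁻¹)) * (q * n)⁻¹ = q * (a'⁻¹ * (f' * a' * f'⁻¹)) * q⁻¹ by
        simp only [a', f']; group, hQ q hq _ hm, mul_inv_cancel_right]
      exact Subgroup.subset_closure ⟨a', ha', f', hf', rfl⟩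
    | one => simp
    | mul a b _ _ iha ihb =>
      rw [show s * (a * b) * s⁻¹ = (s * a * s⁻¹) * (s * b * s⁻¹) by group]
      exact mul_mem iha ihb
    | inv a _ iha =>
      rw [show s * a⁻¹ * s⁻¹ = (s * a * s⁻¹)⁻¹ by group]
      exact inv_mem iha
  have hbot : B = ⊥ := by
    by_contra hne
    obtain ⟨b, hb, hb1, hb2, hbc⟩ := exists_central S.isPGroup' ((hBN.trans (le_core hN2 hNM hn)).trans h.Q_le_S)
      hBS hne
    refine hb1 (trace_eq_one hN2 h.ov.odd_card hcomm hF hb fun f hf => ?_)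
    exact mem_centZ.mp (h.M_le (h.ov.F_le hf)) b
      ⟨h.Q_le_S (le_core hN2 hNM hn (hBN hb)), hb2, hbc⟩
  obtain ⟨q, hq, f, hf, rfl⟩ := h.ov.odd_mem y hy hyo
  have hf1 : f * a = a * f := by
    have : a⁻¹ * (f * a * f⁻¹) ∈ B := Subgroup.subset_closure ⟨a, ha, f, hf, rfl⟩
    rw [hbot, Subgroup.mem_bot, inv_mul_eq_one] at this
    exact mul_inv_eq_iff_eq_mul.mp this.symm
  rw [mul_assoc, hf1, ← mul_assoc, hQ q hq a ha, mul_assoc]

/-- The elements of `M₁` inducing at most `z` on `Q₁`. -/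
theorem mem_Q_of_comm [Finite G] (h : MData (S : Subgroup G) M₁ F z v) {m : G} (hm : m ∈ M₁)
    (hc : ∀ q ∈ pCoreOf 2 M₁, ⁅q, m⁆ ∈ Subgroup.zpowers z) : m ∈ pCoreOf 2 M₁ := by
  let A : Subgroup G :=
    { carrier := {m | m ∈ M₁ ∧ ∀ q ∈ pCoreOf 2 M₁, ⁅q, m⁆ ∈ Subgroup.zpowers z}
      one_mem' := ⟨M₁.one_mem, fun q _ => by simp⟩
      mul_mem' := fun {a b} ha hb => ⟨M₁.mul_mem ha.1 hb.1, fun q hq => by
        rw [show ⁅q, a * b⁆ = ⁅q, a⁆ * (a * ⁅q, b⁆ * a⁻¹) by simp only [commutatorElement_def]; group]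
        refine mul_mem (ha.2 q hq) ?_
        obtain ⟨i, hi⟩ := Subgroup.mem_zpowers_iff.mp (hb.2 q hq)
        rw [← hi, ← conj_zpow, h.conj_z ha.1, hi]
        exact hb.2 q hq⟩
      inv_mem' := fun {a} ha => ⟨M₁.inv_mem ha.1, fun q hq => by
        rw [show ⁅q, a⁻¹⁆ = (a⁻¹ * ⁅q, a⁆ * a⁻¹⁻¹)⁻¹ by simp only [commutatorElement_def]; group]
        refine inv_mem ?_
        obtain ⟨i, hi⟩ := Subgroup.mem_zpowers_iff.mp (ha.2 q hq)
        rw [← hi, ← conj_zpow, h.conj_z (M₁.inv_mem ha.1), hi]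
        exact ha.2 q hq⟩ }
  refine h.le_Q (A := A) (fun a ha => ha.1) (Subgroup.le_normalizer_iff.mpr fun g hg a ha => ⟨?_, fun q hq => ?_⟩)
    (fun y hy hyo => ?_) ⟨hm, hc⟩
  · exact M₁.mul_mem (M₁.mul_mem hg ha.1) (M₁.inv_mem hg)
  · have hq' : g⁻¹ * q * g ∈ pCoreOf 2 M₁ := by
      have := h.conj_mem_Q (M₁.inv_mem hg) hq
      rwa [inv_inv] at this
    rw [show ⁅q, g * a * g⁻¹⁆ = g * ⁅g⁻¹ * q * g, a⁆ * g⁻¹ by simp only [commutatorElement_def]; group]
    obtain ⟨i, hi⟩ := Subgroup.mem_zpowers_iff.mp (ha.2 _ hq')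
    rw [← hi, ← conj_zpow, h.conj_z hg]
    exact Subgroup.zpow_mem _ (Subgroup.mem_zpowers z) i
  · refine eq_one_of_odd_mem (P := pCoreOf 2 M₁) (core_two M₁) hyo (h.ov.good.charTwo y hy.1 fun q hq => ?_)
    have hz2 := hy.2 q hq
    have hn : ∀ n : ℕ, y ^ n * q * (y ^ n)⁻¹ = q * (⁅q⁻¹, y⁆) ^ n := by
      intro n
      induction n with
      | zero => simp
      | succ n ih =>
        have hz' : y * ⁅q⁻¹, y⁆ = ⁅q⁻¹, y⁆ * y := by
          obtain ⟨i, hi⟩ := Subgroup.mem_zpowers_iff.mp (hy.2 q⁻¹ (inv_mem hq))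
          rw [← hi]
          exact (Commute.zpow_right (h.comm_z hy.1 : Commute y z) i)
        have e1 : y * q * y⁻¹ = q * ⁅q⁻¹, y⁆ := by simp only [commutatorElement_def]; group
        calc y ^ (n + 1) * q * (y ^ (n + 1))⁻¹ = y * (y ^ n * q * (y ^ n)⁻¹) * y⁻¹ := by rw [pow_succ']; group
          _ = (y * q * y⁻¹) * (y * ⁅q⁻¹, y⁆ ^ n * y⁻¹) := by rw [ih]; group
          _ = q * ⁅q⁻¹, y⁆ ^ (n + 1) := by
            rw [e1, (Commute.pow_right (hz' : Commute y ⁅q⁻¹, y⁆) n).eq, mul_inv_cancel_right, mul_assoc,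
              ← pow_succ']
    have hc2 : ⁅q⁻¹, y⁆ ^ 2 ^ 1 = 1 := by
      rcases mem_two h.z_mem.2.1 (hy.2 q⁻¹ (inv_mem hq)) with e | e <;> rw [e]
      · simp
      · rw [pow_one, pow_two, h.z_mem.2.1]
    have h1 := hn (orderOf y)
    rw [pow_orderOf_eq_one, one_mul, inv_one, mul_one, left_eq_mul] at h1
    have hc1 : ⁅q⁻¹, y⁆ = 1 := orderOf_eq_one_iff.mp (Nat.eq_one_of_dvd_coprimes
      ((Nat.coprime_two_right.mpr hyo).pow_right 1) (orderOf_dvd_of_pow_eq_one h1)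
      (orderOf_dvd_of_pow_eq_one hc2))
    have h2 : y * q * y⁻¹ = q * ⁅q⁻¹, y⁆ := by simp only [commutatorElement_def]; group
    rw [hc1, mul_one] at h2
    exact (mul_inv_eq_iff_eq_mul.mp h2).symm

theorem v_Q [Finite G] (h : MData (S : Subgroup G) M₁ F z v) : v ∈ pCoreOf 2 M₁ :=
  h.mem_Q_of_comm (h.S_le h.v_mem) fun q hq => by
    rcases h.comm_v (h.Q_le_S hq) with e | e <;> rw [e]
    · exact one_mem _
    · exact Subgroup.mem_zpowers z

theorem z_Q [Finite G] (h : MData (S : Subgroup G) M₁ F z v) : z ∈ pCoreOf 2 M₁ :=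
  h.mem_Q_of_comm (h.S_le h.z_mem.1) fun q hq => by
    rw [commutatorElement_eq_one_iff_mul_comm.mpr (h.comm_z (core_le M₁ hq))]; exact one_mem _

/-- The subgroup generated by the conjugates of `W` under `M₁`. -/
def U (_h : MData (S : Subgroup G) M₁ F z v) : Subgroup G :=
  Subgroup.closure ({z} ∪ {w | ∃ m ∈ M₁, w = m * v * m⁻¹})

theorem z_U (h : MData (S : Subgroup G) M₁ F z v) : z ∈ h.U := Subgroup.subset_closure (Or.inl rfl)

theorem conj_v_U (h : MData (S : Subgroup G) M₁ F z v) {m : G} (hm : m ∈ M₁) : m * v * m⁻¹ ∈ h.U :=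
  Subgroup.subset_closure (Or.inr ⟨m, hm, rfl⟩)

theorem v_U (h : MData (S : Subgroup G) M₁ F z v) : v ∈ h.U := by simpa using h.conj_v_U M₁.one_mem

theorem U_norm [Finite G] (h : MData (S : Subgroup G) M₁ F z v) :
    M₁ ≤ Subgroup.normalizer (h.U : Set G) := Subgroup.le_normalizer_iff.mpr fun g hg a ha => by
  induction ha using Subgroup.closure_induction with
  | mem x hx =>
    rcases hx with rfl | ⟨m, hm, rfl⟩
    · rw [h.conj_z hg]; exact h.z_U
    · rw [show g * (m * v * m⁻¹) * g⁻¹ = (g * m) * v * (g * m)⁻¹ by group]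
      exact h.conj_v_U (M₁.mul_mem hg hm)
  | one => simp
  | mul a b _ _ iha ihb =>
    rw [show g * (a * b) * g⁻¹ = (g * a * g⁻¹) * (g * b * g⁻¹) by group]
    exact mul_mem iha ihb
  | inv a _ iha =>
    rw [show g * a⁻¹ * g⁻¹ = (g * a * g⁻¹)⁻¹ by group]
    exact inv_mem iha

theorem U_le [Finite G] (h : MData (S : Subgroup G) M₁ F z v) : h.U ≤ pCoreOf 2 M₁ :=
  (Subgroup.closure_le _).mpr (by
    rintro x (rfl | ⟨m, hm, rfl⟩)
    · exact h.z_Q
    · exact h.conj_mem_Q hm h.v_Q)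

/-- `Q₁` induces at most `z` on `U`. -/
theorem comm_U [Finite G] (h : MData (S : Subgroup G) M₁ F z v) {q u : G} (hq : q ∈ pCoreOf 2 M₁)
    (hu : u ∈ h.U) : ⁅q, u⁆ ∈ Subgroup.zpowers z := by
  have hconj : ∀ m ∈ M₁, ∀ a ∈ Subgroup.zpowers z, m * a * m⁻¹ ∈ Subgroup.zpowers z := by
    intro m hm a ha
    obtain ⟨i, rfl⟩ := Subgroup.mem_zpowers_iff.mp ha
    rw [← conj_zpow, h.conj_z hm]
    exact Subgroup.zpow_mem _ (Subgroup.mem_zpowers z) i
  induction hu using Subgroup.closure_induction generalizing q with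
  | mem x hx =>
    rcases hx with rfl | ⟨m, hm, rfl⟩
    · rw [commutatorElement_eq_one_iff_mul_comm.mpr (h.comm_z (core_le M₁ hq))]; exact one_mem _
    · rw [show ⁅q, m * v * m⁻¹⁆ = m * ⁅m⁻¹ * q * m, v⁆ * m⁻¹ by simp only [commutatorElement_def]; group]
      refine hconj m hm _ ?_
      have hq' : m⁻¹ * q * m ∈ pCoreOf 2 M₁ := by
        have := h.conj_mem_Q (M₁.inv_mem hm) hq
        rwa [inv_inv] at this
      rcases h.comm_v (h.Q_le_S hq') with e | e <;> rw [e]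
      · exact one_mem _
      · exact Subgroup.mem_zpowers z
  | one => simp
  | mul a b ha _ iha ihb =>
    rw [show ⁅q, a * b⁆ = ⁅q, a⁆ * (a * ⁅q, b⁆ * a⁻¹) by simp only [commutatorElement_def]; group]
    exact mul_mem (iha hq) (hconj a (core_le M₁ (h.U_le ha)) _ (ihb hq))
  | inv a ha iha =>
    rw [show ⁅q, a⁻¹⁆ = (a⁻¹ * ⁅q, a⁆ * a⁻¹⁻¹)⁻¹ by simp only [commutatorElement_def]; group]
    exact inv_mem (hconj a⁻¹ (M₁.inv_mem (core_le M₁ (h.U_le ha))) _ (iha hq))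

/-- Squares of elements of `U` lie in `⟨z⟩`. -/
theorem U_sq [Finite G] (h : MData (S : Subgroup G) M₁ F z v) {u : G} (hu : u ∈ h.U) :
    u * u ∈ Subgroup.zpowers z := by
  have hn : ∀ x ∈ ({z} ∪ {w | ∃ m ∈ M₁, w = m * v * m⁻¹} : Set G), x ∈ M₁ := by
    rintro x (rfl | ⟨m, hm, rfl⟩)
    · exact h.S_le h.z_mem.1
    · exact M₁.mul_mem (M₁.mul_mem hm (h.S_le h.v_mem)) (M₁.inv_mem hm)
  refine sq_mem_closure (fun x hx a ha => ?_) (fun x hx a ha => ?_) ?_ (fun x hx y hy => ?_) u hu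
  · obtain ⟨i, rfl⟩ := Subgroup.mem_zpowers_iff.mp ha
    rw [← conj_zpow, h.conj_z (hn x hx)]
    exact Subgroup.zpow_mem _ (Subgroup.mem_zpowers z) i
  · obtain ⟨i, rfl⟩ := Subgroup.mem_zpowers_iff.mp ha
    have := h.conj_z (M₁.inv_mem (hn x hx))
    rw [show x⁻¹ * z ^ i * x = x⁻¹ * z ^ i * x⁻¹⁻¹ by group, ← conj_zpow, this]
    exact Subgroup.zpow_mem _ (Subgroup.mem_zpowers z) i
  · rintro x (rfl | ⟨m, -, rfl⟩)
    · rw [h.z_mem.2.1]; exact one_mem _
    · rw [show m * v * m⁻¹ * (m * v * m⁻¹) = m * (v * v) * m⁻¹ by group, h.v_sq]; simp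
  · exact h.comm_U (h.U_le (Subgroup.subset_closure hx)) (Subgroup.subset_closure hy)

/-- `|U| ≤ 32`. -/
theorem card_U_le [Finite G] (h : MData (S : Subgroup G) M₁ F z v) (h4 : SectionalPRankLE 2 4 G) :
    Nat.card h.U ≤ 32 := by
  have := card_le_of_sq h4 (Subgroup.zpowers_le.mpr h.z_U) (Subgroup.le_normalizer_iff.mpr fun u hu a ha => by
    obtain ⟨i, rfl⟩ := Subgroup.mem_zpowers_iff.mp ha
    rw [← conj_zpow, h.conj_z (core_le M₁ (h.U_le hu))]
    exact Subgroup.zpow_mem _ (Subgroup.mem_zpowers z) i) (fun u hu => h.U_sq hu)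
  rw [card_zpowers_two h.z_mem.2.1 h.z_ne] at this
  omega

/-- `F` fixes every element of `U` centralising `Q₁`. -/
theorem fix_U₀ [Finite G] (h : MData (S : Subgroup G) M₁ F z v) {u y : G} (hu : u ∈ h.U)
    (hc : ∀ q ∈ pCoreOf 2 M₁, q * u = u * q) (hy : y ∈ M₁) (hyo : Odd (orderOf y)) : y * u = u * y := by
  let N : Subgroup G := h.U ⊓ Subgroup.centralizer (pCoreOf 2 M₁ : Set G)
  refine h.centralize (N := N) ((core_two M₁).to_le (inf_le_left.trans h.U_le))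
    ((inf_le_left.trans h.U_le).trans (core_le M₁)) (Subgroup.le_normalizer_iff.mpr fun g hg a ha => ⟨?_, ?_⟩)
    (fun a ha b hb => Subgroup.mem_centralizer_iff.mp hb.2 a (h.U_le ha.1))
    (fun q hq a ha => Subgroup.mem_centralizer_iff.mp ha.2 q hq) hy hyo ⟨hu, ?_⟩
  · exact (Subgroup.mem_normalizer_iff.mp (h.U_norm hg) a).mp ha.1
  · refine Subgroup.mem_centralizer_iff.mpr fun q hq => ?_
    have hq' : g⁻¹ * q * g ∈ pCoreOf 2 M₁ := by
      have := h.conj_mem_Q (M₁.inv_mem hg) hq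
      rwa [inv_inv] at this
    have e := Subgroup.mem_centralizer_iff.mp ha.2 _ hq'
    calc q * (g * a * g⁻¹) = g * (g⁻¹ * q * g * a) * g⁻¹ := by group
      _ = g * (a * (g⁻¹ * q * g)) * g⁻¹ := by rw [e]
      _ = g * a * g⁻¹ * q := by group
  · exact Subgroup.mem_centralizer_iff.mpr fun q hq => hc q hq

/-- KEY: an odd element of `M₁` moving `Q₁` only inside `C(v)` is trivial. -/
theorem eq_one_of_comm [Finite G] (h : MData (S : Subgroup G) M₁ F z v) {y : G} (hy : y ∈ M₁)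
    (hyo : Odd (orderOf y)) (hc : ∀ q ∈ pCoreOf 2 M₁, ⁅q, y⁆ * v = v * ⁅q, y⁆) : y = 1 := by
  set v' := y * v * y⁻¹ with hv'
  set u := v * v' with hu
  have huU : u ∈ h.U := mul_mem h.v_U (h.conj_v_U hy)
  have hvinv : v⁻¹ = v := inv_eq_of_mul_eq_one_right h.v_sq
  have hval : ∀ q ∈ pCoreOf 2 M₁, ⁅q, v'⁆ = ⁅q, v⁆ := by
    intro q hq
    set r := y⁻¹ * q * y
    have hr : r ∈ pCoreOf 2 M₁ := by
      have := h.conj_mem_Q (M₁.inv_mem hy) hq
      rwa [inv_inv] at this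
    have e1 : ⁅q, v'⁆ = y * ⁅r, v⁆ * y⁻¹ := by simp only [r, hv', commutatorElement_def]; group
    have e3 : ⁅r, y⁆ = r * q⁻¹ := by simp only [r, commutatorElement_def]; group
    have hcr := hc r hr
    rw [e3] at hcr
    have e2 : ⁅r, v⁆ = ⁅r * q⁻¹ * q, v⁆ := by rw [inv_mul_cancel_right]
    have e4 : ⁅r * q⁻¹ * q, v⁆ = (r * q⁻¹) * ⁅q, v⁆ * (r * q⁻¹)⁻¹ := by
      calc ⁅r * q⁻¹ * q, v⁆ = (r * q⁻¹) * (q * v * q⁻¹) * ((r * q⁻¹)⁻¹ * v⁻¹) := by
            simp only [commutatorElement_def]; group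
        _ = (r * q⁻¹) * (q * v * q⁻¹) * (v⁻¹ * (r * q⁻¹)⁻¹) := by
            rw [(Commute.inv_inv (hcr : Commute (r * q⁻¹) v)).eq]
        _ = (r * q⁻¹) * ⁅q, v⁆ * (r * q⁻¹)⁻¹ := by simp only [commutatorElement_def]; group
    rcases h.comm_v (h.Q_le_S hq) with e | e
    · rw [e1, e2, e4, e, mul_one, mul_inv_cancel, mul_one, mul_inv_cancel]
    · rw [e1, e2, e4, e, h.conj_z (M₁.mul_mem (core_le M₁ hr) (M₁.inv_mem (core_le M₁ hq))), h.conj_z hy]
  have huc : ∀ q ∈ pCoreOf 2 M₁, q * u = u * q := fun q hq => by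
    rw [← commutatorElement_eq_one_iff_mul_comm]
    have hz : v * ⁅q, v'⁆ = ⁅q, v'⁆ * v := by
      rw [hval q hq]
      rcases h.comm_v (h.Q_le_S hq) with e | e <;> rw [e]
      · simp
      · exact h.z_mem.2.2 v h.v_mem
    calc ⁅q, u⁆ = ⁅q, v⁆ * (v * ⁅q, v'⁆) * v⁻¹ := by simp only [hu, commutatorElement_def]; group
      _ = ⁅q, v⁆ * ⁅q, v⁆ := by rw [hz, hval q hq]; group
      _ = 1 := by rcases h.comm_v (h.Q_le_S hq) with e | e <;> rw [e] <;> simp [h.z_mem.2.1]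
  have hyu := h.fix_U₀ huU huc hy hyo
  obtain ⟨k, hk⟩ := (core_two M₁) ⟨u, h.U_le huU⟩
  refine h.eq_one_of_shift hy hyo (u := u) ?_ hyu (congrArg Subtype.val hk) (huc v h.v_Q)
  rw [hu, ← mul_assoc, h.v_sq, one_mul]

/-- `Σ`: no element outside `Q₁` acts on `Q₁` inside an abelian normal subgroup centralising `v`. -/
theorem mem_Q_of_act [Finite G] (h : MData (S : Subgroup G) M₁ F z v) {A : Subgroup G}
    (hAn : M₁ ≤ Subgroup.normalizer (A : Set G)) (hAv : ∀ a ∈ A, a * v = v * a) {m : G} (hm : m ∈ M₁)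
    (hc : ∀ q ∈ pCoreOf 2 M₁, ⁅q, m⁆ ∈ A) : m ∈ pCoreOf 2 M₁ := by
  have hconj : ∀ g ∈ M₁, ∀ a ∈ A, g * a * g⁻¹ ∈ A := fun g hg a ha =>
    (Subgroup.mem_normalizer_iff.mp (hAn hg) a).mp ha
  let B : Subgroup G :=
    { carrier := {m | m ∈ M₁ ∧ ∀ q ∈ pCoreOf 2 M₁, ⁅q, m⁆ ∈ A}
      one_mem' := ⟨M₁.one_mem, fun q _ => by simp⟩
      mul_mem' := fun {a b} ha hb => ⟨M₁.mul_mem ha.1 hb.1, fun q hq => by
        rw [show ⁅q, a * b⁆ = ⁅q, a⁆ * (a * ⁅q, b⁆ * a⁻¹) by simp only [commutatorElement_def]; group]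
        exact mul_mem (ha.2 q hq) (hconj a ha.1 _ (hb.2 q hq))⟩
      inv_mem' := fun {a} ha => ⟨M₁.inv_mem ha.1, fun q hq => by
        rw [show ⁅q, a⁻¹⁆ = (a⁻¹ * ⁅q, a⁆ * a⁻¹⁻¹)⁻¹ by simp only [commutatorElement_def]; group]
        exact inv_mem (hconj a⁻¹ (M₁.inv_mem ha.1) _ (ha.2 q hq))⟩ }
  refine h.le_Q (A := B) (fun a ha => ha.1) (Subgroup.le_normalizer_iff.mpr fun g hg a ha =>
    ⟨M₁.mul_mem (M₁.mul_mem hg ha.1) (M₁.inv_mem hg), fun q hq => ?_⟩)
    (fun y hy hyo => h.eq_one_of_comm hy.1 hyo fun q hq => hAv _ (hy.2 q hq)) ⟨hm, hc⟩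
  have hq' : g⁻¹ * q * g ∈ pCoreOf 2 M₁ := by
    have := h.conj_mem_Q (M₁.inv_mem hg) hq
    rwa [inv_inv] at this
  rw [show ⁅q, g * a * g⁻¹⁆ = g * ⁅g⁻¹ * q * g, a⁆ * g⁻¹ by simp only [commutatorElement_def]; group]
  exact hconj g hg _ (ha.2 _ hq')

/-- `M₁` has an odd element different from one. -/
theorem exists_odd [Finite G] (h : MData (S : Subgroup G) M₁ F z v) :
    ∃ f ∈ F, f ≠ 1 ∧ Odd (orderOf f) := by
  haveI : Nontrivial ↥F := Finite.one_lt_card_iff_nontrivial.mp (by rcases h.ov.card with e | e | e | e <;> omega)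
  obtain ⟨⟨f, hf⟩, hf1⟩ := exists_ne (1 : ↥F)
  exact ⟨f, hf, fun e => hf1 (Subtype.ext e), h.ov.odd_order hf⟩

/-- Some element of `Q₁` moves `v`. -/
theorem exists_t [Finite G] (h : MData (S : Subgroup G) M₁ F z v) :
    ∃ t ∈ pCoreOf 2 M₁, t * v * t⁻¹ = z * v := by
  by_contra hh
  push Not at hh
  obtain ⟨f, hf, hf1, hfo⟩ := h.exists_odd
  have hall : ∀ q ∈ pCoreOf 2 M₁, q * v = v * q := fun q hq =>
    mul_inv_eq_iff_eq_mul.mp ((h.sv q (h.Q_le_S hq)).resolve_right (hh q hq))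
  exact hf1 (h.eq_one_of_comm (h.ov.F_le hf) hfo fun q hq => hall _ (by
    have h1 := h.conj_mem_Q (h.ov.F_le hf) (inv_mem hq)
    have := mul_mem hq h1
    simpa [commutatorElement_def, mul_assoc] using this))

/-- The orbit of `v` under `F` is regular modulo `⟨z⟩`. -/
theorem orbit_inj [Finite G] (h : MData (S : Subgroup G) M₁ F z v) {f f' : G} (hf : f ∈ F) (hf' : f' ∈ F)
    (e : f * v * f⁻¹ = f' * v * f'⁻¹ ∨ f * v * f⁻¹ = z * (f' * v * f'⁻¹)) : f = f' := by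
  have hm : f'⁻¹ * f ∈ F := F.mul_mem (F.inv_mem hf') hf
  have := h.eq_one_of_fix (h.ov.F_le hm) (h.ov.odd_order hm) (by
    rcases e with e | e
    · left
      calc f'⁻¹ * f * v * (f'⁻¹ * f)⁻¹ = f'⁻¹ * (f * v * f⁻¹) * f' := by group
        _ = v := by rw [e]; group
    · right
      calc f'⁻¹ * f * v * (f'⁻¹ * f)⁻¹ = f'⁻¹ * (f * v * f⁻¹) * f' := by group
        _ = (f'⁻¹ * z * f') * v := by rw [e]; group
        _ = z * v := by
          rw [show f'⁻¹ * z * f' = f'⁻¹ * z * f'⁻¹⁻¹ by group, h.conj_z (M₁.inv_mem (h.ov.F_le hf'))])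
  exact (inv_mul_eq_one.mp this).symm

theorem conj_v_ne [Finite G] (h : MData (S : Subgroup G) M₁ F z v) {f : G} (hf : f ∈ F) :
    f * v * f⁻¹ ∉ Subgroup.zpowers z := by
  intro e
  rcases mem_two h.z_mem.2.1 e with e | e
  · refine h.v_ne ?_
    calc v = f⁻¹ * (f * v * f⁻¹) * f := by group
      _ = 1 := by rw [e]; group
  · refine h.v_ne_z ?_
    have := congrArg (fun a => f⁻¹ * a * f) e
    rw [show f⁻¹ * (f * v * f⁻¹) * f = v by group, show f⁻¹ * z * f = f⁻¹ * z * f⁻¹⁻¹ by group,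
      h.conj_z (M₁.inv_mem (h.ov.F_le hf))] at this
    exact this

/-- `2(|F| + 1) ≤ |U|`. -/
theorem card_F_le [Finite G] (h : MData (S : Subgroup G) M₁ F z v) : 2 * (Nat.card F + 1) ≤ Nat.card h.U := by
  classical
  let φ : Option ↥F × ↥(Subgroup.zpowers z) → ↥h.U := fun p =>
    match p.1 with
    | none => ⟨p.2, Subgroup.zpowers_le.mpr h.z_U p.2.2⟩
    | some f => ⟨p.2 * ((f : G) * v * (f : G)⁻¹),
        mul_mem (Subgroup.zpowers_le.mpr h.z_U p.2.2) (h.conj_v_U (h.ov.F_le f.2))⟩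
  have hφ : Function.Injective φ := by
    rintro ⟨o, a⟩ ⟨o', a'⟩ e
    rcases o with _ | f <;> rcases o' with _ | f'
    · have := congrArg Subtype.val e
      exact Prod.ext rfl (Subtype.ext this)
    · exfalso
      have e' : (a : G) = a' * ((f' : G) * v * (f' : G)⁻¹) := congrArg Subtype.val e
      exact h.conj_v_ne f'.2 (by rw [← inv_mul_eq_iff_eq_mul.mpr e']; exact mul_mem (inv_mem a'.2) a.2)
    · exfalso
      have e' : (a : G) * ((f : G) * v * (f : G)⁻¹) = a' := congrArg Subtype.val e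
      exact h.conj_v_ne f.2 (by rw [eq_inv_mul_of_mul_eq e']; exact mul_mem (inv_mem a.2) a'.2)
    · have e' : (a : G) * ((f : G) * v * (f : G)⁻¹) = a' * ((f' : G) * v * (f' : G)⁻¹) := congrArg Subtype.val e
      have hff : f = f' := by
        refine Subtype.ext (h.orbit_inj f.2 f'.2 ?_)
        have := mul_mem (inv_mem a.2) a'.2
        rw [eq_inv_mul_of_mul_eq e', ← mul_assoc]
        rcases mem_two h.z_mem.2.1 this with e1 | e1 <;> rw [e1]
        · exact Or.inl (one_mul _)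
        · exact Or.inr rfl
      subst hff
      exact Prod.ext rfl (Subtype.ext (mul_right_cancel e'))
  have h1 := Nat.card_le_card_of_injective φ hφ
  rw [Nat.card_prod, Finite.card_option, card_zpowers_two h.z_mem.2.1 h.z_ne] at h1
  omega

/-- When `|F| = 3` the subgroup `Q₁` has index at most two in `S`. -/
theorem mul_mem_Q [Finite G] (h : MData (S : Subgroup G) M₁ F z v) (hF : Nat.card F = 3) {a b : G}
    (ha : a ∈ (S : Subgroup G)) (hb : b ∈ (S : Subgroup G)) (ha' : a ∉ pCoreOf 2 M₁) (hb' : b ∉ pCoreOf 2 M₁) :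
    a * b ∈ pCoreOf 2 M₁ := by
  classical
  haveI : Fact (Nat.Prime 3) := ⟨Nat.prime_three⟩
  obtain ⟨f, hf, hf1, -⟩ := h.exists_odd
  have hgen : ∀ g ∈ F, g = 1 ∨ g = f ∨ g = f⁻¹ := by
    intro g hg
    have hz : Subgroup.zpowers (⟨f, hf⟩ : ↥F) = ⊤ :=
      zpowers_eq_top_of_prime_card hF (fun e => hf1 (congrArg Subtype.val e))
    obtain ⟨i, hi⟩ := Subgroup.mem_zpowers_iff.mp (hz ▸ Subgroup.mem_top (⟨g, hg⟩ : ↥F))
    have hi' : f ^ i = g := congrArg Subtype.val hi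
    have h3 : f ^ 3 = 1 := by
      rw [← hF]
      exact congrArg Subtype.val (pow_card_eq_one' (x := (⟨f, hf⟩ : ↥F)))
    rw [zpow_eq_zpow_emod' i h3] at hi'
    have h0 : (0 : ℤ) ≤ i % ((3 : ℕ) : ℤ) := Int.emod_nonneg _ (by norm_num)
    have h1 : i % ((3 : ℕ) : ℤ) < 3 := Int.emod_lt_of_pos _ (by norm_num)
    generalize i % ((3 : ℕ) : ℤ) = r at hi' h0 h1
    interval_cases r
    · exact Or.inl (by rw [← hi', zpow_zero])
    · exact Or.inr (Or.inl (by rw [← hi', zpow_one]))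
    · refine Or.inr (Or.inr ?_)
      rw [← hi', eq_inv_iff_mul_eq_one, ← h3]
      rw [show (2 : ℤ) = ((2 : ℕ) : ℤ) from rfl, zpow_natCast, ← pow_succ]
  have hkill : ∀ n ∈ (S : Subgroup G), n ∈ Subgroup.normalizer (F : Set G) → n * f = f * n →
      n ∈ pCoreOf 2 M₁ := by
    intro n hn hnn hnf
    have hcj : ∀ m ∈ M₁, ∀ q ∈ pCoreOf 2 M₁, m * q * m⁻¹ ∈ pCoreOf 2 M₁ := fun m hm q hq => h.conj_mem_Q hm hq
    let P : Subgroup G :=
      { carrier := {s | s ∈ (S : Subgroup G) ∧ ∀ g ∈ F, ⁅s, g⁆ ∈ pCoreOf 2 M₁}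
        one_mem' := ⟨one_mem _, fun g _ => by simp⟩
        mul_mem' := fun {a b} ha hb => ⟨mul_mem ha.1 hb.1, fun g hg => by
          rw [show ⁅a * b, g⁆ = (a * ⁅b, g⁆ * a⁻¹) * ⁅a, g⁆ by simp only [commutatorElement_def]; group]
          exact mul_mem (hcj a (h.S_le ha.1) _ (hb.2 g hg)) (ha.2 g hg)⟩
        inv_mem' := fun {a} ha => ⟨inv_mem ha.1, fun g hg => by
          rw [show ⁅a⁻¹, g⁆ = (a⁻¹ * ⁅a, g⁆ * a⁻¹⁻¹)⁻¹ by simp only [commutatorElement_def]; group]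
          exact inv_mem (hcj a⁻¹ (M₁.inv_mem (h.S_le ha.1)) _ (ha.2 g hg))⟩ }
    have hQP : pCoreOf 2 M₁ ≤ P := fun q hq => ⟨h.Q_le_S hq, fun g hg => by
      rw [show ⁅q, g⁆ = q * (g * q⁻¹ * g⁻¹) by simp only [commutatorElement_def]; group]
      exact mul_mem hq (hcj g (h.ov.F_le hg) _ (inv_mem hq))⟩
    have hS : ∀ s ∈ (S : Subgroup G), ∀ a ∈ P, s * a * s⁻¹ ∈ P := by
      intro s hs a ha
      refine ⟨mul_mem (mul_mem hs ha.1) (inv_mem hs), fun g hg => ?_⟩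
      obtain ⟨q, hq, k, hk, hkn, rfl⟩ := h.ov.lift s hs
      set g' := k⁻¹ * g * k
      have hg' : g' ∈ F := (Subgroup.mem_normalizer_iff.mp hkn g').mpr (by
        simpa [g', mul_assoc] using hg)
      have hka := hcj k (h.S_le hk) _ (ha.2 g' hg')
      set c := k * a * k⁻¹ with hc
      have hcS : c ∈ (S : Subgroup G) := mul_mem (mul_mem hk ha.1) (inv_mem hk)
      have hgQ : g * q⁻¹ * g⁻¹ ∈ pCoreOf 2 M₁ := hcj g (h.ov.F_le hg) _ (inv_mem hq)
      have hgQ' : g * q * g⁻¹ ∈ pCoreOf 2 M₁ := hcj g (h.ov.F_le hg) _ hq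
      have e : k * ⁅a, g'⁆ * k⁻¹ = ⁅c, g⁆ := by simp only [g', hc, commutatorElement_def]; group
      rw [e] at hka
      rw [show q * k * a * (q * k)⁻¹ = q * c * q⁻¹ by simp only [hc]; group,
        show ⁅q * c * q⁻¹, g⁆ = q * ((c * (q⁻¹ * (g * q * g⁻¹)) * c⁻¹) * ⁅c, g⁆) * (g * q⁻¹ * g⁻¹) by
          simp only [commutatorElement_def]; group]
      exact mul_mem (mul_mem hq (mul_mem (hcj c (h.S_le hcS) _ (mul_mem (inv_mem hq) hgQ')) hka)) hgQ
    have hle : P ≤ pCoreOf 2 M₁ := by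
      refine le_core (S.isPGroup'.to_le fun a ha => ha.1) (fun a ha => h.S_le ha.1)
        (Subgroup.le_normalizer_iff.mpr fun m hm a ha => ?_)
      obtain ⟨q, hq, g, hg, k, hk, -, rfl⟩ := h.ov.decomp m hm
      have h1 := hS k hk a ha
      have h2 : g * (k * a * k⁻¹) * g⁻¹ ∈ P := by
        rw [show g * (k * a * k⁻¹) * g⁻¹ = ⁅k * a * k⁻¹, g⁆⁻¹ * (k * a * k⁻¹) by
          simp only [commutatorElement_def]; group]
        exact mul_mem (inv_mem (hQP (h1.2 g hg))) h1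
      rw [show q * g * k * a * (q * g * k)⁻¹ = q * (g * (k * a * k⁻¹) * g⁻¹) * q⁻¹ by group]
      exact mul_mem (mul_mem (hQP hq) h2) (inv_mem (hQP hq))
    refine hle ⟨hn, fun g hg => ?_⟩
    rw [commutatorElement_eq_one_iff_mul_comm.mpr (show n * g = g * n by
      rcases hgen g hg with rfl | rfl | rfl
      · simp
      · exact hnf
      · exact (Commute.inv_right (show Commute n f from hnf)).eq)]
    exact one_mem _
  obtain ⟨qa, hqa, na, hna, hnan, rfl⟩ := h.ov.lift a ha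
  obtain ⟨qb, hqb, nb, hnb, hnbn, rfl⟩ := h.ov.lift b hb
  have inv_of : ∀ n ∈ (S : Subgroup G), n ∈ Subgroup.normalizer (F : Set G) → n ∉ pCoreOf 2 M₁ →
      n * f * n⁻¹ = f⁻¹ := by
    intro n hn hnn hne
    rcases hgen _ ((Subgroup.mem_normalizer_iff.mp hnn f).mp hf) with e | e | e
    · exact absurd (conj_eq_one_iff.mp e) hf1
    · exact absurd (hkill n hn hnn (mul_inv_eq_iff_eq_mul.mp e)) hne
    · exact e
  have ea := inv_of na hna hnan fun e => ha' (mul_mem hqa e)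
  have eb := inv_of nb hnb hnbn fun e => hb' (mul_mem hqb e)
  have hab : na * nb ∈ pCoreOf 2 M₁ := hkill _ (mul_mem hna hnb) (mul_mem hnan hnbn) (by
    refine mul_inv_eq_iff_eq_mul.mp ?_
    calc na * nb * f * (na * nb)⁻¹ = na * (nb * f * nb⁻¹) * na⁻¹ := by group
      _ = (na * f * na⁻¹)⁻¹ := by rw [eb]; group
      _ = f := by rw [ea, inv_inv])
  rw [show qa * na * (qb * nb) = qa * (na * qb * na⁻¹) * (na * nb) by group]
  exact mul_mem (mul_mem hqa (h.conj_mem_Q (h.S_le hna) hqb)) hab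

end MData

end CfsgLib.SRFour
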