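import Mathlib
import Cfsg.Agent.Lib.SRFour.MType
import Cfsg.Agent.Lib.JComp.Straddle
import Cfsg.Agent.Lib.StronglyEmbedded

/-!
Case U: a maximal straddle and the small facts used with it.

Blueprint: `blueprint/S0517.md`, parcel CaseU.
-/

set_option autoImplicit false
set_option linter.unusedSectionVars false
set_option linter.style.haveILetI false

namespace CfsgLib.SRFour.CaseU

open Cfsg
open scoped commutatorElement

universe u

variable {G : Type u} [Group G] [Finite G]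

/-- The hypotheses of case U. -/
structure Conf (S : Sylow 2 G) (M : Subgroup G) : Prop where
  hard : Hard G
  isLocal : IsTwoLocal M
  sylowUp : ∀ L, IsTwoLocal L → (S : Subgroup G) ≤ L → L ≤ M
  moved : ¬ centZ (S : Subgroup G) ≤ Subgroup.normalizer ((S : Subgroup G) : Set G)

/-- A straddle of largest order inside `S`. -/
structure Straddle (S : Sylow 2 G) (M T : Subgroup G) : Prop where
  T_le : T ≤ (S : Subgroup G)
  ne : T ≠ ⊥
  out : ∃ L, IsTwoLocal L ∧ T ≤ L ∧ ¬ L ≤ M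
  big : ∀ X L : Subgroup G, IsPGroup 2 ↥X → X ≤ M → IsTwoLocal L → X ≤ L → ¬ L ≤ M → Nat.card X ≤ Nat.card T

theorem twoLocal {P : Subgroup G} (hP : IsPGroup 2 ↥P) (hne : P ≠ ⊥) :
    IsTwoLocal (Subgroup.normalizer (P : Set G)) := ⟨P, hP, hne, rfl⟩

theorem mem_norm {H : Subgroup G} {g : G} (h : ∀ a ∈ H, g * a * g⁻¹ ∈ H) :
    g ∈ Subgroup.normalizer (H : Set G) := CfsgLib.JComp.mem_normalizer_of_conj_mem h

theorem le_norm {H X : Subgroup G} (h : ∀ x ∈ X, ∀ a ∈ H, x * a * x⁻¹ ∈ H) :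
    X ≤ Subgroup.normalizer (H : Set G) := fun x hx => mem_norm (h x hx)

theorem conj_norm {H : Subgroup G} {g a : G} (hg : g ∈ Subgroup.normalizer (H : Set G)) (ha : a ∈ H) :
    g * a * g⁻¹ ∈ H := (Subgroup.mem_normalizer_iff.mp hg a).mp ha

theorem conj_fix {g a : G} (h : g * a = a * g) : g * a * g⁻¹ = a := by rw [h, mul_inv_cancel_right]

theorem of_conj_fix {g a : G} (h : g * a * g⁻¹ = a) : g * a = a * g := mul_inv_eq_iff_eq_mul.mp h

theorem conj_sq {g a : G} (h : a * a = 1) : g * a * g⁻¹ * (g * a * g⁻¹) = 1 := by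
  rw [show g * a * g⁻¹ * (g * a * g⁻¹) = g * (a * a) * g⁻¹ by group, h, mul_one, mul_inv_cancel]

/-- Twice a proper 2-subgroup fits. -/
theorem two_mul_le {H K : Subgroup G} (hK : IsPGroup 2 ↥K) (h : H < K) : 2 * Nat.card H ≤ Nat.card K := by
  haveI : Fact (Nat.Prime 2) := ⟨Nat.prime_two⟩
  have hd := Subgroup.card_dvd_of_le h.le
  obtain ⟨c, hc⟩ := hd
  rcases c with _ | _ | c
  · simp at hc; exact absurd hc Nat.card_pos.ne'
  · exact absurd (Subgroup.eq_of_le_of_card_ge h.le (by omega)) h.ne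
  · rw [hc]; calc 2 * Nat.card H = Nat.card H * 2 := by ring
      _ ≤ Nat.card H * (c + 1 + 1) := Nat.mul_le_mul_left _ (by omega)

theorem card_eq_pow {H : Subgroup G} (h : IsPGroup 2 ↥H) : ∃ k, Nat.card H = 2 ^ k := by
  haveI : Fact (Nat.Prime 2) := ⟨Nat.prime_two⟩
  exact IsPGroup.iff_card.mp h

theorem zpow_comm {x a : G} (h : x * a = a * x) (k : ℤ) : x ^ k * a = a * x ^ k :=
  (Commute.zpow_left (show Commute x a from h) k).eq

theorem zpowers_two {a : G} (h : a * a = 1) : IsPGroup 2 ↥(Subgroup.zpowers a) := fun x =>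
  ⟨1, Subtype.ext (by
    obtain ⟨k, hk⟩ := x.2
    show (x : G) ^ 2 ^ 1 = 1
    rw [← hk, show (2 : ℕ) ^ 1 = 2 from rfl, pow_two, ← zpow_add, ← two_mul, zpow_mul]
    rw [show a ^ (2 : ℤ) = 1 from (zpow_two a).trans h, one_zpow])⟩

theorem norm_zpowers {x a : G} (h : x * a = a * x) :
    x ∈ Subgroup.normalizer (Subgroup.zpowers a : Set G) := mem_norm fun b hb => by
  obtain ⟨k, rfl⟩ := hb
  simp only
  rw [conj_fix (Commute.zpow_right (show Commute x a from h) k).eq]
  exact ⟨k, rfl⟩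

/-- Commuting elements with square one generate such a group. -/
theorem sq_closure {X : Set G} (hsq : ∀ x ∈ X, x * x = 1) (hc : ∀ x ∈ X, ∀ y ∈ X, x * y = y * x) :
    ∀ a ∈ Subgroup.closure X, a * a = 1 := by
  intro a ha
  have hcomm : IsMulCommutative (Subgroup.closure X) := Subgroup.isMulCommutative_closure hc
  induction ha using Subgroup.closure_induction with
  | mem x hx => exact hsq x hx
  | one => exact one_mul 1
  | mul x y hx hy h1 h2 =>
    have e : y * x = x * y := congrArg Subtype.val (mul_comm' (⟨y, hy⟩ : ↥(Subgroup.closure X)) ⟨x, hx⟩)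
    calc x * y * (x * y) = x * (y * x) * y := by group
      _ = x * x * (y * y) := by rw [e]; group
      _ = 1 := by rw [h1, h2, one_mul]
  | inv x _ h1 => rw [← mul_inv_rev, h1, inv_one]

theorem commutator_le_max {P : Subgroup G} (hP : IsPGroup 2 ↥P) {m : Subgroup ↥P} (hm : IsCoatom m) :
    ⁅P, P⁆ ≤ m.map P.subtype ∧ 2 * Nat.card (m.map P.subtype) = Nat.card P := by
  haveI : Fact (Nat.Prime 2) := ⟨Nat.prime_two⟩
  obtain ⟨hmn, hmi⟩ := CfsgLib.index_coatom_pGroup hP hm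
  refine ⟨?_, by rw [Subgroup.card_map_of_injective P.subtype_injective, ← m.card_mul_index, hmi, mul_comm]⟩
  rw [Subgroup.commutator_le]
  intro a ha b hb
  refine ⟨⁅(⟨a, ha⟩ : ↥P), ⟨b, hb⟩⁆, ?_, rfl⟩
  haveI := hmn
  haveI : IsCyclic (↥P ⧸ m) := isCyclic_of_prime_card ((Subgroup.index_eq_card m).symm.trans hmi)
  refine (QuotientGroup.eq_one_iff _).mp ?_
  show QuotientGroup.mk' m ⁅(⟨a, ha⟩ : ↥P), ⟨b, hb⟩⁆ = 1
  rw [map_commutatorElement]
  exact commutatorElement_eq_one_iff_mul_comm.mpr (mul_comm' _ _)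

/-- An involution with centraliser of order four in a 2-group excludes elementary subgroups of order eight. -/
theorem no_eight {v : G} (hv : v * v = 1) (hv1 : v ≠ 1) {E : Subgroup G} (hE : ∀ e ∈ E, e * e = 1)
    (h8 : 8 ≤ Nat.card E) :
    ∀ P : Subgroup G, IsPGroup 2 ↥P → v ∈ P → E ≤ P →
      4 < Nat.card ↥(P ⊓ Subgroup.centralizer ({v} : Set G)) := by
  classical
  haveI : Fact (Nat.Prime 2) := ⟨Nat.prime_two⟩
  suffices H : ∀ n : ℕ, ∀ P : Subgroup G, Nat.card P = n → IsPGroup 2 ↥P → v ∈ P → E ≤ P →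
      4 < Nat.card ↥(P ⊓ Subgroup.centralizer ({v} : Set G)) from fun P => H _ P rfl
  intro n
  induction n using Nat.strong_induction_on with
  | _ n ih =>
  intro P hn hP hvP hEP
  by_contra hle
  push Not at hle
  set C := P ⊓ Subgroup.centralizer ({v} : Set G) with hC
  have hmemC : ∀ {a : G}, a ∈ P → a * v = v * a → a ∈ C := fun ha h =>
    ⟨ha, Subgroup.mem_centralizer_singleton_iff.mpr h⟩
  have hEP' : E ≠ P := fun e => by
    have : P ≤ C := fun a ha => hmemC ha (comm_of_exp_two hE a (e.symm ▸ ha) v (e.symm ▸ hvP))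
    have := Subgroup.card_le_of_le this
    rw [← e] at this
    omega
  -- maximal subgroups over `E` and over `v`
  obtain ⟨m, hm, hEm⟩ := (eq_top_or_exists_le_coatom (E.subgroupOf P)).resolve_left (fun e =>
    hEP' (le_antisymm hEP (Subgroup.subgroupOf_eq_top.mp e)))
  obtain ⟨m', hm', hvm⟩ := (eq_top_or_exists_le_coatom ((Subgroup.zpowers v).subgroupOf P)).resolve_left
    (fun e => by
      have h1 := Subgroup.card_le_of_le (hEP.trans (Subgroup.subgroupOf_eq_top.mp e))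
      rw [card_zpowers_two hv hv1] at h1
      omega)
  obtain ⟨hDP₁, hcard⟩ := commutator_le_max hP hm
  obtain ⟨hDP₂, -⟩ := commutator_le_max hP hm'
  set P₁ := m.map P.subtype with hP₁
  set P₂ := m'.map P.subtype with hP₂
  set D := ⁅P, P⁆ with hD
  have hP₁P : P₁ ≤ P := Subgroup.map_subtype_le m
  have hEP₁ : E ≤ P₁ := fun e he => ⟨⟨e, hEP he⟩, hEm he, rfl⟩
  have hvP₂ : v ∈ P₂ := ⟨⟨v, hvP⟩, hvm (Subgroup.mem_zpowers v), rfl⟩
  have hvP₁ : v ∉ P₁ := fun hv₁ => by
    have h1 := ih (Nat.card P₁) (by have := Nat.card_pos (α := ↥P₁); omega) P₁ rfl (hP.to_le hP₁P) hv₁ hEP₁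
    have h2 := Subgroup.card_le_of_le (inf_le_inf_right (Subgroup.centralizer ({v} : Set G)) hP₁P)
    rw [← hC] at h2
    omega
  have hvD : v ∉ D := fun h => hvP₁ (hDP₁ h)
  have hDP : D ≤ P := hDP₁.trans hP₁P
  -- `4 |D| ≤ |P|`
  have h4D : 4 * Nat.card D ≤ Nat.card P := by
    have hne : P₁ ⊓ P₂ < P₁ := by
      refine lt_of_le_of_ne inf_le_left fun e => hvP₁ ?_
      have hle' : m ≤ m' := fun a ha => by
        obtain ⟨b, hb, hba⟩ := (inf_eq_left.mp e) (⟨a, ha, rfl⟩ : (a : G) ∈ P₁)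
        rwa [← Subtype.ext hba]
      rw [hP₁, ← (hm.le_iff_eq hm'.1).mp hle']
      exact hvP₂
    have h1 := two_mul_le (hP.to_le hP₁P) hne
    have h2 := Subgroup.card_le_of_le (le_inf hDP₁ hDP₂)
    omega
  -- the class of `v`
  have hclass : ∀ q ∈ P, v⁻¹ * (q * v * q⁻¹) ∈ D := fun q hq => by
    have := Subgroup.commutator_mem_commutator (P.inv_mem hvP) hq
    rw [← hD, commutatorElement_def] at this
    simpa [mul_assoc] using this
  let f : ↥P ⧸ (C.subgroupOf P) → ↥D := fun x => Quotient.liftOn' x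
    (fun q => ⟨v⁻¹ * ((q : G) * v * (q : G)⁻¹), hclass q q.2⟩) (by
      intro a b hab
      rw [QuotientGroup.leftRel_apply] at hab
      have hc := Subgroup.mem_centralizer_singleton_iff.mp (Subgroup.mem_subgroupOf.mp hab).2
      simp only [Subgroup.coe_mul, InvMemClass.coe_inv] at hc
      refine Subtype.ext ?_
      show v⁻¹ * ((a : G) * v * (a : G)⁻¹) = v⁻¹ * ((b : G) * v * (b : G)⁻¹)
      calc v⁻¹ * ((a : G) * v * (a : G)⁻¹)
          = v⁻¹ * ((a : G) * (v * ((a : G)⁻¹ * (b : G))) * (b : G)⁻¹) := by group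
        _ = v⁻¹ * ((b : G) * v * (b : G)⁻¹) := by rw [← hc]; group)
  have hf : Function.Injective f := by
    intro x y hxy
    induction x using QuotientGroup.induction_on with
    | H a =>
    induction y using QuotientGroup.induction_on with
    | H b =>
    have e : v⁻¹ * ((a : G) * v * (a : G)⁻¹) = v⁻¹ * ((b : G) * v * (b : G)⁻¹) := congrArg Subtype.val hxy
    refine QuotientGroup.eq.mpr (Subgroup.mem_subgroupOf.mpr (hmemC (P.mul_mem (P.inv_mem a.2) b.2) ?_))
    calc (a : G)⁻¹ * (b : G) * v = (a : G)⁻¹ * ((b : G) * v * (b : G)⁻¹) * (b : G) := by group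
      _ = v * ((a : G)⁻¹ * (b : G)) := by rw [← mul_left_cancel e]; group
  have hquot := Subgroup.card_eq_card_quotient_mul_card_subgroup (C.subgroupOf P)
  rw [Nat.card_congr (Subgroup.subgroupOfEquivOfLe (inf_le_left : C ≤ P)).toEquiv] at hquot
  have hle1 := Nat.card_le_card_of_injective f hf
  have hsurj : Function.Surjective f := by
    refine (hf.bijective_of_nat_card_le (Nat.le_of_mul_le_mul_right (c := 4) ?_ (by norm_num))).2
    rw [mul_comm (Nat.card D) 4]
    exact h4D.trans (hquot.le.trans (Nat.mul_le_mul_left _ hle))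
  have hP4 : Nat.card P ≤ 4 * Nat.card D := by
    rw [mul_comm 4]
    exact hquot.le.trans (Nat.mul_le_mul hle1 hle)
  -- `v` inverts `D`, hence centralises `E ⊓ D`
  have hinv : ∀ c ∈ D, v * c * (v * c) = 1 := by
    intro c hc
    obtain ⟨x, hx⟩ := hsurj ⟨c, hc⟩
    induction x using QuotientGroup.induction_on with
    | H a =>
    have e1 : v⁻¹ * ((a : G) * v * (a : G)⁻¹) = c := congrArg Subtype.val hx
    rw [← e1, mul_inv_cancel_left]
    exact conj_sq hv
  have hinf : 2 * Nat.card ↥(E ⊓ D) ≤ 4 := by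
    have h1 : E ⊓ D ≤ C := fun e he => hmemC (hEP he.1) (by
      calc e * v = v⁻¹ * (v * e * (v * e)) * e⁻¹ := by group
        _ = v * e := by
          rw [hinv e he.2, mul_one, inv_eq_of_mul_eq_one_right hv, inv_eq_of_mul_eq_one_right (hE e he.1)])
    refine (two_mul_le (hP.to_le inf_le_left) (lt_of_le_of_ne h1 fun e => hvD ?_)).trans hle
    have hv2 : v ∈ E ⊓ D := by rw [e]; exact hmemC hvP rfl
    exact hv2.2
  have hrel : (E ⊓ D).relIndex E ≤ D.relIndex P₁ := by
    rw [Subgroup.inf_relIndex_left]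
    exact Subgroup.relIndex_le_of_le_right hEP₁ Subgroup.index_ne_zero_of_finite
  have hE1 : Nat.card ↥(E ⊓ D) * (E ⊓ D).relIndex E = Nat.card E := by
    rw [← Subgroup.relIndex_bot_left, Subgroup.relIndex_mul_relIndex _ _ _ bot_le inf_le_left,
      Subgroup.relIndex_bot_left]
  have hD1 : Nat.card D * D.relIndex P₁ = Nat.card P₁ := by
    rw [← Subgroup.relIndex_bot_left, Subgroup.relIndex_mul_relIndex _ _ _ bot_le hDP₁,
      Subgroup.relIndex_bot_left]
  have h3 : D.relIndex P₁ ≤ 2 := by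
    have : Nat.card D * D.relIndex P₁ ≤ Nat.card D * 2 := by omega
    exact Nat.le_of_mul_le_mul_left this Nat.card_pos
  have h4 : Nat.card ↥(E ⊓ D) * (E ⊓ D).relIndex E ≤ 2 * 2 := Nat.mul_le_mul (by omega) (hrel.trans h3)
  omega

variable {S : Sylow 2 G} {M : Subgroup G}

theorem S_ne_bot (h : Conf S M) : (S : Subgroup G) ≠ ⊥ := by
  intro e
  refine h.moved fun x _ => mem_norm fun a ha => ?_
  rw [e, Subgroup.mem_bot] at ha ⊢
  rw [ha, mul_one, mul_inv_cancel]

theorem S_le (h : Conf S M) : (S : Subgroup G) ≤ M :=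
  Subgroup.le_normalizer.trans (h.sylowUp _ (twoLocal S.2 (S_ne_bot h)) Subgroup.le_normalizer)

theorem good (h : Conf S M) : Good M := by
  obtain ⟨P, hP, hne, e⟩ := h.isLocal
  exact e ▸ h.hard.good_normalizer hP hne

theorem core_le_S (h : Conf S M) : pCoreOf 2 M ≤ (S : Subgroup G) := core_le_sylow S (S_le h)

theorem exists_inZ (h : Conf S M) : ∃ z, InZ (S : Subgroup G) z ∧ z ≠ 1 := by
  obtain ⟨a, ha, hne, hsq, hc⟩ := exists_central S.2 le_rfl Subgroup.le_normalizer (S_ne_bot h)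
  exact ⟨a, ⟨ha, hsq, hc⟩, hne⟩

theorem centZ_le (h : Conf S M) : centZ (S : Subgroup G) ≤ M := by
  obtain ⟨z, hz, hz1⟩ := exists_inZ h
  have hne : Subgroup.zpowers z ≠ ⊥ := by rwa [Ne, Subgroup.zpowers_eq_bot]
  exact le_trans (fun m hm => norm_zpowers (mem_centZ.mp hm z hz))
    (h.sylowUp _ (twoLocal (zpowers_two hz.2.1) hne) fun s hs => norm_zpowers (hz.2.2 s hs))

theorem inZ_mem_core (h : Conf S M) {a : G} (ha : InZ (S : Subgroup G) a) : a ∈ pCoreOf 2 M :=
  (good h).charTwo a (S_le h ha.1) fun q hq => ha.2.2 q (core_le_S h hq)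

theorem core_ne_bot (h : Conf S M) : pCoreOf 2 M ≠ ⊥ := fun e => by
  obtain ⟨z, hz, hz1⟩ := exists_inZ h
  have := inZ_mem_core h hz
  rw [e, Subgroup.mem_bot] at this
  exact hz1 this

theorem normalizer_core_le (h : Conf S M) : Subgroup.normalizer (pCoreOf 2 M : Set G) ≤ M :=
  h.sylowUp _ (twoLocal (core_two M) (core_ne_bot h)) ((S_le h).trans (le_normalizer_core M))

/-- The centraliser of the core lies in the core. -/
theorem cent_core (h : Conf S M) {a : G} (hc : ∀ q ∈ pCoreOf 2 M, q * a = a * q) : a ∈ pCoreOf 2 M :=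
  (good h).charTwo a (normalizer_core_le h (mem_norm fun q hq => by
    rwa [show a * q * a⁻¹ = q from conj_fix (hc q hq).symm])) hc

/-- The Sylow subgroup is larger than the core. -/
theorem exists_not_mem_core (h : Conf S M) : ∃ s ∈ (S : Subgroup G), s ∉ pCoreOf 2 M := by
  by_contra hno
  push Not at hno
  have e : pCoreOf 2 M = (S : Subgroup G) := le_antisymm (core_le_S h) hno
  exact h.moved ((centZ_le h).trans ((le_normalizer_core M).trans (by rw [e])))

theorem ne_top (h : Conf S M) : M ≠ ⊤ := by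
  intro e
  haveI := h.hard.simple
  haveI : (pCoreOf 2 M).Normal := Subgroup.normalizer_eq_top_iff.mp
    (top_le_iff.mp (e.ge.trans (le_normalizer_core M)))
  rcases (inferInstance : (pCoreOf 2 M).Normal).eq_bot_or_eq_top with e' | e'
  · exact core_ne_bot h e'
  · obtain ⟨s, -, hsQ⟩ := exists_not_mem_core h
    exact hsQ (e' ▸ Subgroup.mem_top s)

theorem even_card (h : Conf S M) : 2 ∣ Nat.card M := by
  obtain ⟨z, hz, hz1⟩ := exists_inZ h
  refine dvd_trans ?_ (Subgroup.orderOf_dvd_natCard M (S_le h hz.1))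
  rw [orderOf_eq_prime (by rw [pow_two, hz.2.1]) hz1]

/-- A straddle exists, as there is no strongly embedded subgroup. -/
theorem exists_straddle (h : Conf S M) : ∃ T, Straddle S M T := by
  classical
  haveI : Fact (Nat.Prime 2) := ⟨Nat.prime_two⟩
  -- some 2-subgroup of `M` lies in a 2-local outside `M`
  obtain ⟨A, hAM, hA, hA1, hout⟩ : ∃ A : Subgroup G, A ≤ M ∧ IsPGroup 2 ↥A ∧ A ≠ ⊥ ∧
      ¬ Subgroup.normalizer (A : Set G) ≤ M := by
    by_contra hno
    push Not at hno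
    have hse := CfsgLib.StronglyEmbedded.of_normalizers (p := 2) (ne_top h) (even_card h)
      fun A hAM hA hA1 => hno A hAM hA hA1
    refine h.hard.noSE M ⟨ne_top h, even_iff_two_dvd.mpr (even_card h), fun g hg => ?_⟩
    rw [← Nat.not_even_iff_odd, even_iff_two_dvd]
    exact CfsgLib.StronglyEmbedded.not_dvd_inter hse hg
  let P : Subgroup G → Prop := fun X =>
    X ≤ M ∧ IsPGroup 2 ↥X ∧ X ≠ ⊥ ∧ ∃ L, IsTwoLocal L ∧ X ≤ L ∧ ¬ L ≤ M
  have hP : P A := ⟨hAM, hA, hA1, _, twoLocal hA hA1, Subgroup.le_normalizer, hout⟩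
  haveI : Finite (Subgroup G) := Finite.of_injective (fun H : Subgroup G => (H : Set G)) SetLike.coe_injective
  obtain ⟨X, hX, hmax⟩ := Set.exists_max_image {X | P X} (fun X => Nat.card X) (Set.toFinite _) ⟨A, hP⟩
  obtain ⟨hXM, hX2, hX1, L, hL, hXL, hLM⟩ := hX
  -- conjugate it into `S`
  obtain ⟨R, hR⟩ := (hX2.comap_of_injective M.subtype M.subtype_injective :
    IsPGroup 2 ↥(X.subgroupOf M)).exists_le_sylow
  obtain ⟨m, hm⟩ := MulAction.exists_smul_eq ↥M R (S.subtype (S_le h))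
  set c := (MulAut.conj (m : G)).toMonoidHom with hc
  have hcard : Nat.card (X.map c) = Nat.card X :=
    Subgroup.card_map_of_injective (MulAut.conj (m : G)).injective
  refine ⟨X.map c, ?_, ?_, ⟨L.map c, ?_, Subgroup.map_mono hXL, fun hle => hLM fun l hl => ?_⟩, ?_⟩
  · rintro _ ⟨x, hx, rfl⟩
    have h1 : m * (⟨x, hXM hx⟩ : ↥M) * m⁻¹ ∈ (S.subtype (S_le h) : Subgroup ↥M) := by
      rw [← hm, Sylow.coe_subgroup_smul]
      exact ⟨⟨x, hXM hx⟩, hR hx, rfl⟩
    rw [Sylow.coe_subtype, Subgroup.mem_subgroupOf] at h1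
    exact h1
  · rw [Ne, Subgroup.map_eq_bot_iff_of_injective _ (MulAut.conj (m : G)).injective]
    exact hX1
  · obtain ⟨R, hR, hR1, rfl⟩ := hL
    refine ⟨R.map c, hR.map _, ?_, ?_⟩
    · rw [Ne, Subgroup.map_eq_bot_iff_of_injective _ (MulAut.conj (m : G)).injective]
      exact hR1
    · exact Subgroup.map_normalizer_eq_of_bijective R (f := c) (MulAut.conj (m : G)).bijective
  · have := M.mul_mem (M.mul_mem (M.inv_mem m.2) (hle ⟨l, hl, rfl⟩)) m.2
    simpa [hc, mul_assoc] using this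
  · intro Y K hY hYM hK hYK hKM
    rw [hcard]
    by_cases hY1 : Y = ⊥
    · subst hY1; simp only [Subgroup.card_bot]; exact Nat.card_pos
    · exact hmax Y ⟨hYM, hY, hY1, K, hK, hYK, hKM⟩

variable {T : Subgroup G}

theorem T_two (st : Straddle S M T) : IsPGroup 2 ↥T := S.2.to_le st.T_le

theorem of_card_le (h : Conf S M) (st : Straddle S M T) {X L : Subgroup G} (hX : X ≤ (S : Subgroup G))
    (hc : Nat.card T ≤ Nat.card X) (hL : IsTwoLocal L) (hXL : X ≤ L) (hLM : ¬ L ≤ M) : Straddle S M X := by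
  refine ⟨hX, fun e => ?_, ⟨L, hL, hXL, hLM⟩, fun Y K hY hYM hK hYK hKM => (st.big Y K hY hYM hK hYK hKM).trans hc⟩
  have h1 : 2 ≤ Nat.card T := by
    haveI : Nontrivial ↥T := (Subgroup.nontrivial_iff_ne_bot T).mpr st.ne
    exact Finite.one_lt_card
  rw [e, Subgroup.card_bot] at hc
  omega

theorem lt_S (h : Conf S M) (st : Straddle S M T) : T < (S : Subgroup G) := by
  refine lt_of_le_of_ne st.T_le fun e => ?_
  obtain ⟨L, hL, hTL, hLM⟩ := st.out
  exact hLM (h.sylowUp L hL (e ▸ hTL))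

/-- A normalised subgroup with normaliser outside `M` is normalised by no larger 2-subgroup of `M`. -/
theorem le_of_big (h : Conf S M) (st : Straddle S M T) {X L : Subgroup G} (hX : X ≤ (S : Subgroup G))
    (hTX : T ≤ X) (hL : IsTwoLocal L) (hXL : X ≤ L) (hLM : ¬ L ≤ M) : X = T :=
  (Subgroup.eq_of_le_of_card_ge hTX (st.big X L (S.2.to_le hX) (hX.trans (S_le h)) hL hXL hLM)).symm

theorem exists_step (h : Conf S M) (st : Straddle S M T) :
    ∃ s ∈ (S : Subgroup G), s ∉ T ∧ s * s ∈ T ∧ s ∈ Subgroup.normalizer (T : Set G) := by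
  haveI : Fact (Nat.Prime 2) := ⟨Nat.prime_two⟩
  obtain ⟨g, hg, hgT⟩ := SetLike.exists_of_lt (CfsgLib.JComp.exists_normalizer_gt S.2 (lt_S h st))
  -- the last power outside `T`
  obtain ⟨k, hk⟩ := S.2 ⟨g, hg.1⟩
  have hex : ∃ j, g ^ 2 ^ j ∈ T := ⟨k, by rw [show g ^ 2 ^ k = 1 from congrArg Subtype.val hk]; exact one_mem T⟩
  classical
  have h0 : Nat.find hex ≠ 0 := fun e => hgT (by simpa [e] using Nat.find_spec hex)
  obtain ⟨j, hj⟩ := Nat.exists_eq_succ_of_ne_zero h0
  refine ⟨g ^ 2 ^ j, Subgroup.pow_mem _ hg.1 _, Nat.find_min hex (by omega), ?_, Subgroup.pow_mem _ hg.2 _⟩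
  rw [← pow_add, ← two_mul, ← pow_succ']
  have := Nat.find_spec hex
  rwa [hj] at this

theorem normalizer_le (h : Conf S M) (st : Straddle S M T) {C : Subgroup G} (hC : IsPGroup 2 ↥C) (hC1 : C ≠ ⊥)
    (hTC : T ≤ Subgroup.normalizer (C : Set G)) {s : G} (hs : s ∈ (S : Subgroup G)) (hsT : s ∉ T)
    (hsC : s ∈ Subgroup.normalizer (C : Set G)) : Subgroup.normalizer (C : Set G) ≤ M := by
  by_contra hne
  have e := le_of_big h st (X := T ⊔ Subgroup.zpowers s) (L := Subgroup.normalizer (C : Set G))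
    (sup_le st.T_le (Subgroup.zpowers_le.mpr hs)) le_sup_left (twoLocal hC hC1)
    (sup_le hTC (Subgroup.zpowers_le.mpr hsC)) hne
  exact hsT (e.le (Subgroup.mem_sup_right (Subgroup.mem_zpowers s)))

/-- A straddle is a Sylow 2-subgroup of every 2-local outside `M` containing it. -/
theorem sylow_in (h : Conf S M) (st : Straddle S M T) {L P : Subgroup G} (hL : IsTwoLocal L) (hLM : ¬ L ≤ M)
    (hP : IsPGroup 2 ↥P) (hPL : P ≤ L) (hTP : T ≤ P) : P = T := by
  by_contra hne
  have hlt := CfsgLib.JComp.exists_normalizer_gt hP (lt_of_le_of_ne hTP (Ne.symm hne))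
  obtain ⟨s, hs, hsT, -, hsN⟩ := exists_step h st
  have hN : P ⊓ Subgroup.normalizer (T : Set G) ≤ M :=
    inf_le_right.trans (normalizer_le h st (T_two st) st.ne Subgroup.le_normalizer hs hsT hsN)
  exact absurd (st.big _ L (hP.to_le inf_le_left) hN hL (inf_le_left.trans hPL) hLM)
    (not_le.mpr (lt_of_lt_of_le (by have := Nat.card_pos (α := ↥T); omega) (two_mul_le (hP.to_le inf_le_left) hlt)))

/-- A 2-subgroup of a 2-local outside `M` containing a straddle is conjugate into it. -/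
theorem conj_into (h : Conf S M) (st : Straddle S M T) {L X : Subgroup G} (hL : IsTwoLocal L) (hLM : ¬ L ≤ M)
    (hTL : T ≤ L) (hX : IsPGroup 2 ↥X) (hXL : X ≤ L) : ∃ l ∈ L, ∀ x ∈ X, l * x * l⁻¹ ∈ T := by
  haveI : Fact (Nat.Prime 2) := ⟨Nat.prime_two⟩
  obtain ⟨P, hP⟩ := ((T_two st).comap_of_injective L.subtype L.subtype_injective :
    IsPGroup 2 ↥(T.subgroupOf L)).exists_le_sylow
  obtain ⟨R, hR⟩ := (hX.comap_of_injective L.subtype L.subtype_injective :
    IsPGroup 2 ↥(X.subgroupOf L)).exists_le_sylow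
  have hPT : (P : Subgroup ↥L).map L.subtype = T :=
    sylow_in h st hL hLM (P.2.map _) (Subgroup.map_subtype_le _) fun a ha => ⟨⟨a, hTL ha⟩, hP ha, rfl⟩
  obtain ⟨l, hl⟩ := MulAction.exists_smul_eq ↥L R P
  refine ⟨l, l.2, fun x hx => hPT ▸ ⟨l * ⟨x, hXL hx⟩ * l⁻¹, ?_, rfl⟩⟩
  rw [← hl, Sylow.coe_subgroup_smul]
  exact ⟨⟨x, hXL hx⟩, hR hx, rfl⟩

theorem card_le_of_local (h : Conf S M) (st : Straddle S M T) {L X : Subgroup G} (hL : IsTwoLocal L)
    (hLM : ¬ L ≤ M) (hTL : T ≤ L) (hX : IsPGroup 2 ↥X) (hXL : X ≤ L) : Nat.card X ≤ Nat.card T := by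
  obtain ⟨l, -, hl⟩ := conj_into h st hL hLM hTL hX hXL
  refine Nat.card_le_card_of_injective (fun x : ↥X => (⟨l * x * l⁻¹, hl x x.2⟩ : ↥T)) fun a b e => Subtype.ext ?_
  exact mul_left_cancel (mul_right_cancel (congrArg Subtype.val e))

/-- The Sylow subgroup has an elementary subgroup of order eight. -/
theorem exists_eight (h : Conf S M) :
    ∃ E : Subgroup G, E ≤ (S : Subgroup G) ∧ (∀ a ∈ E, a * a = 1) ∧ 8 ≤ Nat.card E := by
  haveI : Fact (Nat.Prime 2) := ⟨Nat.prime_two⟩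
  have h0 := h.hard.rank
  simp only [PRankLE] at h0
  push Not at h0
  obtain ⟨A, -, hsq, hlt⟩ := h0
  have hA : IsPGroup 2 ↥A := fun a => ⟨1, Subtype.ext (by simpa using hsq a a.2)⟩
  obtain ⟨P, hP⟩ := hA.exists_le_sylow
  obtain ⟨g, hg⟩ := MulAction.exists_smul_eq G P S
  refine ⟨A.map (MulAut.conj g).toMonoidHom, ?_, ?_, ?_⟩
  · rw [← hg, Sylow.coe_subgroup_smul, Subgroup.pointwise_smul_def]
    exact Subgroup.map_mono hP
  · rintro _ ⟨a, ha, rfl⟩
    exact conj_sq (by rw [← pow_two]; exact hsq a ha)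
  · rw [Subgroup.card_map_of_injective (MulAut.conj g).injective]
    obtain ⟨k, hk⟩ := card_eq_pow hA
    rw [hk] at hlt ⊢
    have h2 : 2 < k := (Nat.pow_lt_pow_iff_right (by norm_num)).mp hlt
    exact le_trans (by norm_num) (Nat.pow_le_pow_right (by norm_num) (show 3 ≤ k by omega))

end CfsgLib.SRFour.CaseU
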