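import Mathlib
import Cfsg.Agent.Lib.SRFour.CaseUBase

/-!
Case U: a block `A₄` and a 2-group acting on it as `D₈`.

Blueprint: `blueprint/S0517.md`, parcel CaseU.
-/

set_option autoImplicit false
set_option linter.unusedSectionVars false
set_option linter.style.haveILetI false

namespace CfsgLib.SRFour.CaseU

open Cfsg
open scoped commutatorElement

universe u

variable {G : Type u} [Group G] [Finite G]

theorem mem_sup_norm {A B : Subgroup G} (hn : B ≤ Subgroup.normalizer (A : Set G)) {x : G} (hx : x ∈ A ⊔ B) :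
    ∃ a ∈ A, ∃ b ∈ B, x = a * b := by
  have : x ∈ ((A ⊔ B : Subgroup G) : Set G) := hx
  rw [Subgroup.coe_mul_of_right_le_normalizer_left A B hn] at this
  obtain ⟨a, ha, b, hb, e⟩ := this
  exact ⟨a, ha, b, hb, e.symm⟩

/-- A four-group with an element of order three acting without fixed points. -/
structure A4 (V : Subgroup G) (y : G) : Prop where
  card : Nat.card V = 4
  sq : ∀ a ∈ V, a * a = 1
  y3 : y * y * y = 1
  norm : ∀ a ∈ V, y * a * y⁻¹ ∈ V
  fpf : ∀ a ∈ V, y * a = a * y → a = 1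

/-- The alternating group of degree four. -/
def grp (V : Subgroup G) (y : G) : Subgroup G := V ⊔ Subgroup.zpowers y

variable {V : Subgroup G} {y : G}

theorem le_grp : V ≤ grp V y := le_sup_left

theorem y_grp : y ∈ grp V y := Subgroup.mem_sup_right (Subgroup.mem_zpowers y)

theorem conj_grp (g : G) {a : G} (ha : a ∈ grp V y) :
    g * a * g⁻¹ ∈ grp (V.map (MulAut.conj g).toMonoidHom) (g * y * g⁻¹) := by
  have h1 : (grp V y).map (MulAut.conj g).toMonoidHom =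
      grp (V.map (MulAut.conj g).toMonoidHom) (g * y * g⁻¹) := by
    rw [grp, grp, Subgroup.map_sup, MonoidHom.map_zpowers]
    rfl
  rw [← h1]
  exact ⟨a, ha, rfl⟩

namespace A4

theorem comm (e : A4 V y) : ∀ a ∈ V, ∀ b ∈ V, a * b = b * a := comm_of_exp_two e.sq

theorem V_two (e : A4 V y) : IsPGroup 2 ↥V := fun a => ⟨1, Subtype.ext (by
  show (a : G) ^ 2 ^ 1 = 1
  rw [pow_one, pow_two]; exact e.sq a a.2)⟩

theorem V_ne (e : A4 V y) : V ≠ ⊥ := fun h => by
  have := e.card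
  rw [h, Subgroup.card_bot] at this
  omega

theorem inv_eq (e : A4 V y) {a : G} (ha : a ∈ V) : a⁻¹ = a := inv_eq_of_mul_eq_one_right (e.sq a ha)

theorem y_norm (e : A4 V y) : y ∈ Subgroup.normalizer (V : Set G) := mem_norm e.norm

theorem grp_norm (e : A4 V y) : grp V y ≤ Subgroup.normalizer (V : Set G) :=
  sup_le Subgroup.le_normalizer (Subgroup.zpowers_le.mpr e.y_norm)

theorem y_ne (e : A4 V y) : y ≠ 1 := by
  intro h
  obtain ⟨a, ha, ha1⟩ := (Subgroup.nontrivial_iff_exists_ne_one V).mp ((Subgroup.nontrivial_iff_ne_bot V).mpr e.V_ne)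
  exact ha1 (e.fpf a ha (by rw [h, one_mul, mul_one]))

theorem y_not_mem (e : A4 V y) : y ∉ V := fun h => e.y_ne (e.fpf y h rfl)

theorem y2_not_mem (e : A4 V y) : y * y ∉ V := fun h => e.y_not_mem (by
  have h1 := e.norm _ h
  have h2 := e.sq _ h
  have : y = y * y * y * y := by rw [e.y3, one_mul]
  rw [this, show y * y * y * y = y * y * (y * y) by group, h2]
  exact V.one_mem)

/-- The elements of the group. -/
theorem cases (e : A4 V y) {a : G} (ha : a ∈ grp V y) :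
    ∃ u ∈ V, a = u ∨ a = u * y ∨ a = u * (y * y) := by
  obtain ⟨u, hu, b, hb, rfl⟩ := mem_sup_norm (Subgroup.zpowers_le.mpr e.y_norm) ha
  obtain ⟨k, rfl⟩ := hb
  refine ⟨u, hu, ?_⟩
  simp only
  have h3 : y ^ (3 : ℤ) = 1 := by
    rw [show (3 : ℤ) = ((3 : ℕ) : ℤ) by rfl, zpow_natCast, pow_succ, pow_two, e.y3]
  have hk : y ^ k = y ^ (k % 3) := by
    conv_lhs => rw [← Int.emod_add_mul_ediv k 3, zpow_add, zpow_mul, h3, one_zpow, mul_one]
  rw [hk]
  rcases (show k % 3 = 0 ∨ k % 3 = 1 ∨ k % 3 = 2 by omega) with h | h | h <;> rw [h]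
  · exact Or.inl (by rw [zpow_zero, mul_one])
  · exact Or.inr (Or.inl (by rw [zpow_one]))
  · exact Or.inr (Or.inr (by rw [zpow_two]))

theorem y_inv (e : A4 V y) : y⁻¹ = y * y := inv_eq_of_mul_eq_one_right (by rw [← mul_assoc, e.y3])

/-- The product of an orbit is trivial. -/
theorem orbit_prod (e : A4 V y) {u : G} (hu : u ∈ V) :
    u * (y * u * y⁻¹) * (y * (y * u * y⁻¹) * y⁻¹) = 1 := by
  set a := y * u * y⁻¹ with ha
  have haV : a ∈ V := e.norm u hu
  set b := y * a * y⁻¹ with hb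
  have hbV : b ∈ V := e.norm a haV
  have hyb : y * b * y⁻¹ = u := by
    have h3 : y * y * y * u * (y * y * y)⁻¹ = u := by rw [e.y3, one_mul, inv_one, mul_one]
    rw [← h3, hb, ha]
    group
  refine e.fpf _ (V.mul_mem (V.mul_mem hu haV) hbV) (of_conj_fix ?_)
  calc y * (u * a * b) * y⁻¹ = y * u * y⁻¹ * (y * a * y⁻¹) * (y * b * y⁻¹) := by group
    _ = a * b * u := by rw [hyb, ← ha, ← hb]
    _ = u * (a * b) := e.comm _ (V.mul_mem haV hbV) _ hu
    _ = u * a * b := (mul_assoc u a b).symm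

/-- Involutions of the group lie in `V`. -/
theorem mem_V (e : A4 V y) {a : G} (ha : a ∈ grp V y) (hsq : a * a = 1) : a ∈ V := by
  obtain ⟨u, hu, rfl | rfl | rfl⟩ := e.cases ha
  · exact hu
  · exfalso
    have h1 : u * y * (u * y) * (u * y) = 1 := by
      have := e.orbit_prod hu
      calc u * y * (u * y) * (u * y)
          = u * (y * u * y⁻¹) * (y * (y * u * y⁻¹) * y⁻¹) * (y * y * y) := by group
        _ = 1 := by rw [this, e.y3, one_mul]
    rw [hsq, one_mul] at h1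
    exact e.y_not_mem (by rw [eq_inv_of_mul_eq_one_right h1]; exact V.inv_mem hu)
  · exfalso
    have h1 : u * (y * y) * (u * (y * y)) = u * (y⁻¹ * u * y) * y := by
      rw [← e.y_inv]
      calc u * y⁻¹ * (u * y⁻¹) = u * (y⁻¹ * u * y) * (y⁻¹ * y⁻¹) := by group
        _ = u * (y⁻¹ * u * y) * y := by
          rw [show y⁻¹ * y⁻¹ = (y * y)⁻¹ by group, ← e.y_inv, inv_inv]
    rw [hsq] at h1
    refine e.y_not_mem ?_
    rw [eq_inv_of_mul_eq_one_right h1.symm]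
    refine V.inv_mem (V.mul_mem hu ?_)
    have := e.norm _ (e.norm u hu)
    rwa [show y * (y * u * y⁻¹) * y⁻¹ = y * y * u * (y * y)⁻¹ by group, ← e.y_inv, inv_inv] at this

/-- An element normalising the group normalises `V`. -/
theorem norm_V (e : A4 V y) {a : G} (ha : a ∈ Subgroup.normalizer (grp V y : Set G)) :
    a ∈ Subgroup.normalizer (V : Set G) :=
  mem_norm fun u hu => e.mem_V (conj_norm ha (le_grp hu)) (conj_sq (e.sq u hu))

/-- An element normalising the group and centralising `V` acts as an element of `V`. -/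
theorem split (e : A4 V y) {a : G} (ha : a ∈ Subgroup.normalizer (grp V y : Set G))
    (hc : ∀ u ∈ V, a * u = u * a) :
    ∃ w ∈ V, (w * a) * y = y * (w * a) ∧ ∀ u ∈ V, (w * a) * u = u * (w * a) := by
  have hwc : ∀ w ∈ V, ∀ u ∈ V, (w * a) * u = u * (w * a) := fun w hw u hu => by
    rw [mul_assoc, hc u hu, ← mul_assoc, e.comm w hw u hu, mul_assoc]
  obtain ⟨c, hc1, hcase⟩ := e.cases (conj_norm ha y_grp)
  -- conjugation by `a y a⁻¹` on `V` is that of `y`
  have hsame : ∀ u ∈ V, a * y * a⁻¹ * u * (a * y * a⁻¹)⁻¹ = y * u * y⁻¹ := fun u hu => by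
    have h1 : a⁻¹ * u * a = u := by rw [mul_assoc, ← hc u hu, ← mul_assoc, inv_mul_cancel, one_mul]
    calc a * y * a⁻¹ * u * (a * y * a⁻¹)⁻¹ = a * (y * (a⁻¹ * u * a) * y⁻¹) * a⁻¹ := by group
      _ = a * (y * u * y⁻¹) * a⁻¹ := by rw [h1]
      _ = y * u * y⁻¹ := conj_fix (hc _ (e.norm u hu))
  have hconjc : ∀ u ∈ V, c * u * c⁻¹ = u := fun u hu => conj_fix (e.comm c hc1 u hu)
  rcases hcase with h | h | h
  · exfalso
    have h1 : y = a⁻¹ * c * a := by rw [← h]; group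
    refine e.y_not_mem ?_
    rw [h1, mul_assoc, ← hc c hc1, ← mul_assoc, inv_mul_cancel, one_mul]
    exact hc1
  · -- find the shift
    let f : ↥V → ↥V := fun w =>
      ⟨(w : G) * (y * (w : G) * y⁻¹), V.mul_mem w.2 (e.norm _ w.2)⟩
    have hf : Function.Injective f := fun p q hpq => by
      have hpq' : (p : G) * (y * p * y⁻¹) = (q : G) * (y * q * y⁻¹) := congrArg Subtype.val hpq
      refine Subtype.ext ?_
      have hp := p.2
      have hq := q.2
      have hpqV : (p : G) * q ∈ V := V.mul_mem hp hq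
      have hfix : y * ((p : G) * q) * y⁻¹ = (p : G) * q := by
        calc y * ((p : G) * q) * y⁻¹ = (p : G)⁻¹ * ((p : G) * (y * p * y⁻¹)) * (y * q * y⁻¹) := by group
          _ = (p : G)⁻¹ * (q : G) * ((y * q * y⁻¹) * (y * q * y⁻¹)) := by rw [hpq']; group
          _ = (p : G) * q := by rw [conj_sq (e.sq _ hq), mul_one, e.inv_eq hp]
      have := e.fpf _ hpqV (of_conj_fix hfix)
      rw [eq_inv_of_mul_eq_one_left this, e.inv_eq hq]
    obtain ⟨w, hw⟩ := (Finite.injective_iff_surjective.mp hf) ⟨c, hc1⟩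
    have hw' : (w : G) * (y * w * y⁻¹) = c := congrArg Subtype.val hw
    refine ⟨w, w.2, ?_, hwc _ w.2⟩
    have h2 : a * y = c * y * a := by rw [← h]; group
    calc (w : G) * a * y = (w : G) * (c * y * a) := by rw [mul_assoc, h2]
      _ = ((w : G) * w) * (y * w * y⁻¹) * y * a := by rw [← hw']; group
      _ = y * ((w : G) * a) := by rw [e.sq _ w.2]; group
  · exfalso
    obtain ⟨u, hu, hu1⟩ := (Subgroup.nontrivial_iff_exists_ne_one V).mp
      ((Subgroup.nontrivial_iff_ne_bot V).mpr e.V_ne)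
    have h1 := hsame u hu
    rw [h, show c * (y * y) * u * (c * (y * y))⁻¹ = c * (y * (y * u * y⁻¹) * y⁻¹) * c⁻¹ by group,
      hconjc _ (e.norm _ (e.norm u hu))] at h1
    have h2 : y * u * y⁻¹ = u := mul_left_cancel (mul_right_cancel h1)
    exact hu1 (e.fpf u hu (of_conj_fix h2))

/-- The four elements of `V`. -/
theorem four (e : A4 V y) {a b : G} (ha : a ∈ V) (ha1 : a ≠ 1) (hb : b ∈ V) (hb1 : b ≠ 1) (hab : a ≠ b)
    {u : G} (hu : u ∈ V) : u = 1 ∨ u = a ∨ u = b ∨ u = a * b := by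
  classical
  haveI := Fintype.ofFinite ↥V
  by_contra hne
  push Not at hne
  obtain ⟨h1, h2, h3, h4⟩ := hne
  have hab1 : a * b ≠ 1 := fun h => hab (by rw [eq_inv_of_mul_eq_one_left h, e.inv_eq hb])
  let S5 : Finset ↥V :=
    {⟨1, V.one_mem⟩, ⟨a, ha⟩, ⟨b, hb⟩, ⟨a * b, V.mul_mem ha hb⟩, ⟨u, hu⟩}
  have h5 : S5.card = 5 := by
    rw [Finset.card_insert_of_notMem, Finset.card_insert_of_notMem, Finset.card_insert_of_notMem,
      Finset.card_insert_of_notMem, Finset.card_singleton] <;>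
      simp [Subtype.ext_iff, Ne.symm h2, Ne.symm h3, Ne.symm h4, Ne.symm h1, hab, Ne.symm ha1,
        Ne.symm hb1, Ne.symm hab1, ha1, hb1]
  have := S5.card_le_univ
  rw [← Nat.card_eq_fintype_card, e.card] at this
  omega

end A4

/-- A 2-group normalising the block and moving `V`. -/
structure Act (T₀ V : Subgroup G) (y : G) : Prop where
  a4 : A4 V y
  two : IsPGroup 2 ↥T₀
  V_le : V ≤ T₀
  norm : T₀ ≤ Subgroup.normalizer (grp V y : Set G)
  moving : ∃ r ∈ T₀, ∃ a ∈ V, r * a ≠ a * r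

/-- The part centralising the block. -/
def cD (T₀ V : Subgroup G) (y : G) : Subgroup G := T₀ ⊓ Subgroup.centralizer (grp V y : Set G)

/-- The part centralising the four-group. -/
def cA (T₀ V : Subgroup G) : Subgroup G := T₀ ⊓ Subgroup.centralizer (V : Set G)

variable {T₀ : Subgroup G}

theorem mem_cA {a : G} : a ∈ cA T₀ V ↔ a ∈ T₀ ∧ ∀ u ∈ V, a * u = u * a := by
  rw [cA, Subgroup.mem_inf, Subgroup.mem_centralizer_iff]
  exact ⟨fun h => ⟨h.1, fun u hu => (h.2 u hu).symm⟩, fun h => ⟨h.1, fun u hu => (h.2 u hu).symm⟩⟩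

theorem mem_cD {a : G} : a ∈ cD T₀ V y ↔ a ∈ T₀ ∧ a * y = y * a ∧ ∀ u ∈ V, a * u = u * a := by
  rw [cD, Subgroup.mem_inf, grp]
  constructor
  · intro h
    have h2 := Subgroup.mem_centralizer_iff.mp h.2
    exact ⟨h.1, (h2 y y_grp).symm, fun u hu => (h2 u (le_grp hu)).symm⟩
  · intro h
    refine ⟨h.1, ?_⟩
    have hle : V ⊔ Subgroup.zpowers y ≤ Subgroup.centralizer ({a} : Set G) :=
      sup_le (fun u hu => Subgroup.mem_centralizer_singleton_iff.mpr (h.2.2 u hu).symm)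
        (Subgroup.zpowers_le.mpr (Subgroup.mem_centralizer_singleton_iff.mpr h.2.1.symm))
    exact Subgroup.mem_centralizer_iff.mpr fun b hb => Subgroup.mem_centralizer_singleton_iff.mp (hle hb)

theorem cD_le_cA : cD T₀ V y ≤ cA T₀ V := fun _ ha => mem_cA.mpr ⟨(mem_cD.mp ha).1, (mem_cD.mp ha).2.2⟩

theorem cD_comm {a b : G} (ha : a ∈ cD T₀ V y) (hb : b ∈ grp V y) : a * b = b * a :=
  (Subgroup.mem_centralizer_iff.mp ha.2 b hb).symm

/-- The involution, the moved element and the mover. -/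
structure Frame (T₀ V : Subgroup G) (z v r : G) : Prop where
  z_mem : z ∈ V
  z_ne : z ≠ 1
  z_comm : ∀ a ∈ T₀, a * z = z * a
  v_mem : v ∈ V
  v_ne : v ≠ 1
  v_ne_z : v ≠ z
  r_mem : r ∈ T₀
  rv : r * v * r⁻¹ = z * v

namespace Act

theorem norm_V (h : Act T₀ V y) : T₀ ≤ Subgroup.normalizer (V : Set G) := fun _ ha => h.a4.norm_V (h.norm ha)

theorem inf_cD (h : Act T₀ V y) {u : G} (hu : u ∈ V) (hd : u ∈ cD T₀ V y) : u = 1 :=
  h.a4.fpf u hu (mem_cD.mp hd).2.1.symm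

theorem V_le_cA (h : Act T₀ V y) : V ≤ cA T₀ V := fun u hu => mem_cA.mpr ⟨h.V_le hu, h.a4.comm u hu⟩

theorem decomp (h : Act T₀ V y) {a : G} (ha : a ∈ cA T₀ V) : ∃ u ∈ V, ∃ d ∈ cD T₀ V y, a = u * d := by
  obtain ⟨haT, hac⟩ := mem_cA.mp ha
  obtain ⟨w, hw, h1, h2⟩ := h.a4.split (h.norm haT) hac
  refine ⟨w, hw, w * a, mem_cD.mpr ⟨T₀.mul_mem (h.V_le hw) haT, h1, h2⟩, ?_⟩
  rw [← mul_assoc, h.a4.sq w hw, one_mul]

theorem uniq (h : Act T₀ V y) {u u' d d' : G} (hu : u ∈ V) (hu' : u' ∈ V) (hd : d ∈ cD T₀ V y)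
    (hd' : d' ∈ cD T₀ V y) (e : u * d = u' * d') : u = u' := by
  have h1 : u'⁻¹ * u = d' * d⁻¹ := by
    rw [eq_mul_inv_iff_mul_eq, mul_assoc, e, inv_mul_cancel_left]
  exact (inv_mul_eq_one.mp (h.inf_cD (V.mul_mem (V.inv_mem hu') hu)
    (h1 ▸ (cD T₀ V y).mul_mem hd' ((cD T₀ V y).inv_mem hd)))).symm

theorem card_cA (h : Act T₀ V y) : Nat.card ↥(cA T₀ V) = 4 * Nat.card ↥(cD T₀ V y) := by
  rw [← h.a4.card, ← Nat.card_prod]
  refine (Nat.card_congr (Equiv.ofBijective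
    (fun p : ↥V × ↥(cD T₀ V y) => (⟨(p.1 : G) * p.2, (cA T₀ V).mul_mem (h.V_le_cA p.1.2) (cD_le_cA p.2.2)⟩ :
      ↥(cA T₀ V))) ⟨?_, ?_⟩)).symm
  · rintro ⟨⟨a, ha⟩, ⟨b, hb⟩⟩ ⟨⟨a', ha'⟩, ⟨b', hb'⟩⟩ e
    have e' : a * b = a' * b' := congrArg Subtype.val e
    have h1 := h.uniq ha ha' hb hb' e'
    subst h1
    have h2 := mul_left_cancel e'
    subst h2
    rfl
  · rintro ⟨a, ha⟩
    obtain ⟨u, hu, d, hd, rfl⟩ := h.decomp ha
    exact ⟨(⟨u, hu⟩, ⟨d, hd⟩), rfl⟩

theorem conj_cD (h : Act T₀ V y) {t d : G} (ht : t ∈ T₀) (hd : d ∈ cD T₀ V y) : t * d * t⁻¹ ∈ cD T₀ V y := by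
  refine ⟨T₀.mul_mem (T₀.mul_mem ht hd.1) (T₀.inv_mem ht), Subgroup.mem_centralizer_iff.mpr fun b hb => ?_⟩
  have h1 : t⁻¹ * b * t ∈ grp V y := by simpa using conj_norm (Subgroup.inv_mem _ (h.norm ht)) hb
  have h2 := cD_comm hd h1
  calc b * (t * d * t⁻¹) = t * ((t⁻¹ * b * t) * d) * t⁻¹ := by group
    _ = t * d * t⁻¹ * b := by rw [← h2]; group

theorem cD_norm (h : Act T₀ V y) : T₀ ≤ Subgroup.normalizer (cD T₀ V y : Set G) :=
  le_norm fun _ ht _ hd => h.conj_cD ht hd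

theorem conj_cA (h : Act T₀ V y) {t a : G} (ht : t ∈ T₀) (ha : a ∈ cA T₀ V) : t * a * t⁻¹ ∈ cA T₀ V := by
  obtain ⟨haT, hac⟩ := mem_cA.mp ha
  refine mem_cA.mpr ⟨T₀.mul_mem (T₀.mul_mem ht haT) (T₀.inv_mem ht), fun b hb => ?_⟩
  have h1 : t⁻¹ * b * t ∈ V := by simpa using conj_norm (Subgroup.inv_mem _ (h.norm_V ht)) hb
  calc t * a * t⁻¹ * b = t * (a * (t⁻¹ * b * t)) * t⁻¹ := by group
    _ = b * (t * a * t⁻¹) := by rw [hac _ h1]; group

theorem exists_frame (h : Act T₀ V y) : ∃ z v r, Frame T₀ V z v r := by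
  obtain ⟨z, hz, hz1, -, hzc⟩ := exists_central h.two h.V_le h.norm_V h.a4.V_ne
  obtain ⟨r, hr, v, hv, hrv⟩ := h.moving
  have hv1 : v ≠ 1 := fun e => hrv (by rw [e, mul_one, one_mul])
  have hvz : v ≠ z := fun e => hrv (e.symm ▸ hzc r hr)
  refine ⟨z, v, r, hz, hz1, hzc, hv, hv1, hvz, hr, ?_⟩
  rcases h.a4.four hz hz1 hv hv1 (Ne.symm hvz) (conj_norm (h.norm_V hr) hv) with e | e | e | e
  · exact absurd (conj_eq_one_iff.mp e) hv1
  · exact absurd (mul_left_cancel (mul_right_cancel (e.trans (conj_fix (hzc r hr)).symm))) hvz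
  · exact absurd (of_conj_fix e) hrv
  · exact e

end Act

namespace Frame

variable {z v r : G}

theorem mem_cases (F : Frame T₀ V z v r) (h : Act T₀ V y) {u : G} (hu : u ∈ V) :
    u = 1 ∨ u = z ∨ u = v ∨ u = z * v :=
  h.a4.four F.z_mem F.z_ne F.v_mem F.v_ne (Ne.symm F.v_ne_z) hu

theorem mem_of_fix (F : Frame T₀ V z v r) (h : Act T₀ V y) {a : G} (ha : a ∈ T₀) (hv : a * v = v * a) :
    a ∈ cA T₀ V := by
  refine mem_cA.mpr ⟨ha, fun u hu => ?_⟩
  have hz := F.z_comm a ha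
  rcases F.mem_cases h hu with rfl | rfl | rfl | rfl
  · rw [mul_one, one_mul]
  · exact hz
  · exact hv
  · exact (Commute.mul_right (show Commute a z from hz) (show Commute a v from hv)).eq

theorem r_not_mem (F : Frame T₀ V z v r) : r ∉ cA T₀ V := fun e => by
  have h1 := conj_fix ((mem_cA.mp e).2 v F.v_mem)
  rw [F.rv] at h1
  exact F.z_ne (mul_eq_right.mp h1)

theorem move (F : Frame T₀ V z v r) (h : Act T₀ V y) {a : G} (ha : a ∈ T₀) :
    a ∈ cA T₀ V ∨ a * v * a⁻¹ = z * v := by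
  rcases F.mem_cases h (conj_norm (h.norm_V ha) F.v_mem) with e | e | e | e
  · exact absurd (conj_eq_one_iff.mp e) F.v_ne
  · exact absurd (mul_left_cancel (mul_right_cancel (e.trans (conj_fix (F.z_comm a ha)).symm))) F.v_ne_z
  · exact Or.inl (F.mem_of_fix h ha (of_conj_fix e))
  · exact Or.inr e

theorem coset (F : Frame T₀ V z v r) (h : Act T₀ V y) {a : G} (ha : a ∈ T₀) (hA : a ∉ cA T₀ V) :
    r⁻¹ * a ∈ cA T₀ V := by
  refine F.mem_of_fix h (T₀.mul_mem (T₀.inv_mem F.r_mem) ha) ?_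
  have e := (F.move h ha).resolve_left hA
  have hav : a * v = z * v * a := mul_inv_eq_iff_eq_mul.mp e
  calc r⁻¹ * a * v = r⁻¹ * (z * v) * a := by rw [mul_assoc, hav]; group
    _ = v * (r⁻¹ * a) := by rw [← F.rv]; group

theorem card_T₀ (F : Frame T₀ V z v r) (h : Act T₀ V y) : Nat.card T₀ = 8 * Nat.card ↥(cD T₀ V y) := by
  classical
  rw [show 8 * Nat.card ↥(cD T₀ V y) = 2 * Nat.card ↥(cA T₀ V) by rw [h.card_cA]; ring,
    ← Nat.card_fin 2, ← Nat.card_prod]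
  refine (Nat.card_congr (Equiv.ofBijective
    (fun p : Fin 2 × ↥(cA T₀ V) => (⟨(if p.1 = 0 then 1 else r) * p.2, by
      refine T₀.mul_mem ?_ p.2.2.1
      split_ifs
      · exact T₀.one_mem
      · exact F.r_mem⟩ : ↥T₀)) ⟨?_, ?_⟩)).symm
  · rintro ⟨i, a⟩ ⟨j, b⟩ e
    have e' := congrArg Subtype.val e
    simp only at e'
    fin_cases i <;> fin_cases j
    · simp at e'; simp [e']
    · simp at e'
      exact absurd (by rw [eq_mul_inv_of_mul_eq e'.symm]; exact (cA T₀ V).mul_mem a.2 ((cA T₀ V).inv_mem b.2))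
        F.r_not_mem
    · simp at e'
      exact absurd (by rw [eq_mul_inv_of_mul_eq e']; exact (cA T₀ V).mul_mem b.2 ((cA T₀ V).inv_mem a.2))
        F.r_not_mem
    · simp at e'; simp [e']
  · rintro ⟨a, ha⟩
    by_cases hA : a ∈ cA T₀ V
    · exact ⟨(0, ⟨a, hA⟩), Subtype.ext (by simp)⟩
    · exact ⟨(1, ⟨r⁻¹ * a, F.coset h ha hA⟩), Subtype.ext (by simp)⟩

/-- An element of the centre. -/
theorem central (F : Frame T₀ V z v r) (h : Act T₀ V y) {a : G} (ha : a ∈ T₀)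
    (hc : ∀ b ∈ T₀, a * b = b * a) : ∃ d ∈ cD T₀ V y, a = d ∨ a = z * d := by
  obtain ⟨u, hu, d, hd, rfl⟩ := h.decomp (F.mem_of_fix h ha (hc v (h.V_le F.v_mem)))
  have e : r * u * r⁻¹ * (r * d * r⁻¹) = u * d := by
    rw [show r * u * r⁻¹ * (r * d * r⁻¹) = r * (u * d) * r⁻¹ by group, conj_fix (hc r F.r_mem).symm]
  have hfix := h.uniq (conj_norm (h.norm_V F.r_mem) hu) hu (h.conj_cD F.r_mem hd) hd e
  refine ⟨d, hd, ?_⟩
  rcases F.mem_cases h hu with e | e | e | e <;> rw [e] at hfix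
  · exact Or.inl (by rw [e, one_mul])
  · exact Or.inr (by rw [e])
  · exact absurd (mul_eq_right.mp (F.rv.symm.trans hfix)) F.z_ne
  · rw [show r * (z * v) * r⁻¹ = r * z * r⁻¹ * (r * v * r⁻¹) by group, conj_fix (F.z_comm r F.r_mem),
      F.rv, mul_eq_right] at hfix
    exact absurd hfix F.z_ne

end Frame

end CfsgLib.SRFour.CaseU
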