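import Mathlib
import Cfsg.Agent.Lib.SRFour.CaseUFour

/-!
Case U, a straddle normalising its block: it is `D₈ × 2`.

Blueprint: `blueprint/S0517.md`, parcel CaseU, step 2.
-/

set_option autoImplicit false
set_option linter.unusedSectionVars false
set_option linter.style.haveILetI false

namespace CfsgLib.SRFour.CaseU

open Cfsg
open scoped commutatorElement

universe u

variable {G : Type u} [Group G] [Finite G] {S : Sylow 2 G} {M T V : Subgroup G} {y : G}

/-- A straddle of type `D₈ × 2`. -/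
structure DTwo (S : Sylow 2 G) (M T : Subgroup G) (z v r d : G) : Prop where
  z_inZ : InZ (S : Subgroup G) z
  z_ne : z ≠ 1
  z_mem : z ∈ T
  v_mem : v ∈ T
  r_mem : r ∈ T
  d_mem : d ∈ T
  v_sq : v * v = 1
  v_ne : v ≠ 1
  r_sq : r * r = 1
  d_sq : d * d = 1
  d_ne : d ≠ 1
  rv : r * v * r⁻¹ = z * v
  d_comm : ∀ t ∈ T, t * d = d * t
  card : Nat.card T = 16
  center : ∀ a ∈ T, (∀ t ∈ T, a * t = t * a) → a = 1 ∨ a = z ∨ a = d ∨ a = z * d
  cent_d : ∀ x ∈ (S : Subgroup G), x * d = d * x → x ∈ T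
  cent_v : ∀ x ∈ (S : Subgroup G), x * v = v * x →
    ∃ u, (u = 1 ∨ u = z ∨ u = v ∨ u = z * v) ∧ (x = u ∨ x = u * d)
  cases : ∀ x ∈ T, x * v = v * x ∨ (r⁻¹ * x) * v = v * (r⁻¹ * x)
  swap : ∃ s ∈ (S : Subgroup G), s * r * s⁻¹ = v ∧ s * d * s⁻¹ = z * d
  out_d : ¬ Subgroup.normalizer (Subgroup.zpowers d : Set G) ≤ M
  d_not_z : ∀ g : G, g * d * g⁻¹ ≠ z
  vd_conj : ∃ g : G, g * (v * d) * g⁻¹ = z * d

theorem false_of_norm (h : Conf S M) (st : Straddle S M T) (hy : y ∉ M) {C : Subgroup G} (hC : IsPGroup 2 ↥C)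
    (hne : C ≠ ⊥) (hyC : y ∈ Subgroup.normalizer (C : Set G)) (hTC : T ≤ Subgroup.normalizer (C : Set G))
    {s : G} (hs : s ∈ (S : Subgroup G)) (hsT : s ∉ T) (hsC : s ∈ Subgroup.normalizer (C : Set G)) : False :=
  hy (normalizer_le h st hC hne hTC hs hsT hsC hyC)

/-- Case A. -/
theorem caseA (h : Conf S M) (st : Straddle S M T) (e : Act T V y) (hy : y ∉ M) :
    ∃ z v r d, DTwo S M T z v r d := by
  classical
  haveI : Fact (Nat.Prime 2) := ⟨Nat.prime_two⟩
  obtain ⟨z, v₀, r₀, F⟩ := e.exists_frame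
  set A := cA T V with hA
  set D := cD T V y with hD
  have hDA : D ≤ A := cD_le_cA
  have hyV : y ∈ Subgroup.normalizer (V : Set G) := e.a4.y_norm
  -- the centraliser of `V` in `S` lies in `T`
  have hCV : ∀ x ∈ (S : Subgroup G), (∀ u ∈ V, x * u = u * x) → x ∈ A := by
    intro x hx hxc
    have hxN : x ∈ Subgroup.normalizer (V : Set G) := mem_norm fun u hu => by rwa [conj_fix (hxc u hu)]
    have eq := le_of_big h st (X := T ⊔ Subgroup.zpowers x) (L := Subgroup.normalizer (V : Set G))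
      (sup_le st.T_le (Subgroup.zpowers_le.mpr hx)) le_sup_left (twoLocal e.a4.V_two e.a4.V_ne)
      (sup_le e.norm_V (Subgroup.zpowers_le.mpr hxN)) (fun hle => hy (hle hyV))
    exact mem_cA.mpr ⟨eq.le (Subgroup.mem_sup_right (Subgroup.mem_zpowers x)), hxc⟩
  obtain ⟨s, hs, hsT, hs2, hsN⟩ := exists_step h st
  have hconjT : ∀ {a : G}, a ∈ T → s * a * s⁻¹ ∈ T := fun ha => conj_norm hsN ha
  have hconjT' : ∀ {a : G}, a ∈ T → s⁻¹ * a * s ∈ T := fun {a} ha => by
    simpa using conj_norm (Subgroup.inv_mem _ hsN) ha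
  have hflip : ∀ {a : G}, s⁻¹ * a * s = (s * s)⁻¹ * (s * a * s⁻¹) * (s * s) := fun {a} => by group
  -- `D` meets its conjugate trivially
  have hDD : ∀ a ∈ D, s⁻¹ * a * s ∈ D → a = 1 := by
    intro a ha ha'
    by_contra ha1
    set C := D ⊓ D.map (MulAut.conj s).toMonoidHom with hC
    have haC : a ∈ C := ⟨ha, ⟨_, ha', show s * (s⁻¹ * a * s) * s⁻¹ = a by group⟩⟩
    refine false_of_norm h st hy (C := C) ((T_two st).to_le (fun c hc => (hDA hc.1).1)) (fun eb => ha1 ?_) ?_ ?_ hs hsT ?_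
    · rw [eb, Subgroup.mem_bot] at haC; exact haC
    · refine mem_norm fun c hc => ?_
      rwa [conj_fix (mem_cD.mp hc.1).2.1.symm]
    · refine le_norm fun t ht c hc => ⟨e.conj_cD ht hc.1, ?_⟩
      obtain ⟨c', hc', hcc⟩ := hc.2
      refine ⟨(s⁻¹ * t * s) * c' * (s⁻¹ * t * s)⁻¹, e.conj_cD (hconjT' ht) hc', ?_⟩
      simp only [MulEquiv.coe_toMonoidHom, MulAut.conj_apply] at hcc ⊢
      rw [← hcc]; group
    · refine mem_norm fun c hc => ⟨?_, ⟨c, hc.1, rfl⟩⟩
      obtain ⟨c', hc', hcc⟩ := hc.2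
      simp only [MulEquiv.coe_toMonoidHom, MulAut.conj_apply] at hcc
      rw [← hcc, show s * (s * c' * s⁻¹) * s⁻¹ = (s * s) * c' * (s * s)⁻¹ by group]
      exact e.conj_cD hs2 hc'
  have hDcomm : ∀ a ∈ D, ∀ b ∈ D, a * (s * b * s⁻¹) = s * b * s⁻¹ * a := by
    intro a ha b hb
    have hb' := hconjT (hDA hb).1
    have h1 : ⁅a, s * b * s⁻¹⁆ ∈ D := by
      rw [commutatorElement_def, show a * (s * b * s⁻¹) * a⁻¹ * (s * b * s⁻¹)⁻¹ =
        a * ((s * b * s⁻¹) * a⁻¹ * (s * b * s⁻¹)⁻¹) by group]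
      exact D.mul_mem ha (e.conj_cD hb' (D.inv_mem ha))
    refine commutatorElement_eq_one_iff_mul_comm.mp (hDD _ h1 ?_)
    rw [commutatorElement_def, show s⁻¹ * (a * (s * b * s⁻¹) * a⁻¹ * (s * b * s⁻¹)⁻¹) * s =
      (s⁻¹ * a * s) * b * (s⁻¹ * a * s)⁻¹ * b⁻¹ by group]
    exact D.mul_mem (e.conj_cD (hconjT' (hDA ha).1) hb) (D.inv_mem hb)
  let f : ↥D × ↥D → ↥T := fun p => ⟨(p.1 : G) * (s * (p.2 : G) * s⁻¹),
    T.mul_mem (hDA p.1.2).1 (hconjT (hDA p.2.2).1)⟩
  have hf : Function.Injective f := by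
    rintro ⟨⟨a, ha⟩, ⟨b, hb⟩⟩ ⟨⟨a', ha'⟩, ⟨b', hb'⟩⟩ eq
    have eq' : a * (s * b * s⁻¹) = a' * (s * b' * s⁻¹) := congrArg Subtype.val eq
    have h1 : a'⁻¹ * a = s * (b' * b⁻¹) * s⁻¹ := by
      rw [show s * (b' * b⁻¹) * s⁻¹ = a'⁻¹ * (a' * (s * b' * s⁻¹)) * (s * b * s⁻¹)⁻¹ by group, ← eq']
      group
    have h2 := hDD _ (D.mul_mem (D.inv_mem ha') ha) (by
      rw [h1, show s⁻¹ * (s * (b' * b⁻¹) * s⁻¹) * s = b' * b⁻¹ by group]
      exact D.mul_mem hb' (D.inv_mem hb))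
    have e1 : a = a' := (inv_mul_eq_one.mp h2).symm
    subst e1
    have e2 : b = b' := mul_left_cancel (mul_right_cancel (mul_left_cancel eq'))
    subst e2
    rfl
  have hcardT := F.card_T₀ e
  rw [← hD] at hcardT
  have hD8 : Nat.card D ≤ 8 := by
    have h1 := Nat.card_le_card_of_injective f hf
    rw [Nat.card_prod, hcardT] at h1
    exact Nat.le_of_mul_le_mul_right h1 Nat.card_pos
  -- `V` is not in the conjugate of `A`
  have hVA : ¬ ∀ u ∈ V, s⁻¹ * u * s ∈ A := by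
    intro hall
    set X := A ⊓ A.map (MulAut.conj s).toMonoidHom with hX
    have hmem : ∀ {a : G}, a ∈ A → s⁻¹ * a * s ∈ A → a ∈ X := fun ha h' =>
      ⟨ha, ⟨_, h', show s * (s⁻¹ * _ * s) * s⁻¹ = _ by group⟩⟩
    have hVX : V ≤ X := fun u hu => hmem (e.V_le_cA hu) (hall u hu)
    refine false_of_norm h st hy (C := X) ((T_two st).to_le (fun c hc => hc.1.1))
      (fun eb => e.a4.V_ne (le_bot_iff.mp (hVX.trans eb.le))) ?_ ?_ hs hsT ?_
    · refine mem_norm fun a ha => ?_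
      obtain ⟨u, hu, c, hc, rfl⟩ := e.decomp ha.1
      have hcX : c ∈ X := by simpa using X.mul_mem (X.inv_mem (hVX hu)) ha
      rw [show y * (u * c) * y⁻¹ = (y * u * y⁻¹) * (y * c * y⁻¹) by group,
        conj_fix (mem_cD.mp hc).2.1.symm]
      exact X.mul_mem (hVX (e.a4.norm u hu)) hcX
    · refine le_norm fun t ht c hc => ⟨e.conj_cA ht hc.1, ?_⟩
      obtain ⟨c', hc', hcc⟩ := hc.2
      refine ⟨(s⁻¹ * t * s) * c' * (s⁻¹ * t * s)⁻¹, e.conj_cA (hconjT' ht) hc', ?_⟩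
      simp only [MulEquiv.coe_toMonoidHom, MulAut.conj_apply] at hcc ⊢
      rw [← hcc]; group
    · refine mem_norm fun c hc => ⟨?_, ⟨c, hc.1, rfl⟩⟩
      obtain ⟨c', hc', hcc⟩ := hc.2
      simp only [MulEquiv.coe_toMonoidHom, MulAut.conj_apply] at hcc
      rw [← hcc, show s * (s * c' * s⁻¹) * s⁻¹ = (s * s) * c' * (s * s)⁻¹ by group]
      exact e.conj_cA hs2 hc'
  -- `D` has order at most two
  have hcentA : ∀ a ∈ T, (∀ t ∈ T, a * t = t * a) → a ∈ A := fun a ha hc =>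
    F.mem_of_fix e ha (hc _ (e.V_le F.v_mem))
  have hconjc : ∀ a, (∀ t ∈ T, a * t = t * a) → ∀ t ∈ T, (s * a * s⁻¹) * t = t * (s * a * s⁻¹) := by
    intro a hc t ht
    calc s * a * s⁻¹ * t = s * (a * (s⁻¹ * t * s)) * s⁻¹ := by group
      _ = t * (s * a * s⁻¹) := by rw [hc _ (hconjT' ht)]; group
  have hD2 : Nat.card D ≤ 2 := by
    obtain ⟨k, hk⟩ := card_eq_pow ((T_two st).to_le (fun c hc => (hDA hc).1) : IsPGroup 2 ↥D)
    by_contra hgt
    have hk2 : 2 ≤ k := by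
      by_contra hk2
      have : (2 : ℕ) ^ k ≤ 2 ^ 1 := Nat.pow_le_pow_right (by norm_num) (by omega)
      omega
    have hD4 : 4 ≤ Nat.card D := by
      rw [hk]; exact le_trans (by norm_num) (Nat.pow_le_pow_right (by norm_num) hk2)
    refine hVA fun u hu => ?_
    have hfin : ∀ a ∈ D, ∀ b ∈ D, a * (s * b * s⁻¹) = u → s⁻¹ * a * s ∈ A → s⁻¹ * u * s ∈ A := by
      intro a ha b hb eq ha'
      rw [← eq, show s⁻¹ * (a * (s * b * s⁻¹)) * s = (s⁻¹ * a * s) * b by group]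
      exact A.mul_mem ha' (hDA hb)
    by_cases hsub : ∀ a ∈ D, s * a * s⁻¹ ∈ A
    · let g : ↥D × ↥D → ↥A := fun p => ⟨(p.1 : G) * (s * (p.2 : G) * s⁻¹),
        A.mul_mem (hDA p.1.2) (hsub _ p.2.2)⟩
      have hg : Function.Injective g := fun p q eq => hf (Subtype.ext (congrArg (fun a : ↥A => (a : G)) eq))
      have hbij := hg.bijective_of_nat_card_le (by
        rw [Nat.card_prod, e.card_cA, ← hD]; exact Nat.mul_le_mul_right _ hD4)
      obtain ⟨⟨a, b⟩, hab⟩ := hbij.2 ⟨u, e.V_le_cA hu⟩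
      refine hfin a a.2 b b.2 (congrArg Subtype.val hab) ?_
      rw [hflip]
      simpa using e.conj_cA (T.inv_mem hs2) (hsub a a.2)
    push Not at hsub
    obtain ⟨d₁, hd₁, hd₁A⟩ := hsub
    have hk3 : k ≤ 3 := by
      by_contra hk3
      have h16 : (2 : ℕ) ^ 4 ≤ 2 ^ k := Nat.pow_le_pow_right (by norm_num) (by omega)
      rw [← hk] at h16
      omega
    rcases (show k = 2 ∨ k = 3 by omega) with hk' | hk'
    · -- `D` would be central
      exfalso
      subst hk'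
      haveI : IsMulCommutative ↥D := ⟨⟨fun a b => IsPGroup.commutative_of_card_eq_prime_sq hk a b⟩⟩
      have hDab : ∀ a ∈ D, ∀ b ∈ D, a * b = b * a := fun a ha b hb =>
        congrArg Subtype.val (mul_comm' (⟨a, ha⟩ : ↥D) ⟨b, hb⟩)
      set r₁ := s * d₁ * s⁻¹ with hr₁
      have hr₁T : r₁ ∈ T := hconjT (hDA hd₁).1
      have hA_D : ∀ x ∈ A, ∀ a ∈ D, a * x = x * a := by
        intro x hx a ha
        obtain ⟨w, hw, c, hc, rfl⟩ := e.decomp hx
        exact (Commute.mul_right ((mem_cD.mp ha).2.2 w hw : Commute a w) (hDab a ha c hc)).eq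
      have hcen : ∀ a ∈ D, ∀ t ∈ T, a * t = t * a := by
        intro a ha t ht
        by_cases htA : t ∈ A
        · exact hA_D t htA a ha
        · have h1 : r₁⁻¹ * t ∈ A := by
            have := A.mul_mem (A.inv_mem (F.coset e hr₁T hd₁A)) (F.coset e ht htA)
            simpa [mul_assoc] using this
          rw [show t = r₁ * (r₁⁻¹ * t) by group]
          exact (Commute.mul_right (hDcomm a ha d₁ hd₁ : Commute a r₁) (hA_D _ h1 a ha)).eq
      exact hd₁A (hcentA r₁ hr₁T (hconjc d₁ (hcen d₁ hd₁)))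
    · have hbij := hf.bijective_of_nat_card_le (by
        rw [Nat.card_prod, hcardT, hk, hk']; norm_num)
      obtain ⟨⟨a, b⟩, hab⟩ := hbij.2 ⟨u, e.V_le hu⟩
      have hab' : (a : G) * (s * (b : G) * s⁻¹) = u := congrArg Subtype.val hab
      refine hfin a a.2 b b.2 hab' ?_
      have hcom : ∀ t ∈ T, (a : G) * t = t * a := by
        intro t ht
        obtain ⟨⟨c, c'⟩, hcc⟩ := hbij.2 ⟨t, ht⟩
        have hcc' : (c : G) * (s * (c' : G) * s⁻¹) = t := congrArg Subtype.val hcc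
        rw [← hcc']
        refine (Commute.mul_right ?_ (hDcomm a a.2 c' c'.2)).eq
        rw [eq_mul_inv_of_mul_eq hab']
        exact Commute.mul_left ((mem_cD.mp c.2).2.2 u hu).symm
          (Commute.inv_left (show Commute (s * (b : G) * s⁻¹) c from (hDcomm c c.2 b b.2).symm))
      refine hcentA _ (hconjT' (hDA a.2).1) fun t ht => ?_
      calc s⁻¹ * a * s * t = s⁻¹ * (a * (s * t * s⁻¹)) * s := by group
        _ = t * (s⁻¹ * a * s) := by rw [hcom _ (hconjT ht)]; group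
  -- a central involution of `S` lies in `A`
  obtain ⟨c, hcS, hc1, hcsq, hcc⟩ := exists_central S.2 le_rfl Subgroup.le_normalizer (S_ne_bot h)
  have hcA : c ∈ A := hCV c hcS fun u hu => (hcc u (st.T_le (e.V_le hu))).symm
  have hcTc : ∀ t ∈ T, c * t = t * c := fun t ht => (hcc t (st.T_le ht)).symm
  obtain ⟨d₀, hd₀, hcd⟩ := F.central e hcA.1 hcTc
  by_cases hD1 : Nat.card D = 1
  · exfalso
    have hbot : ∀ a ∈ D, a = 1 := fun a ha => by
      rw [Subgroup.eq_bot_of_card_eq D hD1, Subgroup.mem_bot] at ha; exact ha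
    have hcz : c = z := by
      rcases hcd with hh | hh <;> rw [hbot d₀ hd₀] at hh
      · exact absurd hh hc1
      · rwa [mul_one] at hh
    obtain ⟨E, hES, hEsq, hE8⟩ := exists_eight h
    have hlt := no_eight (e.a4.sq _ F.v_mem) F.v_ne hEsq hE8 _ S.2 (st.T_le (e.V_le F.v_mem)) hES
    have hle : (S : Subgroup G) ⊓ Subgroup.centralizer ({v₀} : Set G) ≤ A := fun x hx =>
      hCV x hx.1 fun u hu => by
        have hxv := Subgroup.mem_centralizer_singleton_iff.mp hx.2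
        have hxz : x * z = z * x := hcz ▸ hcc x hx.1
        rcases F.mem_cases e hu with rfl | rfl | rfl | rfl
        · rw [mul_one, one_mul]
        · exact hxz
        · exact hxv
        · exact (Commute.mul_right (hxz : Commute x z) hxv).eq
    have h4 := Subgroup.card_le_of_le hle
    rw [e.card_cA, ← hD, hD1] at h4
    omega
  -- the element `d`
  have hDc : Nat.card D = 2 := by have := Nat.card_pos (α := ↥D); omega
  haveI : Nontrivial ↥D := (Subgroup.nontrivial_iff_ne_bot D).mpr fun eb => hD1 (by rw [eb, Subgroup.card_bot])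
  obtain ⟨⟨d, hd⟩, hd1'⟩ := exists_ne (1 : ↥D)
  have hd1 : d ≠ 1 := fun h' => hd1' (Subtype.ext h')
  have hDel : ∀ a ∈ D, a = 1 ∨ a = d := by
    intro a ha
    by_contra hne
    push Not at hne
    haveI := Fintype.ofFinite ↥D
    have h3 : ({1, ⟨d, hd⟩, ⟨a, ha⟩} : Finset ↥D).card = 3 := Finset.card_eq_three.mpr
      ⟨_, _, _, Ne.symm hd1', fun h' => hne.1 (congrArg Subtype.val h').symm,
        fun h' => hne.2 (congrArg Subtype.val h').symm, rfl⟩
    have h4 := Finset.card_le_univ ({1, ⟨d, hd⟩, ⟨a, ha⟩} : Finset ↥D)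
    rw [h3, ← Nat.card_eq_fintype_card, hDc] at h4
    omega
  have hdsq : d * d = 1 := by
    rcases hDel _ (D.mul_mem hd hd) with h' | h'
    · exact h'
    · exact absurd (mul_eq_left.mp h') hd1
  have hdc : ∀ t ∈ T, t * d = d * t := by
    intro t ht
    rcases hDel _ (e.conj_cD ht hd) with h' | h'
    · exact absurd (conj_eq_one_iff.mp h') hd1
    · exact of_conj_fix h'
  have hAsq : ∀ a ∈ A, a * a = 1 := by
    intro a ha
    obtain ⟨u, hu, b, hb, rfl⟩ := e.decomp ha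
    have hb2 : b * b = 1 := by rcases hDel b hb with rfl | rfl <;> simp [hdsq]
    calc u * b * (u * b) = u * (b * u) * b := by group
      _ = u * u * (b * b) := by rw [(mem_cD.mp hb).2.2 u hu]; group
      _ = 1 := by rw [e.a4.sq u hu, hb2, one_mul]
  obtain ⟨u₁, hu₁, hu₁A⟩ : ∃ u ∈ V, s⁻¹ * u * s ∉ A := by
    by_contra hno
    push Not at hno
    exact hVA hno
  set r := s⁻¹ * u₁ * s with hr
  have hrT : r ∈ T := hconjT' (e.V_le hu₁)
  have hrsq : r * r = 1 := by
    rw [hr, show s⁻¹ * u₁ * s = s⁻¹ * u₁ * s⁻¹⁻¹ by group]; exact conj_sq (e.a4.sq _ hu₁)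
  -- squares in `T`
  have hmoves : ∀ u ∈ V, r * u * r⁻¹ = u ∨ r * u * r⁻¹ = z * u := by
    intro u hu
    have hrv := (F.move e hrT).resolve_left hu₁A
    have hrz := conj_fix (F.z_comm r hrT)
    rcases F.mem_cases e hu with rfl | rfl | rfl | rfl
    · left; group
    · exact Or.inl hrz
    · exact Or.inr hrv
    · right; rw [show r * (z * v₀) * r⁻¹ = r * z * r⁻¹ * (r * v₀ * r⁻¹) by group, hrz, hrv]
  have hzsq : z * z = 1 := e.a4.sq z F.z_mem
  have hsqT : ∀ x ∈ T, x * x = 1 ∨ x * x = z := by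
    intro x hx
    by_cases hxA : x ∈ A
    · exact Or.inl (hAsq x hxA)
    obtain ⟨u, hu, b, hb, hub⟩ := e.decomp (show r * x ∈ A by
      have := A.mul_mem (A.inv_mem (F.coset e hrT hu₁A)) (F.coset e hx hxA)
      simpa [mul_assoc, inv_eq_of_mul_eq_one_right hrsq] using this)
    have hx' : x = r * (u * b) := by rw [← hub, ← mul_assoc, hrsq, one_mul]
    have hrb : r * b = b * r := by rcases hDel b hb with rfl | rfl; · simp
                                   exact hdc r hrT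
    have hxx : x * x = (r * u * r⁻¹) * u * (b * b) := by
      rw [hx']
      calc r * (u * b) * (r * (u * b)) = r * u * (b * r) * (u * b) := by group
        _ = r * u * r * (b * u) * b := by rw [← hrb]; group
        _ = r * u * r⁻¹ * u * (b * b) := by
          rw [(mem_cD.mp hb).2.2 u hu, inv_eq_of_mul_eq_one_right hrsq]; group
    have hb2 : b * b = 1 := by rcases hDel b hb with rfl | rfl <;> simp [hdsq]
    rw [hb2, mul_one] at hxx
    rcases hmoves u hu with hh | hh <;> rw [hh] at hxx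
    · exact Or.inl (hxx.trans (e.a4.sq u hu))
    · exact Or.inr (by rw [hxx, mul_assoc, e.a4.sq u hu, mul_one])
  have hrv₀ : r * v₀ * r⁻¹ = z * v₀ := (F.move e hrT).resolve_left hu₁A
  have hsz : s * z * s⁻¹ = z := by
    have h1 : r * v₀ * (r * v₀) = z := by
      rw [show r * v₀ * (r * v₀) = r * v₀ * r⁻¹ * (r * r) * v₀ by group, hrv₀, hrsq, mul_one, mul_assoc,
        e.a4.sq _ F.v_mem, mul_one]
    have h2 : s * z * s⁻¹ = (s * (r * v₀) * s⁻¹) * (s * (r * v₀) * s⁻¹) := by rw [← h1]; group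
    rcases hsqT _ (hconjT (T.mul_mem hrT (e.V_le F.v_mem))) with h' | h' <;> rw [h'] at h2
    · exact absurd (conj_eq_one_iff.mp h2) F.z_ne
    · exact h2
  have hsz' : s * z = z * s := of_conj_fix hsz
  have hu₁ne : u₁ ≠ 1 ∧ u₁ ≠ z := by
    refine ⟨fun h' => hu₁A ?_, fun h' => hu₁A ?_⟩
    · rw [hr, h']; simp
    · rw [hr, h', mul_assoc, ← hsz', inv_mul_cancel_left]; exact e.V_le_cA F.z_mem
  have hru : r * u₁ * r⁻¹ = z * u₁ := by
    rcases hmoves u₁ hu₁ with hh | hh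
    · exfalso
      rcases F.mem_cases e hu₁ with h' | h' | h' | h'
      · exact hu₁ne.1 h'
      · exact hu₁ne.2 h'
      · rw [h', hrv₀, mul_eq_right] at hh; exact F.z_ne hh
      · rw [h', show r * (z * v₀) * r⁻¹ = r * z * r⁻¹ * (r * v₀ * r⁻¹) by group,
          conj_fix (F.z_comm r hrT), hrv₀, mul_eq_right] at hh
        exact F.z_ne hh
    · exact hh
  have F' : Frame T V z u₁ r := ⟨F.z_mem, F.z_ne, F.z_comm, hu₁, hu₁ne.1, hu₁ne.2, hrT, hru⟩
  have hcenter : ∀ a ∈ T, (∀ t ∈ T, a * t = t * a) → a = 1 ∨ a = z ∨ a = d ∨ a = z * d := by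
    intro a ha hac
    obtain ⟨b, hb, hh⟩ := F'.central e ha hac
    rcases hDel b hb with rfl | rfl <;> rcases hh with hh | hh
    · exact Or.inl hh
    · exact Or.inr (Or.inl (by rw [hh, mul_one]))
    · exact Or.inr (Or.inr (Or.inl hh))
    · exact Or.inr (Or.inr (Or.inr hh))
  have hsd : s * d * s⁻¹ = z * d := by
    rcases hcenter _ (hconjT (hDA hd).1) (hconjc d fun t ht => (hdc t ht).symm) with h' | h' | h' | h'
    · exact absurd (conj_eq_one_iff.mp h') hd1
    · have := mul_left_cancel (mul_right_cancel (h'.trans hsz.symm))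
      exact absurd (e.inf_cD F.z_mem (this ▸ hd)) F.z_ne
    · refine absurd (hDD d hd ?_) hd1
      rw [mul_assoc, ← of_conj_fix h', inv_mul_cancel_left]; exact hd
    · exact h'
  have hzcent : ∀ x ∈ (S : Subgroup G), x * z = z * x := by
    have hcz : c = z := by
      rcases hcenter c hcA.1 hcTc with h' | h' | h' | h'
      · exact absurd h' hc1
      · exact h'
      · exfalso
        have := conj_fix (hcc s hs)
        rw [h', hsd, mul_eq_right] at this
        exact F.z_ne this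
      · exfalso
        have := conj_fix (hcc s hs)
        rw [h', show s * (z * d) * s⁻¹ = s * z * s⁻¹ * (s * d * s⁻¹) by group, hsz, hsd, ← mul_assoc,
          hzsq, one_mul] at this
        exact F.z_ne (mul_eq_right.mp this.symm)
    exact fun x hx => hcz ▸ hcc x hx
  have hdy : y ∈ Subgroup.normalizer (Subgroup.zpowers d : Set G) := norm_zpowers (mem_cD.mp hd).2.1.symm
  have hTd : T ≤ Subgroup.normalizer (Subgroup.zpowers d : Set G) := fun t ht => norm_zpowers (hdc t ht)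
  have hLd : IsTwoLocal (Subgroup.normalizer (Subgroup.zpowers d : Set G)) :=
    twoLocal (zpowers_two hdsq) (by rwa [Ne, Subgroup.zpowers_eq_bot])
  have hout : ¬ Subgroup.normalizer (Subgroup.zpowers d : Set G) ≤ M := fun hle => hy (hle hdy)
  have hT16 : Nat.card T = 16 := by rw [hcardT, hDc]
  refine ⟨z, u₁, r, d, ⟨⟨st.T_le (e.V_le F.z_mem), hzsq, hzcent⟩, F.z_ne, e.V_le F.z_mem, e.V_le hu₁, hrT,
    (hDA hd).1, e.a4.sq _ hu₁, hu₁ne.1, hrsq, hdsq, hd1, hru, hdc, hT16, hcenter, ?_, ?_, ?_, ?_, hout, ?_, ?_⟩⟩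
  · intro x hx hxd
    have eq := le_of_big h st (X := T ⊔ Subgroup.zpowers x) (L := Subgroup.normalizer (Subgroup.zpowers d : Set G))
      (sup_le st.T_le (Subgroup.zpowers_le.mpr hx)) le_sup_left hLd
      (sup_le hTd (Subgroup.zpowers_le.mpr (norm_zpowers hxd))) hout
    exact eq.le (Subgroup.mem_sup_right (Subgroup.mem_zpowers x))
  · intro x hx hxv
    have hxA : x ∈ A := hCV x hx fun u hu => by
      rcases F'.mem_cases e hu with rfl | rfl | rfl | rfl
      · rw [mul_one, one_mul]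
      · exact hzcent x hx
      · exact hxv
      · exact (Commute.mul_right (hzcent x hx : Commute x z) hxv).eq
    obtain ⟨u, hu, b, hb, rfl⟩ := e.decomp hxA
    exact ⟨u, F'.mem_cases e hu, (hDel b hb).imp (fun h' => by rw [h', mul_one]) (fun h' => by rw [h'])⟩
  · intro x hx
    by_cases hxA : x ∈ A
    · exact Or.inl ((mem_cA.mp hxA).2 _ hu₁)
    · exact Or.inr ((mem_cA.mp (F'.coset e hx hxA)).2 _ hu₁)
  · exact ⟨s, hs, by rw [hr]; group, hsd⟩
  · intro g hg
    have hle := card_le_of_local h st hLd hout hTd (X := (S : Subgroup G).map (MulAut.conj g⁻¹).toMonoidHom)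
      (S.2.map _) (by
        rintro _ ⟨x, hx, rfl⟩
        simp only [MulEquiv.coe_toMonoidHom, MulAut.conj_apply, inv_inv]
        refine norm_zpowers ?_
        calc g⁻¹ * x * g * d = g⁻¹ * (x * (g * d * g⁻¹)) * g := by group
          _ = d * (g⁻¹ * x * g) := by rw [hg, hzcent x hx, ← hg]; group)
    rw [Subgroup.card_map_of_injective (MulAut.conj g⁻¹).injective] at hle
    have := two_mul_le S.2 (lt_S h st)
    have := Nat.card_pos (α := ↥T)
    omega
  · have hyd : y * d * y⁻¹ = d := conj_fix (mem_cD.mp hd).2.1.symm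
    rcases F'.mem_cases e (e.a4.norm u₁ hu₁) with h' | h' | h' | h'
    · exact absurd (conj_eq_one_iff.mp h') hu₁ne.1
    · exact ⟨y, by rw [show y * (u₁ * d) * y⁻¹ = y * u₁ * y⁻¹ * (y * d * y⁻¹) by group, h', hyd]⟩
    · exact absurd (e.a4.fpf u₁ hu₁ (of_conj_fix h')) hu₁ne.1
    · refine ⟨y * y, ?_⟩
      have h1 := e.a4.orbit_prod hu₁
      rw [show y * y * (u₁ * d) * (y * y)⁻¹ = y * (y * u₁ * y⁻¹) * y⁻¹ * (y * (y * d * y⁻¹) * y⁻¹) by group,
        hyd, hyd, eq_inv_of_mul_eq_one_right h1, h', ← mul_assoc,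
        e.a4.comm u₁ hu₁ z F.z_mem, mul_assoc z, e.a4.sq _ hu₁, mul_one, inv_eq_of_mul_eq_one_right hzsq]

end CfsgLib.SRFour.CaseU
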