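import Mathlib
import Cfsg.Agent.S2980
import Cfsg.Agent.Lib.LocalCT.CharJoin
import Cfsg.Agent.Lib.Baumann.BlockKind
import Cfsg.Agent.Lib.SRFour.CaseUFour

/-!
Case U: the local `C(G,T)` theorem gives a block `A₄` outside `M`.

Blueprint: `blueprint/S0517.md`, parcel CaseU, step 1.
-/

set_option autoImplicit false
set_option linter.unusedSectionVars false
set_option linter.style.haveILetI false

namespace CfsgLib.SRFour.CaseU

open Cfsg
open scoped commutatorElement

universe u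

theorem not_solvable_of_perfect {X : Type*} [Group X] [Nontrivial X] (h : commutator X = ⊤)
    (hs : Group.IsSolvable X) : False := by
  haveI := hs
  exact absurd h (Group.IsSolvable.commutator_lt_top_of_nontrivial (G := X)).ne

theorem not_solvable_sl2 {F : Type} [Field F] [Fintype F] (h4 : 4 ≤ Fintype.card F) :
    ¬ Group.IsSolvable (Matrix.SpecialLinearGroup (Fin 2) F) := by
  intro hs
  haveI : Nontrivial (Matrix.SpecialLinearGroup (Fin 2) F) :=
    ⟨⟨!![1, 1; 0, 1], by simp [Matrix.det_fin_two]⟩, 1, fun e => by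
      have := congrArg (fun A : Matrix.SpecialLinearGroup (Fin 2) F => (A : Matrix (Fin 2) (Fin 2) F) 0 1) e
      simp at this⟩
  exact not_solvable_of_perfect (StSL.perfect_SL2 h4) hs

theorem not_solvable_alt {k : ℕ} (hk : 5 ≤ k) : ¬ Group.IsSolvable ↥(alternatingGroup (Fin k)) := by
  intro hs
  haveI := alternatingGroup.nontrivial_of_three_le_card (α := Fin k) (by simp; omega)
  exact not_solvable_of_perfect (CfsgLib.BBlock.alt_quasisimple hk).1.1 hs

variable {H : Type u} [Group H] [Finite H]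

/-- A block of a solvable group for the prime two is an alternating group of degree four. -/
theorem a4_of_block [Group.IsSolvable H] {P E : Subgroup H} (hE : IsBaumannBlock 2 P E) (hne : E ≠ ⊥)
    (hkind : (∃ (F : Type) (_ : Field F) (_ : Fintype F) (m : ℕ), 3 < 2 ^ m ∧ Fintype.card F = 2 ^ m ∧
        Nonempty (↥E ⧸ pCore 2 ↥E ≃* Matrix.SpecialLinearGroup (Fin 2) F)) ∨
      ∃ m : ℕ, Nonempty (↥E ⧸ pCore 2 ↥E ≃* ↥(alternatingGroup (Fin (2 * m + 1))))) :
    ∃ y ∈ E, A4 (pCoreOf 2 E) y ∧ E = grp (pCoreOf 2 E) y := by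
  classical
  haveI : Fact (Nat.Prime 2) := ⟨Nat.prime_two⟩
  haveI : Fact (Nat.Prime 3) := ⟨Nat.prime_three⟩
  set Q := pCoreOf 2 E with hQdef
  have hsolv : Group.IsSolvable (↥E ⧸ pCore 2 ↥E) :=
    solvable_of_surjective (QuotientGroup.mk'_surjective _)
  obtain ⟨m, ⟨φ⟩⟩ : ∃ m : ℕ, Nonempty (↥E ⧸ pCore 2 ↥E ≃* ↥(alternatingGroup (Fin (2 * m + 1)))) := by
    rcases hkind with ⟨F, hF, hF', m, h3, hc, ⟨φ⟩⟩ | h
    · haveI := hsolv
      exact absurd (solvable_of_surjective (f := φ.toMonoidHom) φ.surjective) (not_solvable_sl2 (by omega))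
    · exact h
  have hsA : Group.IsSolvable ↥(alternatingGroup (Fin (2 * m + 1))) := by
    haveI := hsolv
    exact solvable_of_surjective (f := φ.toMonoidHom) φ.surjective
  have hm : m ≤ 1 := by
    by_contra hm
    exact not_solvable_alt (by omega) hsA
  obtain ⟨hres, -, hQE, -, hcase⟩ := hE
  have hQle : Q ≤ E := Subgroup.map_subtype_le _
  have hQ2 : IsPGroup 2 ↥Q := (CfsgLib.isPGroup_pCore 2).map _
  have hcardQ : Nat.card E = Nat.card (↥E ⧸ pCore 2 ↥E) * Nat.card Q := by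
    rw [hQdef, pCoreOf, Subgroup.card_map_of_injective E.subtype_injective]
    exact Subgroup.card_eq_card_quotient_mul_card_subgroup _
  -- the quotient has order three
  have hm1 : m = 1 := by
    by_contra hm1
    have hm0 : m = 0 := by omega
    subst hm0
    haveI : Subsingleton ↥(alternatingGroup (Fin (2 * 0 + 1))) :=
      ⟨fun a b => Subtype.ext (Equiv.ext fun x => Fin.ext (by omega))⟩
    have hEQ : E ≤ Q := by
      intro a ha
      exact ⟨⟨a, ha⟩, (QuotientGroup.eq_one_iff _).mp (φ.injective (Subsingleton.elim _ _)), rfl⟩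
    refine hne (le_bot_iff.mp (CfsgLib.BBlock.le_of_coprime hres fun g hg hc => Subgroup.mem_bot.mpr ?_))
    exact eq_one_of_odd_mem hQ2 (Nat.coprime_two_right.mp hc) (hEQ hg)
  subst hm1
  have hq3 : Nat.card (↥E ⧸ pCore 2 ↥E) = 3 := by
    rw [Nat.card_congr φ.toEquiv, Nat.card_eq_fintype_card]; decide
  rw [hq3] at hcardQ
  -- `Q` is elementary
  have hQW : Q = omegaOneCenter 2 Q := by
    rcases hcase with ⟨F, _, _, n, -, -, -, hW⟩ | ⟨-, n, -, -, hW⟩
    · rcases hW with hW | ⟨h, -⟩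
      · exact hW
      · exact absurd h (by norm_num)
    · exact hW
  have hQc : ∀ a ∈ Q, ∀ b ∈ Q, a * b = b * a := fun a ha b hb =>
    CfsgLib.BBlock.omegaOneCenter_comm 2 Q (hQW.le hb) ha
  have hQsq : ∀ a ∈ Q, a * a = 1 := fun a ha => by
    rw [← pow_two]; exact CfsgLib.BBlock.omegaOneCenter_pow 2 Q (hQW.le ha)
  -- an element of order three
  obtain ⟨⟨y, hy⟩, hyo⟩ := exists_prime_orderOf_dvd_card' (G := ↥E) 3 (hcardQ ▸ Dvd.intro _ rfl)
  rw [← Subgroup.orderOf_coe] at hyo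
  change orderOf y = 3 at hyo
  have hyodd : Odd (orderOf y) := by rw [hyo]; decide
  have hy3 : y * y * y = 1 := by rw [← pow_three', ← hyo, pow_orderOf_eq_one]
  have hy1 : y ≠ 1 := fun e => by rw [e, orderOf_one] at hyo; omega
  have hEN : E ≤ Subgroup.normalizer (Q : Set H) := fun e he => mem_norm fun a ⟨b, hb, hab⟩ =>
    ⟨(⟨e, he⟩ : ↥E) * b * ⟨e, he⟩⁻¹, (inferInstance : (pCore 2 ↥E).Normal).conj_mem b hb _, by rw [← hab]; rfl⟩
  have hgen : E = grp Q y := by
    refine le_antisymm ?_ (sup_le hQle (Subgroup.zpowers_le.mpr hy))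
    intro a ha
    have hy' : (⟨y, hy⟩ : ↥E) ∉ pCore 2 ↥E := fun h => hy1 (eq_one_of_odd_mem hQ2 hyodd ⟨_, h, rfl⟩)
    have hprime : (Nat.card (↥E ⧸ pCore 2 ↥E)).Prime := hq3 ▸ Nat.prime_three
    have hz : ((⟨a, ha⟩ : ↥E) : ↥E ⧸ pCore 2 ↥E) ∈ Subgroup.zpowers ((⟨y, hy⟩ : ↥E) : ↥E ⧸ pCore 2 ↥E) := by
      haveI : Fact (Nat.card (↥E ⧸ pCore 2 ↥E)).Prime := ⟨hprime⟩
      exact mem_zpowers_of_prime_card rfl (by rwa [Ne, QuotientGroup.eq_one_iff])
    obtain ⟨k, hk⟩ := hz
    simp only [← QuotientGroup.mk_zpow] at hk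
    have h1 := QuotientGroup.eq.mp hk
    have h2 : (y ^ k)⁻¹ * a ∈ Q := ⟨_, h1, by simp⟩
    rw [show a = y ^ k * ((y ^ k)⁻¹ * a) by group]
    exact Subgroup.mul_mem _ (Subgroup.mem_sup_right ⟨k, rfl⟩) (Subgroup.mem_sup_left h2)
  -- `y` fixes nothing
  have hfpf : ∀ a ∈ Q, y * a = a * y → a = 1 := by
    intro c hc hyc
    refine trace_eq_one (F := Subgroup.zpowers y) hQ2 (by rw [Nat.card_zpowers]; exact hyodd) hQc
      (fun f hf a ha => conj_norm (hEN ((Subgroup.zpowers_le.mpr hy) hf)) ha) ?_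
      (fun f hf => by obtain ⟨k, rfl⟩ := hf; exact zpow_comm hyc k)
    have hle : ⁅Q, E⁆ ≤ Subgroup.closure {b | ∃ a ∈ Q, ∃ f ∈ Subgroup.zpowers y, b = a⁻¹ * (f * a * f⁻¹)} := by
      rw [Subgroup.commutator_le]
      intro a ha e he
      rw [hgen] at he
      obtain ⟨u, hu, f, hf, rfl⟩ := mem_sup_norm (Subgroup.zpowers_le.mpr (hEN hy)) he
      refine Subgroup.subset_closure ⟨a⁻¹, Q.inv_mem ha, f, hf, ?_⟩
      have hfa : f * a⁻¹ * f⁻¹ ∈ Q := conj_norm (hEN ((Subgroup.zpowers_le.mpr hy) hf)) (Q.inv_mem ha)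
      rw [commutatorElement_def, inv_inv]
      calc a * (u * f) * a⁻¹ * (u * f)⁻¹ = a * (u * (f * a⁻¹ * f⁻¹) * u⁻¹) := by group
        _ = a * (f * a⁻¹ * f⁻¹) := by rw [conj_fix (hQc u hu _ hfa)]
    exact hle (hQE.ge hc)
  have hbot : omegaOneCenter 2 Q ⊓ Subgroup.centralizer (E : Set H) = ⊥ := (Subgroup.eq_bot_iff_forall _).mpr
    fun a ha => hfpf a (hQW.ge ha.1) (Subgroup.mem_centralizer_iff.mp ha.2 y hy)
  -- the order
  have hcard : Nat.card Q = 4 := by
    rcases hcase with ⟨F, hF, hF', n, hFn, ⟨χ⟩, hact, -⟩ | ⟨-, n, ⟨χ⟩, hact, -⟩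
    · have hn : n = 1 := by
        rcases Nat.lt_or_ge n 1 with hn | hn
        · interval_cases n
          exact absurd (by rw [pow_zero] at hFn; omega : ¬ 1 < Fintype.card F) (not_not.mpr Fintype.one_lt_card)
        · by_contra hn1
          have h4 : 4 ≤ Fintype.card F := by
            rw [hFn]; exact le_trans (by norm_num) (Nat.pow_le_pow_right (by norm_num) (show 2 ≤ n by omega))
          have hns := not_solvable_sl2 (F := F) h4
          haveI := hsolv
          have h1 : Group.IsSolvable ↥(commutator (Matrix.SpecialLinearGroup (Fin 2) F)) :=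
            solvable_of_surjective (f := χ.toMonoidHom) χ.surjective
          rw [StSL.perfect_SL2 h4] at h1
          haveI := h1
          exact hns (solvable_of_surjective (f := (Subgroup.topEquiv (G := Matrix.SpecialLinearGroup (Fin 2) F)).toMonoidHom)
            Subgroup.topEquiv.surjective)
      obtain ⟨-, -, ρ, ψ, -, hsurj, hker, -⟩ := hact
      have hinj : Function.Injective ψ := (injective_iff_map_eq_one ψ).mpr fun u hu =>
        Subtype.ext (Subgroup.mem_bot.mp (hbot.le ((hker u).mp hu)))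
      have he := Nat.card_congr (Equiv.ofBijective ψ ⟨hinj, hsurj⟩)
      rw [hn, pow_one] at hFn
      rw [hQW, he]
      simp [Nat.card_eq_fintype_card, hFn]
    · have hn : n = 1 := by
        have h1 : Nat.card ↥(alternatingGroup (Fin (2 * n + 1))) = 3 := by
          rw [← Nat.card_congr χ.toEquiv, hq3]
        rcases Nat.lt_or_ge n 2 with hn | hn
        · interval_cases n
          · rw [Nat.card_eq_fintype_card] at h1
            exact absurd h1 (by decide)
          · rfl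
        · exfalso
          haveI := hsolv
          exact not_solvable_alt (k := 2 * n + 1) (by omega) (solvable_of_surjective (f := χ.toMonoidHom) χ.surjective)
      subst hn
      obtain ⟨-, -, ρ, ψ, -, heven, hsurj, hker, -⟩ := hact
      let f : ↥(omegaOneCenter 2 Q) → {v : Fin (2 * 1 + 1) → ZMod 2 // ∑ i, v i = 0} := fun u => ⟨_, heven u⟩
      have hinj : Function.Injective f := fun a b hab => by
        have h1 : ψ a = ψ b := congrArg Subtype.val hab
        exact (injective_iff_map_eq_one ψ).mpr (fun u hu =>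
          Subtype.ext (Subgroup.mem_bot.mp (hbot.le ((hker u).mp hu)))) h1
      have hs : Function.Surjective f := fun w => by
        obtain ⟨u, hu⟩ := hsurj w.1 w.2
        exact ⟨u, Subtype.ext hu⟩
      rw [hQW, Nat.card_congr (Equiv.ofBijective f ⟨hinj, hs⟩), CfsgLib.BBlock.even_weight_card]
  exact ⟨y, hy, ⟨hcard, hQsq, hy3, fun a ha => conj_norm (hEN hy) ha, hfpf⟩, hgen⟩

variable {G : Type u} [Group G] [Finite G] {S : Sylow 2 G} {M T : Subgroup G}

/-- The block outside `M`. -/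
theorem exists_block (h : Conf S M) (st : Straddle S M T) : ∃ (V : Subgroup G) (y : G),
    A4 V y ∧ V ≤ T ∧ y ∉ M ∧ (∃ r ∈ T, r ∈ Subgroup.normalizer (grp V y : Set G) ∧ ∃ a ∈ V, r * a ≠ a * r) ∧
      ∀ t ∈ T, t ∈ Subgroup.normalizer (grp V y : Set G) ∨
        ∀ a ∈ grp V y, ∀ b ∈ grp V y, a * (t * b * t⁻¹) = t * b * t⁻¹ * a := by
  classical
  haveI : Fact (Nat.Prime 2) := ⟨Nat.prime_two⟩
  obtain ⟨L, hL, hTL, hLM⟩ := st.out
  have hgood : Good L := by
    obtain ⟨R, hR, hR1, e⟩ := hL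
    exact e ▸ h.hard.good_normalizer hR hR1
  haveI := hgood.solvable
  have hG : Subgroup.centralizer (pCore 2 ↥L : Set ↥L) ≤ pCore 2 ↥L := by
    intro a ha
    refine (mem_core a.2).mp (hgood.charTwo a a.2 fun q hq => ?_)
    obtain ⟨b, hb, rfl⟩ := hq
    exact congrArg Subtype.val (Subgroup.mem_centralizer_iff.mp ha b hb)
  -- `T` is a Sylow subgroup
  obtain ⟨P, hP⟩ := ((T_two st).comap_of_injective L.subtype L.subtype_injective :
    IsPGroup 2 ↥(T.subgroupOf L)).exists_le_sylow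
  have hPT : (P : Subgroup ↥L).map L.subtype = T :=
    sylow_in h st hL hLM (P.2.map _) (Subgroup.map_subtype_le _) fun a ha => ⟨⟨a, hTL ha⟩, hP ha, rfl⟩
  have hmemT : ∀ a : ↥L, a ∈ (P : Subgroup ↥L) → (a : G) ∈ T := fun a ha => hPT ▸ ⟨a, ha, rfl⟩
  obtain ⟨s, hs, hsT, -, hsN⟩ := exists_step h st
  -- the characteristic subgroups have normalisers in `M`
  have hjoin : charNormalizersJoin (P : Subgroup ↥L) ≤ M.subgroupOf L := by
    refine iSup_le ?_
    rintro ⟨C, hCP, hC1, hCc⟩ g hg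
    have hC2 : IsPGroup 2 ↥(C.map L.subtype) := (P.2.to_le hCP).map _
    have hC1' : C.map L.subtype ≠ ⊥ := by
      rwa [Ne, Subgroup.map_eq_bot_iff_of_injective _ L.subtype_injective]
    have key : ∀ x ∈ Subgroup.normalizer (T : Set G), x ∈ Subgroup.normalizer (C.map L.subtype : Set G) := by
      intro x hx
      have hx' : x⁻¹ ∈ Subgroup.normalizer (T : Set G) := Subgroup.inv_mem _ hx
      let φ : ↥(P : Subgroup ↥L) ≃* ↥(P : Subgroup ↥L) :=
        { toFun := fun a => ⟨⟨x * (a.1 : G) * x⁻¹, hTL (conj_norm hx (hmemT _ a.2))⟩, by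
            obtain ⟨b, hb, e⟩ := hPT.ge (conj_norm hx (hmemT _ a.2))
            exact (show b = ⟨_, hTL (conj_norm hx (hmemT _ a.2))⟩ from Subtype.ext e) ▸ hb⟩
          invFun := fun a => ⟨⟨x⁻¹ * (a.1 : G) * x, hTL (by simpa using conj_norm hx' (hmemT _ a.2))⟩, by
            have hm : x⁻¹ * (a.1 : G) * x ∈ T := by simpa using conj_norm hx' (hmemT _ a.2)
            obtain ⟨b, hb, e⟩ := hPT.ge hm
            exact (show b = ⟨_, hTL hm⟩ from Subtype.ext e) ▸ hb⟩
          left_inv := fun a => Subtype.ext (Subtype.ext (by group))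
          right_inv := fun a => Subtype.ext (Subtype.ext (by group))
          map_mul' := fun a b => Subtype.ext (Subtype.ext (by simp only [Subgroup.coe_mul]; group)) }
      refine mem_norm fun a ha => ?_
      obtain ⟨c, hc, rfl⟩ := ha
      have h1 := (Subgroup.characteristic_iff_comap_eq.mp hCc φ).ge
        (show (⟨c, hCP hc⟩ : ↥(P : Subgroup ↥L)) ∈ C.subgroupOf (P : Subgroup ↥L) from hc)
      exact ⟨_, h1, rfl⟩
    refine normalizer_le h st hC2 hC1' (fun t ht => key t (Subgroup.le_normalizer ht)) hs hsT (key s hsN) ?_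
    exact Subgroup.le_normalizer_map L.subtype ⟨g, hg, rfl⟩
  have hne : charNormalizersJoin (P : Subgroup ↥L) ≠ ⊤ := fun e => hLM fun a ha =>
    hjoin (e ▸ Subgroup.mem_top (⟨a, ha⟩ : ↥L))
  obtain ⟨𝓑, hB, -⟩ := Cfsg.Agent.S2980.result hG P hne
  obtain ⟨hblk, hconj, hcomm, htop, -, -, hkind⟩ := hB
  have hstar : cStarOf 2 (P : Subgroup ↥L) ≤ M.subgroupOf L :=
    (CfsgLib.LocalCT.cS_le_charJoin P hG hne).trans hjoin
  obtain ⟨E, hE, hEM⟩ : ∃ E ∈ 𝓑, ¬ E ≤ M.subgroupOf L := by
    by_contra hno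
    push Not at hno
    refine hLM fun a ha => ?_
    exact (sup_le hstar (sSup_le hno)) (htop.ge (Subgroup.mem_top (⟨a, ha⟩ : ↥L)))
  have hEne : E ≠ ⊥ := fun e => hEM (e ▸ bot_le)
  obtain ⟨y, hy, hA, hgen⟩ := a4_of_block (hblk E hE) hEne (by
    rcases hkind E hE with ⟨F, i1, i2, m, h3, hc, hφ, -⟩ | ⟨-, m, hφ, -⟩ | ⟨h3, -⟩
    · exact Or.inl ⟨F, i1, i2, m, h3, hc, hφ⟩
    · exact Or.inr ⟨m, hφ⟩
    · exact absurd h3 (by norm_num))
  set Q := pCoreOf 2 E with hQdef
  -- `Q` lies in the core of `L`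
  have hQP : Q ≤ (P : Subgroup ↥L) := by
    set N : Subgroup ↥L := sSup 𝓑 with hN
    have hNn : N.Normal := by
      refine Subgroup.normalizer_eq_top_iff.mp (top_le_iff.mp fun g _ => mem_norm fun a ha => ?_)
      have h1 : N.map (MulAut.conj g).toMonoidHom ≤ N := by
        rw [hN, Subgroup.map_le_iff_le_comap]
        exact sSup_le fun E' hE' => Subgroup.map_le_iff_le_comap.mp (le_sSup (hconj E' hE' g))
      exact h1 ⟨a, ha, rfl⟩
    have hEle : E ≤ N := le_sSup hE
    have hQn : N ≤ Subgroup.normalizer (Q : Set ↥L) := by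
      refine sSup_le fun E' hE' x hx => ?_
      by_cases e : E' = E
      · rw [e, hgen] at hx
        exact hA.grp_norm hx
      · refine mem_norm fun a ha => ?_
        have h1 : ⁅x, a⁆ = 1 := Subgroup.mem_bot.mp
          (hcomm E' hE' E hE e ▸ Subgroup.commutator_mem_commutator hx (Subgroup.map_subtype_le _ ha))
        rwa [conj_fix (commutatorElement_eq_one_iff_mul_comm.mp h1)]
    haveI := hNn
    have h1 : Q ≤ pCoreOf 2 N := le_core hA.V_two ((Subgroup.map_subtype_le _).trans hEle) hQn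
    exact (h1.trans (CfsgLib.map_pCore_le 2 N)).trans (CfsgLib.pCore_le_sylow P)
  have hgrpG : grp (Q.map L.subtype) (y : G) = E.map L.subtype := by
    rw [grp, hgen, grp, Subgroup.map_sup, MonoidHom.map_zpowers]
    rfl
  have hAG : A4 (Q.map L.subtype) (y : G) := by
    refine ⟨(Subgroup.card_map_of_injective L.subtype_injective).trans hA.card, ?_, congrArg Subtype.val hA.y3, ?_, ?_⟩
    · rintro _ ⟨a, ha, rfl⟩; exact congrArg Subtype.val (hA.sq a ha)
    · rintro _ ⟨a, ha, rfl⟩; exact ⟨_, hA.norm a ha, rfl⟩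
    · rintro _ ⟨a, ha, rfl⟩ e
      exact congrArg Subtype.val (hA.fpf a ha (Subtype.ext e))
  have hVT : Q.map L.subtype ≤ T := hPT ▸ Subgroup.map_mono hQP
  refine ⟨_, _, hAG, hVT, fun hyM => hEM ?_, ?_, fun t ht => ?_⟩
  · rw [hgen]
    exact sup_le (fun a ha => Subgroup.mem_subgroupOf.mpr (S_le h (st.T_le (hVT ⟨a, ha, rfl⟩))))
      (Subgroup.zpowers_le.mpr hyM)
  · obtain ⟨-, hEB, -⟩ := hblk E hE
    set B := baumannSubgroupOf 2 (P : Subgroup ↥L) with hB
    have hBN : B ≤ Subgroup.normalizer (E : Set ↥L) := CfsgLib.BBlock.le_normalizer_of_commutator_eq hEB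
    have hBP : B ≤ (P : Subgroup ↥L) := inf_le_left
    by_contra hno
    push Not at hno
    -- then `B` centralises `Q`, so `[E, B] ≤ Q`
    have hle : ⁅E, B⁆ ≤ Q := by
      rw [Subgroup.commutator_le]
      intro e he b hb
      have hbn : b ∈ Subgroup.normalizer (grp Q y : Set ↥L) := by rw [← hgen]; exact hBN hb
      have hbc : ∀ a ∈ Q, b * a = a * b := by
        intro a ha
        refine Subtype.ext ?_
        exact hno (b : G) (hmemT b (hBP hb)) (by
          rw [hgrpG]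
          exact mem_norm fun c ⟨d, hd, hdc⟩ => ⟨b * d * b⁻¹, conj_norm (hBN hb) hd, by rw [← hdc]; rfl⟩)
          a ⟨a, ha, rfl⟩
      obtain ⟨w, hw, hwy, hwQ⟩ := hA.split hbn hbc
      have hcent : w * b * e = e * (w * b) := by
        rw [hgen] at he
        have hsub : grp Q y ≤ Subgroup.centralizer ({w * b} : Set ↥L) :=
          sup_le (fun u hu => Subgroup.mem_centralizer_singleton_iff.mpr (hwQ u hu).symm)
            (Subgroup.zpowers_le.mpr (Subgroup.mem_centralizer_singleton_iff.mpr hwy.symm))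
        exact (Subgroup.mem_centralizer_singleton_iff.mp (hsub he)).symm
      rw [hgen] at he
      have h1 : ⁅e, b⁆ = e * w⁻¹ * e⁻¹ * w := by
        rw [commutatorElement_def]
        calc e * b * e⁻¹ * b⁻¹ = e * w⁻¹ * (w * b * e⁻¹) * (w * b)⁻¹ * w := by group
          _ = e * w⁻¹ * (e⁻¹ * (w * b)) * (w * b)⁻¹ * w := by
            rw [show w * b * e⁻¹ = e⁻¹ * (w * b) from (Commute.inv_right (show Commute (w * b) e from hcent)).eq]
          _ = e * w⁻¹ * e⁻¹ * w := by group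
      rw [h1]
      exact Q.mul_mem (conj_norm (hA.grp_norm he) (Q.inv_mem hw)) hw
    rw [hEB, hgen] at hle
    exact hA.y_not_mem (hle y_grp)
  · -- two blocks are equal or commute
    set tL : ↥L := ⟨t, hTL ht⟩
    by_cases e : E.map (MulAut.conj tL).toMonoidHom = E
    · refine Or.inl ?_
      rw [hgrpG]
      refine mem_norm fun a ⟨b, hb, hba⟩ => ?_
      refine ⟨tL * b * tL⁻¹, e.le ⟨b, hb, rfl⟩, by rw [← hba]; rfl⟩
    · refine Or.inr ?_
      intro a ha b hb
      rw [hgrpG] at ha hb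
      obtain ⟨a', ha', rfl⟩ := ha
      obtain ⟨b', hb', rfl⟩ := hb
      have h1 : ⁅a', tL * b' * tL⁻¹⁆ = 1 := Subgroup.mem_bot.mp
        (hcomm E hE _ (hconj E hE tL) (Ne.symm e) ▸ Subgroup.commutator_mem_commutator ha' ⟨b', hb', rfl⟩)
      exact congrArg Subtype.val (commutatorElement_eq_one_iff_mul_comm.mp h1)

end CfsgLib.SRFour.CaseU
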