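import Mathlib
import Cfsg.Agent.Lib.SRFour.CaseUA
import Cfsg.Agent.Lib.SRFour.CaseUBlock

/-!
Case U, two conjugate blocks: impossible.

Blueprint: `blueprint/S0517.md`, parcel CaseU, step 3.
-/

set_option autoImplicit false
set_option linter.unusedSectionVars false
set_option linter.style.haveILetI false

namespace CfsgLib.SRFour.CaseU

open Cfsg
open scoped commutatorElement

universe u

variable {G : Type u} [Group G] [Finite G] {S : Sylow 2 G} {M T V : Subgroup G} {y t : G}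

/-- All elements of `B` lie in one of two cosets. -/
theorem card_le_two_mul {H B : Subgroup G} (b : G) (h : ∀ x ∈ B, x ∈ H ∨ b⁻¹ * x ∈ H) :
    Nat.card B ≤ 2 * Nat.card H := by
  classical
  rw [← Nat.card_fin 2, ← Nat.card_prod]
  refine Nat.card_le_card_of_injective
    (fun x : ↥B => if hx : (x : G) ∈ H then ((0 : Fin 2), (⟨x, hx⟩ : ↥H))
      else (1, ⟨b⁻¹ * x, (h x x.2).resolve_left hx⟩)) fun x x' e => ?_
  simp only at e
  by_cases hx : (x : G) ∈ H <;> by_cases hx' : (x' : G) ∈ H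
  · rw [dif_pos hx, dif_pos hx', Prod.mk.injEq, Subtype.mk.injEq] at e
    exact Subtype.ext e.2
  · rw [dif_pos hx, dif_neg hx', Prod.mk.injEq] at e
    exact absurd e.1 (by decide)
  · rw [dif_neg hx, dif_pos hx', Prod.mk.injEq] at e
    exact absurd e.1 (by decide)
  · rw [dif_neg hx, dif_neg hx', Prod.mk.injEq, Subtype.mk.injEq] at e
    exact Subtype.ext (mul_left_cancel e.2)

/-- Two conjugate commuting blocks. -/
structure Pair (T V : Subgroup G) (y t : G) : Prop where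
  two : IsPGroup 2 ↥T
  a4 : A4 V y
  V_le : V ≤ T
  moving : ∃ r ∈ T, r ∈ Subgroup.normalizer (grp V y : Set G) ∧ ∃ a ∈ V, r * a ≠ a * r
  dich : ∀ t' ∈ T, t' ∈ Subgroup.normalizer (grp V y : Set G) ∨
        ∀ a ∈ grp V y, ∀ b ∈ grp V y, a * (t' * b * t'⁻¹) = t' * b * t'⁻¹ * a
  t_mem : t ∈ T
  t_out : t ∉ Subgroup.normalizer (grp V y : Set G)

/-- The normaliser of the block in the straddle. -/
def half (T V : Subgroup G) (y : G) : Subgroup G := T ⊓ Subgroup.normalizer (grp V y : Set G)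

namespace Pair

theorem comm (P : Pair T V y t) {a b : G} (ha : a ∈ grp V y) (hb : b ∈ grp V y) :
    a * (t * b * t⁻¹) = t * b * t⁻¹ * a := (P.dich t P.t_mem).resolve_left P.t_out a ha b hb

theorem comm' (P : Pair T V y t) {a b : G} (ha : a ∈ grp V y) (hb : b ∈ grp V y) :
    a * (t⁻¹ * b * t) = t⁻¹ * b * t * a := by
  have h := (P.dich t⁻¹ (T.inv_mem P.t_mem)).resolve_left (fun e => P.t_out (by simpa using Subgroup.inv_mem _ e))
    a ha b hb
  simpa using h

theorem act (P : Pair T V y t) : Act (half T V y) V y := by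
  refine ⟨P.a4, P.two.to_le inf_le_left, fun u hu => ⟨P.V_le hu, Subgroup.le_normalizer (le_grp hu)⟩,
    inf_le_right, ?_⟩
  obtain ⟨r, hr, hrN, hm⟩ := P.moving
  exact ⟨r, ⟨hr, hrN⟩, hm⟩

/-- The conjugate four-group lies in the centraliser of the block. -/
theorem conj_mem (P : Pair T V y t) {u : G} (hu : u ∈ V) : t * u * t⁻¹ ∈ cD (half T V y) V y := by
  have hT : t * u * t⁻¹ ∈ T := T.mul_mem (T.mul_mem P.t_mem (P.V_le hu)) (T.inv_mem P.t_mem)
  refine mem_cD.mpr ⟨⟨hT, ?_⟩, (P.comm y_grp (le_grp hu)).symm, fun w hw => (P.comm (le_grp hw) (le_grp hu)).symm⟩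
  exact mem_norm fun a ha => by rwa [conj_fix (P.comm ha (le_grp hu)).symm]

theorem conj_mem' (P : Pair T V y t) {u : G} (hu : u ∈ V) : t⁻¹ * u * t ∈ cD (half T V y) V y := by
  have hT : t⁻¹ * u * t ∈ T := T.mul_mem (T.mul_mem (T.inv_mem P.t_mem) (P.V_le hu)) P.t_mem
  refine mem_cD.mpr ⟨⟨hT, ?_⟩, (P.comm' y_grp (le_grp hu)).symm, fun w hw => (P.comm' (le_grp hw) (le_grp hu)).symm⟩
  exact mem_norm fun a ha => by rwa [conj_fix (P.comm' ha (le_grp hu)).symm]

theorem uniq (P : Pair T V y t) {u u' w w' : G} (hu : u ∈ V) (hu' : u' ∈ V) (hw : w ∈ V) (hw' : w' ∈ V)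
    (e : u * (t * w * t⁻¹) = u' * (t * w' * t⁻¹)) : u = u' ∧ w = w' := by
  have h1 := P.act.uniq hu hu' (P.conj_mem hw) (P.conj_mem hw') e
  subst h1
  exact ⟨rfl, mul_left_cancel (mul_right_cancel (mul_left_cancel e))⟩

/-- The product of the two four-groups. -/
def sixteen (T V : Subgroup G) (t : G) : Subgroup G := V ⊔ V.map (MulAut.conj t).toMonoidHom

theorem sixteen_cases (P : Pair T V y t) {a : G} (ha : a ∈ sixteen T V t) :
    ∃ u ∈ V, ∃ w ∈ V, a = u * (t * w * t⁻¹) := by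
  have hn : V.map (MulAut.conj t).toMonoidHom ≤ Subgroup.normalizer (V : Set G) := by
    rintro x ⟨w, hw, rfl⟩
    refine mem_norm fun c hc => ?_
    simp only [MulEquiv.coe_toMonoidHom, MulAut.conj_apply]
    rwa [conj_fix (P.comm (le_grp hc) (le_grp hw)).symm]
  obtain ⟨u, hu, b, hb, rfl⟩ := mem_sup_norm hn ha
  obtain ⟨w, hw, rfl⟩ := hb
  exact ⟨u, hu, w, hw, rfl⟩

theorem sixteen_mem {u w : G} (hu : u ∈ V) (hw : w ∈ V) : u * (t * w * t⁻¹) ∈ sixteen T V t :=
  Subgroup.mul_mem _ (Subgroup.mem_sup_left hu) (Subgroup.mem_sup_right ⟨w, hw, rfl⟩)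

theorem card_sixteen (P : Pair T V y t) : Nat.card ↥(sixteen T V t) = 16 := by
  rw [show (16 : ℕ) = Nat.card (↥V × ↥V) by rw [Nat.card_prod, P.a4.card]]
  refine (Nat.card_congr (Equiv.ofBijective
    (fun p : ↥V × ↥V => (⟨_, sixteen_mem (T := T) (t := t) p.1.2 p.2.2⟩ : ↥(sixteen T V t))) ⟨?_, ?_⟩)).symm
  · rintro ⟨⟨u, hu⟩, ⟨w, hw⟩⟩ ⟨⟨u', hu'⟩, ⟨w', hw'⟩⟩ e
    obtain ⟨rfl, rfl⟩ := P.uniq hu hu' hw hw' (congrArg Subtype.val e)
    rfl
  · rintro ⟨a, ha⟩
    obtain ⟨u, hu, w, hw, rfl⟩ := P.sixteen_cases ha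
    exact ⟨(⟨u, hu⟩, ⟨w, hw⟩), rfl⟩

/-- No fifth commuting involution. -/
theorem no_fifth (P : Pair T V y t) (h4 : SectionalPRankLE 2 4 G) {c : G} (hc : c * c = 1)
    (hcV : ∀ u ∈ V, c * u = u * c) (hcW : ∀ u ∈ V, c * (t * u * t⁻¹) = t * u * t⁻¹ * c) :
    c ∈ sixteen T V t := by
  by_contra hout
  let X : Set G := {c} ∪ ((V : Set G) ∪ (fun u => t * u * t⁻¹) '' (V : Set G))
  have hle : sixteen T V t ≤ Subgroup.closure X := sup_le
    (fun u hu => Subgroup.subset_closure (Or.inr (Or.inl hu)))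
    (fun x hx => by obtain ⟨u, hu, rfl⟩ := hx; exact Subgroup.subset_closure (Or.inr (Or.inr ⟨u, hu, rfl⟩)))
  have hlt : sixteen T V t < Subgroup.closure X :=
    lt_of_le_of_ne hle fun e => hout (e.ge (Subgroup.subset_closure (Or.inl rfl)))
  have hsq := sq_closure (X := X) (by
    rintro x (rfl | hx | ⟨u, hu, rfl⟩)
    · exact hc
    · exact P.a4.sq x hx
    · exact conj_sq (P.a4.sq u hu)) (by
    rintro x (rfl | hx | ⟨u, hu, rfl⟩) x' (rfl | hx' | ⟨u', hu', rfl⟩)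
    · rfl
    · exact hcV x' hx'
    · exact hcW u' hu'
    · exact (hcV x hx).symm
    · exact P.a4.comm x hx x' hx'
    · exact P.comm (le_grp hx) (le_grp hu')
    · exact (hcW u hu).symm
    · exact (P.comm (le_grp hx') (le_grp hu)).symm
    · have := P.a4.comm u hu u' hu'
      show t * u * t⁻¹ * (t * u' * t⁻¹) = t * u' * t⁻¹ * (t * u * t⁻¹)
      rw [show t * u * t⁻¹ * (t * u' * t⁻¹) = t * (u * u') * t⁻¹ by group, this]; group)
  have h1 := card_le_sixteen h4 hsq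
  have h2 := two_mul_le (H := sixteen T V t) (K := Subgroup.closure X)
    (fun a => ⟨1, Subtype.ext (by
      show (a : G) ^ 2 ^ 1 = 1
      rw [pow_one, pow_two]; exact hsq a a.2)⟩) hlt
  rw [P.card_sixteen] at h2
  omega

theorem coset (P : Pair T V y t) (h4 : SectionalPRankLE 2 4 G) {a : G} (ha : a ∈ T) (haN : a ∉ half T V y) :
    t⁻¹ * a ∈ half T V y := by
  refine ⟨T.mul_mem (T.inv_mem P.t_mem) ha, ?_⟩
  by_contra hN
  have hm := T.mul_mem (T.inv_mem P.t_mem) ha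
  have ha' := (P.dich a ha).resolve_left fun e => haN ⟨ha, e⟩
  have hta := (P.dich _ hm).resolve_left hN
  have key : ∀ p ∈ grp V y, ∀ q ∈ grp V y, t * p * t⁻¹ * (a * q * a⁻¹) = a * q * a⁻¹ * (t * p * t⁻¹) := by
    intro p hp q hq
    calc t * p * t⁻¹ * (a * q * a⁻¹) = t * (p * (t⁻¹ * a * q * (t⁻¹ * a)⁻¹)) * t⁻¹ := by group
      _ = a * q * a⁻¹ * (t * p * t⁻¹) := by rw [hta p hp q hq]; group
  obtain ⟨u, hu, hu1⟩ := (Subgroup.nontrivial_iff_exists_ne_one V).mp
    ((Subgroup.nontrivial_iff_ne_bot V).mpr P.a4.V_ne)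
  have hmem := P.no_fifth h4 (c := a * u * a⁻¹) (conj_sq (P.a4.sq u hu))
    (fun w hw => (ha' w (le_grp hw) u (le_grp hu)).symm)
    (fun w hw => (key w (le_grp hw) u (le_grp hu)).symm)
  obtain ⟨p, hp, q, hq, e⟩ := P.sixteen_cases hmem
  have h1 : a * y * a⁻¹ * (a * u * a⁻¹) = a * u * a⁻¹ * (a * y * a⁻¹) := by
    rw [e]
    exact (Commute.mul_right ((ha' p (le_grp hp) y y_grp).symm : Commute (a * y * a⁻¹) p)
      ((key q (le_grp hq) y y_grp).symm : Commute (a * y * a⁻¹) (t * q * t⁻¹))).eq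
  refine hu1 (P.a4.fpf u hu ?_)
  have h2 : a * (y * u) * a⁻¹ = a * (u * y) * a⁻¹ := by
    rw [show a * (y * u) * a⁻¹ = a * y * a⁻¹ * (a * u * a⁻¹) by group, h1]; group
  exact mul_left_cancel (mul_right_cancel h2)

theorem t_sq (P : Pair T V y t) (h4 : SectionalPRankLE 2 4 G) : t * t ∈ half T V y := by
  by_contra h
  have := P.coset h4 (T.mul_mem P.t_mem P.t_mem) h
  rw [inv_mul_cancel_left] at this
  exact P.t_out this.2

theorem conj_half (P : Pair T V y t) (h4 : SectionalPRankLE 2 4 G) {a : G} (ha : a ∈ half T V y) :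
    t⁻¹ * a * t ∈ half T V y ∧ t * a * t⁻¹ ∈ half T V y := by
  have key : t⁻¹ * a * t ∈ half T V y := by
    by_contra h
    have h1 := P.coset h4 (T.mul_mem (T.mul_mem (T.inv_mem P.t_mem) ha.1) P.t_mem) h
    have h2 := Subgroup.mul_mem _ (Subgroup.inv_mem _ ha) (Subgroup.mul_mem _ (P.t_sq h4) h1)
    rw [show a⁻¹ * (t * t * (t⁻¹ * (t⁻¹ * a * t))) = t by group] at h2
    exact P.t_out h2.2
  refine ⟨key, ?_⟩
  have h2 := Subgroup.mul_mem _ (Subgroup.mul_mem _ (P.t_sq h4) key) (Subgroup.inv_mem _ (P.t_sq h4))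
  rwa [show t * t * (t⁻¹ * a * t) * (t * t)⁻¹ = t * a * t⁻¹ by group] at h2

theorem card_T (P : Pair T V y t) (h4 : SectionalPRankLE 2 4 G) : Nat.card T = 2 * Nat.card ↥(half T V y) := by
  refine le_antisymm (card_le_two_mul t fun x hx => ?_)
    (two_mul_le P.two (lt_of_le_of_ne inf_le_left fun e => P.t_out (e.ge P.t_mem).2))
  by_cases hx' : x ∈ half T V y
  · exact Or.inl hx'
  · exact Or.inr (P.coset h4 hx hx')

/-- The two centralisers meet trivially. -/
theorem disjoint (P : Pair T V y t) (h4 : SectionalPRankLE 2 4 G) {a : G} (ha : a ∈ cD (half T V y) V y)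
    (ha' : t⁻¹ * a * t ∈ cD (half T V y) V y) : a = 1 := by
  by_contra hne
  haveI : Fact (Nat.Prime 2) := ⟨Nat.prime_two⟩
  -- an involution among the powers
  obtain ⟨k, hk⟩ := P.two ⟨a, (mem_cD.mp ha).1.1⟩
  have hak : a ^ 2 ^ k = 1 := congrArg Subtype.val hk
  classical
  have hex : ∃ j, a ^ 2 ^ j = 1 := ⟨k, hak⟩
  have h0 : Nat.find hex ≠ 0 := fun e => hne (by simpa [e] using Nat.find_spec hex)
  obtain ⟨j, hj⟩ := Nat.exists_eq_succ_of_ne_zero h0
  set c := a ^ 2 ^ j with hc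
  have hc1 : c ≠ 1 := Nat.find_min hex (by omega)
  have hcsq : c * c = 1 := by
    rw [hc, ← pow_add, ← two_mul, ← pow_succ']
    have := Nat.find_spec hex
    rwa [hj] at this
  have hcD : c ∈ cD (half T V y) V y := Subgroup.pow_mem _ ha _
  have hcD' : t⁻¹ * c * t ∈ cD (half T V y) V y := by
    have := Subgroup.pow_mem _ ha' (2 ^ j)
    rwa [show (t⁻¹ * a * t) ^ 2 ^ j = t⁻¹ * c * t by
      rw [hc, show t⁻¹ * a * t = t⁻¹ * a * t⁻¹⁻¹ by group, conj_pow]; group] at this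
  have hmem := P.no_fifth h4 hcsq (fun u hu => (mem_cD.mp hcD).2.2 u hu) (fun u hu => by
    have h1 := (mem_cD.mp hcD').2.2 u hu
    calc c * (t * u * t⁻¹) = t * (t⁻¹ * c * t * u) * t⁻¹ := by group
      _ = t * u * t⁻¹ * c := by rw [h1]; group)
  obtain ⟨u, hu, w, hw, e⟩ := P.sixteen_cases hmem
  have h1 : u = 1 := P.act.uniq hu V.one_mem (P.conj_mem hw) hcD (by rw [one_mul, e])
  rw [h1, one_mul] at e
  rw [e, show t⁻¹ * (t * w * t⁻¹) * t = w by group] at hcD'
  rw [P.act.inf_cD hw hcD', mul_one, mul_inv_cancel] at e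
  exact hc1 e

theorem comm_DD (P : Pair T V y t) (h4 : SectionalPRankLE 2 4 G) {a b : G} (ha : a ∈ cD (half T V y) V y)
    (hb : b ∈ cD (half T V y) V y) : a * (t * b * t⁻¹) = t * b * t⁻¹ * a := by
  have hb' := (P.conj_half h4 hb.1).2
  refine commutatorElement_eq_one_iff_mul_comm.mp (P.disjoint h4 ?_ ?_)
  · rw [commutatorElement_def, show a * (t * b * t⁻¹) * a⁻¹ * (t * b * t⁻¹)⁻¹ =
      a * ((t * b * t⁻¹) * a⁻¹ * (t * b * t⁻¹)⁻¹) by group]
    exact Subgroup.mul_mem _ ha (P.act.conj_cD hb' (Subgroup.inv_mem _ ha))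
  · rw [commutatorElement_def, show t⁻¹ * (a * (t * b * t⁻¹) * a⁻¹ * (t * b * t⁻¹)⁻¹) * t =
      (t⁻¹ * a * t) * b * (t⁻¹ * a * t)⁻¹ * b⁻¹ by group]
    exact Subgroup.mul_mem _ (P.act.conj_cD (P.conj_half h4 ha.1).1 hb) (Subgroup.inv_mem _ hb)

theorem card_D (P : Pair T V y t) (h4 : SectionalPRankLE 2 4 G) :
    (Nat.card ↥(cD (half T V y) V y) = 4 ∨ Nat.card ↥(cD (half T V y) V y) = 8) ∧
      Nat.card T = 16 * Nat.card ↥(cD (half T V y) V y) := by
  obtain ⟨z, v, r, F⟩ := P.act.exists_frame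
  set D := cD (half T V y) V y with hD
  have hT0 := F.card_T₀ P.act
  rw [← hD] at hT0
  have h8 : Nat.card D ≤ 8 := by
    have h1 := Nat.card_le_card_of_injective
      (fun p : ↥D × ↥D => (⟨(p.1 : G) * (t * (p.2 : G) * t⁻¹),
        Subgroup.mul_mem _ p.1.2.1 (P.conj_half h4 p.2.2.1).2⟩ : ↥(half T V y))) (by
      rintro ⟨⟨a, ha⟩, ⟨b, hb⟩⟩ ⟨⟨a', ha'⟩, ⟨b', hb'⟩⟩ eq
      have eq' : a * (t * b * t⁻¹) = a' * (t * b' * t⁻¹) := congrArg Subtype.val eq
      have h1 : a'⁻¹ * a = t * (b' * b⁻¹) * t⁻¹ := by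
        rw [show t * (b' * b⁻¹) * t⁻¹ = a'⁻¹ * (a' * (t * b' * t⁻¹)) * (t * b * t⁻¹)⁻¹ by group, ← eq']
        group
      have h2 := P.disjoint h4 (D.mul_mem (D.inv_mem ha') ha) (by
        rw [h1, show t⁻¹ * (t * (b' * b⁻¹) * t⁻¹) * t = b' * b⁻¹ by group]
        exact D.mul_mem hb' (D.inv_mem hb))
      have e1 : a = a' := (inv_mul_eq_one.mp h2).symm
      subst e1
      have e2 : b = b' := mul_left_cancel (mul_right_cancel (mul_left_cancel eq'))
      subst e2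
      rfl)
    rw [Nat.card_prod, hT0] at h1
    exact Nat.le_of_mul_le_mul_right h1 Nat.card_pos
  have h4' : 4 ≤ Nat.card D := by
    rw [← P.a4.card]
    exact Nat.card_le_card_of_injective (fun u : ↥V => (⟨_, P.conj_mem u.2⟩ : ↥D)) fun a b e =>
      Subtype.ext (mul_left_cancel (mul_right_cancel (congrArg Subtype.val e)))
  refine ⟨?_, by rw [P.card_T h4, hT0]; ring⟩
  obtain ⟨k, hk⟩ := card_eq_pow (P.two.to_le (fun c hc => hc.1.1) : IsPGroup 2 ↥D)
  have : k < 4 := by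
    by_contra hk4
    have := Nat.pow_le_pow_right (n := 2) (by norm_num) (show 4 ≤ k by omega)
    rw [← hk] at this
    omega
  interval_cases k <;> omega

end Pair

/-- The involution of the block fixed by the frame. -/
theorem conj_z {z v r : G} (P : Pair T V y t) (h4 : SectionalPRankLE 2 4 G) (F : Frame (half T V y) V z v r) :
    t * (t * z * t⁻¹) * t⁻¹ = z := by
  rw [show t * (t * z * t⁻¹) * t⁻¹ = (t * t) * z * (t * t)⁻¹ by group, conj_fix (F.z_comm _ (P.t_sq h4))]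

theorem pair_comm_z {z v r : G} (P : Pair T V y t) (h4 : SectionalPRankLE 2 4 G) (F : Frame (half T V y) V z v r)
    {a : G} (ha : a ∈ half T V y) : a * (t * z * t⁻¹) = t * z * t⁻¹ * a := by
  have h1 := F.z_comm _ (P.conj_half h4 ha).1
  calc a * (t * z * t⁻¹) = t * (t⁻¹ * a * t * z) * t⁻¹ := by group
    _ = t * z * t⁻¹ * a := by rw [h1]; group

theorem pair_flip {z v r : G} (P : Pair T V y t) (h4 : SectionalPRankLE 2 4 G) (F : Frame (half T V y) V z v r)
    {a : G} (ha : a ∈ T) (haN : a ∉ half T V y) :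
    a * z * a⁻¹ = t * z * t⁻¹ ∧ a * (t * z * t⁻¹) * a⁻¹ = z := by
  have h0 := P.coset h4 ha haN
  constructor
  · calc a * z * a⁻¹ = t * ((t⁻¹ * a) * z * (t⁻¹ * a)⁻¹) * t⁻¹ := by group
      _ = t * z * t⁻¹ := by rw [conj_fix (F.z_comm _ h0)]
  · calc a * (t * z * t⁻¹) * a⁻¹ = t * ((t⁻¹ * a) * (t * z * t⁻¹) * (t⁻¹ * a)⁻¹) * t⁻¹ := by group
      _ = z := by rw [conj_fix (pair_comm_z P h4 F h0), conj_z P h4 F]

/-- The centre of the straddle of two blocks. -/
theorem pair_center {z v r : G} (P : Pair T V y t) (h4 : SectionalPRankLE 2 4 G)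
    (F : Frame (half T V y) V z v r) :
    (∀ a ∈ half T V y, (∀ b ∈ half T V y, a * b = b * a) →
      a = 1 ∨ a = z ∨ a = t * z * t⁻¹ ∨ a = z * (t * z * t⁻¹)) ∧
    ∀ a ∈ T, (∀ b ∈ T, a * b = b * a) → a = 1 ∨ a = z * (t * z * t⁻¹) := by
  have e := P.act
  have hz' : t * z * t⁻¹ ∈ cD (half T V y) V y := P.conj_mem F.z_mem
  have hzsq : z * z = 1 := P.a4.sq z F.z_mem
  have h1 : ∀ a ∈ half T V y, (∀ b ∈ half T V y, a * b = b * a) →
      a = 1 ∨ a = z ∨ a = t * z * t⁻¹ ∨ a = z * (t * z * t⁻¹) := by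
    intro a ha hc
    obtain ⟨d, hd, hcase⟩ := F.central e ha hc
    have ha' := (P.conj_half h4 ha).1
    have hc' : ∀ b ∈ half T V y, t⁻¹ * a * t * b = b * (t⁻¹ * a * t) := by
      intro b hb
      calc t⁻¹ * a * t * b = t⁻¹ * (a * (t * b * t⁻¹)) * t := by group
        _ = b * (t⁻¹ * a * t) := by rw [hc _ (P.conj_half h4 hb).2]; group
    obtain ⟨d', hd', hcase'⟩ := F.central e ha' hc'
    have hzz : t⁻¹ * z * t ∈ cD (half T V y) V y := P.conj_mem' F.z_mem
    rcases hcase with rfl | rfl <;> rcases hcase' with e' | e'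
    · exact Or.inl (P.disjoint h4 hd (by rw [e']; exact hd'))
    · refine Or.inr (Or.inr (Or.inl ?_))
      have := P.disjoint h4 (a := (t * z * t⁻¹)⁻¹ * a) (Subgroup.mul_mem _ (Subgroup.inv_mem _ hz') hd) (by
        rw [show t⁻¹ * ((t * z * t⁻¹)⁻¹ * a) * t = z⁻¹ * (t⁻¹ * a * t) by group, e', inv_mul_cancel_left]
        exact hd')
      exact (inv_mul_eq_one.mp this).symm
    · refine Or.inr (Or.inl ?_)
      have := P.disjoint h4 (a := d) hd (by
        rw [show t⁻¹ * d * t = (t⁻¹ * z * t)⁻¹ * (t⁻¹ * (z * d) * t) by group, e']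
        exact Subgroup.mul_mem _ (Subgroup.inv_mem _ hzz) hd')
      rw [this, mul_one]
    · refine Or.inr (Or.inr (Or.inr ?_))
      have hd2 : t⁻¹ * d * t = (t⁻¹ * z * t)⁻¹ * (z * d') := by
        rw [← e']; group
      have hcomm : (t⁻¹ * z * t)⁻¹ * z = z * (t⁻¹ * z * t)⁻¹ :=
        (Commute.inv_left (show Commute (t⁻¹ * z * t) z from (mem_cD.mp hzz).2.2 z F.z_mem)).eq
      have := P.disjoint h4 (a := (t * z * t⁻¹)⁻¹ * d) (Subgroup.mul_mem _ (Subgroup.inv_mem _ hz') hd) (by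
        rw [show t⁻¹ * ((t * z * t⁻¹)⁻¹ * d) * t = z⁻¹ * (t⁻¹ * d * t) by group, hd2,
          ← mul_assoc (t⁻¹ * z * t)⁻¹, hcomm, mul_assoc, inv_mul_cancel_left]
        exact Subgroup.mul_mem _ (Subgroup.inv_mem _ hzz) hd')
      rw [← (inv_mul_eq_one.mp this)]
  refine ⟨h1, fun a ha hc => ?_⟩
  by_cases haN : a ∈ half T V y
  · have hta := conj_fix (hc t P.t_mem).symm
    rcases h1 a haN (fun b hb => hc b hb.1) with hh | hh | hh | hh
    · exact Or.inl hh
    · exfalso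
      rw [hh] at hta
      exact F.z_ne (e.inf_cD F.z_mem (hta ▸ hz'))
    · exfalso
      rw [hh, conj_z P h4 F] at hta
      exact F.z_ne (e.inf_cD F.z_mem (hta.symm ▸ hz'))
    · exact Or.inr hh
  · exfalso
    have hfix := conj_fix (hc z (P.V_le F.z_mem))
    rw [(pair_flip P h4 F ha haN).1] at hfix
    exact F.z_ne (e.inf_cD F.z_mem (hfix ▸ hz'))

/-- Two blocks with a small centraliser. -/
theorem pair_false_four (h : Conf S M) (st : Straddle S M T) (P : Pair T V y t) (hy : y ∉ M)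
    (hc4 : Nat.card ↥(cD (half T V y) V y) = 4) : False := by
  classical
  have h4 := h.hard.sect
  have e := P.act
  obtain ⟨z, v, r, F⟩ := e.exists_frame
  set H := half T V y with hH
  set A := Pair.sixteen T V t with hA
  have hAle : A ≤ cA H V := sup_le e.V_le_cA (fun x hx => by
    obtain ⟨u, hu, rfl⟩ := hx; exact cD_le_cA (P.conj_mem hu))
  have hAeq : A = cA H V := Subgroup.eq_of_le_of_card_ge hAle (by rw [P.card_sixteen, e.card_cA, hc4])
  have htA : ∀ a ∈ A, t * a * t⁻¹ ∈ A := by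
    intro a ha
    obtain ⟨u, hu, w, hw, rfl⟩ := P.sixteen_cases ha
    rw [show t * (u * (t * w * t⁻¹)) * t⁻¹ = t * u * t⁻¹ * (t * t * w * (t * t)⁻¹) by group]
    refine A.mul_mem (Subgroup.mem_sup_right ⟨u, hu, rfl⟩) (Subgroup.mem_sup_left ?_)
    exact conj_norm (e.norm_V (P.t_sq h4)) hw
  -- fixed elements of an element moving both
  have hfix : ∀ a ∈ H, a ∉ A → ∀ x ∈ A, a * x = x * a →
      x = 1 ∨ x = z ∨ x = t * z * t⁻¹ ∨ x = z * (t * z * t⁻¹) := by
    intro a ha haA x hx hcomm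
    obtain ⟨u, hu, w, hw, rfl⟩ := P.sixteen_cases hx
    have h1 : a * u * a⁻¹ * (t * ((t⁻¹ * a * t) * w * (t⁻¹ * a * t)⁻¹) * t⁻¹) = u * (t * w * t⁻¹) := by
      conv_rhs => rw [← conj_fix hcomm]
      group
    obtain ⟨hu', hw'⟩ := P.uniq (conj_norm (e.norm_V ha) hu) hu
      (conj_norm (e.norm_V (P.conj_half h4 ha).1) hw) hw h1
    have key : ∀ b ∈ H, b ∉ A → ∀ p ∈ V, b * p * b⁻¹ = p → p = 1 ∨ p = z := by
      intro b hb hbA p hp hbp
      have hb' : b ∉ cA H V := hAeq ▸ hbA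
      rcases F.mem_cases e hp with rfl | rfl | rfl | rfl
      · exact Or.inl rfl
      · exact Or.inr rfl
      · exact absurd (F.mem_of_fix e hb (of_conj_fix hbp)) hb'
      · rw [show b * (z * v) * b⁻¹ = b * z * b⁻¹ * (b * v * b⁻¹) by group, conj_fix (F.z_comm b hb),
          mul_right_inj] at hbp
        exact absurd (F.mem_of_fix e hb (of_conj_fix hbp)) hb'
    have ha2 : t⁻¹ * a * t ∉ A := fun hh => haA (by
      have := htA _ hh
      rwa [show t * (t⁻¹ * a * t) * t⁻¹ = a by group] at this)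
    rcases key a ha haA u hu hu' with rfl | rfl <;> rcases key _ (P.conj_half h4 ha).1 ha2 w hw hw' with rfl | rfl
    · left; simp
    · right; right; left; simp
    · right; left; simp
    · right; right; right; rfl
  -- `A` is the only elementary subgroup of order sixteen
  have huniq : ∀ B : Subgroup G, B ≤ T → Nat.card B = 16 → (∀ b ∈ B, b * b = 1) → B = A := by
    intro B hBT hB16 hBsq
    by_contra hne
    have hBc := comm_of_exp_two hBsq
    have hbd : Nat.card ↥(B ⊓ H) ≤ 2 * Nat.card ↥(B ⊓ A) := by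
      by_cases hle : B ⊓ H ≤ A
      · exact le_trans (Subgroup.card_le_of_le (le_inf inf_le_left hle)) (Nat.le_mul_of_pos_left _ two_pos)
      · obtain ⟨a, ha, haA⟩ := SetLike.not_le_iff_exists.mp hle
        refine card_le_two_mul a fun x hx => ?_
        by_cases hxA : x ∈ A
        · exact Or.inl ⟨hx.1, hxA⟩
        · refine Or.inr ⟨B.mul_mem (B.inv_mem ha.1) hx.1, ?_⟩
          rw [hAeq] at hxA haA ⊢
          have := Subgroup.mul_mem _ (Subgroup.inv_mem _ (F.coset e ha.2 haA)) (F.coset e hx.2 hxA)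
          simpa [mul_assoc] using this
    have hfour : ∀ a ∈ B, a ∈ H → a ∉ A → Nat.card ↥(B ⊓ A) ≤ 4 := by
      intro a ha haH haA
      have := Fintype.ofFinite G
      calc Nat.card ↥(B ⊓ A) = ((B ⊓ A : Subgroup G) : Set G).ncard := rfl
        _ ≤ ({1, z, t * z * t⁻¹, z * (t * z * t⁻¹)} : Finset G).card := by
          rw [← Set.ncard_coe_finset]
          refine Set.ncard_le_ncard (fun x hx => ?_) (Finset.finite_toSet _)
          simpa using hfix a haH haA x hx.2 (hBc a ha x hx.1)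
        _ ≤ 4 := Finset.card_le_four
    by_cases hBH : B ≤ H
    · obtain ⟨a, ha, haA⟩ := SetLike.not_le_iff_exists.mp
        (fun hle => hne (Subgroup.eq_of_le_of_card_ge hle (by rw [P.card_sixteen, hB16])) : ¬ B ≤ A)
      have h1 := hfour a ha (hBH ha) haA
      rw [inf_eq_left.mpr hBH, hB16] at hbd
      omega
    obtain ⟨b, hb, hbH⟩ := SetLike.not_le_iff_exists.mp hBH
    have hbd2 : Nat.card B ≤ 2 * Nat.card ↥(B ⊓ H) := card_le_two_mul b fun x hx => by
      by_cases hxH : x ∈ H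
      · exact Or.inl ⟨hx, hxH⟩
      · refine Or.inr ⟨B.mul_mem (B.inv_mem hb) hx, ?_⟩
        have := Subgroup.mul_mem _ (Subgroup.inv_mem _ (P.coset h4 (hBT hb) hbH)) (P.coset h4 (hBT hx) hxH)
        simpa [mul_assoc] using this
    have hb4 : Nat.card ↥(B ⊓ A) ≤ 4 := by
      rw [← P.a4.card]
      refine Nat.card_le_card_of_injective
        (fun x : ↥(B ⊓ A) => (⟨(P.sixteen_cases x.2.2).choose, (P.sixteen_cases x.2.2).choose_spec.1⟩ : ↥V))
        fun x x' eq => ?_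
      have eu : (P.sixteen_cases x.2.2).choose = (P.sixteen_cases x'.2.2).choose := congrArg Subtype.val eq
      have key : ∀ q : ↥(B ⊓ A), (q : G) = (P.sixteen_cases q.2.2).choose *
          (b * (P.sixteen_cases q.2.2).choose * b⁻¹) := by
        intro q
        obtain ⟨hu, w, hw, eqx⟩ := (P.sixteen_cases q.2.2).choose_spec
        set u := (P.sixteen_cases q.2.2).choose
        set b₀ := t⁻¹ * b with hb₀
        have hb₀H := P.coset h4 (hBT hb) hbH
        have hfixb : b * (q : G) * b⁻¹ = q := conj_fix (hBc b hb _ q.2.1)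
        have hbc : b = t * b₀ := by rw [hb₀]; group
        have h1 : (t * (t * ((t⁻¹ * b₀ * t) * w * (t⁻¹ * b₀ * t)⁻¹) * t⁻¹) * t⁻¹) *
            (t * (b₀ * u * b₀⁻¹) * t⁻¹) = u * (t * w * t⁻¹) := by
          have hwV := conj_norm (e.norm_V (P.conj_half h4 hb₀H).1) hw
          have huV := conj_norm (e.norm_V hb₀H) hu
          rw [show t * (t * ((t⁻¹ * b₀ * t) * w * (t⁻¹ * b₀ * t)⁻¹) * t⁻¹) * t⁻¹ * (t * (b₀ * u * b₀⁻¹) * t⁻¹) =
            t * ((t * ((t⁻¹ * b₀ * t) * w * (t⁻¹ * b₀ * t)⁻¹) * t⁻¹) * (b₀ * u * b₀⁻¹)) * t⁻¹ by group,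
            ← P.comm (le_grp huV) (le_grp hwV), ← eqx, ← hfixb, eqx, hbc]
          group
        have hmem : t * (t * ((t⁻¹ * b₀ * t) * w * (t⁻¹ * b₀ * t)⁻¹) * t⁻¹) * t⁻¹ ∈ V := by
          rw [show t * (t * ((t⁻¹ * b₀ * t) * w * (t⁻¹ * b₀ * t)⁻¹) * t⁻¹) * t⁻¹ =
            (t * t) * ((t⁻¹ * b₀ * t) * w * (t⁻¹ * b₀ * t)⁻¹) * (t * t)⁻¹ by group]
          exact conj_norm (e.norm_V (P.t_sq h4)) (conj_norm (e.norm_V (P.conj_half h4 hb₀H).1) hw)
        obtain ⟨-, h2⟩ := P.uniq hmem hu (conj_norm (e.norm_V hb₀H) hu) hw h1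
        rw [eqx, ← h2, hbc]
        group
      refine Subtype.ext ?_
      rw [key x, key x', eu]
    obtain ⟨a, ha, haA⟩ := SetLike.not_le_iff_exists.mp (fun hle => by
      have := Subgroup.card_le_of_le (le_inf inf_le_left hle : B ⊓ H ≤ B ⊓ A)
      omega : ¬ B ⊓ H ≤ A)
    have h2 : Nat.card ↥(B ⊓ A) ≤ 2 := by
      have := Fintype.ofFinite G
      calc Nat.card ↥(B ⊓ A) = ((B ⊓ A : Subgroup G) : Set G).ncard := rfl
        _ ≤ ({1, z * (t * z * t⁻¹)} : Finset G).card := by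
          rw [← Set.ncard_coe_finset]
          refine Set.ncard_le_ncard (fun x hx => ?_) (Finset.finite_toSet _)
          have hf := conj_fix (hBc b hb x hx.1)
          have hfl := pair_flip P h4 F (hBT hb) hbH
          have hz' : t * z * t⁻¹ ∈ cD (half T V y) V y := P.conj_mem F.z_mem
          rcases hfix a ha.2 haA x hx.2 (hBc a ha.1 x hx.1) with hh | hh | hh | hh
          · simp [hh]
          · exfalso
            rw [hh, hfl.1] at hf
            exact F.z_ne (e.inf_cD F.z_mem (hf ▸ hz'))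
          · exfalso
            rw [hh, hfl.2] at hf
            exact F.z_ne (e.inf_cD F.z_mem (hf.symm ▸ hz'))
          · simp [hh]
        _ ≤ 2 := Finset.card_le_two
    omega
  obtain ⟨s, hs, hsT, -, hsN⟩ := exists_step h st
  have hAT : A ≤ T := hAle.trans fun x hx => hx.1.1
  have hAsq : ∀ a ∈ A, a * a = 1 := by
    intro a ha
    obtain ⟨u, hu, w, hw, rfl⟩ := P.sixteen_cases ha
    calc u * (t * w * t⁻¹) * (u * (t * w * t⁻¹)) = u * ((t * w * t⁻¹) * u) * (t * w * t⁻¹) := by group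
      _ = u * u * (t * (w * w) * t⁻¹) := by rw [← P.comm (le_grp hu) (le_grp hw)]; group
      _ = 1 := by rw [P.a4.sq u hu, P.a4.sq w hw]; group
  refine false_of_norm h st hy (C := A) ((T_two st).to_le hAT) (fun eb => ?_) ?_ ?_ hs hsT ?_
  · have := P.card_sixteen
    rw [← hA, eb, Subgroup.card_bot] at this
    omega
  · refine mem_norm fun a ha => ?_
    obtain ⟨u, hu, w, hw, rfl⟩ := P.sixteen_cases ha
    rw [show y * (u * (t * w * t⁻¹)) * y⁻¹ = y * u * y⁻¹ * (y * (t * w * t⁻¹) * y⁻¹) by group,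
      conj_fix (P.comm y_grp (le_grp hw))]
    exact Pair.sixteen_mem (P.a4.norm u hu) hw
  all_goals
    have key : ∀ x ∈ (Subgroup.normalizer (T : Set G)), x ∈ Subgroup.normalizer (A : Set G) := by
      intro x hx
      refine mem_norm fun a ha => ?_
      have hmap := huniq (A.map (MulAut.conj x).toMonoidHom) (by
        rintro _ ⟨b, hb, rfl⟩; exact conj_norm hx (hAT hb))
        ((Subgroup.card_map_of_injective (MulAut.conj x).injective).trans P.card_sixteen)
        (by rintro _ ⟨b, hb, rfl⟩; exact conj_sq (hAsq b hb))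
      exact hmap.le ⟨a, ha, rfl⟩
  · exact fun x hx => key x (Subgroup.le_normalizer hx)
  · exact key s hsN

/-- Elements commuting with the straddle modulo the centre. -/
theorem second_center (P : Pair T V y t) (h4 : SectionalPRankLE 2 4 G) {z v r : G}
    (F : Frame (half T V y) V z v r) (hc8 : Nat.card ↥(cD (half T V y) V y) = 8) {a : G} (ha : a ∈ T)
    (hcm : ∀ g ∈ T, ⁅g, a⁆ = 1 ∨ ⁅g, a⁆ = z * (t * z * t⁻¹)) :
    a = 1 ∨ a = z ∨ a = t * z * t⁻¹ ∨ a = z * (t * z * t⁻¹) := by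
  have e := P.act
  have hz' : t * z * t⁻¹ ∈ cD (half T V y) V y := P.conj_mem F.z_mem
  have haH : a ∈ half T V y := by
    by_contra haN
    have hv : a * v⁻¹ * a⁻¹ ∈ cD (half T V y) V y := by
      have h0 := P.coset h4 ha haN
      rw [show a * v⁻¹ * a⁻¹ = t * ((t⁻¹ * a) * v⁻¹ * (t⁻¹ * a)⁻¹) * t⁻¹ by group]
      exact P.conj_mem (conj_norm (e.norm_V h0) (V.inv_mem F.v_mem))
    rcases hcm v (P.V_le F.v_mem) with hh | hh
    · rw [commutatorElement_def, show v * a * v⁻¹ * a⁻¹ = v * (a * v⁻¹ * a⁻¹) by group] at hh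
      exact F.v_ne (e.uniq F.v_mem V.one_mem hv (Subgroup.one_mem _) (by rw [hh, one_mul]))
    · rw [commutatorElement_def, show v * a * v⁻¹ * a⁻¹ = v * (a * v⁻¹ * a⁻¹) by group] at hh
      exact F.v_ne_z (e.uniq F.v_mem F.z_mem hv hz' hh)
  refine (pair_center P h4 F).1 a haH fun b hb => ?_
  -- `a` centralises the two centralisers
  have key : ∀ c ∈ half T V y, (∀ g ∈ T, ⁅g, c⁆ = 1 ∨ ⁅g, c⁆ = z * (t * z * t⁻¹)) →
      ∀ d ∈ cD (half T V y) V y, c * d = d * c := by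
    intro c hc hcm' d hd
    have hmem : ⁅d, c⁆ ∈ cD (half T V y) V y := by
      rw [commutatorElement_def, show d * c * d⁻¹ * c⁻¹ = d * (c * d⁻¹ * c⁻¹) by group]
      exact Subgroup.mul_mem _ hd (e.conj_cD hc (Subgroup.inv_mem _ hd))
    rcases hcm' d hd.1.1 with hh | hh
    · exact (commutatorElement_eq_one_iff_mul_comm.mp hh).symm
    · exfalso
      rw [hh] at hmem
      have := Subgroup.mul_mem _ hmem (Subgroup.inv_mem _ hz')
      rw [mul_inv_cancel_right] at this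
      exact F.z_ne (e.inf_cD F.z_mem this)
  have hta : ∀ g ∈ T, ⁅g, t⁻¹ * a * t⁆ = 1 ∨ ⁅g, t⁻¹ * a * t⁆ = z * (t * z * t⁻¹) := by
    intro g hg
    have h1 : ⁅g, t⁻¹ * a * t⁆ = t⁻¹ * ⁅t * g * t⁻¹, a⁆ * t := by
      rw [commutatorElement_def, commutatorElement_def]; group
    rcases hcm _ (T.mul_mem (T.mul_mem P.t_mem hg) (T.inv_mem P.t_mem)) with hh | hh <;> rw [h1, hh]
    · left; group
    · right
      have h2 := (pair_flip P h4 F (T.inv_mem P.t_mem)
        (fun h' => P.t_out (by simpa using Subgroup.inv_mem _ h'.2)))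
      rw [inv_inv] at h2
      rw [show t⁻¹ * (z * (t * z * t⁻¹)) * t = t⁻¹ * z * t * (t⁻¹ * (t * z * t⁻¹) * t) by group, h2.1, h2.2]
      exact ((mem_cD.mp hz').2.2 z F.z_mem)
  -- every element of the half is a product
  have hT0 := F.card_T₀ e
  let f : ↥(cD (half T V y) V y) × ↥(cD (half T V y) V y) → ↥(half T V y) := fun p =>
    ⟨(p.1 : G) * (t * (p.2 : G) * t⁻¹), Subgroup.mul_mem _ p.1.2.1 (P.conj_half h4 p.2.2.1).2⟩
  have hf : Function.Injective f := by
    rintro ⟨⟨c, hc⟩, ⟨d, hd⟩⟩ ⟨⟨c', hc'⟩, ⟨d', hd'⟩⟩ eq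
    have eq' : c * (t * d * t⁻¹) = c' * (t * d' * t⁻¹) := congrArg Subtype.val eq
    have h1 : c'⁻¹ * c = t * (d' * d⁻¹) * t⁻¹ := by
      rw [show t * (d' * d⁻¹) * t⁻¹ = c'⁻¹ * (c' * (t * d' * t⁻¹)) * (t * d * t⁻¹)⁻¹ by group, ← eq']
      group
    have h2 := P.disjoint h4 (Subgroup.mul_mem _ (Subgroup.inv_mem _ hc') hc) (by
      rw [h1, show t⁻¹ * (t * (d' * d⁻¹) * t⁻¹) * t = d' * d⁻¹ by group]
      exact Subgroup.mul_mem _ hd' (Subgroup.inv_mem _ hd))
    have e1 : c = c' := (inv_mul_eq_one.mp h2).symm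
    subst e1
    have e2 : d = d' := mul_left_cancel (mul_right_cancel (mul_left_cancel eq'))
    subst e2
    rfl
  obtain ⟨⟨c, d⟩, hcd⟩ := (hf.bijective_of_nat_card_le (by rw [Nat.card_prod, hT0, hc8])).2 ⟨b, hb⟩
  have hcd' : (c : G) * (t * (d : G) * t⁻¹) = b := congrArg Subtype.val hcd
  rw [← hcd']
  refine (Commute.mul_right (key a haH hcm c c.2 : Commute a (c : G)) ?_).eq
  have hk := key _ (P.conj_half h4 haH).1 hta d d.2
  show a * (t * (d : G) * t⁻¹) = t * (d : G) * t⁻¹ * a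
  calc a * (t * (d : G) * t⁻¹) = t * (t⁻¹ * a * t * d) * t⁻¹ := by group
    _ = t * (d : G) * t⁻¹ * a := by rw [hk]; group

/-- A straddle with a larger centralisation. -/
theorem pair_false_eight (h : Conf S M) (st : Straddle S M T) (P : Pair T V y t) (hy : y ∉ M)
    (hc8 : Nat.card ↥(cD (half T V y) V y) = 8) :
    ∃ X z z', Straddle S M X ∧ 128 ≤ Nat.card X ∧ z ∈ X ∧ z' ∈ X ∧ z ≠ 1 ∧ z' ≠ 1 ∧ z ≠ z' ∧
      (∀ x ∈ X, z * x = x * z) ∧ (∀ x ∈ X, z' * x = x * z') := by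
  have h4 := h.hard.sect
  have e := P.act
  obtain ⟨z, v, r, F⟩ := e.exists_frame
  set z' := t * z * t⁻¹ with hz'def
  have hz' : z' ∈ cD (half T V y) V y := P.conj_mem F.z_mem
  have hzz : z * z' ≠ 1 := fun eq => F.z_ne (e.inf_cD F.z_mem (by
    rw [eq_inv_of_mul_eq_one_left eq]; exact Subgroup.inv_mem _ hz'))
  have hz'1 : z' ≠ 1 := fun eq => F.z_ne (conj_eq_one_iff.mp eq)
  have hne : z ≠ z' := fun eq => F.z_ne (e.inf_cD F.z_mem (eq ▸ hz'))
  have hzT : z ∈ T := P.V_le F.z_mem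
  have hz'T : z' ∈ T := hz'.1.1
  have hzz' : z * z' = z' * z := ((mem_cD.mp hz').2.2 z F.z_mem).symm
  have hzsq : z * z = 1 := P.a4.sq z F.z_mem
  have hz'sq : z' * z' = 1 := conj_sq hzsq
  have hcent : ∀ b ∈ T, z * z' * b = b * (z * z') := by
    intro b hb
    by_cases hbH : b ∈ half T V y
    · exact ((Commute.mul_right (F.z_comm b hbH : Commute b z) (pair_comm_z P h4 F hbH : Commute b z')).eq).symm
    · obtain ⟨h1, h2⟩ := pair_flip P h4 F hb hbH
      refine (of_conj_fix ?_).symm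
      rw [show b * (z * z') * b⁻¹ = b * z * b⁻¹ * (b * z' * b⁻¹) by group, h1, h2, hzz']
  have hsec : ∀ g ∈ T, ⁅g, z⁆ = 1 ∨ ⁅g, z⁆ = z * z' := by
    intro g hg
    by_cases hgH : g ∈ half T V y
    · exact Or.inl (commutatorElement_eq_one_iff_mul_comm.mpr (F.z_comm g hgH))
    · refine Or.inr ?_
      rw [commutatorElement_def, (pair_flip P h4 F hg hgH).1, ← hz'def,
        inv_eq_of_mul_eq_one_right hzsq, ← hzz']
  obtain ⟨s₀, hs₀, hs₀T, -, hs₀N⟩ := exists_step h st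
  have hs' : s₀⁻¹ ∈ Subgroup.normalizer (T : Set G) := Subgroup.inv_mem _ hs₀N
  have hfix₀ : s₀ * (z * z') * s₀⁻¹ = z * z' := by
    rcases (pair_center P h4 F).2 _ (conj_norm hs₀N (T.mul_mem hzT hz'T)) (fun b hb => by
      calc s₀ * (z * z') * s₀⁻¹ * b = s₀ * (z * z' * (s₀⁻¹ * b * s₀)) * s₀⁻¹ := by group
        _ = b * (s₀ * (z * z') * s₀⁻¹) := by
          rw [hcent _ (by simpa using conj_norm hs' hb)]; group) with h' | h'
    · exact absurd (conj_eq_one_iff.mp h') hzz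
    · exact h'
  have himg := second_center P h4 F hc8 (conj_norm hs₀N hzT) (fun g hg => by
    rw [show ⁅g, s₀ * z * s₀⁻¹⁆ = s₀ * ⁅s₀⁻¹ * g * s₀, z⁆ * s₀⁻¹ by
      rw [commutatorElement_def, commutatorElement_def]; group]
    rcases hsec _ (by simpa using conj_norm hs' hg) with h' | h' <;> rw [h']
    · left; group
    · right; exact hfix₀)
  -- an element fixing `z`
  obtain ⟨s, hs, hsT, hsz, hsz'⟩ : ∃ s ∈ (S : Subgroup G), s ∉ T ∧ s * z = z * s ∧ s * z' = z' * s := by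
    have mk : ∀ s ∈ (S : Subgroup G), s ∉ T → s * z * s⁻¹ = z → s * (z * z') * s⁻¹ = z * z' →
        ∃ s ∈ (S : Subgroup G), s ∉ T ∧ s * z = z * s ∧ s * z' = z' * s := by
      intro s hs hsT h1 h2
      refine ⟨s, hs, hsT, of_conj_fix h1, of_conj_fix ?_⟩
      rw [show s * (z * z') * s⁻¹ = s * z * s⁻¹ * (s * z' * s⁻¹) by group, h1] at h2
      exact mul_left_cancel h2
    rcases himg with h' | h' | h' | h'
    · exact absurd (conj_eq_one_iff.mp h') F.z_ne
    · exact mk s₀ hs₀ hs₀T h' hfix₀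
    · refine mk (t * s₀) (mul_mem (st.T_le P.t_mem) hs₀) (fun hh => hs₀T ?_) ?_ ?_
      · simpa using T.mul_mem (T.inv_mem P.t_mem) hh
      · rw [show t * s₀ * z * (t * s₀)⁻¹ = t * (s₀ * z * s₀⁻¹) * t⁻¹ by group, h', conj_z P h4 F]
      · rw [show t * s₀ * (z * z') * (t * s₀)⁻¹ = t * (s₀ * (z * z') * s₀⁻¹) * t⁻¹ by group, hfix₀,
          conj_fix (hcent t P.t_mem).symm]
    · exfalso
      have := h'.trans hfix₀.symm
      have h2 := mul_left_cancel (mul_right_cancel this)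
      exact hz'1 (mul_eq_left.mp h2.symm)
  set X := half T V y ⊔ Subgroup.zpowers s with hXdef
  have hXS : X ≤ (S : Subgroup G) := sup_le (inf_le_left.trans st.T_le) (Subgroup.zpowers_le.mpr hs)
  have hcX : ∀ c : G, (∀ b ∈ half T V y, b * c = c * b) → s * c = c * s → ∀ x ∈ X, c * x = x * c := by
    intro c hb hsc x hx
    have hle : X ≤ Subgroup.centralizer ({c} : Set G) := sup_le
      (fun b hb' => Subgroup.mem_centralizer_singleton_iff.mpr (hb b hb'))
      (Subgroup.zpowers_le.mpr (Subgroup.mem_centralizer_singleton_iff.mpr hsc))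
    exact (Subgroup.mem_centralizer_singleton_iff.mp (hle hx)).symm
  have hzX := hcX z (fun b hb => F.z_comm b hb) hsz
  have hz'X := hcX z' (fun b hb => pair_comm_z P h4 F hb) hsz'
  have hlt : half T V y < X := lt_of_le_of_ne le_sup_left fun eq =>
    hsT (eq.ge (Subgroup.mem_sup_right (Subgroup.mem_zpowers s))).1
  have hcard : Nat.card T ≤ Nat.card X := by
    rw [P.card_T h4]; exact two_mul_le (S.2.to_le hXS) hlt
  have h128 : Nat.card T = 128 := by rw [(P.card_D h4).2, hc8]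
  -- `C(z)` leaves `M`
  have hout : ¬ Subgroup.normalizer (Subgroup.zpowers z : Set G) ≤ M := by
    intro hle
    have hm : t * y * t⁻¹ ∈ M := hle (norm_zpowers (P.comm (le_grp F.z_mem) y_grp).symm)
    have htM : t ∈ M := S_le h (st.T_le P.t_mem)
    have := M.mul_mem (M.mul_mem (M.inv_mem htM) hm) htM
    simp only [mul_assoc, inv_mul_cancel_left, inv_mul_cancel, mul_one] at this
    exact hy this
  refine ⟨X, z, z', of_card_le h st hXS hcard (twoLocal (zpowers_two hzsq) (by rw [Ne, Subgroup.zpowers_eq_bot]; exact F.z_ne))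
    (fun x hx => norm_zpowers (hzX x hx).symm) hout, h128 ▸ hcard,
    Subgroup.mem_sup_left (e.V_le F.z_mem), Subgroup.mem_sup_left hz'.1, F.z_ne, hz'1, hne, hzX, hz'X⟩

/-- The outcome for an arbitrary straddle. -/
theorem classify_aux (h : Conf S M) (st : Straddle S M T) :
    (∃ z v r d, DTwo S M T z v r d) ∨ ∃ V y t, Pair T V y t ∧ y ∉ M := by
  obtain ⟨V, y, hA, hVT, hy, hmov, hdich⟩ := exists_block h st
  by_cases hall : ∀ t ∈ T, t ∈ Subgroup.normalizer (grp V y : Set G)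
  · left
    obtain ⟨r, hr, -, hm⟩ := hmov
    exact caseA h st ⟨hA, T_two st, hVT, hall, r, hr, hm⟩ hy
  · push Not at hall
    obtain ⟨t, ht, htN⟩ := hall
    exact Or.inr ⟨V, y, t, ⟨T_two st, hA, hVT, hmov, hdich, ht, htN⟩, hy⟩

/-- Every straddle is `D₈ × 2`. -/
theorem classify (h : Conf S M) (st : Straddle S M T) : ∃ z v r d, DTwo S M T z v r d := by
  rcases classify_aux h st with h0 | ⟨V, y, t, P, hy⟩
  · exact h0
  exfalso
  have h4 := h.hard.sect
  rcases (P.card_D h4).1 with hc | hc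
  · exact pair_false_four h st P hy hc
  obtain ⟨X, z, z', stX, h128, hz, hz', hz1, hz'1, hne, hcz, hcz'⟩ := pair_false_eight h st P hy hc
  rcases classify_aux h stX with ⟨z₁, v₁, r₁, d₁, hD⟩ | ⟨V', y', t', P', -⟩
  · have := hD.card
    omega
  · obtain ⟨z₁, v₁, r₁, F₁⟩ := P'.act.exists_frame
    have hc' := (pair_center P' h4 F₁).2
    rcases hc' z hz hcz with e1 | e1
    · exact hz1 e1
    rcases hc' z' hz' hcz' with e2 | e2
    · exact hz'1 e2
    · exact hne (e1.trans e2.symm)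

end CfsgLib.SRFour.CaseU
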