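import Mathlib
import Cfsg.Agent.Lib.SRFour.MType
import Cfsg.Agent.Lib.CoprimeGen

/-!
General lemmas for a mover acting irreducibly on an elementary abelian group of order sixteen.

Blueprint: `blueprint/S0517.md`, §4.
-/

set_option autoImplicit false
set_option linter.unusedSectionVars false
set_option linter.style.haveILetI false

namespace CfsgLib.SRFour

open Cfsg
open scoped commutatorElement

universe u

variable {G : Type u} [Group G]

/-- An element of odd order cannot shift by a fixed 2-element. -/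
theorem shift_eq_one {y a c : G} (hy : Odd (orderOf y)) {k : ℕ} (hc : c ^ 2 ^ k = 1)
    (hyc : y * c = c * y) (h : y * a * y⁻¹ = a * c) : c = 1 := by
  have hpow : ∀ n : ℕ, y ^ n * a * (y ^ n)⁻¹ = a * c ^ n := by
    intro n
    induction n with
    | zero => simp
    | succ n ih =>
      have hcn : y * c ^ n * y⁻¹ = c ^ n := by
        rw [(Commute.pow_right (hyc : Commute y c) n).eq, mul_inv_cancel_right]
      calc y ^ (n + 1) * a * (y ^ (n + 1))⁻¹ = y * (y ^ n * a * (y ^ n)⁻¹) * y⁻¹ := by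
            rw [pow_succ']; group
        _ = (y * a * y⁻¹) * (y * c ^ n * y⁻¹) := by rw [ih]; group
        _ = a * c ^ (n + 1) := by rw [h, hcn, mul_assoc, ← pow_succ']
  have h1 := hpow (orderOf y)
  rw [pow_orderOf_eq_one, one_mul, inv_one, mul_one, left_eq_mul] at h1
  exact orderOf_eq_one_iff.mp (Nat.eq_one_of_dvd_coprimes ((Nat.coprime_two_right.mpr hy).pow_right k)
    (orderOf_dvd_of_pow_eq_one h1) (orderOf_dvd_of_pow_eq_one hc))

/-- An element of odd order acting on `a` only inside a 2-group that it centralises fixes `a`. -/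
theorem fix_of_shift_mem {N : Subgroup G} (hN : IsPGroup 2 ↥N) {y a : G} (hy : Odd (orderOf y))
    (hyN : ∀ c ∈ N, y * c = c * y) (h : a⁻¹ * (y * a * y⁻¹) ∈ N) : y * a = a * y := by
  obtain ⟨k, hk⟩ := hN ⟨_, h⟩
  have h1 := shift_eq_one hy (k := k) (congrArg Subtype.val hk) (hyN _ h) (a := a) (by group)
  rw [inv_mul_eq_one] at h1
  exact (mul_inv_eq_iff_eq_mul.mp h1.symm)

theorem pow_two_two {N : Subgroup G} (h : ∀ a ∈ N, a * a = 1) : IsPGroup 2 ↥N := fun a =>
  ⟨1, Subtype.ext (by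
    show (a : G) ^ 2 ^ 1 = 1
    rw [pow_one, pow_two]
    exact h a a.2)⟩

/-- Counting with the classes of a map to a finite type. -/
theorem card_le_of_classes [Finite G] {A N : Subgroup G} {T : Type} [Finite T] (cls : G → T)
    (h : ∀ a ∈ A, ∀ b ∈ A, cls a = cls b → a⁻¹ * b ∈ N) :
    Nat.card A ≤ Nat.card T * Nat.card ↥(A ⊓ N) := by
  classical
  let rep : T → G := fun t => if ht : ∃ a ∈ A, cls a = t then ht.choose else 1
  have hrep : ∀ a ∈ A, rep (cls a) ∈ A ∧ cls (rep (cls a)) = cls a := fun a ha => by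
    have ht : ∃ b ∈ A, cls b = cls a := ⟨a, ha, rfl⟩
    simp only [rep, dif_pos ht]
    exact ht.choose_spec
  let φ : ↥A → T × ↥(A ⊓ N) := fun a => (cls a, ⟨(rep (cls (a : G)))⁻¹ * a,
    A.mul_mem (A.inv_mem (hrep a a.2).1) a.2, h _ (hrep a a.2).1 _ a.2 (hrep a a.2).2⟩)
  have hφ : Function.Injective φ := fun a b e => by
    obtain ⟨e1, e2⟩ := Prod.mk.inj e
    have e3 : (rep (cls (a : G)))⁻¹ * a = (rep (cls (b : G)))⁻¹ * b := congrArg Subtype.val e2
    rw [e1] at e3
    exact Subtype.ext (mul_left_cancel e3)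
  exact (Nat.card_le_card_of_injective φ hφ).trans (Nat.card_prod _ _).le

/-- A proper subgroup has at most half the elements. -/
theorem two_mul_card_le [Finite G] {H H' : Subgroup G} (hle : H ≤ H') {a : G} (ha : a ∈ H') (haH : a ∉ H) :
    2 * Nat.card H ≤ Nat.card H' := by
  obtain ⟨c, hc⟩ := Subgroup.card_dvd_of_le hle
  rcases Nat.lt_or_ge c 2 with h | h
  · exfalso
    refine haH ((Subgroup.eq_of_le_of_card_ge hle ?_).ge ha)
    rw [hc]
    calc Nat.card H * c ≤ Nat.card H * 1 := Nat.mul_le_mul_left _ (by omega)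
      _ = _ := mul_one _
  · rw [hc, mul_comm]
    exact Nat.mul_le_mul_left _ h

section Act

variable [Finite G] {L : Subgroup G}

theorem conj_mem_centralizer {N : Subgroup G} (hn : L ≤ Subgroup.normalizer (N : Set G)) {g a : G} (hg : g ∈ L)
    (ha : ∀ n ∈ N, a * n = n * a) : ∀ n ∈ N, (g * a * g⁻¹) * n = n * (g * a * g⁻¹) := fun n hN => by
  have h1 : g⁻¹ * n * g ∈ N := by
    have := (Subgroup.mem_normalizer_iff.mp (hn (inv_mem hg)) n).mp hN
    rwa [inv_inv] at this
  have e := ha _ h1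
  calc g * a * g⁻¹ * n = g * (a * (g⁻¹ * n * g)) * g⁻¹ := by group
    _ = g * (g⁻¹ * n * g * a) * g⁻¹ := by rw [e]
    _ = n * (g * a * g⁻¹) := by group

/-- An element centralising the normal 2-subgroup `N` and moving `C_Q(N)` only inside `N` lies in the 2-core. -/
theorem Good.mem_core_of_act (hL : Good L) {N : Subgroup G} (hN : IsPGroup 2 ↥N)
    (hn : L ≤ Subgroup.normalizer (N : Set G)) {m : G} (hm : m ∈ L) (hmN : ∀ n ∈ N, m * n = n * m)
    (hc : ∀ q ∈ pCoreOf 2 L, (∀ n ∈ N, q * n = n * q) → ⁅q, m⁆ ∈ N) : m ∈ pCoreOf 2 L := by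
  let A : Subgroup G :=
    { carrier := {a | a ∈ L ∧ (∀ n ∈ N, a * n = n * a) ∧
        ∀ q ∈ pCoreOf 2 L, (∀ n ∈ N, q * n = n * q) → ⁅q, a⁆ ∈ N}
      one_mem' := ⟨L.one_mem, fun n _ => by simp, fun q _ _ => by simp⟩
      mul_mem' := fun {a b} ha hb => ⟨L.mul_mem ha.1 hb.1,
        fun n hn' => by rw [mul_assoc, hb.2.1 n hn', ← mul_assoc, ha.2.1 n hn', mul_assoc], fun q hq hqN => by
        rw [show ⁅q, a * b⁆ = ⁅q, a⁆ * (a * ⁅q, b⁆ * a⁻¹) by simp only [commutatorElement_def]; group,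
          ha.2.1 _ (hb.2.2 q hq hqN), mul_inv_cancel_right]
        exact mul_mem (ha.2.2 q hq hqN) (hb.2.2 q hq hqN)⟩
      inv_mem' := fun {a} ha => by
        refine ⟨L.inv_mem ha.1, fun n hn' => (Commute.inv_left (ha.2.1 n hn' : Commute a n)).eq,
          fun q hq hqN => ?_⟩
        have h1 := inv_mem (ha.2.2 q hq hqN)
        have h2 : a⁻¹ * ⁅q, a⁆⁻¹ = ⁅q, a⁆⁻¹ * a⁻¹ := (Commute.inv_left (ha.2.1 _ h1 : Commute a _)).eq
        have h3 : ⁅q, a⁻¹⁆ = a⁻¹ * ⁅q, a⁆⁻¹ * a⁻¹⁻¹ := by simp only [commutatorElement_def]; group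
        rw [h3, h2, mul_inv_cancel_right]
        exact h1 }
  refine le_core (isPGroup_two_of_no_odd (A := A) fun y hy hyo => ?_) (fun a ha => ha.1)
    (Subgroup.le_normalizer_iff.mpr fun g hg a ha => ⟨?_, conj_mem_centralizer hn hg ha.2.1, fun q hq hqN => ?_⟩)
    ⟨hm, hmN, hc⟩
  · have hfix : ∀ q ∈ pCoreOf 2 L, (∀ n ∈ N, q * n = n * q) → y * q = q * y := fun q hq hqN => by
      refine fix_of_shift_mem hN hyo hy.2.1 ?_
      rw [show q⁻¹ * (y * q * y⁻¹) = ⁅q⁻¹, y⁆ by simp only [commutatorElement_def]; group]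
      exact hy.2.2 _ (inv_mem hq) fun n hn' => (Commute.inv_left (hqN n hn' : Commute q n)).eq
    refine eq_one_of_odd_mem (core_two L) hyo (hL.charTwo y hy.1 fun q hq => ?_)
    let Q' : Subgroup G := pCoreOf 2 L ⊓ Subgroup.centralizer (N : Set G)
    refine (fix_of_shift_mem (N := Q') ((core_two L).to_le inf_le_left) hyo
      (fun c hc => hfix c hc.1 fun n hn' => (Subgroup.mem_centralizer_iff.mp hc.2 n hn').symm) ⟨?_, ?_⟩).symm
    · exact (pCoreOf 2 L).mul_mem ((pCoreOf 2 L).inv_mem hq) (conj_mem_core hy.1 hq)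
    · refine Subgroup.mem_centralizer_iff.mpr fun n hn' => ?_
      have hqn : q * n * q⁻¹ ∈ N := (Subgroup.mem_normalizer_iff.mp (hn (core_le L hq)) n).mp hn'
      have e : y * q * y⁻¹ * n * (y * q * y⁻¹)⁻¹ = q * n * q⁻¹ := by
        calc y * q * y⁻¹ * n * (y * q * y⁻¹)⁻¹ = y * q * (y⁻¹ * n * y) * q⁻¹ * y⁻¹ := by group
          _ = y * (q * n * q⁻¹) * y⁻¹ := by
            rw [(Commute.inv_left (hy.2.1 n hn' : Commute y n)).eq]; group
          _ = q * n * q⁻¹ := by rw [hy.2.1 _ hqn, mul_inv_cancel_right]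
      calc n * (q⁻¹ * (y * q * y⁻¹)) = q⁻¹ * ((q * n * q⁻¹) * (y * q * y⁻¹)) := by group
        _ = q⁻¹ * ((y * q * y⁻¹ * n * (y * q * y⁻¹)⁻¹) * (y * q * y⁻¹)) := by rw [e]
        _ = q⁻¹ * (y * q * y⁻¹) * n := by group
  · exact L.mul_mem (L.mul_mem hg ha.1) (L.inv_mem hg)
  · have hq' : g⁻¹ * q * g ∈ pCoreOf 2 L := by
      have := conj_mem_core (L.inv_mem hg) hq
      rwa [inv_inv] at this
    have hqN' : ∀ n ∈ N, (g⁻¹ * q * g) * n = n * (g⁻¹ * q * g) := fun n hn' => by
      have := conj_mem_centralizer hn (L.inv_mem hg) hqN n hn'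
      rwa [inv_inv] at this
    rw [show ⁅q, g * a * g⁻¹⁆ = g * ⁅g⁻¹ * q * g, a⁆ * g⁻¹ by simp only [commutatorElement_def]; group]
    exact (Subgroup.mem_normalizer_iff.mp (hn hg) _).mp (ha.2.2 _ hq' hqN')

/-- Squares of an abelian subgroup normalised by the 2-core act trivially on it. -/
theorem Good.sq_mem_core_of_quad (hL : Good L) {X : Subgroup G} (hXL : X ≤ L)
    (hc : ∀ a ∈ X, ∀ b ∈ X, a * b = b * a) (hn : pCoreOf 2 L ≤ Subgroup.normalizer (X : Set G))
    {x : G} (hx : x ∈ X) : x * x ∈ pCoreOf 2 L := by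
  haveI : Fact (Nat.Prime 2) := ⟨Nat.prime_two⟩
  set Q := pCoreOf 2 L with hQ
  set W := (frattini ↥Q).map Q.subtype with hW
  have hWn : L ≤ Subgroup.normalizer (W : Set G) :=
    (CfsgLib.le_normalizer_map_characteristic (le_normalizer_core L) (frattini ↥Q)).1
  have hsq : ∀ c ∈ Q, c * c ∈ W := fun c hc' => by
    refine ⟨(⟨c, hc'⟩ : ↥Q) ^ 2, CfsgLib.pow_mem_frattini_pGroup (core_two L) _, ?_⟩
    show c ^ 2 = c * c
    exact pow_two c
  let A : Subgroup G :=
    { carrier := {a | a ∈ L ∧ ∀ q ∈ Q, ⁅q, a⁆ ∈ W}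
      one_mem' := ⟨L.one_mem, fun q _ => by simp⟩
      mul_mem' := fun {a b} ha hb => ⟨L.mul_mem ha.1 hb.1, fun q hq => by
        rw [show ⁅q, a * b⁆ = ⁅q, a⁆ * (a * ⁅q, b⁆ * a⁻¹) by simp only [commutatorElement_def]; group]
        exact mul_mem (ha.2 q hq) ((Subgroup.mem_normalizer_iff.mp (hWn ha.1) _).mp (hb.2 q hq))⟩
      inv_mem' := fun {a} ha => ⟨L.inv_mem ha.1, fun q hq => by
        rw [show ⁅q, a⁻¹⁆ = a⁻¹ * ⁅q, a⁆⁻¹ * a⁻¹⁻¹ by simp only [commutatorElement_def]; group]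
        exact (Subgroup.mem_normalizer_iff.mp (hWn (L.inv_mem ha.1)) _).mp (inv_mem (ha.2 q hq))⟩ }
  refine le_core (isPGroup_two_of_no_odd (A := A) fun y hy hyo => ?_) (fun a ha => ha.1)
    (Subgroup.le_normalizer_iff.mpr fun g hg a ha => ⟨L.mul_mem (L.mul_mem hg ha.1) (L.inv_mem hg), fun q hq => ?_⟩)
    ⟨L.mul_mem (hXL hx) (hXL hx), fun q hq => ?_⟩
  · refine eq_one_of_odd_mem (core_two L) hyo (hL.charTwo y hy.1 fun q hq => ?_)
    have hcop : (Nat.card (Subgroup.zpowers y)).Coprime (Nat.card (frattini ↥Q)) := by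
      obtain ⟨k, hk⟩ := IsPGroup.iff_card.mp ((core_two L).to_subgroup (frattini ↥Q))
      rw [Nat.card_zpowers, hk]
      exact (Nat.coprime_two_right.mpr hyo).pow_right k
    have hAy : Subgroup.zpowers y ≤ A := Subgroup.zpowers_le.mpr hy
    have := CfsgLib.centralize_of_trivial_mod_frattini (A := Subgroup.zpowers y) (K := Q)
      ((Subgroup.zpowers_le.mpr hy.1).trans (le_normalizer_core L)) hcop (fun a ha k hk => by
        have := inv_mem ((hAy ha).2 k hk)
        rwa [show ⁅k, a⁆⁻¹ = a * k * a⁻¹ * k⁻¹ by simp only [commutatorElement_def]; group] at this)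
    exact (Subgroup.mem_centralizer_iff.mp (this (Subgroup.mem_zpowers y)) q hq)
  · have hq' : g⁻¹ * q * g ∈ Q := by
      have := conj_mem_core (L.inv_mem hg) hq
      rwa [inv_inv] at this
    rw [show ⁅q, g * a * g⁻¹⁆ = g * ⁅g⁻¹ * q * g, a⁆ * g⁻¹ by simp only [commutatorElement_def]; group]
    exact (Subgroup.mem_normalizer_iff.mp (hWn hg) _).mp (ha.2 _ hq')
  · have hcQ : ⁅q, x⁆ ∈ Q := by
      have := mul_mem hq (conj_mem_core (hXL hx) (inv_mem hq))
      simpa [commutatorElement_def, mul_assoc] using this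
    have hcX : ⁅q, x⁆ ∈ X := by
      have := mul_mem ((Subgroup.mem_normalizer_iff.mp (hn hq) x).mp hx) (inv_mem hx)
      simpa [commutatorElement_def, mul_assoc] using this
    rw [show ⁅q, x * x⁆ = ⁅q, x⁆ * (x * ⁅q, x⁆ * x⁻¹) by simp only [commutatorElement_def]; group,
      hc x hx _ hcX, mul_inv_cancel_right]
    exact hsq _ hcQ

end Act

section Over

variable [Finite G] {S H K F : Subgroup G}

/-- An element of `N_S(F)` centralising `F` lies in the 2-core. -/
theorem IsOver.mem_core_of_fix (h : IsOver S H K F) (hS : IsPGroup 2 ↥S) {n : G} (hn : n ∈ S)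
    (hnF : n ∈ Subgroup.normalizer (F : Set G)) (hc : ∀ f ∈ F, n * f = f * n) : n ∈ pCoreOf 2 K := by
  let O := pCoreOf 2 K
  let T : Subgroup G := S ⊓ Subgroup.centralizer (F : Set G) ⊓ Subgroup.normalizer (F : Set G)
  have hTK : T ≤ K := (inf_le_left.trans inf_le_left).trans h.S_le
  have hTn : T ≤ Subgroup.normalizer (O : Set G) := hTK.trans (le_normalizer_core K)
  have hT2 : IsPGroup 2 ↥T := hS.to_le (inf_le_left.trans inf_le_left)
  have hconj : ∀ g ∈ K, ∀ t ∈ T, g * t * g⁻¹ ∈ O ⊔ T := by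
    intro g hg t ht
    obtain ⟨q, hq, f, hf, m, hm, hmF, rfl⟩ := h.decomp g hg
    have h1 : m * t * m⁻¹ ∈ T := by
      refine ⟨⟨S.mul_mem (S.mul_mem hm ht.1.1) (S.inv_mem hm), ?_⟩, (Subgroup.normalizer (F : Set G)).mul_mem ((Subgroup.normalizer (F : Set G)).mul_mem hmF ht.2) ((Subgroup.normalizer (F : Set G)).inv_mem hmF)⟩
      refine Subgroup.mem_centralizer_iff.mpr fun f' hf' => ?_
      have hf'' : m⁻¹ * f' * m ∈ F := (Subgroup.mem_normalizer_iff''.mp hmF f').mp hf'
      calc f' * (m * t * m⁻¹) = m * ((m⁻¹ * f' * m) * t) * m⁻¹ := by group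
        _ = m * (t * (m⁻¹ * f' * m)) * m⁻¹ := by rw [Subgroup.mem_centralizer_iff.mp ht.1.2 _ hf'']
        _ = m * t * m⁻¹ * f' := by group
    rw [show q * f * m * t * (q * f * m)⁻¹ = q * (f * (m * t * m⁻¹) * f⁻¹) * q⁻¹ by group,
      Subgroup.mem_centralizer_iff.mp h1.1.2 f hf, mul_inv_cancel_right]
    exact mul_mem (mul_mem (Subgroup.mem_sup_left hq) (Subgroup.mem_sup_right h1))
      (inv_mem (Subgroup.mem_sup_left hq))
  refine le_core (P := O ⊔ T) ((core_two K).to_sup_of_normal_left' hT2 hTn) (sup_le (core_le K) hTK)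
    (Subgroup.le_normalizer_iff.mpr fun g hg a ha => ?_) (Subgroup.mem_sup_right ⟨⟨hn, ?_⟩, hnF⟩)
  · rw [Subgroup.sup_eq_closure] at ha
    induction ha using Subgroup.closure_induction with
    | mem x hx =>
      rcases hx with hx | hx
      · exact Subgroup.mem_sup_left (conj_mem_core hg hx)
      · exact hconj g hg x hx
    | one => simp
    | mul a b _ _ iha ihb =>
      rw [show g * (a * b) * g⁻¹ = (g * a * g⁻¹) * (g * b * g⁻¹) by group]
      exact mul_mem iha ihb
    | inv a _ iha =>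
      rw [show g * a⁻¹ * g⁻¹ = (g * a * g⁻¹)⁻¹ by group]
      exact inv_mem iha
  · exact Subgroup.mem_centralizer_iff.mpr fun f hf => (hc f hf).symm

/-- A commutator of an element of `N(F)` in the 2-core with `F` is trivial. -/
theorem IsOver.comm_of_core (h : IsOver S H K F) {r f : G} (hr : r ∈ pCoreOf 2 K)
    (hrF : r ∈ Subgroup.normalizer (F : Set G)) (hf : f ∈ F) : r * f = f * r := by
  refine commutatorElement_eq_one_iff_mul_comm.mp (h.core_inter ?_ ?_)
  · have := F.mul_mem ((Subgroup.mem_normalizer_iff.mp hrF f).mp hf) (F.inv_mem hf)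
    simpa [commutatorElement_def, mul_assoc] using this
  · have := mul_mem hr (conj_mem_core (h.F_le hf) (inv_mem hr))
    simpa [commutatorElement_def, mul_assoc] using this

/-- When all squares of `S` lie in the 2-core, the 2-core has index at most two in `S`. -/
theorem IsOver.mul_mem_core (h : IsOver S H K F) (hS : IsPGroup 2 ↥S)
    (hsq : ∀ s ∈ S, s * s ∈ pCoreOf 2 K) {a b : G} (ha : a ∈ S) (hb : b ∈ S) (ha' : a ∉ pCoreOf 2 K)
    (hb' : b ∉ pCoreOf 2 K) : a * b ∈ pCoreOf 2 K := by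
  have hinv : ∀ n ∈ S, n ∈ Subgroup.normalizer (F : Set G) → n ∉ pCoreOf 2 K →
      ∀ f ∈ F, n * f * n⁻¹ = f⁻¹ := by
    intro n hn hnF hnO
    let A : Subgroup G := F ⊓ Subgroup.centralizer ({n} : Set G)
    have hinvA : ∀ m ∈ S, m ∈ Subgroup.normalizer (F : Set G) → ∀ x ∈ A, m * x * m⁻¹ ∈ A := by
      intro m hm hmF x hx
      refine ⟨(Subgroup.mem_normalizer_iff.mp hmF x).mp hx.1, Subgroup.mem_centralizer_singleton_iff.mpr ?_⟩
      set y := m * x * m⁻¹ with hy
      have hyF : y ∈ F := (Subgroup.mem_normalizer_iff.mp hmF x).mp hx.1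
      have hxn : x * n = n * x := Subgroup.mem_centralizer_singleton_iff.mp hx.2
      set c := ⁅m, n⁆ with hcdef
      have hcO : c ∈ pCoreOf 2 K := by
        have e : c = (m * m) * ((m⁻¹ * n) * (m⁻¹ * n)) * (n⁻¹ * n⁻¹) := by
          simp only [hcdef, commutatorElement_def]; group
        rw [e]
        exact mul_mem (mul_mem (hsq m hm) (hsq _ (S.mul_mem (S.inv_mem hm) hn))) (hsq _ (S.inv_mem hn))
      have hcN : c ∈ Subgroup.normalizer (F : Set G) := by
        simp only [hcdef, commutatorElement_def]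
        exact mul_mem (mul_mem (mul_mem hmF hnF) (inv_mem hmF)) (inv_mem hnF)
      have hcy := h.comm_of_core hcO hcN hyF
      have hz : m * n * m⁻¹ = c * n := by simp only [hcdef, commutatorElement_def]; group
      have hzy : (m * n * m⁻¹) * y = y * (m * n * m⁻¹) := by
        calc m * n * m⁻¹ * y = m * (n * x) * m⁻¹ := by rw [hy]; group
          _ = m * (x * n) * m⁻¹ := by rw [hxn]
          _ = y * (m * n * m⁻¹) := by rw [hy]; group
      rw [hz] at hzy
      refine mul_left_cancel (a := c) ?_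
      calc c * (y * n) = (c * y) * n := by group
        _ = y * (c * n) := by rw [hcy, mul_assoc]
        _ = c * (n * y) := by rw [← hzy, mul_assoc]
    have hA : A = ⊥ := (h.irred A inf_le_left hinvA).resolve_right fun e => hnO
      (h.mem_core_of_fix hS hn hnF fun f hf => by
        have : f ∈ A := e ▸ hf
        exact (Subgroup.mem_centralizer_singleton_iff.mp this.2).symm)
    intro f hf
    have hnn : n * n * f = f * (n * n) := h.comm_of_core (hsq n hn) (mul_mem hnF hnF) hf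
    have hf' : n * f * n⁻¹ ∈ F := (Subgroup.mem_normalizer_iff.mp hnF f).mp hf
    have e0 : n * (f * (n * f * n⁻¹)) * n⁻¹ = f * (n * f * n⁻¹) := by
      calc n * (f * (n * f * n⁻¹)) * n⁻¹ = (n * f * n⁻¹) * (n * n * f * (n * n)⁻¹) := by group
        _ = (n * f * n⁻¹) * f := by rw [hnn, mul_inv_cancel_right]
        _ = f * (n * f * n⁻¹) := h.comm _ hf' _ hf
    have hmem : f * (n * f * n⁻¹) ∈ A :=
      ⟨F.mul_mem hf hf', Subgroup.mem_centralizer_singleton_iff.mpr (mul_inv_eq_iff_eq_mul.mp e0).symm⟩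
    rw [hA, Subgroup.mem_bot] at hmem
    exact eq_inv_of_mul_eq_one_right hmem
  obtain ⟨q, hq, n, hn, hnF, rfl⟩ := h.lift a ha
  obtain ⟨r, hr, m, hm, hmF, rfl⟩ := h.lift b hb
  have hnO : n ∉ pCoreOf 2 K := fun e => ha' (mul_mem hq e)
  have hmO : m ∉ pCoreOf 2 K := fun e => hb' (mul_mem hr e)
  have hnm : n * m ∈ pCoreOf 2 K := h.mem_core_of_fix hS (S.mul_mem hn hm) (mul_mem hnF hmF) fun f hf => by
    refine mul_inv_eq_iff_eq_mul.mp ?_
    rw [show n * m * f * (n * m)⁻¹ = n * (m * f * m⁻¹) * n⁻¹ by group, hinv m hm hmF hmO f hf,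
      hinv n hn hnF hnO _ (F.inv_mem hf), inv_inv]
  rw [show q * n * (r * m) = q * (n * r * n⁻¹) * (n * m) by group]
  exact mul_mem (mul_mem hq (conj_mem_core (h.S_le hn) hr)) hnm

end Over

section Data

variable [Finite G] {S : Sylow 2 G} {K F H V : Subgroup G}

/-- The subgroup `Ω₁(Z(S))`. -/
def omegaZ (S : Subgroup G) : Subgroup G where
  carrier := {a | InZ S a}
  one_mem' := InZ.one S
  mul_mem' := fun ha hb => ha.mul hb
  inv_mem' := fun {a} ha => by
    show InZ S a⁻¹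
    rw [inv_eq_of_mul_eq_one_right ha.2.1]
    exact ha

theorem centZ_norm (S : Subgroup G) : centZ S ≤ Subgroup.normalizer (omegaZ S : Set G) :=
  Subgroup.le_normalizer_iff.mpr fun g hg a ha => by
    rw [mem_centZ.mp hg a ha, mul_inv_cancel_right]; exact ha

namespace IData

theorem R_le_S (D : IData (S : Subgroup G) K F H V) : pCoreOf 2 K ≤ (S : Subgroup G) :=
  core_le_sylow S D.ov.S_le

theorem V_le_S (D : IData (S : Subgroup G) K F H V) : V ≤ (S : Subgroup G) := D.V_le.trans D.R_le_S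

theorem comm (D : IData (S : Subgroup G) K F H V) {a b : G} (ha : a ∈ V) (hb : b ∈ V) : a * b = b * a :=
  comm_of_exp_two D.V_sq a ha b hb

theorem inv_eq (D : IData (S : Subgroup G) K F H V) {a : G} (ha : a ∈ V) : a⁻¹ = a :=
  inv_eq_of_mul_eq_one_right (D.V_sq a ha)

theorem conj_V (D : IData (S : Subgroup G) K F H V) {k a : G} (hk : k ∈ K) (ha : a ∈ V) : k * a * k⁻¹ ∈ V :=
  (Subgroup.mem_normalizer_iff.mp (D.V_norm hk) a).mp ha

theorem conj_V_S (D : IData (S : Subgroup G) K F H V) {s a : G} (hs : s ∈ (S : Subgroup G)) (ha : a ∈ V) :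
    s * a * s⁻¹ ∈ V := D.conj_V (D.ov.S_le hs) ha

theorem conj_R (D : IData (S : Subgroup G) K F H V) {r a : G} (hr : r ∈ pCoreOf 2 K) (ha : a ∈ V) :
    r * a * r⁻¹ = a := by rw [D.V_cent r hr a ha, mul_inv_cancel_right]

/-- An element of `K` centralising `V` lies in the 2-core. -/
theorem mem_R (D : IData (S : Subgroup G) K F H V) {k : G} (hk : k ∈ K) (hc : ∀ a ∈ V, k * a = a * k) :
    k ∈ pCoreOf 2 K := by
  let C : Subgroup G := K ⊓ Subgroup.centralizer (V : Set G)
  have hCF : F ⊓ Subgroup.centralizer (V : Set G) = ⊥ := by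
    refine (D.ov.irred _ inf_le_left fun n hn hnF x hx => ⟨(Subgroup.mem_normalizer_iff.mp hnF x).mp hx.1, ?_⟩).resolve_right
      fun e => ?_
    · refine Subgroup.mem_centralizer_iff.mpr fun b hb => ?_
      exact (conj_mem_centralizer (L := K) D.V_norm (D.ov.S_le hn)
        (fun a ha => (Subgroup.mem_centralizer_iff.mp hx.2 a ha).symm) b hb).symm
    · haveI : Nontrivial ↥V := Finite.one_lt_card_iff_nontrivial.mp (by rw [D.card_V]; norm_num)
      obtain ⟨⟨a, ha⟩, ha1⟩ := exists_ne (1 : ↥V)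
      refine ha1 (Subtype.ext (D.fpf a ha fun f hf => ?_))
      have : f ∈ F ⊓ Subgroup.centralizer (V : Set G) := e.symm ▸ hf
      exact (Subgroup.mem_centralizer_iff.mp this.2 a ha).symm
  refine le_core (P := C) (isPGroup_two_of_no_odd fun y hy hyo => ?_) inf_le_left
    (Subgroup.le_normalizer_iff.mpr fun g hg a ha => ⟨K.mul_mem (K.mul_mem hg ha.1) (K.inv_mem hg), ?_⟩)
    ⟨hk, Subgroup.mem_centralizer_iff.mpr fun a ha => (hc a ha).symm⟩
  · obtain ⟨q, hq, f, hf, rfl⟩ := D.ov.odd_mem y hy.1 hyo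
    have hf1 : f = 1 := by
      rw [← Subgroup.mem_bot, ← hCF]
      refine ⟨hf, Subgroup.mem_centralizer_iff.mpr fun a ha => ?_⟩
      have h1 := Subgroup.mem_centralizer_iff.mp hy.2 a ha
      rw [← mul_assoc, ← D.V_cent q hq a ha, mul_assoc, mul_assoc] at h1
      exact mul_left_cancel h1
    subst hf1
    rw [mul_one] at hyo ⊢
    exact eq_one_of_odd_mem (core_two K) hyo hq
  · exact Subgroup.mem_centralizer_iff.mpr fun b hb => (conj_mem_centralizer (L := K) D.V_norm hg
      (fun c hc' => (Subgroup.mem_centralizer_iff.mp ha.2 c hc').symm) b hb).symm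

/-- An involution of `V` centralised by `S` is in `Ω₁(Z(S))`. -/
theorem inZ_of_mem (D : IData (S : Subgroup G) K F H V) {a : G} (ha : a ∈ V)
    (h : ∀ s ∈ (S : Subgroup G), s * a * s⁻¹ = a) : InZ (S : Subgroup G) a :=
  ⟨D.V_le_S ha, D.V_sq a ha, fun s hs => mul_inv_eq_iff_eq_mul.mp (h s hs)⟩

theorem good_M (h : Hard G) (D : IData (S : Subgroup G) K F H V) : Good (centZ (S : Subgroup G)) := by
  have hne : (S : Subgroup G) ≠ ⊥ := fun e => by
    have h1 := Subgroup.card_le_of_le (e ▸ D.V_le_S : V ≤ (⊥ : Subgroup G))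
    rw [D.card_V, Subgroup.card_bot] at h1
    omega
  obtain ⟨a, ha, ha1, ha2, hac⟩ := exists_central S.isPGroup' le_rfl Subgroup.le_normalizer hne
  refine h.good_of_sylow (pow_two_two fun b (hb : InZ (S : Subgroup G) b) => hb.2.1) (fun e => ha1 ?_) S (le_centZ _) (centZ_norm _)
  have : a ∈ omegaZ (S : Subgroup G) := ⟨ha, ha2, hac⟩
  rwa [e, Subgroup.mem_bot] at this

theorem comm_inZ (_D : IData (S : Subgroup G) K F H V) {m a : G} (hm : m ∈ centZ (S : Subgroup G))
    (ha : InZ (S : Subgroup G) a) : m * a = a * m := mem_centZ.mp hm a ha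

theorem V_le_M (D : IData (S : Subgroup G) K F H V) : V ≤ centZ (S : Subgroup G) :=
  D.V_le_S.trans (le_centZ _)

/-- Elements of `V` which `O₂(M)` moves only inside `Ω₁(Z(S))` lie in `O₂(M)`. -/
theorem mem_Q_of_comm (h : Hard G) (D : IData (S : Subgroup G) K F H V) {v : G} (hv : v ∈ V)
    (hc : ∀ q ∈ pCoreOf 2 (centZ (S : Subgroup G)), InZ (S : Subgroup G) ⁅q, v⁆) :
    v ∈ pCoreOf 2 (centZ (S : Subgroup G)) :=
  (D.good_M h).mem_core_of_act (N := omegaZ (S : Subgroup G)) (pow_two_two fun b (hb : InZ (S : Subgroup G) b) => hb.2.1) (centZ_norm _)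
    (D.V_le_M hv) (fun _ hn => D.comm_inZ (D.V_le_M hv) hn) fun q hq _ => hc q hq

/-- `V` is not contained in `O₂(M)` if it is the only elementary group of order sixteen of `S`. -/
theorem false_of_le (D : IData (S : Subgroup G) K F H V)
    (hV : V ≤ pCoreOf 2 (centZ (S : Subgroup G)))
    (huniq : ∀ A : Subgroup G, A ≤ pCoreOf 2 (centZ (S : Subgroup G)) → Nat.card A = 16 →
      (∀ a ∈ A, a * a = 1) → A = V) : False := by
  refine D.moved fun m hm => ?_
  have hcard : Nat.card (V.map (MulAut.conj m).toMonoidHom) = 16 := by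
    rw [Subgroup.card_map_of_injective (f := (MulAut.conj m).toMonoidHom) (MulAut.conj m).injective, D.card_V]
  have he := huniq (V.map (MulAut.conj m).toMonoidHom) (by
      rintro _ ⟨a, ha, rfl⟩
      exact conj_mem_core hm (hV ha)) hcard (by
      rintro _ ⟨a, ha, rfl⟩
      rw [← map_mul, D.V_sq a ha, map_one])
  exact Subgroup.mem_normalizer_fintype fun a ha => he ▸ ⟨a, ha, rfl⟩

/-- `M` has a nontrivial element of odd order. -/
theorem false_of_no_odd (D : IData (S : Subgroup G) K F H V)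
    (hno : ∀ y ∈ centZ (S : Subgroup G), Odd (orderOf y) → y = 1) : False := by
  refine D.moved ?_
  rw [S.is_maximal' (isPGroup_two_of_no_odd hno) (le_centZ _)]
  exact D.ov.S_le.trans D.V_norm

end IData

end Data

end CfsgLib.SRFour
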