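import Mathlib
import Cfsg.Agent.Lib.SRFour.CaseUBase
import Cfsg.Agent.Lib.SRFour.ITypeBasic

/-!
Case U: the action of `M` on the core modulo its squares.

Blueprint: `blueprint/S0517.md`, parcel CaseU, step 4.
-/

set_option autoImplicit false
set_option linter.unusedSectionVars false
set_option linter.style.haveILetI false

namespace CfsgLib.SRFour.CaseU

open Cfsg
open scoped commutatorElement

universe u

/-! ### Small elementary groups -/

section Small

variable {R : Type u} [Group R] [Finite R]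

/-- The fixed points of an automorphism. -/
def fixSub (σ : MulAut R) : Subgroup R where
  carrier := {r | σ r = r}
  one_mem' := map_one σ
  mul_mem' := fun {a b} ha hb => by
    show σ (a * b) = a * b
    rw [map_mul, ha, hb]
  inv_mem' := fun {a} ha => by
    show σ a⁻¹ = a⁻¹
    rw [map_inv, ha]

theorem two_of_sq (hR : ∀ r : R, r * r = 1) : IsPGroup 2 R := fun r => ⟨1, by rw [pow_one, pow_two, hR r]⟩

/-- The number of fixed points modulo the order. -/
theorem fix_modEq {p : ℕ} (hp : p.Prime) {σ : MulAut R} (hσ : σ ^ p = 1) :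
    Nat.card R ≡ Nat.card ↥(fixSub σ) [MOD p] := by
  haveI : Fact p.Prime := ⟨hp⟩
  letI : MulAction ↥(Subgroup.zpowers σ) R :=
    { smul := fun g r => (g : MulAut R) r
      mul_smul := fun _ _ _ => rfl
      one_smul := fun _ => rfl }
  have hP : IsPGroup p ↥(Subgroup.zpowers σ) := fun g => ⟨1, Subtype.ext (by
    obtain ⟨k, hk⟩ := g.2
    show (g : MulAut R) ^ p ^ 1 = 1
    rw [← hk, pow_one]
    show (σ ^ k) ^ p = 1
    rw [← zpow_natCast (σ ^ k), ← zpow_mul, mul_comm, zpow_mul, zpow_natCast, hσ, one_zpow])⟩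
  refine (hP.card_modEq_card_fixedPoints R).trans ?_
  suffices e : Nat.card ↥(MulAction.fixedPoints ↥(Subgroup.zpowers σ) R) = Nat.card ↥(fixSub σ) by
    rw [e]
  refine Nat.card_congr (Equiv.subtypeEquivRight fun r => ⟨fun h => h ⟨σ, Subgroup.mem_zpowers σ⟩, ?_⟩)
  rintro h ⟨g, hg⟩
  have hle : Subgroup.zpowers σ ≤ MulAction.stabilizer (MulAut R) r := Subgroup.zpowers_le.mpr h
  exact hle hg

theorem card_cases (hR : ∀ r : R, r * r = 1) (h8 : Nat.card R ≤ 8) :
    Nat.card R = 1 ∨ Nat.card R = 2 ∨ Nat.card R = 4 ∨ Nat.card R = 8 := by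
  haveI : Fact (Nat.Prime 2) := ⟨Nat.prime_two⟩
  obtain ⟨k, hk⟩ := IsPGroup.iff_card.mp (two_of_sq hR)
  have : k < 4 := by
    by_contra hk4
    have := Nat.pow_le_pow_right (n := 2) (by norm_num) (show 4 ≤ k by omega)
    rw [← hk] at this
    omega
  interval_cases k <;> omega

theorem fix_eq_top {σ : MulAut R} (h : ∀ r, σ r = r) : σ = 1 := MulEquiv.ext h

theorem fix_cases (hR : ∀ r : R, r * r = 1) (σ : MulAut R) :
    σ = 1 ∨ 2 * Nat.card ↥(fixSub σ) ≤ Nat.card R := by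
  by_cases h : fixSub σ = ⊤
  · exact Or.inl (fix_eq_top fun r => (h.ge (Subgroup.mem_top r) : r ∈ fixSub σ))
  · refine Or.inr ?_
    have := two_mul_le (G := R) (K := ⊤) ((two_of_sq hR).to_subgroup _) (lt_top_iff_ne_top.mpr h)
    rwa [Subgroup.card_top] at this

/-- An automorphism of order five of a group of order at most eight is trivial. -/
theorem five_trivial (hR : ∀ r : R, r * r = 1) (h8 : Nat.card R ≤ 8) {σ : MulAut R} (hσ : σ ^ 5 = 1) : σ = 1 := by
  rcases fix_cases hR σ with h | h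
  · exact h
  exfalso
  haveI : Fact (Nat.Prime 2) := ⟨Nat.prime_two⟩
  have hm := fix_modEq (by norm_num : Nat.Prime 5) hσ
  obtain ⟨j, hj⟩ := IsPGroup.iff_card.mp ((two_of_sq hR).to_subgroup (fixSub σ))
  rw [Nat.ModEq, hj] at hm
  rw [hj] at h
  have hj3 : j < 3 := by
    by_contra hj4
    have := Nat.pow_le_pow_right (n := 2) (by norm_num) (show 3 ≤ j by omega)
    omega
  rcases card_cases hR h8 with e | e | e | e <;> rw [e] at hm h <;> interval_cases j <;> omega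

/-- The fixed points of an automorphism of order three. -/
theorem three_fix (hR : ∀ r : R, r * r = 1) (h8 : Nat.card R ≤ 8) {σ : MulAut R} (hσ : σ ^ 3 = 1) (h1 : σ ≠ 1) :
    (Nat.card R = 4 ∧ Nat.card ↥(fixSub σ) = 1) ∨ (Nat.card R = 8 ∧ Nat.card ↥(fixSub σ) = 2) := by
  have h := (fix_cases hR σ).resolve_left h1
  haveI : Fact (Nat.Prime 2) := ⟨Nat.prime_two⟩
  have hm := fix_modEq (by norm_num : Nat.Prime 3) hσ
  obtain ⟨j, hj⟩ := IsPGroup.iff_card.mp ((two_of_sq hR).to_subgroup (fixSub σ))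
  rw [Nat.ModEq, hj] at hm
  rw [hj] at h ⊢
  have hj3 : j < 3 := by
    by_contra hj4
    have := Nat.pow_le_pow_right (n := 2) (by norm_num) (show 3 ≤ j by omega)
    omega
  rcases card_cases hR h8 with e | e | e | e <;> rw [e] at hm h ⊢ <;> interval_cases j <;> omega

/-- Commuting automorphisms of exponent three form a group of order at most three. -/
theorem card_le_three (hR : ∀ r : R, r * r = 1) (h8 : Nat.card R ≤ 8) (P : Subgroup (MulAut R))
    (hc : ∀ a ∈ P, ∀ b ∈ P, a * b = b * a) (h3 : ∀ a ∈ P, a ^ 3 = 1) : Nat.card P ≤ 3 := by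
  classical
  haveI : Fact (Nat.Prime 3) := ⟨Nat.prime_three⟩
  haveI : Finite (MulAut R) := Finite.of_injective (fun σ : MulAut R => (σ : R → R)) DFunLike.coe_injective
  by_cases hP : P = ⊥
  · rw [hP, Subgroup.card_bot]; norm_num
  obtain ⟨a, ha, ha1⟩ : ∃ a ∈ P, a ≠ 1 := by
    obtain ⟨⟨a, ha⟩, ha1⟩ := Subgroup.ne_bot_iff_exists_ne_one.mp hP
    exact ⟨a, ha, fun e => ha1 (Subtype.ext e)⟩
  -- all nontrivial elements have the same fixed points
  have hfix : ∀ b ∈ P, b ≠ 1 → fixSub b = fixSub a := by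
    intro b hb hb1
    have hpres : ∀ r ∈ fixSub a, b r ∈ fixSub a := by
      intro r hr
      show a (b r) = b r
      rw [← MulAut.mul_apply, hc a ha b hb, MulAut.mul_apply, show a r = r from hr]
    have hle : fixSub a ≤ fixSub b := by
      intro r hr
      show b r = r
      by_cases hr1 : r = 1
      · rw [hr1, map_one]
      have hbr := hpres r hr
      by_contra hne
      have hbr1 : b r ≠ 1 := fun e => hr1 (by rw [← map_one b] at e; exact b.injective e)
      haveI := Fintype.ofFinite ↥(fixSub a)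
      have h3' : ({1, ⟨r, hr⟩, ⟨b r, hbr⟩} : Finset ↥(fixSub a)).card = 3 := Finset.card_eq_three.mpr
        ⟨_, _, _, fun e => hr1 (congrArg Subtype.val e).symm, fun e => hbr1 (congrArg Subtype.val e).symm,
          fun e => hne (congrArg Subtype.val e).symm, rfl⟩
      have h4 := Finset.card_le_univ ({1, ⟨r, hr⟩, ⟨b r, hbr⟩} : Finset ↥(fixSub a))
      rw [h3', ← Nat.card_eq_fintype_card] at h4
      rcases three_fix hR h8 (h3 a ha) ha1 with ⟨-, e⟩ | ⟨-, e⟩ <;> omega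
    refine (Subgroup.eq_of_le_of_card_ge hle ?_).symm
    rcases three_fix hR h8 (h3 a ha) ha1 with ⟨e, e'⟩ | ⟨e, e'⟩ <;>
      rcases three_fix hR h8 (h3 b hb) hb1 with ⟨f, f'⟩ | ⟨f, f'⟩ <;> omega
  obtain ⟨w, hw⟩ : ∃ w, w ∉ fixSub a := by
    by_contra hno
    push Not at hno
    exact ha1 (fix_eq_top hno)
  let f : ↥P → {r : R // r ∉ fixSub a} := fun b => ⟨(b : MulAut R) w, fun hm => hw (by
    show a w = w
    refine (b : MulAut R).injective ?_
    rw [← MulAut.mul_apply, ← hc a ha _ b.2, MulAut.mul_apply]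
    exact hm)⟩
  have hf : Function.Injective f := by
    intro b b' e
    have e' : (b : MulAut R) w = (b' : MulAut R) w := congrArg Subtype.val e
    by_contra hne
    have hd : (b : MulAut R)⁻¹ * b' ≠ 1 := fun h => hne (Subtype.ext (inv_mul_eq_one.mp h))
    refine hw ((hfix _ (P.mul_mem (P.inv_mem b.2) b'.2) hd).le ?_)
    show ((b : MulAut R)⁻¹ * b') w = w
    rw [MulAut.mul_apply, ← e', ← MulAut.mul_apply, inv_mul_cancel, MulAut.one_apply]
  have hle := Nat.card_le_card_of_injective f hf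
  have hlt : Nat.card {r : R // r ∉ fixSub a} + Nat.card ↥(fixSub a) = Nat.card R := by
    rw [add_comm, ← Nat.card_sum]
    exact Nat.card_congr (Equiv.sumCompl (fun r => r ∈ fixSub a))
  have hP3 : IsPGroup 3 ↥P := fun b => ⟨1, Subtype.ext (by
    show (b : MulAut R) ^ 3 ^ 1 = 1
    rw [pow_one]; exact h3 b b.2)⟩
  obtain ⟨k, hk⟩ := IsPGroup.iff_card.mp hP3
  rw [hk] at hle ⊢
  have hk2 : k < 2 := by
    by_contra hk2
    have := Nat.pow_le_pow_right (n := 3) (by norm_num) (show 2 ≤ k by omega)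
    omega
  interval_cases k <;> norm_num

end Small

/-! ### The squares of the core -/

variable {G : Type u} [Group G] [Finite G]

/-- The subgroup generated by the squares. -/
def sqs (Q : Subgroup G) : Subgroup G := Subgroup.closure ((fun q => q * q) '' (Q : Set G))

theorem sqs_le (Q : Subgroup G) : sqs Q ≤ Q := by
  rw [sqs, Subgroup.closure_le]
  rintro _ ⟨q, hq, rfl⟩
  exact Q.mul_mem hq hq

theorem sq_mem_sqs {Q : Subgroup G} {q : G} (hq : q ∈ Q) : q * q ∈ sqs Q := Subgroup.subset_closure ⟨q, hq, rfl⟩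

theorem conj_sqs {Q : Subgroup G} {g a : G} (hg : g ∈ Subgroup.normalizer (Q : Set G)) (ha : a ∈ sqs Q) :
    g * a * g⁻¹ ∈ sqs Q := by
  induction ha using Subgroup.closure_induction with
  | mem x hx =>
    obtain ⟨q, hq, rfl⟩ := hx
    show g * (q * q) * g⁻¹ ∈ sqs Q
    rw [show g * (q * q) * g⁻¹ = g * q * g⁻¹ * (g * q * g⁻¹) by group]
    exact sq_mem_sqs (conj_norm hg hq)
  | one => rw [mul_one, mul_inv_cancel]; exact one_mem _
  | mul x x' _ _ h1 h2 => rw [show g * (x * x') * g⁻¹ = g * x * g⁻¹ * (g * x' * g⁻¹) by group]; exact mul_mem h1 h2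
  | inv x _ h1 => rw [show g * x⁻¹ * g⁻¹ = (g * x * g⁻¹)⁻¹ by group]; exact inv_mem h1

theorem comm_sqs {Q : Subgroup G} {a b : G} (ha : a ∈ Q) (hb : b ∈ Q) : a * b * a⁻¹ * b⁻¹ ∈ sqs Q := by
  rw [show a * b * a⁻¹ * b⁻¹ = a * a * ((a⁻¹ * b) * (a⁻¹ * b)) * (b⁻¹ * b⁻¹) by group]
  exact mul_mem (mul_mem (sq_mem_sqs ha) (sq_mem_sqs (Q.mul_mem (Q.inv_mem ha) hb))) (sq_mem_sqs (Q.inv_mem hb))

instance sqs_normal (Q : Subgroup G) : ((sqs Q).subgroupOf Q).Normal :=
  ⟨fun n hn g => conj_sqs (Subgroup.le_normalizer g.2) hn⟩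

/-- The core modulo its squares. -/
abbrev Top (Q : Subgroup G) : Type u := ↥Q ⧸ (sqs Q).subgroupOf Q

theorem top_sq {Q : Subgroup G} (r : Top Q) : r * r = 1 := by
  obtain ⟨q, rfl⟩ := QuotientGroup.mk_surjective r
  rw [← QuotientGroup.mk_mul, QuotientGroup.eq_one_iff]
  exact sq_mem_sqs q.2

theorem top_eq {Q : Subgroup G} {a b : G} (ha : a ∈ Q) (hb : b ∈ Q) :
    ((⟨a, ha⟩ : ↥Q) : Top Q) = ((⟨b, hb⟩ : ↥Q) : Top Q) ↔ a⁻¹ * b ∈ sqs Q := QuotientGroup.eq

theorem top_one {Q : Subgroup G} {a : G} (ha : a ∈ Q) : ((⟨a, ha⟩ : ↥Q) : Top Q) = 1 ↔ a ∈ sqs Q :=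
  QuotientGroup.eq_one_iff _

theorem card_top_mul (Q : Subgroup G) : Nat.card Q = Nat.card (Top Q) * Nat.card ↥(sqs Q) := by
  rw [Subgroup.card_eq_card_quotient_mul_card_subgroup ((sqs Q).subgroupOf Q),
    Nat.card_congr (Subgroup.subgroupOfEquivOfLe (sqs_le Q)).toEquiv]

section Action

variable {Q M : Subgroup G} (hn : M ≤ Subgroup.normalizer (Q : Set G))

/-- Conjugation on the core modulo its squares. -/
noncomputable def actMap (m : ↥M) : MulAut (Top Q) :=
  QuotientGroup.congr _ _ (MulAut.conjNormal (H := Q.subgroupOf (Subgroup.normalizer (Q : Set G)))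
    (⟨m, hn m.2⟩ : ↥(Subgroup.normalizer (Q : Set G))) |>
      fun φ => ((Subgroup.subgroupOfEquivOfLe (Subgroup.le_normalizer (H := Q))).symm.trans φ).trans
        (Subgroup.subgroupOfEquivOfLe (Subgroup.le_normalizer (H := Q)))) (by
    ext a
    constructor
    · rintro ⟨b, hb, rfl⟩
      exact conj_sqs (hn m.2) hb
    · intro ha
      refine ⟨⟨(m : G)⁻¹ * a * m, by simpa using conj_norm (Subgroup.inv_mem _ (hn m.2)) a.2⟩, ?_, ?_⟩
      · exact Subgroup.mem_subgroupOf.mpr (by simpa using conj_sqs (Subgroup.inv_mem _ (hn m.2)) ha)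
      · refine Subtype.ext ?_
        show (m : G) * ((m : G)⁻¹ * a * m) * (m : G)⁻¹ = a
        group)

theorem actMap_apply (m : ↥M) {a : G} (ha : a ∈ Q) :
    actMap hn m ((⟨a, ha⟩ : ↥Q) : Top Q) = ((⟨m * a * (m : G)⁻¹, conj_norm (hn m.2) ha⟩ : ↥Q) : Top Q) := rfl

/-- The action as a homomorphism. -/
noncomputable def actHom : ↥M →* MulAut (Top Q) where
  toFun := actMap hn
  map_one' := MulEquiv.ext fun r => by
    obtain ⟨⟨a, ha⟩, rfl⟩ := QuotientGroup.mk_surjective r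
    rw [actMap_apply, MulAut.one_apply]
    exact congrArg _ (Subtype.ext (by simp))
  map_mul' := fun m m' => MulEquiv.ext fun r => by
    obtain ⟨⟨a, ha⟩, rfl⟩ := QuotientGroup.mk_surjective r
    rw [MulAut.mul_apply, actMap_apply, actMap_apply, actMap_apply]
    exact congrArg _ (Subtype.ext (by simp [mul_assoc]))

theorem actHom_apply (m : ↥M) {a : G} (ha : a ∈ Q) :
    actHom hn m ((⟨a, ha⟩ : ↥Q) : Top Q) = ((⟨m * a * (m : G)⁻¹, conj_norm (hn m.2) ha⟩ : ↥Q) : Top Q) := rfl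

end Action

/-! ### The top of `M` -/

variable {S : Sylow 2 G} {M : Subgroup G}

/-- An element acting trivially lies in the core. -/
theorem ker_act (h : Conf S M) {m : ↥M} :
    actHom (le_normalizer_core M) m = 1 ↔ (m : G) ∈ pCoreOf 2 M := by
  haveI : Fact (Nat.Prime 2) := ⟨Nat.prime_two⟩
  set Q := pCoreOf 2 M with hQ
  set ρ := actHom (Q := Q) (le_normalizer_core M)
  have hQker : ∀ x : ↥M, (x : G) ∈ Q → ρ x = 1 := fun x hx => MulEquiv.ext fun r => by
    obtain ⟨⟨a, ha⟩, rfl⟩ := QuotientGroup.mk_surjective r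
    rw [actHom_apply, MulAut.one_apply, top_eq]
    have := inv_mem (comm_sqs hx ha)
    have h2 := conj_sqs (Subgroup.le_normalizer (Q.inv_mem ha)) this
    rwa [show a⁻¹ * ((x : G) * a * (x : G)⁻¹ * a⁻¹)⁻¹ * a⁻¹⁻¹ = ((x : G) * a * (x : G)⁻¹)⁻¹ * a by group] at h2
  refine ⟨fun hm => ?_, hQker m⟩
  have hker2 : IsPGroup 2 ↥(ρ.ker.map M.subtype) := isPGroup_two_of_no_odd fun y hy hyo => by
    obtain ⟨x, hx, rfl⟩ := hy
    refine eq_one_of_odd_mem (core_two M) hyo (cent_core h fun q hq => ?_)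
    have hcop : (Nat.card (Subgroup.zpowers (x : G))).Coprime (Nat.card (frattini ↥Q)) := by
      obtain ⟨k, hk⟩ := IsPGroup.iff_card.mp ((core_two M).to_subgroup (frattini ↥Q))
      rw [Nat.card_zpowers, hk]
      exact (Nat.coprime_two_right.mpr hyo).pow_right k
    have := CfsgLib.centralize_of_trivial_mod_frattini (A := Subgroup.zpowers (x : G)) (K := Q)
      ((Subgroup.zpowers_le.mpr x.2).trans (le_normalizer_core M)) hcop (fun a ha k hk => by
        obtain ⟨i, rfl⟩ := ha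
        have h1 : ρ (x ^ i) = 1 := by rw [map_zpow, MonoidHom.mem_ker.mp hx, one_zpow]
        have h2 := DFunLike.congr_fun h1 ((⟨k, hk⟩ : ↥Q) : Top Q)
        rw [actHom_apply, MulAut.one_apply] at h2
        have h3 := (top_eq _ _).mp h2.symm
        have hle : sqs Q ≤ (frattini ↥Q).map Q.subtype := by
          rw [sqs, Subgroup.closure_le]
          rintro _ ⟨c, hc, rfl⟩
          exact ⟨(⟨c, hc⟩ : ↥Q) ^ 2, CfsgLib.pow_mem_frattini_pGroup (core_two M) _, pow_two c⟩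
        have h4 := conj_sqs (Subgroup.le_normalizer hk) h3
        refine hle ?_
        convert h4 using 1
        simp only [Subgroup.coe_zpow]
        group)
    exact (Subgroup.mem_centralizer_iff.mp (this (Subgroup.mem_zpowers _)) q hq)
  refine le_core hker2 (Subgroup.map_subtype_le _) ?_ ⟨m, hm, rfl⟩
  intro g hg
  refine Subgroup.le_normalizer_map M.subtype ⟨⟨g, hg⟩, ?_, rfl⟩
  rw [Subgroup.normalizer_eq_top]; exact Subgroup.mem_top _

/-- The facts about the top. -/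
structure TopData (S : Sylow 2 G) (M : Subgroup G) (y : ↥M) : Prop where
  small : Nat.card (Top (pCoreOf 2 M)) ≤ 8
  y3 : actHom (Q := pCoreOf 2 M) (le_normalizer_core M) y ^ 3 = 1
  y_ne : actHom (Q := pCoreOf 2 M) (le_normalizer_core M) y ≠ 1
  conj : ∀ m : ↥M,
    actHom (Q := pCoreOf 2 M) (le_normalizer_core M) (m * y * m⁻¹) =
      actHom (Q := pCoreOf 2 M) (le_normalizer_core M) y ∨
    actHom (Q := pCoreOf 2 M) (le_normalizer_core M) (m * y * m⁻¹) =
      (actHom (Q := pCoreOf 2 M) (le_normalizer_core M) y)⁻¹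
  flip : ∀ s : ↥M, (s : G) ∈ (S : Subgroup G) → (s : G) ∉ pCoreOf 2 M →
    actHom (Q := pCoreOf 2 M) (le_normalizer_core M) (s * y * s⁻¹) =
      (actHom (Q := pCoreOf 2 M) (le_normalizer_core M) y)⁻¹
  index : ∀ a ∈ (S : Subgroup G), ∀ b ∈ (S : Subgroup G), a ∉ pCoreOf 2 M → b ∉ pCoreOf 2 M → a⁻¹ * b ∈ pCoreOf 2 M

/-- `M` is generated by its odd part and the Sylow subgroup. -/
theorem exists_odd_part (h : Conf S M) : ∃ N : Subgroup G, pCoreOf 2 M ≤ N ∧ N ≤ M ∧
    M ≤ Subgroup.normalizer (N : Set G) ∧ (∀ a ∈ N, a ∈ (S : Subgroup G) → a ∈ pCoreOf 2 M) ∧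
    M = N ⊔ (S : Subgroup G) ∧ (∀ a ∈ N, ∀ b ∈ N, ⁅a, b⁆ ∈ pCoreOf 2 M) ∧ ∀ a ∈ N, a ^ 15 ∈ pCoreOf 2 M := by
  haveI : Fact (Nat.Prime 2) := ⟨Nat.prime_two⟩
  obtain ⟨N, hQN, hNM, hn, hodd, htwo, -, -, hsec⟩ := (good h).exists_oddPre h.hard.sect
  obtain ⟨s, hs, hsQ⟩ := exists_not_mem_core h
  obtain ⟨k, hk⟩ := S.2 ⟨s, hs⟩
  obtain ⟨-, hcomm, h15⟩ := hsec ⟨s, S_le h hs, hsQ, k, by
    rw [show s ^ 2 ^ k = 1 from congrArg Subtype.val hk]; exact one_mem _⟩
  refine ⟨N, hQN, hNM, hn, fun a ha haS => ?_, ?_, hcomm, h15⟩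
  · obtain ⟨j, hj⟩ := S.2 ⟨a, haS⟩
    exact htwo a ha ⟨j, by rw [show a ^ 2 ^ j = 1 from congrArg Subtype.val hj]; exact one_mem _⟩
  · refine le_antisymm ?_ (sup_le hNM (S_le h))
    set X := N ⊔ (S : Subgroup G) with hX
    -- the index is odd and a power of two
    have h1 : ¬ 2 ∣ X.relIndex M := fun hd =>
      S.not_dvd_index (hd.trans ((Subgroup.relIndex_dvd_of_le_left M (le_sup_right : (S : Subgroup G) ≤ X)).trans
        (Dvd.intro M.index (Subgroup.relIndex_mul_index (S_le h)))))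
    haveI : (N.subgroupOf M).Normal := Subgroup.normal_subgroupOf_of_le_normalizer hn
    have hq : IsPGroup 2 (↥M ⧸ N.subgroupOf M) := by
      intro x
      obtain ⟨⟨m, hm⟩, rfl⟩ := QuotientGroup.mk_surjective x
      obtain ⟨e, u, hu, hord⟩ := Nat.exists_eq_two_pow_mul_odd (orderOf_pos m).ne'
      refine ⟨e, ?_⟩
      rw [← QuotientGroup.mk_pow, QuotientGroup.eq_one_iff]
      refine Subgroup.mem_subgroupOf.mpr ?_
      show m ^ 2 ^ e ∈ N
      refine hodd _ (M.pow_mem hm _) ?_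
      rw [orderOf_pow' m (by norm_num), hord, Nat.gcd_eq_right (Dvd.intro u rfl), Nat.mul_div_cancel_left u (by positivity)]
      exact hu
    obtain ⟨j, hj⟩ := IsPGroup.iff_card.mp hq
    have h2 : X.relIndex M ∣ 2 ^ j := by
      rw [← hj, ← Subgroup.index_eq_card]
      exact Subgroup.relIndex_dvd_of_le_left M le_sup_left
    have h3 : X.relIndex M = 1 := by
      obtain ⟨i, -, hi⟩ := (Nat.dvd_prime_pow Nat.prime_two).mp h2
      rcases i with _ | i
      · simpa using hi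
      · exact absurd (hi ▸ dvd_pow_self 2 (Nat.succ_ne_zero i)) h1
    exact Subgroup.relIndex_eq_one.mp h3

/-- The top is the symmetric group of degree three. -/
theorem top_data (h : Conf S M) (h8 : Nat.card (Top (pCoreOf 2 M)) ≤ 8) : ∃ y : ↥M, TopData S M y := by
  haveI : Fact (Nat.Prime 2) := ⟨Nat.prime_two⟩
  haveI : Fact (Nat.Prime 3) := ⟨Nat.prime_three⟩
  obtain ⟨N, hQN, hNM, hn, hNS, hgen, hcomm, h15⟩ := exists_odd_part h
  set ρ := actHom (Q := pCoreOf 2 M) (le_normalizer_core M) with hρ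
  have hker := fun (m : ↥M) => ker_act h (m := m)
  have h3 : ∀ n : ↥M, (n : G) ∈ N → ρ n ^ 3 = 1 := fun n hn' =>
    five_trivial top_sq h8 (by
      rw [← pow_mul, show (3 : ℕ) * 5 = 15 by norm_num, ← map_pow]
      exact (hker _).mpr (by simpa using h15 n hn'))
  set P := (N.subgroupOf M).map ρ with hP
  have hP3 : Nat.card P ≤ 3 := by
    refine card_le_three top_sq h8 P ?_ ?_
    · rintro _ ⟨a, ha, rfl⟩ _ ⟨b, hb, rfl⟩
      rw [← commutatorElement_eq_one_iff_mul_comm, ← map_commutatorElement]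
      exact (hker _).mpr (hcomm a ha b hb)
    · rintro _ ⟨a, ha, rfl⟩
      exact h3 a ha
  obtain ⟨y, hy, hy1⟩ : ∃ y : ↥M, (y : G) ∈ N ∧ ρ y ≠ 1 := by
    by_contra hno
    push Not at hno
    have hle : N ≤ (S : Subgroup G) := fun a ha => core_le_S h ((hker ⟨a, hNM ha⟩).mp (hno _ ha))
    have hMS : M = (S : Subgroup G) := by rw [hgen, sup_eq_right.mpr hle]
    exact h.moved (((centZ_le h).trans hMS.le).trans Subgroup.le_normalizer)
  haveI : Finite (MulAut (Top (pCoreOf 2 M))) :=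
    Finite.of_injective (fun σ : MulAut (Top (pCoreOf 2 M)) => (σ : Top (pCoreOf 2 M) → Top (pCoreOf 2 M)))
      DFunLike.coe_injective
  have hyP : ρ y ∈ P := ⟨y, hy, rfl⟩
  have hPc : ∀ b ∈ P, b = 1 ∨ b = ρ y ∨ b = (ρ y)⁻¹ := by
    intro b hb
    have hz : Subgroup.zpowers (ρ y) = P := by
      refine Subgroup.eq_of_le_of_card_ge (Subgroup.zpowers_le.mpr hyP) ?_
      rw [Nat.card_zpowers, orderOf_eq_prime (h3 y hy) hy1]
      exact hP3
    rw [← hz] at hb
    obtain ⟨k, rfl⟩ := hb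
    have hk : ρ y ^ k = ρ y ^ (k % 3) := by
      conv_lhs => rw [← Int.emod_add_mul_ediv k 3, zpow_add, zpow_mul, show ρ y ^ (3 : ℤ) = 1 by
        rw [show (3 : ℤ) = ((3 : ℕ) : ℤ) by rfl, zpow_natCast, h3 y hy], one_zpow, mul_one]
    simp only [hk]
    rcases (show k % 3 = 0 ∨ k % 3 = 1 ∨ k % 3 = 2 by omega) with e | e | e <;> rw [e]
    · exact Or.inl (zpow_zero _)
    · exact Or.inr (Or.inl (zpow_one _))
    · refine Or.inr (Or.inr ?_)
      rw [eq_inv_iff_mul_eq_one, show (2 : ℤ) = ((2 : ℕ) : ℤ) by rfl, zpow_natCast, ← pow_succ, h3 y hy]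
  have hconjP : ∀ m : ↥M, ρ (m * y * m⁻¹) ∈ P := fun m =>
    ⟨m * y * m⁻¹, show ((m * y * m⁻¹ : ↥M) : G) ∈ N from conj_norm (hn m.2) hy, rfl⟩
  have hyo : ∀ m : ↥M, ρ (m * y * m⁻¹) ≠ 1 := fun m e => hy1 (by
    rw [map_mul, map_mul, map_inv, mul_inv_eq_one] at e
    exact mul_eq_left.mp e)
  -- the centraliser of the odd part
  set C : Subgroup G := ((Subgroup.centralizer ({ρ y} : Set (MulAut (Top (pCoreOf 2 M))))).comap ρ).map M.subtype
    ⊓ (S : Subgroup G) with hC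
  have hCQ : C ≤ pCoreOf 2 M := by
    refine le_core (S.2.to_le inf_le_right) (inf_le_right.trans (S_le h)) ?_
    rw [hgen]
    refine sup_le (le_norm fun n hn' c hc => ?_) (le_norm fun s hs c hc => ⟨?_, ?_⟩)
    · -- `c` commutes with the odd part modulo the core
      obtain ⟨⟨c', hc', rfl⟩, hcS⟩ := hc
      have hcy := Subgroup.mem_centralizer_singleton_iff.mp (Subgroup.mem_comap.mp hc')
      set n' : ↥M := ⟨n, hNM hn'⟩ with hn''
      have hcn : ρ (n' * c' * n'⁻¹ * c'⁻¹) = 1 := by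
        rw [map_mul, map_mul, map_mul, map_inv, map_inv]
        have hcom : ρ c' * ρ n' = ρ n' * ρ c' := by
          rcases hPc (ρ n') ⟨n', hn', rfl⟩ with e | e | e <;> rw [e]
          · rw [mul_one, one_mul]
          · exact hcy
          · exact (Commute.inv_right (hcy : Commute (ρ c') (ρ y))).eq
        rw [mul_inv_eq_one, mul_inv_eq_iff_eq_mul]
        exact hcom.symm
      have hq := (hker _).mp hcn
      have hmem : n * (c' : G) * n⁻¹ = n * (c' : G) * n⁻¹ * (c' : G)⁻¹ * c' := by group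
      refine ⟨⟨n' * c' * n'⁻¹, ?_, rfl⟩, ?_⟩
      · refine Subgroup.mem_comap.mpr (Subgroup.mem_centralizer_singleton_iff.mpr ?_)
        have e1 : ρ (n' * c' * n'⁻¹) = ρ c' := by
          rw [map_mul, map_mul, map_inv] at *
          rw [map_mul, map_inv, mul_inv_eq_one] at hcn
          exact hcn
        rw [e1]; exact hcy
      · show n * (c' : G) * n⁻¹ ∈ (S : Subgroup G)
        rw [hmem]
        exact mul_mem (core_le_S h hq) hcS
    · obtain ⟨⟨c', hc', rfl⟩, -⟩ := hc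
      set s' : ↥M := ⟨s, S_le h hs⟩
      refine ⟨s' * c' * s'⁻¹, ?_, rfl⟩
      refine Subgroup.mem_comap.mpr (Subgroup.mem_centralizer_singleton_iff.mpr ?_)
      have hcy := Subgroup.mem_centralizer_singleton_iff.mp (Subgroup.mem_comap.mp hc')
      have hcy' : ρ c' * ρ (s'⁻¹ * y * s') = ρ (s'⁻¹ * y * s') * ρ c' := by
        have hm := hPc _ (hconjP s'⁻¹)
        rw [inv_inv] at hm
        rcases hm with e | e | e <;> rw [e]
        · rw [mul_one, one_mul]
        · exact hcy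
        · exact (Commute.inv_right (hcy : Commute (ρ c') (ρ y))).eq
      calc ρ (s' * c' * s'⁻¹) * ρ y = ρ s' * (ρ c' * ρ (s'⁻¹ * y * s')) * (ρ s')⁻¹ := by
            simp only [map_mul, map_inv]; group
        _ = ρ y * ρ (s' * c' * s'⁻¹) := by rw [hcy']; simp only [map_mul, map_inv]; group
    · exact (S : Subgroup G).mul_mem ((S : Subgroup G).mul_mem hs hc.2) ((S : Subgroup G).inv_mem hs)
  have hflip : ∀ s : ↥M, (s : G) ∈ (S : Subgroup G) → (s : G) ∉ pCoreOf 2 M →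
      ρ (s * y * s⁻¹) = (ρ y)⁻¹ := by
    intro s hs hsQ
    rcases hPc _ (hconjP s) with e | e | e
    · exact absurd e (hyo s)
    · refine absurd (hCQ ⟨⟨s, ?_, rfl⟩, hs⟩) hsQ
      refine Subgroup.mem_comap.mpr (Subgroup.mem_centralizer_singleton_iff.mpr ?_)
      rw [map_mul, map_mul, map_inv, mul_inv_eq_iff_eq_mul] at e
      exact e
    · exact e
  refine ⟨y, h8, h3 y hy, hy1, fun m => (hPc _ (hconjP m)).resolve_left (hyo m), hflip, fun a ha b hb haQ hbQ => ?_⟩
  refine hCQ ⟨⟨⟨a, S_le h ha⟩⁻¹ * ⟨b, S_le h hb⟩, ?_, rfl⟩, (S : Subgroup G).mul_mem ((S : Subgroup G).inv_mem ha) hb⟩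
  refine Subgroup.mem_comap.mpr (Subgroup.mem_centralizer_singleton_iff.mpr ?_)
  have e1 := hflip ⟨a, S_le h ha⟩ ha haQ
  have e2 := hflip ⟨b, S_le h hb⟩ hb hbQ
  rw [map_mul, map_mul, map_inv] at e1 e2
  rw [map_mul, map_inv]
  have e3 : (ρ ⟨a, S_le h ha⟩)⁻¹ * ρ ⟨b, S_le h hb⟩ * ρ y * ((ρ ⟨a, S_le h ha⟩)⁻¹ * ρ ⟨b, S_le h hb⟩)⁻¹ = ρ y := by
    calc _ = (ρ ⟨a, S_le h ha⟩)⁻¹ * (ρ ⟨b, S_le h hb⟩ * ρ y * (ρ ⟨b, S_le h hb⟩)⁻¹) * ρ ⟨a, S_le h ha⟩ := by group
      _ = ρ y := by rw [e2, ← e1]; group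
  exact mul_inv_eq_iff_eq_mul.mp e3

end CfsgLib.SRFour.CaseU
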