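import Mathlib
import Cfsg.Agent.Lib.SRFour.CaseUTop
import Cfsg.Agent.Lib.SRFour.CaseUFour
import Cfsg.Agent.Lib.PushRankOne.Module

/-!
Case U: involutions of the core with small centraliser.

Blueprint: `blueprint/S0517.md`, parcel CaseU, step 4.
-/

set_option autoImplicit false
set_option linter.unusedSectionVars false
set_option linter.style.haveILetI false

namespace CfsgLib.SRFour.CaseU

open Cfsg
open scoped commutatorElement

universe u

variable {G : Type u} [Group G] [Finite G]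

theorem top_comm {Q : Subgroup G} (a b : Top Q) : a * b = b * a := by
  have e : ∀ c : Top Q, c⁻¹ = c := fun c => inv_eq_of_mul_eq_one_right (top_sq c)
  calc a * b = (a * b)⁻¹ := (e _).symm
    _ = b * a := by rw [mul_inv_rev, e a, e b]

theorem conj_shift {Q : Subgroup G} {x q : G} (hx : x ∈ Q) (hq : q ∈ Q) : x⁻¹ * (q * x * q⁻¹) ∈ sqs Q := by
  have := comm_sqs (Q.inv_mem hx) hq
  rwa [show x⁻¹ * q * x⁻¹⁻¹ * q⁻¹ = x⁻¹ * (q * x * q⁻¹) by group] at this

/-- The index of the squares is at most the order of any centraliser. -/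
theorem class_bound {Q : Subgroup G} {x : G} (hx : x ∈ Q) :
    Nat.card (Top Q) ≤ Nat.card ↥(Q ⊓ Subgroup.centralizer ({x} : Set G)) ∧
      (Nat.card (Top Q) = Nat.card ↥(Q ⊓ Subgroup.centralizer ({x} : Set G)) →
        ∀ c ∈ sqs Q, ∃ q ∈ Q, q * x * q⁻¹ = x * c) := by
  classical
  set C := Q ⊓ Subgroup.centralizer ({x} : Set G) with hC
  let f : ↥Q ⧸ C.subgroupOf Q → ↥(sqs Q) := fun a => Quotient.liftOn' a
    (fun q => ⟨x⁻¹ * ((q : G) * x * (q : G)⁻¹), conj_shift hx q.2⟩) (by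
      intro a b hab
      rw [QuotientGroup.leftRel_apply] at hab
      have hc := Subgroup.mem_centralizer_singleton_iff.mp (Subgroup.mem_subgroupOf.mp hab).2
      simp only [Subgroup.coe_mul, InvMemClass.coe_inv] at hc
      refine Subtype.ext ?_
      show x⁻¹ * ((a : G) * x * (a : G)⁻¹) = x⁻¹ * ((b : G) * x * (b : G)⁻¹)
      calc x⁻¹ * ((a : G) * x * (a : G)⁻¹)
          = x⁻¹ * ((a : G) * (x * ((a : G)⁻¹ * (b : G))) * (b : G)⁻¹) := by group
        _ = x⁻¹ * ((b : G) * x * (b : G)⁻¹) := by rw [← hc]; group)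
  have hf : Function.Injective f := by
    intro p q hpq
    induction p using QuotientGroup.induction_on with
    | H a =>
    induction q using QuotientGroup.induction_on with
    | H b =>
    have e : x⁻¹ * ((a : G) * x * (a : G)⁻¹) = x⁻¹ * ((b : G) * x * (b : G)⁻¹) := congrArg Subtype.val hpq
    refine QuotientGroup.eq.mpr (Subgroup.mem_subgroupOf.mpr
      ⟨Q.mul_mem (Q.inv_mem a.2) b.2, Subgroup.mem_centralizer_singleton_iff.mpr ?_⟩)
    show (a : G)⁻¹ * (b : G) * x = x * ((a : G)⁻¹ * (b : G))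
    calc (a : G)⁻¹ * (b : G) * x = (a : G)⁻¹ * ((b : G) * x * (b : G)⁻¹) * (b : G) := by group
      _ = x * ((a : G)⁻¹ * (b : G)) := by rw [← mul_left_cancel e]; group
  have hq := Subgroup.card_eq_card_quotient_mul_card_subgroup (C.subgroupOf Q)
  rw [Nat.card_congr (Subgroup.subgroupOfEquivOfLe (inf_le_left : C ≤ Q)).toEquiv, card_top_mul Q] at hq
  refine ⟨?_, fun heq c hc => ?_⟩
  · have h1 := Nat.mul_le_mul_right (Nat.card C) (Nat.card_le_card_of_injective f hf)
    rw [← hq, mul_comm (Nat.card ↥(sqs Q))] at h1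
    exact Nat.le_of_mul_le_mul_right h1 Nat.card_pos
  · rw [heq, mul_comm] at hq
    have hcard := Nat.eq_of_mul_eq_mul_right Nat.card_pos hq
    obtain ⟨p, hp⟩ := (hf.bijective_of_nat_card_le hcard.le).2 ⟨c, hc⟩
    induction p using QuotientGroup.induction_on with
    | H a =>
    have e : x⁻¹ * ((a : G) * x * (a : G)⁻¹) = c := congrArg Subtype.val hp
    exact ⟨a, a.2, by rw [← e, mul_inv_cancel_left]⟩

/-- A fixed-point-free action of order three on four cosets. -/
theorem four_orbit {Q : Subgroup G} (h4 : Nat.card (Top Q) = 4) {σ : MulAut (Top Q)} (h3 : σ ^ 3 = 1) (h1 : σ ≠ 1)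
    {r : Top Q} (hr : r ≠ 1) (p : Top Q) : p = 1 ∨ p = r ∨ p = σ r ∨ p = σ (σ r) := by
  classical
  have hfix : ∀ q : Top Q, σ q = q → q = 1 := by
    intro q hq
    rcases three_fix top_sq (by omega) h3 h1 with ⟨-, e⟩ | ⟨e, -⟩
    · have hb := Subgroup.eq_bot_of_card_eq _ e
      have hm : q ∈ fixSub σ := hq
      rwa [hb, Subgroup.mem_bot] at hm
    · omega
  have h33 : σ (σ (σ r)) = r := by
    have := DFunLike.congr_fun h3 r
    rwa [show σ ^ 3 = σ * (σ * σ) by rw [pow_succ', pow_two]] at this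
  haveI := Fintype.ofFinite (Top Q)
  by_contra hne
  push Not at hne
  obtain ⟨p1, p2, p3, p4⟩ := hne
  have a1 : σ r ≠ 1 := fun e => hr (σ.injective (e.trans (map_one σ).symm))
  have a2 : σ (σ r) ≠ 1 := fun e => a1 (σ.injective (e.trans (map_one σ).symm))
  have b1 : σ r ≠ r := fun e => hr (hfix r e)
  have b2 : σ (σ r) ≠ σ r := fun e => b1 (σ.injective e)
  have b3 : σ (σ r) ≠ r := fun e => b1 (by rw [e] at h33; exact h33)
  let S5 : Finset (Top Q) := {1, r, σ r, σ (σ r), p}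
  have h5 : S5.card = 5 := by
    rw [Finset.card_insert_of_notMem, Finset.card_insert_of_notMem, Finset.card_insert_of_notMem,
      Finset.card_insert_of_notMem, Finset.card_singleton] <;>
      simp [Ne.symm hr, Ne.symm a1, Ne.symm a2, Ne.symm b1, Ne.symm b2, Ne.symm b3, Ne.symm p1, Ne.symm p2,
        Ne.symm p3, Ne.symm p4]
  have := S5.card_le_univ
  rw [← Nat.card_eq_fintype_card, h4] at this
  omega

theorem four_elems {V : Subgroup G} (hc : Nat.card V = 4) (hsq : ∀ a ∈ V, a * a = 1) {a b : G} (ha : a ∈ V)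
    (ha1 : a ≠ 1) (hb : b ∈ V) (hb1 : b ≠ 1) (hab : a ≠ b) {u : G} (hu : u ∈ V) :
    u = 1 ∨ u = a ∨ u = b ∨ u = a * b := by
  classical
  haveI := Fintype.ofFinite ↥V
  by_contra hne
  push Not at hne
  obtain ⟨h1, h2, h3, h4⟩ := hne
  have hab1 : a * b ≠ 1 := fun e => hab (by
    rw [eq_inv_of_mul_eq_one_left e, inv_eq_of_mul_eq_one_right (hsq b hb)])
  let S5 : Finset ↥V :=
    {⟨1, V.one_mem⟩, ⟨a, ha⟩, ⟨b, hb⟩, ⟨a * b, V.mul_mem ha hb⟩, ⟨u, hu⟩}
  have h5 : S5.card = 5 := by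
    rw [Finset.card_insert_of_notMem, Finset.card_insert_of_notMem, Finset.card_insert_of_notMem,
      Finset.card_insert_of_notMem, Finset.card_singleton] <;>
      simp [Subtype.ext_iff, Ne.symm h2, Ne.symm h3, Ne.symm h4, Ne.symm h1, hab, Ne.symm ha1,
        Ne.symm hb1, Ne.symm hab1, ha1, hb1]
  have := S5.card_le_univ
  rw [← Nat.card_eq_fintype_card, hc] at this
  omega

variable {S : Sylow 2 G} {M : Subgroup G}

/-- An involution of the core whose centraliser there has order four centralises nothing outside the core. -/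
theorem small_cent (h : Conf S M) {z x w : G} (hz : InZ (S : Subgroup G) z) (hz1 : z ≠ 1)
    (hx : x ∈ pCoreOf 2 M) (hxsq : x * x = 1) (hx1 : x ≠ 1) (hxz : x ≠ z) (hw : w ∈ (S : Subgroup G))
    (hwQ : w ∉ pCoreOf 2 M) (hwx : w * x = x * w)
    (hsmall : Nat.card ↥(pCoreOf 2 M ⊓ Subgroup.centralizer ({x} : Set G)) ≤ 4) : False := by
  classical
  set Q := pCoreOf 2 M with hQ
  obtain ⟨hle, heq⟩ := class_bound hx
  obtain ⟨y, T⟩ := top_data h (by rw [← hQ]; omega)
  have h4 : Nat.card (Top Q) = 4 := by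
    rcases three_fix top_sq T.small T.y3 T.y_ne with ⟨e, -⟩ | ⟨e, -⟩
    · exact e
    · rw [← hQ] at e; omega
  have hcls := heq (by omega)
  have hxΦ : x ∉ sqs Q := fun hxs => by
    obtain ⟨q, hq, e⟩ := hcls x hxs
    rw [hxsq] at e
    exact hx1 (conj_eq_one_iff.mp e)
  set r : Top Q := ((⟨x, hx⟩ : ↥Q) : Top Q) with hr
  have hr1 : r ≠ 1 := fun e => hxΦ ((top_one hx).mp e)
  set σ := actHom (Q := Q) (le_normalizer_core M) y with hσ
  -- elements outside the squares are involutions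
  have hinv : ∀ a : ↥Q, (a : G) ∉ sqs Q → (a : G) * a = 1 := by
    have key : ∀ a : ↥Q, ((a : ↥Q) : Top Q) = r → (a : G) * a = 1 := by
      intro a ha
      have hc : x⁻¹ * (a : G) ∈ sqs Q := (top_eq hx a.2).mp ha.symm
      obtain ⟨q, -, e⟩ := hcls _ hc
      rw [mul_inv_cancel_left] at e
      rw [← e]; exact conj_sq hxsq
    have key2 : ∀ a : ↥Q, ∀ p : Top Q, (∀ b : ↥Q, ((b : ↥Q) : Top Q) = p → (b : G) * b = 1) →
        ((a : ↥Q) : Top Q) = σ p → (a : G) * a = 1 := by
      intro a p hp ha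
      have hmem : (y : G)⁻¹ * a * y ∈ Q := by simpa using conj_mem_core (M.inv_mem y.2) a.2
      have h1 : ((⟨_, hmem⟩ : ↥Q) : Top Q) = p := by
        refine σ.injective ?_
        rw [← ha, hσ, actHom_apply]
        exact congrArg _ (Subtype.ext (by group))
      have h2 := hp _ h1
      have h3 := conj_sq (g := (y : G)) h2
      rwa [show (y : G) * ((y : G)⁻¹ * (a : G) * y) * (y : G)⁻¹ = a by group] at h3
    intro a ha
    rcases four_orbit h4 T.y3 T.y_ne hr1 ((a : ↥Q) : Top Q) with e | e | e | e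
    · exact absurd ((top_one a.2).mp e) ha
    · exact key a e
    · exact key2 a r key e
    · exact key2 a (σ r) (fun b hb => key2 b r key hb) e
  obtain ⟨⟨b, hb⟩, hbr⟩ := QuotientGroup.mk_surjective (σ r)
  have hbΦ : b ∉ sqs Q := fun hm => hr1 (σ.injective (by rw [← hbr, map_one]; exact (top_one hb).mpr hm))
  have hxbΦ : x * b ∉ sqs Q := fun hm => by
    have e : r * σ r = 1 := by
      rw [← hbr, hr, ← QuotientGroup.mk_mul]; exact (top_one (Q.mul_mem hx hb)).mpr hm
    have e2 : σ r = r := by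
      rw [← inv_eq_of_mul_eq_one_right e]
      exact inv_eq_of_mul_eq_one_right (top_sq r)
    have hm' : r ∈ fixSub σ := e2
    rcases three_fix top_sq T.small T.y3 T.y_ne with ⟨-, hc⟩ | ⟨hc, -⟩
    · rw [Subgroup.eq_bot_of_card_eq _ hc, Subgroup.mem_bot] at hm'
      exact hr1 hm'
    · rw [← hQ] at hc; omega
  -- the squares are inverted by all three
  have hinvert : ∀ a ∈ Q, a ∉ sqs Q → ∀ c ∈ sqs Q, a * c * a⁻¹ = c⁻¹ := by
    intro a ha haΦ c hc
    have hsq := hinv ⟨a * c, Q.mul_mem ha (sqs_le Q hc)⟩ (fun hm => haΦ (by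
      simpa using (sqs Q).mul_mem hm ((sqs Q).inv_mem hc)))
    have ha2 := hinv ⟨a, ha⟩ haΦ
    rw [inv_eq_of_mul_eq_one_right ha2]
    calc a * c * a = a * c * (a * c) * c⁻¹ := by group
      _ = c⁻¹ := by rw [hsq, one_mul]
  have hPhi : ∀ c ∈ sqs Q, c * c = 1 := by
    intro c hc
    have e1 := hinvert _ (Q.mul_mem hx hb) hxbΦ c hc
    rw [show x * b * c * (x * b)⁻¹ = x * (b * c * b⁻¹) * x⁻¹ by group, hinvert b hb hbΦ c hc,
      hinvert x hx hxΦ c⁻¹ ((sqs Q).inv_mem hc), inv_inv] at e1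
    nth_rewrite 2 [e1]
    exact mul_inv_cancel c
  have hexp : ∀ a ∈ Q, a * a = 1 := fun a ha => by
    by_cases haΦ : a ∈ sqs Q
    · exact hPhi a haΦ
    · exact hinv ⟨a, ha⟩ haΦ
  have hbot : sqs Q = ⊥ := by
    rw [eq_bot_iff, sqs, Subgroup.closure_le]
    rintro _ ⟨q, hq, rfl⟩
    exact hexp q hq
  have hcard : Nat.card Q = 4 := by rw [card_top_mul Q, h4, hbot, Subgroup.card_bot]
  have hzQ : z ∈ Q := inZ_mem_core h hz
  -- `w` centralises the core
  refine hwQ (cent_core h fun q hq => ?_)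
  rcases four_elems hcard hexp hx hx1 hzQ hz1 hxz hq with rfl | rfl | rfl | rfl
  · rw [mul_one, one_mul]
  · exact hwx.symm
  · exact (hz.2.2 w hw).symm
  · exact (Commute.mul_left (hwx.symm : Commute x w) (hz.2.2 w hw).symm).eq

end CfsgLib.SRFour.CaseU

namespace CfsgLib.SRFour.CaseU

open Cfsg
open scoped commutatorElement

universe u

variable {G : Type u} [Group G] [Finite G] {S : Sylow 2 G} {M : Subgroup G}

/-- An involution outside with centraliser of order two in the core. -/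
theorem card_top_of_outer {Q : Subgroup G} {v : G} (hv : v * v = 1) (hn : v ∈ Subgroup.normalizer (Q : Set G))
    (hsmall : Nat.card ↥(Q ⊓ Subgroup.centralizer ({v} : Set G)) ≤ 2) : Nat.card (Top Q) ≤ 4 := by
  classical
  set C := Q ⊓ Subgroup.centralizer ({v} : Set G) with hC
  set α := actHom (Q := Q) (le_refl (Subgroup.normalizer (Q : Set G))) ⟨v, hn⟩ with hα
  have hα2 : ∀ r, α (α r) = r := fun r => by
    rw [← MulAut.mul_apply, hα, ← map_mul, show (⟨v, hn⟩ : ↥(Subgroup.normalizer (Q : Set G))) * ⟨v, hn⟩ = 1 from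
      Subtype.ext hv, map_one, MulAut.one_apply]
  let τ : Top Q →* Top Q :=
    { toFun := fun r => r * α r
      map_one' := by rw [map_one, one_mul]
      map_mul' := fun a b => by
        rw [map_mul, mul_assoc, ← mul_assoc b, top_comm b (α a), mul_assoc, ← mul_assoc] }
  have hker : τ.ker = fixSub α := by
    ext r
    rw [MonoidHom.mem_ker]
    show r * α r = 1 ↔ α r = r
    constructor
    · intro e; rw [← inv_eq_of_mul_eq_one_right e]; exact inv_eq_of_mul_eq_one_right (top_sq r)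
    · intro e; rw [e, top_sq]
  have hrange : τ.range ≤ fixSub α := by
    rintro _ ⟨r, rfl⟩
    show α (r * α r) = r * α r
    rw [map_mul, hα2, top_comm]
  have hmul : Nat.card ↥τ.ker * Nat.card ↥τ.range = Nat.card (Top Q) := by
    rw [← τ.ker.card_mul_index, Subgroup.index_ker]
  -- the commutators with `v`
  set J := (τ.range.comap (QuotientGroup.mk' ((sqs Q).subgroupOf Q))) with hJ
  have hJc : Nat.card ↥J = Nat.card ↥τ.range * Nat.card ↥(sqs Q) := by
    have h1 := Subgroup.card_mul_index J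
    rw [Subgroup.index_comap_of_surjective _ (QuotientGroup.mk'_surjective _), card_top_mul Q,
      ← Subgroup.card_mul_index τ.range] at h1
    rw [mul_assoc, mul_comm τ.range.index, ← mul_assoc] at h1
    exact Nat.eq_of_mul_eq_mul_right (Nat.pos_of_ne_zero Subgroup.index_ne_zero_of_finite) h1
  have hmemQ : ∀ q : ↥Q, (q : G) * (v * (q : G)⁻¹ * v⁻¹) ∈ Q := fun q =>
    Q.mul_mem q.2 (conj_norm hn (Q.inv_mem q.2))
  let f : ↥Q ⧸ C.subgroupOf Q → ↥J := fun a => Quotient.liftOn' a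
    (fun q => ⟨⟨_, hmemQ q⟩, ⟨(q : Top Q), by
      show (q : Top Q) * α (q : Top Q) = _
      have e : (q : Top Q)⁻¹ = (q : Top Q) := inv_eq_of_mul_eq_one_right (top_sq _)
      conv_lhs => arg 2; rw [← e, map_inv]
      rw [hα, actHom_apply, ← QuotientGroup.mk_inv, ← QuotientGroup.mk_mul]
      exact congrArg _ (Subtype.ext (by simp [mul_assoc]))⟩⟩) (by
      intro a b hab
      rw [QuotientGroup.leftRel_apply] at hab
      have hc := Subgroup.mem_centralizer_singleton_iff.mp (Subgroup.mem_subgroupOf.mp hab).2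
      simp only [Subgroup.coe_mul, InvMemClass.coe_inv] at hc
      refine Subtype.ext (Subtype.ext ?_)
      show (a : G) * (v * (a : G)⁻¹ * v⁻¹) = (b : G) * (v * (b : G)⁻¹ * v⁻¹)
      calc (a : G) * (v * (a : G)⁻¹ * v⁻¹) = (a : G) * (v * ((a : G)⁻¹ * (b : G))) * ((b : G)⁻¹ * v⁻¹) := by group
        _ = (b : G) * (v * (b : G)⁻¹ * v⁻¹) := by rw [← hc]; group)
  have hf : Function.Injective f := by
    intro p q hpq
    induction p using QuotientGroup.induction_on with
    | H a =>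
    induction q using QuotientGroup.induction_on with
    | H b =>
    have e : (a : G) * (v * (a : G)⁻¹ * v⁻¹) = (b : G) * (v * (b : G)⁻¹ * v⁻¹) :=
      congrArg Subtype.val (congrArg Subtype.val hpq)
    refine QuotientGroup.eq.mpr (Subgroup.mem_subgroupOf.mpr
      ⟨Q.mul_mem (Q.inv_mem a.2) b.2, Subgroup.mem_centralizer_singleton_iff.mpr ?_⟩)
    show (a : G)⁻¹ * (b : G) * v = v * ((a : G)⁻¹ * (b : G))
    calc (a : G)⁻¹ * (b : G) * v = (a : G)⁻¹ * ((b : G) * (v * (b : G)⁻¹ * v⁻¹)) * (v * (b : G)) := by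
          group
      _ = v * ((a : G)⁻¹ * (b : G)) := by
        rw [← e]
        group
  have hq := Subgroup.card_eq_card_quotient_mul_card_subgroup (C.subgroupOf Q)
  rw [Nat.card_congr (Subgroup.subgroupOfEquivOfLe (inf_le_left : C ≤ Q)).toEquiv, card_top_mul Q] at hq
  have h1 : Nat.card (Top Q) * Nat.card ↥(sqs Q) ≤ 2 * Nat.card ↥τ.range * Nat.card ↥(sqs Q) := by
    rw [hq, show 2 * Nat.card ↥τ.range * Nat.card ↥(sqs Q) = Nat.card ↥J * 2 by rw [hJc]; ring]
    exact Nat.mul_le_mul (Nat.card_le_card_of_injective f hf) hsmall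
  have h2 := Nat.le_of_mul_le_mul_right h1 Nat.card_pos
  have h3 : Nat.card ↥τ.range ≤ Nat.card ↥τ.ker := hker ▸ Subgroup.card_le_of_le hrange
  have h4 : Nat.card ↥τ.range * Nat.card ↥τ.ker ≤ Nat.card ↥τ.range * 2 := by
    rw [mul_comm (Nat.card ↥τ.range), hmul, mul_comm (Nat.card ↥τ.range)]; exact h2
  have h5 := Nat.le_of_mul_le_mul_left h4 Nat.card_pos
  omega

/-- The core is not a quaternion-like group of order eight with two involutions. -/
theorem top_four_false (h : Conf S M) {z d : G} (hz : InZ (S : Subgroup G) z) (hz1 : z ≠ 1)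
    (hd : d ∈ pCoreOf 2 M) (hdsq : d * d = 1) (hd1 : d ≠ 1) (hdz : d ≠ z)
    (hC : Nat.card ↥(pCoreOf 2 M ⊓ Subgroup.centralizer ({d} : Set G)) = 8)
    (h4 : Nat.card (Top (pCoreOf 2 M)) = 4) : False := by
  classical
  haveI : Fact (Nat.Prime 2) := ⟨Nat.prime_two⟩
  set Q := pCoreOf 2 M with hQ
  obtain ⟨y, T⟩ := top_data h (by rw [← hQ]; omega)
  set σ := actHom (Q := Q) (le_normalizer_core M) y with hσ
  set Φ := sqs Q with hΦ
  set D := ⁅Q, Q⁆ with hD
  have hy : (y : G) ∈ Subgroup.normalizer (Q : Set G) := le_normalizer_core M y.2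
  have hcomm : ∀ {a b : G}, a ∈ Q → b ∈ Q → a * b * a⁻¹ * b⁻¹ ∈ D := fun ha hb => by
    have := Subgroup.commutator_mem_commutator ha hb
    rwa [commutatorElement_def] at this
  have hDΦ : D ≤ Φ := Subgroup.commutator_le.mpr fun a ha b hb => comm_sqs ha hb
  have hDQ : D ≤ Q := hDΦ.trans (sqs_le Q)
  -- the class of `d`
  have hclass : Nat.card Q ≤ 8 * Nat.card D := by
    have h1 : Nat.card ↥(Q ⊓ Subgroup.centralizer ({d} : Set G)) * Nat.card D ≥ Nat.card Q := by
      set C := Q ⊓ Subgroup.centralizer ({d} : Set G) with hCd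
      have hq := Subgroup.card_eq_card_quotient_mul_card_subgroup (C.subgroupOf Q)
      rw [Nat.card_congr (Subgroup.subgroupOfEquivOfLe (inf_le_left : C ≤ Q)).toEquiv] at hq
      let g : ↥Q ⧸ C.subgroupOf Q → ↥D := fun a =>
        ⟨d⁻¹ * ((a.out : G) * d * (a.out : G)⁻¹), by
          have := hcomm (Q.inv_mem hd) a.out.2
          rwa [show d⁻¹ * (a.out : G) * d⁻¹⁻¹ * (a.out : G)⁻¹ = d⁻¹ * ((a.out : G) * d * (a.out : G)⁻¹) by group] at this⟩
      have hg : Function.Injective g := by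
        intro p q hpq
        have e := mul_left_cancel (congrArg Subtype.val hpq : d⁻¹ * ((p.out : G) * d * (p.out : G)⁻¹) =
          d⁻¹ * ((q.out : G) * d * (q.out : G)⁻¹))
        rw [← QuotientGroup.out_eq' p, ← QuotientGroup.out_eq' q]
        refine QuotientGroup.eq.mpr (Subgroup.mem_subgroupOf.mpr
          ⟨Q.mul_mem (Q.inv_mem p.out.2) q.out.2, Subgroup.mem_centralizer_singleton_iff.mpr ?_⟩)
        show (p.out : G)⁻¹ * (q.out : G) * d = d * ((p.out : G)⁻¹ * (q.out : G))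
        calc (p.out : G)⁻¹ * (q.out : G) * d = (p.out : G)⁻¹ * ((q.out : G) * d * (q.out : G)⁻¹) * (q.out : G) := by group
          _ = d * ((p.out : G)⁻¹ * (q.out : G)) := by rw [← e]; group
      rw [hq, mul_comm (Nat.card ↥C)]
      exact Nat.mul_le_mul_right _ (Nat.card_le_card_of_injective g hg)
    rw [hC] at h1
    exact h1
  -- a transversal
  obtain ⟨r, hr⟩ : ∃ r : Top Q, r ≠ 1 := by
    haveI : Nontrivial (Top Q) := Finite.one_lt_card_iff_nontrivial.mp (by omega)
    exact exists_ne 1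
  obtain ⟨⟨a, ha⟩, har⟩ := QuotientGroup.mk_surjective r
  set b := (y : G) * a * (y : G)⁻¹ with hb
  set c' := (y : G) * b * (y : G)⁻¹ with hc'
  have hbQ : b ∈ Q := conj_norm hy ha
  have hc'Q : c' ∈ Q := conj_norm hy hbQ
  have hsr : ((⟨b, hbQ⟩ : ↥Q) : Top Q) = σ r := by rw [← har, hσ, actHom_apply]
  have hssr : ((⟨c', hc'Q⟩ : ↥Q) : Top Q) = σ (σ r) := by rw [← hsr, hσ, actHom_apply]
  have hcov : ∀ g ∈ Q, g ∈ Φ ∨ a⁻¹ * g ∈ Φ ∨ b⁻¹ * g ∈ Φ ∨ c'⁻¹ * g ∈ Φ := by
    intro g hg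
    rcases four_orbit h4 T.y3 T.y_ne hr ((⟨g, hg⟩ : ↥Q) : Top Q) with e | e | e | e
    · exact Or.inl ((top_one hg).mp e)
    · exact Or.inr (Or.inl ((top_eq ha hg).mp (har.trans e.symm)))
    · exact Or.inr (Or.inr (Or.inl ((top_eq hbQ hg).mp (hsr.trans e.symm))))
    · exact Or.inr (Or.inr (Or.inr ((top_eq hc'Q hg).mp (hssr.trans e.symm))))
  have hconjD : ∀ {g k : G}, g ∈ Subgroup.normalizer (Q : Set G) → k ∈ D → g * k * g⁻¹ ∈ D := by
    intro g k hg hk
    rw [hD, Subgroup.commutator_def] at hk ⊢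
    induction hk using Subgroup.closure_induction with
    | mem x hx =>
      obtain ⟨p, hp, q, hq, rfl⟩ := hx
      exact Subgroup.subset_closure ⟨g * p * g⁻¹, conj_norm hg hp, g * q * g⁻¹, conj_norm hg hq, by
        simp only [commutatorElement_def]; group⟩
    | one => rw [mul_one, mul_inv_cancel]; exact one_mem _
    | mul x x' _ _ h1 h2 => rw [show g * (x * x') * g⁻¹ = g * x * g⁻¹ * (g * x' * g⁻¹) by group]; exact mul_mem h1 h2
    | inv x _ h1 => rw [show g * x⁻¹ * g⁻¹ = (g * x * g⁻¹)⁻¹ by group]; exact inv_mem h1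
  -- `Φ` is at most twice the commutators
  have hidx : Nat.card Φ ≤ 2 * Nat.card D := by
    have := card_top_mul Q
    rw [h4, ← hΦ] at this
    omega
  have htwo : ∀ k ∈ Φ, ∀ k' ∈ Φ, k ∉ D → k' ∉ D → k⁻¹ * k' ∈ D := by
    intro k hk k' hk' hkD hk'D
    by_contra hne
    let f3 : Fin 3 × ↥D → ↥Φ := fun p =>
      ⟨(if p.1 = 0 then 1 else if p.1 = 1 then k else k') * p.2, Φ.mul_mem (by
        split_ifs
        · exact Φ.one_mem
        · exact hk
        · exact hk') (hDΦ p.2.2)⟩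
    have hf3 : Function.Injective f3 := by
      rintro ⟨i, p⟩ ⟨j, q⟩ e
      have e' := congrArg Subtype.val e
      have hpq : ∀ g : G, g * (p : G) = g * q → p = q := fun g hh => Subtype.ext (mul_left_cancel hh)
      simp only [f3] at e'
      fin_cases i <;> fin_cases j <;> simp at e'
      · simp [e']
      · exact absurd (by rw [eq_mul_inv_of_mul_eq e'.symm]; exact D.mul_mem p.2 (D.inv_mem q.2)) hkD
      · exact absurd (by rw [eq_mul_inv_of_mul_eq e'.symm]; exact D.mul_mem p.2 (D.inv_mem q.2)) hk'D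
      · exact absurd (by rw [eq_mul_inv_of_mul_eq e']; exact D.mul_mem q.2 (D.inv_mem p.2)) hkD
      · simp [e']
      · exact absurd (by
          rw [show k⁻¹ * k' = (p : G) * (q : G)⁻¹ by rw [eq_mul_inv_iff_mul_eq, mul_assoc, ← e', inv_mul_cancel_left]]
          exact D.mul_mem p.2 (D.inv_mem q.2)) hne
      · exact absurd (by rw [eq_mul_inv_of_mul_eq e']; exact D.mul_mem q.2 (D.inv_mem p.2)) hk'D
      · exact absurd (by
          rw [show k⁻¹ * k' = (q : G) * (p : G)⁻¹ by rw [eq_mul_inv_iff_mul_eq, mul_assoc, e', inv_mul_cancel_left]]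
          exact D.mul_mem q.2 (D.inv_mem p.2)) hne
      · simp [e']
    have := Nat.card_le_card_of_injective f3 hf3
    rw [Nat.card_prod, Nat.card_fin] at this
    have := Nat.card_pos (α := ↥D)
    omega
  -- all squares are commutators
  have hsqD : ∀ g ∈ Q, g * g ∈ D := by
    have hmulsq : ∀ {p q : G}, p ∈ Q → q ∈ Q → p * p ∈ D → q * q ∈ D → p * q * (p * q) ∈ D := by
      intro p q hp hq h1 h2
      rw [show p * q * (p * q) = p * p * (p⁻¹ * q * p⁻¹⁻¹ * q⁻¹) * (q * q) by group]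
      exact D.mul_mem (D.mul_mem h1 (hcomm (Q.inv_mem hp) hq)) h2
    have hΦsq : ∀ k ∈ Φ, k * k ∈ D := by
      intro k hk
      by_cases hkD : k ∈ D
      · exact D.mul_mem hkD hkD
      · have := htwo k⁻¹ (Φ.inv_mem hk) k hk (fun h' => hkD (by simpa using D.inv_mem h')) hkD
        simpa using this
    have hall : a * a ∈ D := by
      by_contra haD
      have hb2 : b * b ∉ D := fun hh => haD (by
        have := hconjD (Subgroup.inv_mem _ hy) hh
        rwa [hb, show (y : G)⁻¹ * ((y : G) * a * (y : G)⁻¹ * ((y : G) * a * (y : G)⁻¹)) * (y : G)⁻¹⁻¹ = a * a by group] at this)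
      have hc2 : c' * c' ∉ D := fun hh => hb2 (by
        have := hconjD (Subgroup.inv_mem _ hy) hh
        rwa [hc', show (y : G)⁻¹ * ((y : G) * b * (y : G)⁻¹ * ((y : G) * b * (y : G)⁻¹)) * (y : G)⁻¹⁻¹ = b * b by group] at this)
      have hab : a * b * c' ∈ Φ := by
        refine (top_one (Q.mul_mem (Q.mul_mem ha hbQ) hc'Q)).mp ?_
        rw [show (⟨a * b * c', _⟩ : ↥Q) = (⟨a, ha⟩ : ↥Q) * ⟨b, hbQ⟩ * ⟨c', hc'Q⟩ from rfl,
          QuotientGroup.mk_mul, QuotientGroup.mk_mul, har, hsr, hssr]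
        set p := r * σ r * σ (σ r) with hp
        have hfix : σ p = p := by
          have h33 : σ (σ (σ r)) = r := by
            have := DFunLike.congr_fun T.y3 r
            rwa [show σ ^ 3 = σ * (σ * σ) by rw [pow_succ', pow_two]] at this
          rw [hp, map_mul, map_mul, h33, top_comm _ r, ← mul_assoc]
        rcases three_fix top_sq T.small T.y3 T.y_ne with ⟨-, e⟩ | ⟨e, -⟩
        · have hm : p ∈ fixSub σ := hfix
          rwa [Subgroup.eq_bot_of_card_eq _ e, Subgroup.mem_bot] at hm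
        · rw [← hQ] at e; omega
      have h1 := htwo _ (sq_mem_sqs ha) _ (sq_mem_sqs hbQ) haD hb2
      have h2 := htwo _ (sq_mem_sqs ha) _ (sq_mem_sqs hc'Q) haD hc2
      have h3 := hΦsq _ hab
      have e1 : a * b * c' * (a * b * c') = (a * b) * (a * b) * ((a * b)⁻¹ * c' * (a * b)⁻¹⁻¹ * c'⁻¹) * (c' * c') := by
        group
      have e2 : (a * b) * (a * b) = a * a * (a⁻¹ * b * a⁻¹⁻¹ * b⁻¹) * (b * b) := by group
      rw [e1, e2] at h3
      set k1 := a⁻¹ * b * a⁻¹⁻¹ * b⁻¹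
      set k2 := (a * b)⁻¹ * c' * (a * b)⁻¹⁻¹ * c'⁻¹
      have hk1 : k1 ∈ D := hcomm (Q.inv_mem ha) hbQ
      have hk2 : k2 ∈ D := hcomm (Q.inv_mem (Q.mul_mem ha hbQ)) hc'Q
      have haa : a * a * (a * a) ∈ D := hΦsq _ (sq_mem_sqs ha)
      set A := a * a
      set u1 := A⁻¹ * (b * b) with hu1
      set u2 := A⁻¹ * (c' * c') with hu2
      have hAQ : A ∈ Subgroup.normalizer (Q : Set G) := Subgroup.le_normalizer (Q.mul_mem ha ha)
      have e3 : A * k1 * (b * b) * k2 * (c' * c') =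
          (A * k1 * A⁻¹) * (A * A * u1 * k2 * (A * A)⁻¹) * (A * A * A) * u2 := by
        rw [hu1, hu2]; group
      rw [e3] at h3
      have hin : (A * k1 * A⁻¹) * (A * A * u1 * k2 * (A * A)⁻¹) ∈ D := by
        refine D.mul_mem (hconjD hAQ hk1) ?_
        rw [show A * A * u1 * k2 * (A * A)⁻¹ = (A * A) * (u1 * k2) * (A * A)⁻¹ by group]
        exact hconjD (Subgroup.mul_mem _ hAQ hAQ) (D.mul_mem h1 hk2)
      have := D.mul_mem (D.mul_mem (D.inv_mem hin) h3) (D.inv_mem h2)
      have key : ∀ X Y Z : G, X⁻¹ * (X * Y * Z) * Z⁻¹ = Y := fun X Y Z => by group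
      rw [key] at this
      have h5 := D.mul_mem (D.inv_mem haa) this
      rw [show (A * A)⁻¹ * (A * A * A) = A by group] at h5
      exact haD h5
    have hb' : b * b ∈ D := by
      rw [hb, show (y : G) * a * (y : G)⁻¹ * ((y : G) * a * (y : G)⁻¹) = (y : G) * (a * a) * (y : G)⁻¹ by group]
      exact hconjD hy hall
    have hc'' : c' * c' ∈ D := by
      rw [hc', show (y : G) * b * (y : G)⁻¹ * ((y : G) * b * (y : G)⁻¹) = (y : G) * (b * b) * (y : G)⁻¹ by group]
      exact hconjD hy hb'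
    intro g hg
    rcases hcov g hg with hh | hh | hh | hh
    · exact hΦsq g hh
    · rw [show g = a * (a⁻¹ * g) by group]; exact hmulsq ha (sqs_le Q hh) hall (hΦsq _ hh)
    · rw [show g = b * (b⁻¹ * g) by group]; exact hmulsq hbQ (sqs_le Q hh) hb' (hΦsq _ hh)
    · rw [show g = c' * (c'⁻¹ * g) by group]; exact hmulsq hc'Q (sqs_le Q hh) hc'' (hΦsq _ hh)
  have hΦD : Φ = D := by
    refine le_antisymm ?_ hDΦ
    rw [hΦ, sqs, Subgroup.closure_le]
    rintro _ ⟨g, hg, rfl⟩
    exact hsqD g hg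
  -- the next two terms
  set N := ⁅D, Q⁆ with hN
  set N₁ := ⁅N, Q⁆ with hN₁
  have hQ2 : IsPGroup 2 ↥Q := core_two M
  have hND : N ≤ D := Subgroup.commutator_le.mpr fun p hp q hq => by
    rw [commutatorElement_def, show p * q * p⁻¹ * q⁻¹ = p * (q * p⁻¹ * q⁻¹) by group]
    exact D.mul_mem hp (hconjD (Subgroup.le_normalizer hq) (D.inv_mem hp))
  have hconjN : ∀ {g k : G}, g ∈ Subgroup.normalizer (Q : Set G) → k ∈ N → g * k * g⁻¹ ∈ N := by
    intro g k hg hk
    rw [hN, Subgroup.commutator_def] at hk ⊢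
    induction hk using Subgroup.closure_induction with
    | mem x hx =>
      obtain ⟨p, hp, q, hq, rfl⟩ := hx
      exact Subgroup.subset_closure ⟨g * p * g⁻¹, hconjD hg hp, g * q * g⁻¹, conj_norm hg hq, by
        simp only [commutatorElement_def]; group⟩
    | one => rw [mul_one, mul_inv_cancel]; exact one_mem _
    | mul x x' _ _ h1 h2 => rw [show g * (x * x') * g⁻¹ = g * x * g⁻¹ * (g * x' * g⁻¹) by group]; exact mul_mem h1 h2
    | inv x _ h1 => rw [show g * x⁻¹ * g⁻¹ = (g * x * g⁻¹)⁻¹ by group]; exact inv_mem h1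
  have hcommN : ∀ {p q : G}, p ∈ D → q ∈ Q → p * q * p⁻¹ * q⁻¹ ∈ N := fun hp hq => by
    have := Subgroup.commutator_mem_commutator hp hq
    rwa [commutatorElement_def] at this
  set c := a * b * a⁻¹ * b⁻¹ with hc
  have hcD : c ∈ D := hcomm ha hbQ
  have hK : ∀ g ∈ D, g ∈ N ⊔ Subgroup.zpowers c := by
    set K := N ⊔ Subgroup.zpowers c with hKdef
    have hKD : K ≤ D := sup_le hND (Subgroup.zpowers_le.mpr hcD)
    have hKn : ∀ g ∈ Q, ∀ k ∈ K, g * k * g⁻¹ ∈ K := by
      intro g hg k hk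
      have := K.mul_mem (Subgroup.mem_sup_left (hcommN (hKD hk) hg) : _ ∈ K) (Subgroup.one_mem K)
      rw [mul_one] at this
      have h2 := K.mul_mem (K.inv_mem this) hk
      rwa [show (k * g * k⁻¹ * g⁻¹)⁻¹ * k = g * k * g⁻¹ by group] at h2
    let Cen : G → Subgroup G := fun x =>
      { carrier := {g | g ∈ Q ∧ x * g * x⁻¹ * g⁻¹ ∈ K}
        one_mem' := ⟨Q.one_mem, by simp⟩
        mul_mem' := fun {p q} hp hq => ⟨Q.mul_mem hp.1 hq.1, by
          rw [show x * (p * q) * x⁻¹ * (p * q)⁻¹ = (x * p * x⁻¹ * p⁻¹) * (p * (x * q * x⁻¹ * q⁻¹) * p⁻¹) by group]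
          exact K.mul_mem hp.2 (hKn p hp.1 _ hq.2)⟩
        inv_mem' := fun {p} hp => ⟨Q.inv_mem hp.1, by
          rw [show x * p⁻¹ * x⁻¹ * p⁻¹⁻¹ = p⁻¹ * (x * p * x⁻¹ * p⁻¹)⁻¹ * p⁻¹⁻¹ by group]
          exact hKn _ (Q.inv_mem hp.1) _ (K.inv_mem hp.2)⟩ }
    have hrep : ∀ g ∈ Q, ∀ x ∈ Q, (x * a * x⁻¹ * a⁻¹ ∈ K) → (x * b * x⁻¹ * b⁻¹ ∈ K) → g ∈ Cen x := by
      intro g hg x hx hxa hxb
      have hDc : D ≤ Cen x := fun p hp => ⟨hDQ hp, by
        have := K.inv_mem (Subgroup.mem_sup_left (hcommN hp hx) : _ ∈ K)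
        rwa [show (p * x * p⁻¹ * x⁻¹)⁻¹ = x * p * x⁻¹ * p⁻¹ by group] at this⟩
      have haC : a ∈ Cen x := ⟨ha, hxa⟩
      have hbC : b ∈ Cen x := ⟨hbQ, hxb⟩
      have hab : (a * b)⁻¹ * c' ∈ Φ := by
        rcases hcov (a * b) (Q.mul_mem ha hbQ) with hh | hh | hh | hh
        · exfalso
          have e : r * σ r = 1 := by
            rw [← hsr, ← har, ← QuotientGroup.mk_mul]; exact (top_one (Q.mul_mem ha hbQ)).mpr hh
          have e2 : σ r = r := by rw [← inv_eq_of_mul_eq_one_right e]; exact inv_eq_of_mul_eq_one_right (top_sq r)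
          have e3 : σ (σ r) = r := by rw [e2, e2]
          rcases three_fix top_sq T.small T.y3 T.y_ne with ⟨-, e4⟩ | ⟨e4, -⟩
          · have hm : r ∈ fixSub σ := e2
            rw [Subgroup.eq_bot_of_card_eq _ e4, Subgroup.mem_bot] at hm
            exact hr hm
          · rw [← hQ] at e4; omega
        · exfalso
          rw [← mul_assoc, inv_mul_cancel, one_mul] at hh
          exact hr (σ.injective (by rw [← hsr, map_one]; exact (top_one hbQ).mpr hh))
        · exfalso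
          have e : σ r * (r * σ r) = 1 := by
            rw [← hsr, ← har, ← QuotientGroup.mk_mul, ← QuotientGroup.mk_mul]
            refine (top_one _).mpr ?_
            have e5 := Φ.mul_mem (sq_mem_sqs hbQ) hh
            rwa [show b * b * (b⁻¹ * (a * b)) = b * (a * b) by group] at e5
          rw [← mul_assoc, top_comm (σ r) r, mul_assoc, top_sq, mul_one] at e
          exact hr e
        · have := Φ.inv_mem hh
          rwa [show (c'⁻¹ * (a * b))⁻¹ = (a * b)⁻¹ * c' by group] at this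
      rcases hcov g hg with hh | hh | hh | hh
      · exact hDc (hΦD ▸ hh)
      · rw [show g = a * (a⁻¹ * g) by group]; exact mul_mem haC (hDc (hΦD ▸ hh))
      · rw [show g = b * (b⁻¹ * g) by group]; exact mul_mem hbC (hDc (hΦD ▸ hh))
      · rw [show g = a * b * (((a * b)⁻¹ * c') * (c'⁻¹ * g)) by group]
        exact mul_mem (mul_mem haC hbC) (mul_mem (hDc (hΦD ▸ hab)) (hDc (hΦD ▸ hh)))
    have hA : ∀ g ∈ Q, g ∈ Cen a := fun g hg => hrep g hg a ha (by
      rw [show a * a * a⁻¹ * a⁻¹ = (1 : G) by group]; exact one_mem _)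
      (Subgroup.mem_sup_right (Subgroup.mem_zpowers c))
    have hB : ∀ g ∈ Q, g ∈ Cen b := fun g hg => hrep g hg b hbQ (by
      rw [show b * a * b⁻¹ * a⁻¹ = c⁻¹ by rw [hc]; group]
      exact K.inv_mem (Subgroup.mem_sup_right (Subgroup.mem_zpowers c))) (by
      rw [show b * b * b⁻¹ * b⁻¹ = (1 : G) by group]; exact one_mem _)
    intro g hg
    refine (Subgroup.commutator_le.mpr fun p hp q hq => ?_ : D ≤ K) hg
    rw [commutatorElement_def]
    exact (hrep q hq p hp (by
      have := K.inv_mem (hA p hp).2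
      rwa [show (a * p * a⁻¹ * p⁻¹)⁻¹ = p * a * p⁻¹ * a⁻¹ by group] at this) (by
      have := K.inv_mem (hB p hp).2
      rwa [show (b * p * b⁻¹ * p⁻¹)⁻¹ = p * b * p⁻¹ * b⁻¹ by group] at this)).2
  have hc2 : c * c ∈ N := by
    have h1 := hcommN (hΦD.le (sq_mem_sqs ha)) hbQ
    have h2 := hcommN (D.inv_mem hcD) ha
    rw [hc]
    have e : a * b * a⁻¹ * b⁻¹ * (a * b * a⁻¹ * b⁻¹) =
      ((a * b * a⁻¹ * b⁻¹)⁻¹ * a * (a * b * a⁻¹ * b⁻¹)⁻¹⁻¹ * a⁻¹)⁻¹ *
        ((a * b * a⁻¹ * b⁻¹)⁻¹ * (a * a * b * (a * a)⁻¹ * b⁻¹) * (a * b * a⁻¹ * b⁻¹)) := by group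
    rw [e]
    refine N.mul_mem (N.inv_mem h2) ?_
    have h3 := hconjN (Subgroup.le_normalizer (Q.inv_mem (hDQ hcD))) h1
    rwa [inv_inv, hc] at h3
  have hcases : ∀ g ∈ D, g ∈ N ∨ c⁻¹ * g ∈ N := by
    intro g hg
    have hcn : Subgroup.zpowers c ≤ Subgroup.normalizer (N : Set G) := Subgroup.zpowers_le.mpr
      (mem_norm fun k hk => hconjN (Subgroup.le_normalizer (hDQ hcD)) hk)
    obtain ⟨n, hn, p, ⟨i, rfl⟩, rfl⟩ := mem_sup_norm hcn (hK g hg)
    simp only
    rcases Int.even_or_odd i with ⟨j, rfl⟩ | ⟨j, rfl⟩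
    · left
      refine N.mul_mem hn ?_
      rw [← two_mul, zpow_mul, zpow_two]
      exact N.zpow_mem hc2 j
    · right
      rw [zpow_add, zpow_one, zpow_mul, zpow_two,
        show c⁻¹ * (n * ((c * c) ^ j * c)) = c⁻¹ * (n * (c * c) ^ j) * c⁻¹⁻¹ by group]
      exact hconjN (Subgroup.le_normalizer (Q.inv_mem (hDQ hcD))) (N.mul_mem hn (N.zpow_mem hc2 j))
  have hQcard : Nat.card Q = 4 * Nat.card D := by rw [card_top_mul Q, h4, ← hΦ, hΦD]
  have hCQ : 8 ≤ Nat.card Q := hC.ge.trans (Subgroup.card_le_of_le inf_le_left)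
  by_cases hcN : c ∈ N
  · -- the commutators vanish
    have hle : D ≤ N := fun g hg => (hcases g hg).elim id fun hh => by
      have := N.mul_mem hcN hh; rwa [mul_inv_cancel_left] at this
    have hbot := CfsgLib.PushRankOne.eq_bot_of_le_commutator (p := 2) hQ2 hDQ hle
    rw [hbot, Subgroup.card_bot] at hQcard
    omega
  have hsqC : ∀ g ∈ Q, g ∉ D → g * g ∉ N := by
    -- squares are constant on the three classes
    have hshift : ∀ {p k : G}, p ∈ Q → k ∈ D → (p * p ∈ N → p * k * (p * k) ∈ N) := by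
      intro p k hp hk hpp
      have hkk : k * k ∈ N := by
        rcases hcases k hk with hh | hh
        · exact N.mul_mem hh hh
        · have h1 := hconjN (Subgroup.le_normalizer (hDQ hcD)) hh
          rw [show c * (c⁻¹ * k) * c⁻¹ = k * c⁻¹ by group] at h1
          have := N.mul_mem (N.mul_mem h1 hc2) hh
          rwa [show k * c⁻¹ * (c * c) * (c⁻¹ * k) = k * k by group] at this
      rw [show p * k * (p * k) = p * p * (p⁻¹ * (k * p * k⁻¹ * p⁻¹) * p⁻¹⁻¹) * (k * k) by group]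
      exact N.mul_mem (N.mul_mem hpp (hconjN (Subgroup.le_normalizer (Q.inv_mem hp)) (hcommN hk hp))) hkk
    have hmove : ∀ p : G, p * p ∈ N → ((y : G) * p * (y : G)⁻¹) * ((y : G) * p * (y : G)⁻¹) ∈ N := by
      intro p hpp
      rw [show (y : G) * p * (y : G)⁻¹ * ((y : G) * p * (y : G)⁻¹) = (y : G) * (p * p) * (y : G)⁻¹ by group]
      exact hconjN hy hpp
    have hbad : ¬ a * a ∈ N := by
      intro haN
      have hbN := hmove a haN
      rw [← hb] at hbN
      have hcN' := hmove b hbN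
      rw [← hc'] at hcN'
      have hall : ∀ g ∈ Q, g * g ∈ N := by
        intro g hg
        rcases hcov g hg with hh | hh | hh | hh
        · have := hshift (Q.one_mem) (hΦD.le hh) (by rw [mul_one]; exact N.one_mem)
          simpa using this
        · have := hshift ha (hΦD.le hh) haN; rwa [mul_inv_cancel_left] at this
        · have := hshift hbQ (hΦD.le hh) hbN; rwa [mul_inv_cancel_left] at this
        · have := hshift hc'Q (hΦD.le hh) hcN'; rwa [mul_inv_cancel_left] at this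
      refine hcN ?_
      rw [hc, show a * b * a⁻¹ * b⁻¹ = a * a * ((a⁻¹ * b) * (a⁻¹ * b)) * (b⁻¹ * b⁻¹) by group]
      exact N.mul_mem (N.mul_mem haN (hall _ (Q.mul_mem (Q.inv_mem ha) hbQ))) (hall _ (Q.inv_mem hbQ))
    intro g hg hgD hgN
    have hback : ∀ p : G, ((y : G) * p * (y : G)⁻¹) * ((y : G) * p * (y : G)⁻¹) ∈ N → p * p ∈ N := by
      intro p hpp
      have := hconjN (Subgroup.inv_mem _ hy) hpp
      rwa [show (y : G)⁻¹ * ((y : G) * p * (y : G)⁻¹ * ((y : G) * p * (y : G)⁻¹)) * (y : G)⁻¹⁻¹ = p * p by group] at this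
    have hget : ∀ p : G, p ∈ Q → p⁻¹ * g ∈ Φ → p * p ∈ N := by
      intro p hp hh
      have := hshift hg (D.inv_mem (hΦD.le hh)) hgN
      rwa [show g * (p⁻¹ * g)⁻¹ = p by group] at this
    rcases hcov g hg with hh | hh | hh | hh
    · exact hgD (hΦD.le hh)
    · exact hbad (hget a ha hh)
    · exact hbad (hback a (hget b hbQ hh))
    · exact hbad (hback a (hback b (hget c' hc'Q hh)))
  -- the third term vanishes
  have hle : N ≤ ⁅N, Q⁆ := by
    rw [hN, Subgroup.commutator_le]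
    intro p hp q hq
    rw [← hN, ← hN₁]
    have hconjN1 : ∀ {g k : G}, g ∈ Q → k ∈ N₁ → g * k * g⁻¹ ∈ N₁ := by
      intro g k hg hk
      rw [hN₁, Subgroup.commutator_def] at hk ⊢
      induction hk using Subgroup.closure_induction with
      | mem x hx =>
        obtain ⟨p', hp', q', hq', rfl⟩ := hx
        exact Subgroup.subset_closure ⟨g * p' * g⁻¹, hconjN (Subgroup.le_normalizer hg) hp', g * q' * g⁻¹,
          Q.mul_mem (Q.mul_mem hg hq') (Q.inv_mem hg), by
          simp only [commutatorElement_def]; group⟩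
      | one => rw [mul_one, mul_inv_cancel]; exact one_mem _
      | mul x x' _ _ h1 h2 => rw [show g * (x * x') * g⁻¹ = g * x * g⁻¹ * (g * x' * g⁻¹) by group]; exact mul_mem h1 h2
      | inv x _ h1 => rw [show g * x⁻¹ * g⁻¹ = (g * x * g⁻¹)⁻¹ by group]; exact inv_mem h1
    have hout : ∀ g ∈ Q, g ∉ D → p * g * p⁻¹ * g⁻¹ ∈ N₁ := by
      intro g hg hgD
      have hn : ∀ n ∈ N, n * g * n⁻¹ * g⁻¹ ∈ N₁ := fun n hn => by
        have := Subgroup.commutator_mem_commutator hn hg
        rwa [commutatorElement_def] at this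
      rcases hcases p hp with hh | hh
      · exact hn p hh
      · have hgg := (hcases (g * g) (hΦD.le (sq_mem_sqs hg))).resolve_left (hsqC g hg hgD)
        have hk : (g * g)⁻¹ * p ∈ N := by
          have := N.mul_mem (N.inv_mem hgg) hh
          rwa [show (c⁻¹ * (g * g))⁻¹ * (c⁻¹ * p) = (g * g)⁻¹ * p by group] at this
        rw [show p * g * p⁻¹ * g⁻¹ =
          (g * g) * (((g * g)⁻¹ * p) * g * ((g * g)⁻¹ * p)⁻¹ * g⁻¹) * (g * g)⁻¹ by group]
        exact hconjN1 (Q.mul_mem hg hg) (hn _ hk)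
    rw [commutatorElement_def]
    by_cases hqD : q ∈ D
    · have haD : a ∉ D := fun hh => hr (by rw [← har]; exact (top_one ha).mpr (hDΦ hh))
      have h2 : a⁻¹ * q ∉ D := fun hh => haD (by
        have := D.mul_mem hqD (D.inv_mem hh)
        rwa [show q * (a⁻¹ * q)⁻¹ = a by group] at this)
      rw [show p * q * p⁻¹ * q⁻¹ = (p * a * p⁻¹ * a⁻¹) * (a * (p * (a⁻¹ * q) * p⁻¹ * (a⁻¹ * q)⁻¹) * a⁻¹) by group]
      exact N₁.mul_mem (hout a ha haD) (hconjN1 ha (hout _ (Q.mul_mem (Q.inv_mem ha) hq) h2))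
    · exact hout q hq hqD
  have hN0 := CfsgLib.PushRankOne.eq_bot_of_le_commutator (p := 2) hQ2 (hND.trans hDQ) hle
  have hcz : ∀ g ∈ Q, g ≠ 1 → g * g = 1 → g = c := by
    intro g hg hg1 hgsq
    by_cases hgD : g ∈ D
    · rcases hcases g hgD with hh | hh <;> rw [hN0, Subgroup.mem_bot] at hh
      · exact absurd hh hg1
      · exact (inv_mul_eq_one.mp hh).symm
    · exact absurd (by rw [hgsq]; exact N.one_mem) (hsqC g hg hgD)
  exact hdz ((hcz d hd hd1 hdsq).trans (hcz z (inZ_mem_core h hz) hz1 hz.2.1).symm)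

end CfsgLib.SRFour.CaseU
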