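import Mathlib
import Cfsg.Agent.Lib.SRFour.CaseUB
import Cfsg.Agent.Lib.SRFour.CaseUCore
import Cfsg.Agent.Lib.G2Sylow.Extremal
import Cfsg.Agent.S0116

/-!
Case U: every 2-local over a Sylow 2-subgroup lies in one 2-local. Impossible.

Blueprint: `blueprint/S0517.md`, parcel CaseU, step 4.
-/

set_option autoImplicit false
set_option linter.unusedSectionVars false
set_option linter.style.haveILetI false

namespace CfsgLib.SRFour.CaseU

open Cfsg
open scoped commutatorElement

universe u

variable {G : Type u} [Group G] [Finite G] {S : Sylow 2 G} {M T : Subgroup G} {z v r d : G}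

theorem z_core (h : Conf S M) (D : DTwo S M T z v r d) : z ∈ pCoreOf 2 M := inZ_mem_core h D.z_inZ

theorem cent_z_le (h : Conf S M) (D : DTwo S M T z v r d) {k : G} (hk : k * z = z * k) : k ∈ M :=
  h.sylowUp _ (twoLocal (zpowers_two D.z_inZ.2.1) (by rw [Ne, Subgroup.zpowers_eq_bot]; exact D.z_ne))
    (fun x hx => norm_zpowers (D.z_inZ.2.2 x hx)) (norm_zpowers hk)

theorem not_zd (D : DTwo S M T z v r d) (g : G) : g * (z * d) * g⁻¹ ≠ z := by
  intro e
  obtain ⟨s, -, -, hsd⟩ := D.swap
  refine D.d_not_z (g * s) ?_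
  rw [show g * s * d * (g * s)⁻¹ = g * (s * d * s⁻¹) * g⁻¹ by group, hsd, e]

theorem d_ne_z (D : DTwo S M T z v r d) : d ≠ z := fun e => D.d_not_z 1 (by rw [e]; group)

theorem v_ne_center (st : Straddle S M T) (D : DTwo S M T z v r d) :
    v ≠ z ∧ v ≠ d ∧ v ≠ z * d := by
  have hne : ∀ a : G, (∀ t ∈ T, t * a = a * t) → v ≠ a := fun a ha e => by
    have := conj_fix (ha r D.r_mem)
    rw [← e, D.rv, mul_eq_right] at this
    exact D.z_ne this
  have hz : ∀ t ∈ T, t * z = z * t := fun t ht => D.z_inZ.2.2 t (st.T_le ht)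
  exact ⟨hne z hz, hne d D.d_comm, hne (z * d) fun t ht =>
    (Commute.mul_right (hz t ht : Commute t z) (D.d_comm t ht)).eq⟩

/-- An involution of `S` with large centraliser conjugate to `d` is conjugate to it in `M`. -/
theorem conj_in_M (h : Conf S M) (st : Straddle S M T) (D : DTwo S M T z v r d) {d' g : G}
    (hg : g * d' * g⁻¹ = d) (hcard : 16 ≤ Nat.card ↥((S : Subgroup G) ⊓ Subgroup.centralizer ({d'} : Set G))) :
    ∃ m ∈ M, m * d' * m⁻¹ = d := by
  set L := Subgroup.normalizer (Subgroup.zpowers d : Set G) with hL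
  set Y := (S : Subgroup G) ⊓ Subgroup.centralizer ({d'} : Set G) with hY
  have hLloc : IsTwoLocal L := twoLocal (zpowers_two D.d_sq) (by rw [Ne, Subgroup.zpowers_eq_bot]; exact D.d_ne)
  have hTL : T ≤ L := fun t ht => norm_zpowers (D.d_comm t ht)
  have hfix : ∀ l ∈ L, l * d * l⁻¹ = d := fun l hl => by
    rcases mem_two D.d_sq (conj_norm hl (Subgroup.mem_zpowers d)) with e | e
    · exact absurd (conj_eq_one_iff.mp e) D.d_ne
    · exact e
  obtain ⟨l, hl, hlY⟩ := conj_into h st hLloc D.out_d hTL (X := Y.map (MulAut.conj g).toMonoidHom)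
    ((S.2.to_le inf_le_left).map _) (by
      rintro _ ⟨a, ha, rfl⟩
      refine norm_zpowers ?_
      have hc := Subgroup.mem_centralizer_singleton_iff.mp ha.2
      simp only [MulEquiv.coe_toMonoidHom, MulAut.conj_apply]
      rw [← hg, show g * a * g⁻¹ * (g * d' * g⁻¹) = g * (a * d') * g⁻¹ by group, hc]
      group)
  set k := l * g with hk
  have hkd : k * d' * k⁻¹ = d := by
    rw [hk, show l * g * d' * (l * g)⁻¹ = l * (g * d' * g⁻¹) * l⁻¹ by group, hg, hfix l hl]
  have hkY : ∀ a ∈ Y, k * a * k⁻¹ ∈ T := fun a ha => by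
    have := hlY _ ⟨a, ha, rfl⟩
    simp only [MulEquiv.coe_toMonoidHom, MulAut.conj_apply] at this
    rwa [hk, show l * g * a * (l * g)⁻¹ = l * (g * a * g⁻¹) * l⁻¹ by group]
  let f : ↥Y → ↥T := fun a => ⟨_, hkY a a.2⟩
  have hf : Function.Injective f := fun a b e =>
    Subtype.ext (mul_left_cancel (mul_right_cancel (congrArg Subtype.val e)))
  have hsurj := (hf.bijective_of_nat_card_le (by rw [D.card]; exact hcard)).2
  -- `z` lies in it
  obtain ⟨a₀, ha₀⟩ := hsurj ⟨d, D.d_mem⟩
  have hd'S : d' ∈ (S : Subgroup G) := by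
    have e : k * (a₀ : G) * k⁻¹ = k * d' * k⁻¹ := (congrArg Subtype.val ha₀).trans hkd.symm
    rw [← mul_left_cancel (mul_right_cancel e)]
    exact a₀.2.1
  have hzY : z ∈ Y := ⟨D.z_inZ.1, Subgroup.mem_centralizer_singleton_iff.mpr (D.z_inZ.2.2 d' hd'S).symm⟩
  have hcen : ∀ t ∈ T, k * z * k⁻¹ * t = t * (k * z * k⁻¹) := by
    intro t ht
    obtain ⟨b, hb⟩ := hsurj ⟨t, ht⟩
    have hb' : k * (b : G) * k⁻¹ = t := congrArg Subtype.val hb
    rw [← hb', show k * z * k⁻¹ * (k * (b : G) * k⁻¹) = k * (z * b) * k⁻¹ by group, ← D.z_inZ.2.2 b b.2.1]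
    group
  rcases D.center _ (hkY z hzY) hcen with e | e | e | e
  · exact absurd (conj_eq_one_iff.mp e) D.z_ne
  · exact ⟨k, cent_z_le h D (of_conj_fix e), hkd⟩
  · exact absurd (by rw [← e]; group : k⁻¹ * d * k⁻¹⁻¹ = z) (D.d_not_z k⁻¹)
  · exact absurd (by rw [← e]; group : k⁻¹ * (z * d) * k⁻¹⁻¹ = z) (not_zd D k⁻¹)

/-- The element `d` lies in the core. -/
theorem d_mem_core (h : Conf S M) (st : Straddle S M T) (D : DTwo S M T z v r d) : d ∈ pCoreOf 2 M := by
  classical
  set Q := pCoreOf 2 M with hQ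
  by_contra hd
  have hzQ := z_core h D
  have hvS : v ∈ (S : Subgroup G) := st.T_le D.v_mem
  have hdS : d ∈ (S : Subgroup G) := st.T_le D.d_mem
  have hzv : z * v = v * z := (D.z_inZ.2.2 v hvS).symm
  have hdv : v * d = d * v := D.d_comm v D.v_mem
  have hout : ∀ u ∈ Q, u * d ∉ Q := fun u hu hud => hd (by simpa using Q.mul_mem (Q.inv_mem hu) hud)
  obtain ⟨hvz, hvd, hvzd⟩ := v_ne_center st D
  by_cases hv : v ∈ Q
  · refine small_cent h D.z_inZ D.z_ne hv D.v_sq D.v_ne hvz hdS hd hdv.symm ?_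
    have := Fintype.ofFinite G
    calc Nat.card ↥(Q ⊓ Subgroup.centralizer ({v} : Set G))
        = ((Q ⊓ Subgroup.centralizer ({v} : Set G) : Subgroup G) : Set G).ncard := rfl
      _ ≤ ({1, z, v, z * v} : Finset G).card := by
        rw [← Set.ncard_coe_finset]
        refine Set.ncard_le_ncard (fun x hx => ?_) (Finset.finite_toSet _)
        obtain ⟨u, hu, hxu⟩ := D.cent_v x (core_le_S h hx.1) (Subgroup.mem_centralizer_singleton_iff.mp hx.2)
        have huQ : u ∈ Q := by
          rcases hu with rfl | rfl | rfl | rfl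
          exacts [Q.one_mem, hzQ, hv, Q.mul_mem hzQ hv]
        rcases hxu with rfl | rfl
        · rcases hu with rfl | rfl | rfl | rfl <;> simp
        · exact absurd hx.1 (hout u huQ)
      _ ≤ 4 := Finset.card_le_four
  by_cases hvdQ : v * d ∈ Q
  · have hsq : v * d * (v * d) = 1 := by
      rw [show v * d * (v * d) = v * (d * v) * d by group, ← hdv]
      rw [show v * (v * d) * d = v * v * (d * d) by group, D.v_sq, D.d_sq, one_mul]
    set C := (S : Subgroup G) ⊓ Subgroup.centralizer ({v * d} : Set G) with hC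
    by_cases h16 : 16 ≤ Nat.card C
    · obtain ⟨g, hg⟩ := D.vd_conj
      obtain ⟨s, -, -, hsd⟩ := D.swap
      obtain ⟨m, hm, hmd⟩ := conj_in_M h st D (d' := v * d) (g := s⁻¹ * g) (by
        rw [show s⁻¹ * g * (v * d) * (s⁻¹ * g)⁻¹ = s⁻¹ * (g * (v * d) * g⁻¹) * s by group, hg, ← hsd]
        group) h16
      exact hd (hmd ▸ conj_mem_core hm hvdQ)
    · refine small_cent h D.z_inZ D.z_ne hvdQ hsq ?_ ?_ hvS hv ?_ ?_
      · exact fun e => hvd (by rw [eq_inv_of_mul_eq_one_left e, inv_eq_of_mul_eq_one_right D.d_sq])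
      · exact fun e => hvzd (by rw [← e, mul_assoc, D.d_sq, mul_one])
      · exact (Commute.mul_right (Commute.refl v) hdv).eq
      · have hvC : v ∈ C :=
          ⟨hvS, Subgroup.mem_centralizer_singleton_iff.mpr (Commute.mul_right (Commute.refl v) hdv).eq⟩
        have hle : Q ⊓ Subgroup.centralizer ({v * d} : Set G) < C :=
          lt_of_le_of_ne (inf_le_inf_right _ (core_le_S h)) fun e => hv (e.ge hvC).1
        have h1 := two_mul_le (S.2.to_le inf_le_left) hle
        obtain ⟨k, hk⟩ := card_eq_pow (S.2.to_le inf_le_left : IsPGroup 2 ↥C)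
        have hk3 : k ≤ 3 := by
          by_contra hk4
          exact h16 (hk ▸ Nat.pow_le_pow_right (n := 2) (by norm_num) (show 4 ≤ k by omega))
        have h2 : Nat.card ↥C ≤ 2 ^ 3 := hk.le.trans (Nat.pow_le_pow_right (by norm_num) hk3)
        have h3 : 2 * Nat.card ↥(Q ⊓ Subgroup.centralizer ({v * d} : Set G)) ≤ Nat.card ↥C := h1
        show Nat.card ↥(Q ⊓ Subgroup.centralizer ({v * d} : Set G)) ≤ 4
        omega
  · -- the centraliser of `v` in the core is small
    have hsmall : Nat.card ↥(Q ⊓ Subgroup.centralizer ({v} : Set G)) ≤ 2 := by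
      have := Fintype.ofFinite G
      calc Nat.card ↥(Q ⊓ Subgroup.centralizer ({v} : Set G))
          = ((Q ⊓ Subgroup.centralizer ({v} : Set G) : Subgroup G) : Set G).ncard := rfl
        _ ≤ ({1, z} : Finset G).card := by
          rw [← Set.ncard_coe_finset]
          refine Set.ncard_le_ncard (fun x hx => ?_) (Finset.finite_toSet _)
          obtain ⟨u, hu, hxu⟩ := D.cent_v x (core_le_S h hx.1) (Subgroup.mem_centralizer_singleton_iff.mp hx.2)
          have hxQ := hx.1
          rcases hxu with e | e <;> rcases hu with e' | e' | e' | e' <;> rw [e'] at e <;> rw [e] at hxQ ⊢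
          · simp
          · simp
          · exact absurd hxQ hv
          · exact absurd (by simpa using Q.mul_mem (Q.inv_mem hzQ) hxQ) hv
          · exact absurd hxQ (hout 1 Q.one_mem)
          · exact absurd hxQ (hout z hzQ)
          · exact absurd hxQ hvdQ
          · exact absurd (by simpa [mul_assoc] using Q.mul_mem (Q.inv_mem hzQ) hxQ) hvdQ
        _ ≤ 2 := Finset.card_le_two
    have h4 := card_top_of_outer (Q := Q) D.v_sq (le_normalizer_core M (S_le h hvS)) hsmall
    obtain ⟨y, TD⟩ := top_data h (by rw [← hQ]; omega)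
    refine hvdQ ?_
    have h2 := TD.index v hvS d hdS hv hd
    rwa [inv_eq_of_mul_eq_one_right D.v_sq] at h2

/-- The case of a core containing `v`. -/
theorem le_core_of_v (h : Conf S M) (st : Straddle S M T) (D : DTwo S M T z v r d) (hv : v ∈ pCoreOf 2 M) :
    T ≤ pCoreOf 2 M := by
  have hd := d_mem_core h st D
  have hz := z_core h D
  obtain ⟨s, hs, hsr, -⟩ := D.swap
  have hr : r ∈ pCoreOf 2 M := by
    have := conj_mem_core (M.inv_mem (S_le h hs)) hv
    rwa [← hsr, show s⁻¹ * (s * r * s⁻¹) * s⁻¹⁻¹ = r by group] at this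
  have key : ∀ x ∈ (S : Subgroup G), x * v = v * x → x ∈ pCoreOf 2 M := by
    intro x hx hxv
    obtain ⟨u, hu, hxu⟩ := D.cent_v x hx hxv
    have huQ : u ∈ pCoreOf 2 M := by
      rcases hu with rfl | rfl | rfl | rfl
      exacts [one_mem _, hz, hv, mul_mem hz hv]
    rcases hxu with rfl | rfl
    · exact huQ
    · exact mul_mem huQ hd
  intro x hx
  rcases D.cases x hx with e | e
  · exact key x (st.T_le hx) e
  · have := mul_mem hr (key _ (mul_mem (inv_mem (st.T_le D.r_mem)) (st.T_le hx)) e)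
    rwa [mul_inv_cancel_left] at this

/-- The core contains `v`. -/
theorem v_mem_core (h : Conf S M) (st : Straddle S M T) (D : DTwo S M T z v r d) : v ∈ pCoreOf 2 M := by
  classical
  haveI : Fact (Nat.Prime 2) := ⟨Nat.prime_two⟩
  set Q := pCoreOf 2 M with hQ
  by_contra hv
  have hdQ := d_mem_core h st D
  have hzQ := z_core h D
  have hvS : v ∈ (S : Subgroup G) := st.T_le D.v_mem
  have hrS : r ∈ (S : Subgroup G) := st.T_le D.r_mem
  have hvM : v ∈ M := S_le h hvS
  have hzv : z * v = v * z := (D.z_inZ.2.2 v hvS).symm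
  have hzsq := D.z_inZ.2.1
  have hdz := d_ne_z D
  obtain ⟨s, hs, hsr, -⟩ := D.swap
  have hr : r ∉ Q := fun hh => hv (hsr ▸ conj_mem_core (S_le h hs) hh)
  set C := Q ⊓ Subgroup.centralizer ({d} : Set G) with hC
  have hCT : C ≤ T := fun x hx => D.cent_d x (core_le_S h hx.1) (Subgroup.mem_centralizer_singleton_iff.mp hx.2)
  have hrz : r * z = z * r := D.z_inZ.2.2 r hrS
  have hrv : r * v * (r * v) = z := by
    rw [show r * v * (r * v) = r * v * r⁻¹ * (r * r) * v by group, D.rv, D.r_sq, mul_one, mul_assoc, D.v_sq, mul_one]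
  have hu4 : ∀ u, (u = 1 ∨ u = z ∨ u = v ∨ u = z * v) → u ∈ T ∧ (u ∈ Q → u = 1 ∨ u = z) := by
    rintro u (rfl | rfl | rfl | rfl)
    · exact ⟨T.one_mem, fun _ => Or.inl rfl⟩
    · exact ⟨D.z_mem, fun _ => Or.inr rfl⟩
    · exact ⟨D.v_mem, fun hh => absurd hh hv⟩
    · exact ⟨T.mul_mem D.z_mem D.v_mem, fun hh => absurd (by simpa using Q.mul_mem (Q.inv_mem hzQ) hh) hv⟩
  -- the centraliser in the core
  have hsplit : ∀ x ∈ C, (x = 1 ∨ x = z ∨ x = d ∨ x = z * d) ∨
      (r * v ∈ Q ∧ x * x = z) := by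
    intro x hx
    rcases D.cases x (hCT hx) with e | e
    · left
      obtain ⟨u, hu, hxu⟩ := D.cent_v x (core_le_S h hx.1) e
      rcases hxu with rfl | rfl
      · exact ((hu4 _ hu).2 hx.1).imp id Or.inl
      · rcases (hu4 u hu).2 (by simpa using Q.mul_mem hx.1 (Q.inv_mem hdQ)) with rfl | rfl
        · exact Or.inr (Or.inr (Or.inl (one_mul d)))
        · exact Or.inr (Or.inr (Or.inr rfl))
    · obtain ⟨u, hu, hxu⟩ := D.cent_v _ (mul_mem (inv_mem hrS) (core_le_S h hx.1)) e
      have huT := (hu4 u hu).1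
      have hru : r * u ∈ Q := by
        rcases hxu with hh | hh
        · rw [show r * u = x by rw [← hh]; group]; exact hx.1
        · rw [show r * u = x * d⁻¹ by rw [eq_mul_inv_iff_mul_eq, mul_assoc, ← hh]; group]
          exact Q.mul_mem hx.1 (Q.inv_mem hdQ)
      have hu' : u = v ∨ u = z * v := by
        rcases hu with e' | e' | e' | e'
        · rw [e', mul_one] at hru; exact absurd hru hr
        · rw [e'] at hru; exact absurd (by simpa using Q.mul_mem hru (Q.inv_mem hzQ)) hr
        · exact Or.inl e'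
        · exact Or.inr e'
      have hsq : r * u * (r * u) = z := by
        rcases hu' with e' | e' <;> rw [e']
        · exact hrv
        · rw [show r * (z * v) * (r * (z * v)) = r * z * v * (r * z * v) by group, hrz,
            show z * r * v * (z * r * v) = z * (r * v * z) * (r * v) by group,
            show r * v * z = z * (r * v) by rw [mul_assoc, ← hzv, ← mul_assoc, hrz, mul_assoc],
            show z * (z * (r * v)) * (r * v) = z * z * (r * v * (r * v)) by group, hzsq, hrv, one_mul]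
      right
      refine ⟨?_, ?_⟩
      · rcases hu' with e' | e' <;> rw [e'] at hru
        · exact hru
        · rw [← mul_assoc, hrz, mul_assoc] at hru
          simpa using Q.mul_mem (Q.inv_mem hzQ) hru
      · rcases hxu with hh | hh
        · rw [show x = r * u by rw [← hh]; group]; exact hsq
        · have hdru : d * (r * u) = r * u * d := (D.d_comm _ (T.mul_mem D.r_mem huT)).symm
          rw [show x = r * u * d by rw [mul_assoc, ← hh]; group,
            show r * u * d * (r * u * d) = r * u * (d * (r * u)) * d by group, hdru,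
            show r * u * (r * u * d) * d = r * u * (r * u) * (d * d) by group, hsq, D.d_sq, mul_one]
  have hinvol : ∀ x ∈ C, x * x = 1 → x = 1 ∨ x = z ∨ x = d ∨ x = z * d := fun x hx hx2 =>
    (hsplit x hx).resolve_right fun hh => D.z_ne (hh.2.symm.trans hx2)
  have hrvQ : r * v ∈ Q := by
    by_contra hno
    refine small_cent h D.z_inZ D.z_ne hdQ D.d_sq D.d_ne hdz hvS hv (D.d_comm v D.v_mem) ?_
    have := Fintype.ofFinite G
    calc Nat.card ↥C = (C : Set G).ncard := rfl
      _ ≤ ({1, z, d, z * d} : Finset G).card := by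
        rw [← Set.ncard_coe_finset]
        refine Set.ncard_le_ncard (fun x hx => ?_) (Finset.finite_toSet _)
        simpa using (hsplit x hx).resolve_right fun hh => hno hh.1
      _ ≤ 4 := Finset.card_le_four
  have hC8 : Nat.card C ≤ 8 := by
    have h1 := two_mul_le (T_two st) (lt_of_le_of_ne hCT fun e => hv (e.ge D.v_mem).1)
    rw [D.card] at h1
    omega
  obtain ⟨hle, heq⟩ := class_bound hdQ
  obtain ⟨y, TD⟩ := top_data h (by rw [← hQ]; exact hle.trans hC8)
  have hC8' : Nat.card C = 8 := by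
    refine le_antisymm hC8 ?_
    have h1 : Nat.card T ≤ 2 * Nat.card C := card_le_two_mul v fun x hx => by
      have hxC : ∀ a ∈ T, a ∈ Q → a ∈ C := fun a ha haQ =>
        ⟨haQ, Subgroup.mem_centralizer_singleton_iff.mpr (D.d_comm a ha)⟩
      by_cases hxQ : x ∈ Q
      · exact Or.inl (hxC x hx hxQ)
      · exact Or.inr (hxC _ (T.mul_mem (T.inv_mem D.v_mem) hx) (TD.index v hvS x (st.T_le hx) hv hxQ))
    rw [D.card] at h1
    omega
  rcases three_fix top_sq TD.small TD.y3 TD.y_ne with ⟨h4, -⟩ | ⟨h8, hfix2⟩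
  · exact top_four_false h D.z_inZ D.z_ne hdQ D.d_sq D.d_ne hdz hC8' h4
  replace h8 : Nat.card (Top Q) = 8 := h8
  have hcls := heq (by rw [h8, hC8'])
  set σ := actHom (Q := Q) (le_normalizer_core M) y with hσ
  set dd : Top Q := ((⟨d, hdQ⟩ : ↥Q) : Top Q) with hdd
  have hdd1 : dd ≠ 1 := fun e => by
    obtain ⟨q, -, hq⟩ := hcls d ((top_one hdQ).mp e)
    rw [D.d_sq] at hq
    exact D.d_ne (conj_eq_one_iff.mp hq)
  -- the coset of a conjugate consists of conjugates
  have hcos : ∀ {e : G}, e ∈ Q → d⁻¹ * e ∈ sqs Q → ∃ g, g * d * g⁻¹ = e := fun he hed => by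
    obtain ⟨q, -, hq⟩ := hcls _ hed
    exact ⟨q, by rw [hq, mul_inv_cancel_left]⟩
  have h33 : ∀ p : Top Q, σ (σ (σ p)) = p := fun p => by
    have := DFunLike.congr_fun TD.y3 p
    rwa [show σ ^ 3 = σ * (σ * σ) by rw [pow_succ', pow_two]] at this
  let π : Top Q →* Top Q :=
    { toFun := fun p => p * σ p * σ (σ p)
      map_one' := by simp
      map_mul' := fun p q => by
        have key : ∀ a b c e f g : Top Q, a * b * (c * e) * (f * g) = a * c * f * (b * e * g) := by
          intro a b c e f g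
          calc a * b * (c * e) * (f * g) = a * (b * c) * e * f * g := by group
            _ = a * c * (b * (e * f)) * g := by rw [top_comm b c]; group
            _ = a * c * (f * (b * e)) * g := by rw [← mul_assoc b, top_comm (b * e) f]
            _ = a * c * f * (b * e * g) := by group
        simp only [map_mul]
        exact key _ _ _ _ _ _ }
  by_cases hπd : π dd = 1
  · -- the three classes form a four-group
    set d₁ := (y : G) * d * (y : G)⁻¹ with hd₁
    set d₂ := (y : G) * d₁ * (y : G)⁻¹ with hd₂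
    have hd₁Q : d₁ ∈ Q := conj_mem_core y.2 hdQ
    have hd₂Q : d₂ ∈ Q := conj_mem_core y.2 hd₁Q
    have e1 : ((⟨d₁, hd₁Q⟩ : ↥Q) : Top Q) = σ dd := rfl
    have e2 : ((⟨d₂, hd₂Q⟩ : ↥Q) : Top Q) = σ (σ dd) := rfl
    have hmem : d₂⁻¹ * (d * d₁) ∈ sqs Q := by
      refine (top_eq hd₂Q (Q.mul_mem hdQ hd₁Q)).mp ?_
      rw [show (⟨d * d₁, Q.mul_mem hdQ hd₁Q⟩ : ↥Q) = (⟨d, hdQ⟩ : ↥Q) * ⟨d₁, hd₁Q⟩ from rfl,
        QuotientGroup.mk_mul, ← hdd, e1, e2]
      have : dd * σ dd * σ (σ dd) = 1 := hπd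
      rw [eq_inv_of_mul_eq_one_left this, inv_eq_of_mul_eq_one_right (top_sq _)]
    obtain ⟨g, hg⟩ : ∃ g, g * d * g⁻¹ = d * d₁ := by
      have hyy : (y : G) * y ∈ M := M.mul_mem y.2 y.2
      have hn : ((y : G) * y)⁻¹ ∈ Subgroup.normalizer (Q : Set G) :=
        le_normalizer_core M (M.inv_mem hyy)
      obtain ⟨g, hg⟩ := hcos (conj_norm hn (Q.mul_mem hdQ hd₁Q)) (by
        have := conj_sqs hn hmem
        rwa [show ((y : G) * y)⁻¹ * (d₂⁻¹ * (d * d₁)) * ((y : G) * y)⁻¹⁻¹ =
          d⁻¹ * (((y : G) * y)⁻¹ * (d * d₁) * ((y : G) * y)⁻¹⁻¹) by rw [hd₂, hd₁]; group] at this)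
      exact ⟨(y : G) * y * g, by
        rw [show (y : G) * y * g * d * ((y : G) * y * g)⁻¹ = (y : G) * y * (g * d * g⁻¹) * ((y : G) * y)⁻¹ by group,
          hg]
        group⟩
    have hd₁sq : d₁ * d₁ = 1 := conj_sq D.d_sq
    have hprod : d * d₁ * (d * d₁) = 1 := by rw [← hg]; exact conj_sq D.d_sq
    have hcomm : d₁ * d = d * d₁ := by
      calc d₁ * d = d * d * (d₁ * d) * (d₁ * d₁) := by rw [D.d_sq, hd₁sq, one_mul, mul_one]
        _ = d * (d * d₁ * (d * d₁)) * d₁ := by group
        _ = d * d₁ := by rw [hprod, mul_one]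
    rcases hinvol d₁ ⟨hd₁Q, Subgroup.mem_centralizer_singleton_iff.mpr hcomm⟩ hd₁sq with e | e | e | e
    · exact D.d_ne (conj_eq_one_iff.mp e)
    · exact D.d_not_z y e
    · have hfix : σ dd = dd := by
        rw [← e1, hdd]; exact congrArg _ (Subtype.ext e)
      have : dd * σ dd * σ (σ dd) = 1 := hπd
      rw [hfix, hfix, top_sq, one_mul] at this
      exact hdd1 this
    · refine D.d_not_z g ?_
      rw [hg, e, ← mul_assoc, ← D.z_inZ.2.2 d (st.T_le D.d_mem) |>.symm, mul_assoc, D.d_sq, mul_one]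
  -- otherwise transfer
  set N : Subgroup G := (π.ker.comap (QuotientGroup.mk' ((sqs Q).subgroupOf Q))).map Q.subtype with hN
  have hNmem : ∀ {a : G} (ha : a ∈ Q), a ∈ N ↔ π ((⟨a, ha⟩ : ↥Q) : Top Q) = 1 := by
    intro a ha
    constructor
    · rintro ⟨b, hb, e⟩
      rw [show (⟨a, ha⟩ : ↥Q) = b from Subtype.ext e.symm]
      exact hb
    · intro e
      exact ⟨⟨a, ha⟩, e, rfl⟩
  have hNQ : N ≤ Q := Subgroup.map_subtype_le _
  have hdN : d ∉ N := fun hh => hπd ((hNmem hdQ).mp hh)
  -- equivariance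
  have hequi : ∀ m : ↥M, ∀ p : Top Q, π p = 1 → π (actHom (Q := Q) (le_normalizer_core M) m p) = 1 := by
    intro m p hp
    set τ := actHom (Q := Q) (le_normalizer_core M) m with hτ
    set σ' := actHom (Q := Q) (le_normalizer_core M) (m⁻¹ * y * m) with hσ'
    have hshift : ∀ q : Top Q, σ (τ q) = τ (σ' q) := fun q => by
      rw [← MulAut.mul_apply, ← MulAut.mul_apply, hσ, hτ, hσ', ← map_mul, ← map_mul]
      congr 2; group
    show τ p * σ (τ p) * σ (σ (τ p)) = 1
    rw [hshift, hshift, ← map_mul, ← map_mul]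
    suffices hh : p * σ' p * σ' (σ' p) = 1 by rw [hh, map_one]
    have hp' : p * σ p * σ (σ p) = 1 := hp
    have hc := TD.conj m⁻¹
    rw [inv_inv] at hc
    rcases hc with e | e
    · rw [hσ', e]; exact hp'
    · rw [hσ', e]
      have hi : σ⁻¹ = σ * σ := inv_eq_of_mul_eq_one_right (by
        rw [← pow_two, ← pow_succ']; exact TD.y3)
      rw [← hσ, hi, MulAut.mul_apply, MulAut.mul_apply, h33, mul_assoc, top_comm (σ (σ p)) (σ p), ← mul_assoc]
      exact hp'
  have hNn : M ≤ Subgroup.normalizer (N : Set G) := le_norm fun m hm a ha => by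
    have haQ := hNQ ha
    rw [hNmem (conj_mem_core hm haQ)]
    have := hequi ⟨m, hm⟩ _ ((hNmem haQ).mp ha)
    rwa [actHom_apply] at this
  -- the index
  have hQN : Nat.card Q ≤ 2 * Nat.card N := by
    have hr : Nat.card ↥π.range ≤ 2 := by
      rw [← hfix2]
      refine Subgroup.card_le_of_le ?_
      rintro _ ⟨p, rfl⟩
      show σ (p * σ p * σ (σ p)) = p * σ p * σ (σ p)
      rw [map_mul, map_mul, h33, top_comm _ p, ← mul_assoc]
    have h1 := Subgroup.card_mul_index (π.ker.comap (QuotientGroup.mk' ((sqs Q).subgroupOf Q)))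
    rw [Subgroup.index_comap_of_surjective _ (QuotientGroup.mk'_surjective _), Subgroup.index_ker] at h1
    rw [hN, Subgroup.card_map_of_injective Q.subtype_injective, ← h1, mul_comm 2]
    exact Nat.mul_le_mul_left _ hr
  set M₀ := N ⊔ Subgroup.zpowers v with hM₀
  have hvN : Subgroup.zpowers v ≤ Subgroup.normalizer (N : Set G) := (Subgroup.zpowers_le.mpr hvM).trans hNn
  have hM₀Q : ∀ a ∈ M₀, a ∈ Q → a ∈ N := by
    intro a ha haQ
    obtain ⟨n, hn, w, hw, rfl⟩ := mem_sup_norm hvN ha
    rcases mem_two D.v_sq hw with rfl | rfl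
    · simpa using hn
    · exact absurd (by simpa using Q.mul_mem (Q.inv_mem (hNQ hn)) haQ) hv
  have hM₀S : M₀ ≤ (S : Subgroup G) := sup_le (hNQ.trans (core_le_S h)) (Subgroup.zpowers_le.mpr hvS)
  have hdM₀ : d ∉ M₀ := fun hh => hdN (hM₀Q d hh hdQ)
  have hlt : M₀ < (S : Subgroup G) := lt_of_le_of_ne hM₀S fun e => hdM₀ (e.ge (st.T_le D.d_mem))
  have hSQ : Nat.card (S : Subgroup G) ≤ 2 * Nat.card Q := card_le_two_mul v fun x hx => by
    by_cases hxQ : x ∈ Q
    · exact Or.inl hxQ
    · exact Or.inr (TD.index v hvS x hx hv hxQ)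
  have hNM₀ := two_mul_le (S.2.to_le hM₀S)
    (lt_of_le_of_ne (le_sup_left : N ≤ M₀) fun e => hv (hNQ (e.ge (Subgroup.mem_sup_right (Subgroup.mem_zpowers v)))))
  have hidx : (M₀.subgroupOf (S : Subgroup G)).index = 2 := by
    have h1 := Subgroup.card_mul_index (M₀.subgroupOf (S : Subgroup G))
    rw [Nat.card_congr (Subgroup.subgroupOfEquivOfLe hM₀S).toEquiv] at h1
    have h2 := two_mul_le S.2 hlt
    have h3 : Nat.card M₀ * (M₀.subgroupOf (S : Subgroup G)).index = Nat.card M₀ * 2 := by omega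
    exact Nat.eq_of_mul_eq_mul_left Nat.card_pos h3
  haveI := Subgroup.normal_of_index_eq_two hidx
  haveI := h.hard.simple
  have hcyc : IsCyclic (↥(S : Subgroup G) ⧸ M₀.subgroupOf (S : Subgroup G)) :=
    isCyclic_of_prime_card (p := 2) ((Subgroup.index_eq_card _).symm.trans hidx)
  obtain ⟨g, hgM₀, -, hgle⟩ := CfsgLib.G2Sylow.extremal h.hard.nonComm S M₀ hM₀S hcyc d
    (orderOf_eq_prime (by rw [pow_two, D.d_sq]) D.d_ne) (st.T_le D.d_mem) hdM₀
  have h16 : 16 ≤ Nat.card ↥((S : Subgroup G) ⊓ Subgroup.centralizer ({g * d * g⁻¹} : Set G)) := by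
    refine le_trans ?_ (Subgroup.card_le_of_le hgle)
    rw [Subgroup.card_map_of_injective (MulAut.conj g).injective, ← D.card]
    exact Subgroup.card_le_of_le fun t ht =>
      ⟨st.T_le ht, Subgroup.mem_centralizer_singleton_iff.mpr (D.d_comm t ht)⟩
  obtain ⟨m, hm, hmd⟩ := conj_in_M h st D (d' := g * d * g⁻¹) (g := g⁻¹) (by group) h16
  have hQmem : g * d * g⁻¹ ∈ Q := by
    have := conj_mem_core (M.inv_mem hm) hdQ
    rwa [← hmd, show m⁻¹ * (m * (g * d * g⁻¹) * m⁻¹) * m⁻¹⁻¹ = g * d * g⁻¹ by group] at this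
  refine hdN ?_
  have := conj_norm (hNn hm) (hM₀Q _ hgM₀ hQmem)
  rwa [hmd] at this

/-- Every straddle lies in the core. -/
theorem straddle_le_core (h : Conf S M) (st : Straddle S M T) : T ≤ pCoreOf 2 M ∧ Nat.card T = 16 := by
  obtain ⟨z, v, r, d, D⟩ := classify h st
  exact ⟨le_core_of_v h st D (v_mem_core h st D), D.card⟩

/-- A 2-subgroup of `S` with Sylow normaliser and normaliser outside `M` lies in the core. -/
theorem local_le_core (h : Conf S M) {R : Subgroup G} (hR : R ≤ (S : Subgroup G)) (hR1 : R ≠ ⊥)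
    (hout : ¬ Subgroup.normalizer (R : Set G) ≤ M)
    (hsyl : ¬ 2 ∣ ((S : Subgroup G) ⊓ Subgroup.normalizer (R : Set G)).relIndex (Subgroup.normalizer (R : Set G))) :
    R ≤ pCoreOf 2 M := by
  classical
  haveI : Fact (Nat.Prime 2) := ⟨Nat.prime_two⟩
  obtain ⟨T, st⟩ := exists_straddle h
  have h16 := (straddle_le_core h st).2
  set L := Subgroup.normalizer (R : Set G) with hL
  have hLloc : IsTwoLocal L := twoLocal (S.2.to_le hR) hR1
  set T₁ := (S : Subgroup G) ⊓ L with hT₁
  have hRT₁ : R ≤ T₁ := le_inf hR Subgroup.le_normalizer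
  have hbig : ∀ {X K : Subgroup G}, X ≤ (S : Subgroup G) → R ≤ X → IsTwoLocal K → X ≤ K → ¬ K ≤ M →
      16 ≤ Nat.card X → R ≤ pCoreOf 2 M := fun hX hRX hK hXK hKM hc =>
    hRX.trans (straddle_le_core h (of_card_le h st hX (h16 ▸ hc) hK hXK hKM)).1
  by_cases h8 : 16 ≤ Nat.card T₁
  · exact hbig inf_le_left hRT₁ hLloc inf_le_right hout h8
  set O := pCoreOf 2 L with hO
  have hg := h.hard.good_normalizer (S.2.to_le hR) hR1
  have hOT : O ≤ T₁ := by
    -- the core lies in every Sylow subgroup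
    have hn : L ≤ Subgroup.normalizer (O : Set G) := le_normalizer_core L
    haveI : (O.subgroupOf L).Normal := Subgroup.normal_subgroupOf_of_le_normalizer hn
    intro a ha
    have hT₁L : IsPGroup 2 ↥(T₁.subgroupOf L) := (S.2.to_le inf_le_left).comap_of_injective _ L.subtype_injective
    let P : Sylow 2 ↥L := hT₁L.toSylow hsyl
    have := CfsgLib.pCore_le_sylow P ((mem_core (core_le L ha)).mp ha)
    exact this
  have hRO : R ≤ O := le_core (S.2.to_le hR) Subgroup.le_normalizer le_rfl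
  have hO1 : O ≠ ⊥ := fun e => hR1 (le_bot_iff.mp (hRO.trans e.le))
  by_cases hO8 : 8 ≤ Nat.card O
  · -- the core is the whole Sylow subgroup
    have heq : O = T₁ := by
      by_contra hne
      have h2 : 2 * Nat.card ↥O ≤ Nat.card ↥T₁ := two_mul_le (S.2.to_le inf_le_left) (lt_of_le_of_ne hOT hne)
      omega
    have hlt : T₁ < (S : Subgroup G) := lt_of_le_of_ne inf_le_left fun e =>
      hout (h.sylowUp L hLloc (e.ge.trans inf_le_right))
    have hlt2 := CfsgLib.JComp.exists_normalizer_gt S.2 hlt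
    have hN1 : L ≤ Subgroup.normalizer (T₁ : Set G) := heq ▸ le_normalizer_core L
    have hc := two_mul_le (S.2.to_le inf_le_left) hlt2
    exact hbig inf_le_left (hRT₁.trans hlt2.le) (twoLocal (S.2.to_le inf_le_left) (fun e => hO1 (heq.trans e)))
      inf_le_right (fun hle => hout (hN1.trans hle)) (by
        have e : Nat.card ↥O = Nat.card ↥T₁ := congrArg (fun X : Subgroup G => Nat.card X) heq
        omega)
  exfalso
  obtain ⟨E, hES, hEsq, hE8⟩ := exists_eight h
  have hOS : O ≤ (S : Subgroup G) := hOT.trans inf_le_left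
  obtain ⟨z, hz, hz1⟩ := exists_inZ h
  have hzL : z ∈ L := mem_norm fun a ha => by rwa [conj_fix (hz.2.2 a (hR ha)).symm]
  have hzO : z ∈ O := hg.charTwo z hzL fun q hq => hz.2.2 q (hOS hq)
  obtain ⟨k, hk⟩ := card_eq_pow (core_two L : IsPGroup 2 ↥O)
  have hk2 : k ≤ 2 := by
    by_contra hk3
    exact hO8 (hk ▸ Nat.pow_le_pow_right (n := 2) (by norm_num) (show 3 ≤ k by omega))
  have hOab : ∀ a ∈ O, ∀ b ∈ O, a * b = b * a := by
    intro a ha b hb
    have e : (⟨a, ha⟩ : ↥O) * ⟨b, hb⟩ = ⟨b, hb⟩ * ⟨a, ha⟩ := by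
      interval_cases k
      · haveI : Subsingleton ↥O := (Nat.card_eq_one_iff_unique.mp (hk.trans (pow_zero 2))).1
        exact Subsingleton.elim _ _
      · haveI : IsCyclic ↥O := isCyclic_of_prime_card (hk.trans (pow_one 2))
        exact mul_comm' _ _
      · exact IsPGroup.commutative_of_card_eq_prime_sq hk _ _
    exact congrArg Subtype.val e
  -- elements centralising the core normalise `R`
  have hcent : ∀ x, (∀ q ∈ O, q * x = x * q) → x ∈ O := fun x hx =>
    hg.charTwo x (mem_norm fun a ha => by rwa [conj_fix (hx a (hRO ha)).symm]) hx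
  by_cases hinv : ∃ a ∈ O, a * a = 1 ∧ a ≠ 1 ∧ a ≠ z
  · obtain ⟨a, ha, hasq, ha1, haz⟩ := hinv
    have h4' : Nat.card O ≤ 4 := by
      rw [hk]; exact Nat.pow_le_pow_right (n := 2) (by norm_num) hk2
    have hlt := no_eight hasq ha1 hEsq hE8 _ S.2 (hOS ha) hES
    have hle : (S : Subgroup G) ⊓ Subgroup.centralizer ({a} : Set G) ≤ O := fun x hx => hcent x fun q hq => by
      have hxa := Subgroup.mem_centralizer_singleton_iff.mp hx.2
      -- the core is generated by the two involutions
      have hsq : ∀ b ∈ O, b * b = 1 := by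
        intro b hb
        by_contra hb2
        haveI := Fintype.ofFinite ↥O
        have hbb : b * b ∈ O := O.mul_mem hb hb
        have hb1 : b ≠ 1 := fun e => hb2 (by rw [e, one_mul])
        have hba : b ≠ a := fun e => hb2 (e ▸ hasq)
        have hbz : b ≠ z := fun e => hb2 (e ▸ hz.2.1)
        have hab : a * z ∈ O := O.mul_mem ha hzO
        have hazsq : a * z * (a * z) = 1 := by
          rw [show a * z * (a * z) = a * (z * a) * z by group, ← hz.2.2 a (hOS ha),
            show a * (a * z) * z = a * a * (z * z) by group, hasq, hz.2.1, one_mul]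
        have haz1 : a * z ≠ 1 := fun e => haz (by rw [eq_inv_of_mul_eq_one_left e, inv_eq_of_mul_eq_one_right hz.2.1])
        have hbaz : b ≠ a * z := fun e => hb2 (e ▸ hazsq)
        let S5 : Finset ↥O := {⟨1, O.one_mem⟩, ⟨a, ha⟩, ⟨z, hzO⟩, ⟨a * z, hab⟩, ⟨b, hb⟩}
        have h5 : S5.card = 5 := by
          rw [Finset.card_insert_of_notMem, Finset.card_insert_of_notMem, Finset.card_insert_of_notMem,
            Finset.card_insert_of_notMem, Finset.card_singleton] <;>
            simp [Ne.symm ha1, Ne.symm hz1, Ne.symm haz1, Ne.symm hb1, haz, Ne.symm hba, Ne.symm hbz,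
              Ne.symm hbaz, ha1, hz1]
        have := S5.card_le_univ
        rw [← Nat.card_eq_fintype_card] at this
        omega
      have hc4 : Nat.card O = 4 := by
        obtain ⟨j, hj⟩ := card_eq_pow (core_two L : IsPGroup 2 ↥O)
        have h3 : 3 ≤ Nat.card O := by
          haveI := Fintype.ofFinite ↥O
          have hh : ({1, ⟨a, ha⟩, ⟨z, hzO⟩} : Finset ↥O).card = 3 := Finset.card_eq_three.mpr
            ⟨_, _, _, fun e => ha1 (congrArg Subtype.val e).symm, fun e => hz1 (congrArg Subtype.val e).symm,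
              fun e => haz (congrArg Subtype.val e), rfl⟩
          rw [Nat.card_eq_fintype_card, ← hh]
          exact Finset.card_le_univ _
        rw [hk] at h3 ⊢
        interval_cases k <;> omega
      rcases four_elems hc4 hsq ha ha1 hzO hz1 haz hq with rfl | rfl | rfl | rfl
      · rw [one_mul, mul_one]
      · exact hxa.symm
      · exact (hz.2.2 x hx.1).symm
      · exact (Commute.mul_left (hxa.symm : Commute a x) (hz.2.2 x hx.1).symm).eq
    have := Subgroup.card_le_of_le hle
    omega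
  · push Not at hinv
    -- one involution: the normaliser is a 2-group
    refine hout ?_
    have hodd : ∀ g ∈ L, Odd (orderOf g) → g = 1 := by
      intro g hgL hgo
      have hgz : g * z = z * g := by
        refine of_conj_fix ?_
        by_contra hne
        exact hne (hinv _ (conj_mem_core hgL hzO) (conj_sq hz.2.1) (fun e => hz1 (conj_eq_one_iff.mp e)))
      refine eq_one_of_odd_mem (core_two L) hgo (hg.charTwo g hgL fun q hq => ?_)
      by_cases hq1 : q * q = 1
      · by_cases hq0 : q = 1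
        · rw [hq0, one_mul, mul_one]
        · rw [hinv q hq hq1 hq0]; exact hgz.symm
      · have hqq : q * q = z := by
          have h4 : q * q * (q * q) = 1 := by
            have hd : orderOf (⟨q, hq⟩ : ↥O) ∣ Nat.card O := orderOf_dvd_natCard _
            have h22 : Nat.card O ∣ 2 ^ 2 := hk ▸ pow_dvd_pow 2 hk2
            have := orderOf_dvd_iff_pow_eq_one.mp (hd.trans h22)
            have e := congrArg Subtype.val this
            simp only [Subgroup.coe_pow, Subgroup.coe_one] at e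
            rw [show (2 : ℕ) ^ 2 = 2 * 2 by norm_num, pow_mul, pow_two, pow_two] at e
            exact e
          exact hinv _ (O.mul_mem hq hq) h4 hq1
        -- the two generators
        have hcon : ∀ b ∈ O, b * b ≠ 1 → b = q ∨ b = q * z := by
          intro b hb hb2
          have hbb : b * b = z := by
            have h4 : b * b * (b * b) = 1 := by
              have hd : orderOf (⟨b, hb⟩ : ↥O) ∣ Nat.card O := orderOf_dvd_natCard _
              have h22 : Nat.card O ∣ 2 ^ 2 := hk ▸ pow_dvd_pow 2 hk2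
              have := orderOf_dvd_iff_pow_eq_one.mp (hd.trans h22)
              have e := congrArg Subtype.val this
              simp only [Subgroup.coe_pow, Subgroup.coe_one] at e
              rw [show (2 : ℕ) ^ 2 = 2 * 2 by norm_num, pow_mul, pow_two, pow_two] at e
              exact e
            exact hinv _ (O.mul_mem hb hb) h4 hb2
          have hm : q⁻¹ * b * (q⁻¹ * b) = 1 := by
            rw [show q⁻¹ * b * (q⁻¹ * b) = q⁻¹ * (b * q⁻¹) * b by group, hOab b hb _ (O.inv_mem hq),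
              show q⁻¹ * (q⁻¹ * b) * b = (q * q)⁻¹ * (b * b) by group, hqq, hbb, inv_mul_cancel]
          by_cases he : q⁻¹ * b = 1
          · exact Or.inl (inv_mul_eq_one.mp he).symm
          · refine Or.inr ?_
            rw [← hinv _ (O.mul_mem (O.inv_mem hq) hb) hm he, mul_inv_cancel_left]
        have hne : g * q * g⁻¹ * (g * q * g⁻¹) ≠ 1 := by
          rw [show g * q * g⁻¹ * (g * q * g⁻¹) = g * (q * q) * g⁻¹ by group, hqq, conj_fix hgz]
          exact hz1
        rcases hcon _ (conj_mem_core hgL hq) hne with e | e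
        · exact (of_conj_fix e).symm
        · exact absurd (fix_of_shift hgo (k := 1) (by rw [pow_one, pow_two]; exact hz.2.1) hgz
            (hOab q hq z hzO) e) hz1
    have hp : IsPGroup 2 ↥L := isPGroup_two_of_no_odd hodd
    have : T₁ = L := by
      by_contra hne
      have hlt := lt_of_le_of_ne (inf_le_right : T₁ ≤ L) hne
      obtain ⟨j, hj⟩ := card_eq_pow hp
      have hd : T₁.relIndex L ∣ 2 ^ j := by rw [← hj]; exact Subgroup.relIndex_dvd_card T₁ L
      obtain ⟨i, -, hi⟩ := (Nat.dvd_prime_pow Nat.prime_two).mp hd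
      rcases i with _ | i
      · exact hne (le_antisymm inf_le_right (Subgroup.relIndex_eq_one.mp (by simpa using hi)))
      · exact hsyl (hi ▸ dvd_pow_self 2 (Nat.succ_ne_zero i))
    exact this ▸ (inf_le_left.trans (S_le h))

/-- **Case U is impossible.** -/
theorem false_of_conf (h : Conf S M) : False := by
  classical
  haveI : Fact (Nat.Prime 2) := ⟨Nat.prime_two⟩
  set Q := pCoreOf 2 M with hQ
  obtain ⟨N, hQN, hNM, hn, hNS, hgen, -, -⟩ := exists_odd_part h
  obtain ⟨s, hs, hsQ⟩ := exists_not_mem_core h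
  obtain ⟨m, hm, hQm⟩ := (eq_top_or_exists_le_coatom (Q.subgroupOf (S : Subgroup G))).resolve_left
    fun e => hsQ (Subgroup.subgroupOf_eq_top.mp e hs)
  obtain ⟨hDH, hHc⟩ := commutator_le_max S.2 hm
  set H := m.map (S : Subgroup G).subtype with hH
  have hQH : Q ≤ H := fun q hq => ⟨⟨q, core_le_S h hq⟩, hQm hq, rfl⟩
  have hHS : H ≤ (S : Subgroup G) := Subgroup.map_subtype_le m
  -- one step
  have hstep : ∀ R : Subgroup G, R ≤ (S : Subgroup G) →
      ¬ 2 ∣ ((S : Subgroup G) ⊓ Subgroup.normalizer (R : Set G)).relIndex (Subgroup.normalizer (R : Set G)) →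
      ∀ x ∈ Subgroup.normalizer (R : Set G), ∀ a ∈ R, a⁻¹ * (x⁻¹ * a * x) ∈ H := by
    intro R hR hsyl x hx a ha
    have hax : x⁻¹ * a * x ∈ R := by simpa using conj_norm (Subgroup.inv_mem _ hx) ha
    by_cases hxM : x ∈ M
    · rw [hgen] at hxM
      obtain ⟨n, hn', t, ht, rfl⟩ := mem_sup_norm ((S_le h).trans hn) hxM
      have e : a⁻¹ * ((n * t)⁻¹ * a * (n * t)) =
          (a⁻¹ * (t⁻¹ * a * t)) * (t⁻¹ * (a⁻¹ * n⁻¹ * a * n) * t) := by group
      rw [e]
      have h1 : a⁻¹ * (t⁻¹ * a * t) ∈ H := by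
        refine hDH ?_
        have := Subgroup.commutator_mem_commutator (inv_mem (hR ha)) (inv_mem ht : t⁻¹ ∈ (S : Subgroup G))
        rwa [commutatorElement_def, inv_inv, inv_inv, show a⁻¹ * t⁻¹ * a * t = a⁻¹ * (t⁻¹ * a * t) by group] at this
      have h2 : a⁻¹ * n⁻¹ * a * n ∈ N := by
        have := conj_norm (hn (S_le h ((S : Subgroup G).inv_mem (hR ha)))) (N.inv_mem hn')
        rw [inv_inv] at this
        exact N.mul_mem this hn'
      have h3 : t⁻¹ * (a⁻¹ * n⁻¹ * a * n) * t ∈ N := by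
        simpa using conj_norm (hn (S_le h ((S : Subgroup G).inv_mem ht))) h2
      refine H.mul_mem h1 (hQH (hNS _ h3 ?_))
      have := (S : Subgroup G).mul_mem ((S : Subgroup G).inv_mem (hHS h1))
        ((S : Subgroup G).mul_mem ((S : Subgroup G).inv_mem (hR ha)) (hR hax))
      rw [show (a⁻¹ * (t⁻¹ * a * t))⁻¹ * (a⁻¹ * ((n * t)⁻¹ * a * (n * t))) =
        t⁻¹ * (a⁻¹ * n⁻¹ * a * n) * t by group] at this
      exact this
    · have hR1 : R ≠ ⊥ ∨ a = 1 := by
        by_cases ha1 : a = 1
        · exact Or.inr ha1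
        · exact Or.inl fun e => ha1 (by rw [e, Subgroup.mem_bot] at ha; exact ha)
      rcases hR1 with hR1 | rfl
      · have hRQ := (local_le_core h hR hR1 (fun hle => hxM (hle hx)) hsyl).trans hQH
        exact H.mul_mem (H.inv_mem (hRQ ha)) (hRQ hax)
      · simp
  -- all fusion stays in a coset
  have hfus : ∀ a ∈ (S : Subgroup G), ∀ g : G, g⁻¹ * a * g ∈ (S : Subgroup G) → a⁻¹ * (g⁻¹ * a * g) ∈ H := by
    intro a ha g hg
    obtain ⟨n, Qs, x, hprod, hx, h0, hnext⟩ := Cfsg.Agent.S0116.result S {a} g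
      (fun b hb => by subst hb; exact ha) (by rintro _ ⟨b, hb, rfl⟩; subst hb; exact hg)
    set P : ℕ → G := fun i => ((List.ofFn x).take i).prod with hP
    have key : ∀ i ≤ n, a⁻¹ * ((P i)⁻¹ * a * P i) ∈ H := by
      intro i
      induction i with
      | zero => intro _; simp [hP]
      | succ i ih =>
        intro hi
        have hP1 : P (i + 1) = P i * x ⟨i, by omega⟩ := by
          simp only [hP]
          rw [List.prod_take_succ _ i (by simp; omega)]
          simp
        have hin : (P i)⁻¹ * a * P i ∈ ((S : Subgroup G) ⊓ (Qs ⟨i, by omega⟩ : Subgroup G)) := by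
          rcases i with _ | j
          · rw [show P 0 = 1 from rfl, inv_one, one_mul, mul_one]
            exact h0 (by omega) rfl
          · exact hnext ⟨j, by omega⟩ (by simp; omega) ⟨a, rfl, rfl⟩
        obtain ⟨hxN, hsyl, -⟩ := hx ⟨i, by omega⟩
        have hs1 := hstep _ inf_le_left hsyl _ hxN _ hin
        have := H.mul_mem (ih (by omega)) hs1
        rw [hP1]
        rwa [show a⁻¹ * ((P i)⁻¹ * a * P i) * (((P i)⁻¹ * a * P i)⁻¹ *
          ((x ⟨i, by omega⟩)⁻¹ * ((P i)⁻¹ * a * P i) * x ⟨i, by omega⟩)) =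
          a⁻¹ * ((P i * x ⟨i, by omega⟩)⁻¹ * a * (P i * x ⟨i, by omega⟩)) by group] at this
    have := key n le_rfl
    rwa [show P n = g by simp [hP, List.take_of_length_le, hprod]] at this
  -- the focal subgroup is proper
  have hfoc : (S : Subgroup G).focalSubgroup ≤ H := by
    rw [Subgroup.focalSubgroup_def, Subgroup.closure_le]
    rintro _ ⟨hgS, x, hx, u, rfl⟩
    rw [commutatorElement_def] at hgS ⊢
    have hconj : (u⁻¹)⁻¹ * x⁻¹ * u⁻¹ ∈ (S : Subgroup G) := by
      have := (S : Subgroup G).mul_mem ((S : Subgroup G).inv_mem hx) hgS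
      rwa [show x⁻¹ * (x * u * x⁻¹ * u⁻¹) = (u⁻¹)⁻¹ * x⁻¹ * u⁻¹ by group] at this
    have := hfus x⁻¹ ((S : Subgroup G).inv_mem hx) u⁻¹ hconj
    rwa [show x⁻¹⁻¹ * ((u⁻¹)⁻¹ * x⁻¹ * u⁻¹) = x * u * x⁻¹ * u⁻¹ by group] at this
  haveI := h.hard.simple
  have hperfect : commutator G = ⊤ := by
    refine (IsSimpleGroup.eq_bot_or_eq_top_of_normal (commutator G) inferInstance).resolve_left fun e =>
      h.hard.nonComm ⟨⟨fun a b => ?_⟩⟩
    have h1 : ⁅a, b⁆ ∈ (⊥ : Subgroup G) :=
      e ▸ Subgroup.commutator_mem_commutator (Subgroup.mem_top a) (Subgroup.mem_top b)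
    exact commutatorElement_eq_one_iff_mul_comm.mp (Subgroup.mem_bot.mp h1)
  have hle : (S : Subgroup G) ≤ H := by
    rw [← Subgroup.commutator_inf_eq_focalSubgroup S, hperfect, top_inf_eq] at hfoc
    exact hfoc
  have := Subgroup.card_le_of_le hle
  have := Nat.card_pos (α := ↥H)
  omega

end CfsgLib.SRFour.CaseU

namespace CfsgLib.SRFour

open Cfsg

universe u

variable {G : Type u} [Group G] [Finite G]

/-- Case U: no 2-local can contain every 2-local over a Sylow subgroup. -/
theorem caseU (h : Hard G) (S : Sylow 2 G) (M : Subgroup G) (hM : IsTwoLocal M)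
    (hU : ∀ L, IsTwoLocal L → (S : Subgroup G) ≤ L → L ≤ M)
    (hns : ¬ centZ (S : Subgroup G) ≤ Subgroup.normalizer ((S : Subgroup G) : Set G)) : False :=
  CaseU.false_of_conf (S := S) (M := M) ⟨h, hM, hU, hns⟩

end CfsgLib.SRFour
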