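import Mathlib
import Cfsg.Agent.Lib.SRFour.MType

/-!
The pair of movers `K`, `M₁` of a natural four-group.

Blueprint: `blueprint/S0517.md`, §3.
-/

set_option autoImplicit false
set_option linter.unusedSectionVars false
set_option linter.style.haveILetI false

namespace CfsgLib.SRFour

open Cfsg
open scoped commutatorElement

universe u

variable {G : Type u} [Group G]

namespace NData

variable {S : Sylow 2 G} {K M₁ F : Subgroup G} {z v x : G}

theorem xzv (N : NData (S : Subgroup G) K M₁ F z v x) : x * (z * v) * x⁻¹ = z := by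
  rw [show x * (z * v) * x⁻¹ = (x * z * x⁻¹) * (x * v * x⁻¹) by group, N.xz, N.xv, ← mul_assoc,
    show v * z = z * v from N.toMData.zv.symm, mul_assoc, N.v_sq, mul_one]

variable [Finite G]

theorem core_le_S (N : NData (S : Subgroup G) K M₁ F z v x) : pCoreOf 2 K ≤ (S : Subgroup G) :=
  core_le_sylow S N.S_le_K

theorem core_z (N : NData (S : Subgroup G) K M₁ F z v x) {q : G} (hq : q ∈ pCoreOf 2 K) : q * z = z * q :=
  N.z_mem.2.2 q (N.core_le_S hq)

theorem mem_core_iff (N : NData (S : Subgroup G) K M₁ F z v x) {s : G} (hs : s ∈ (S : Subgroup G)) :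
    s ∈ pCoreOf 2 K ↔ s * v = v * s :=
  ⟨N.core_v s, fun h => N.fix_core s (N.S_le_K hs) (N.z_mem.2.2 s hs) h⟩

theorem z_core (N : NData (S : Subgroup G) K M₁ F z v x) : z ∈ pCoreOf 2 K :=
  (N.mem_core_iff N.z_mem.1).mpr (N.z_mem.2.2 v N.v_mem).symm

theorem v_core (N : NData (S : Subgroup G) K M₁ F z v x) : v ∈ pCoreOf 2 K :=
  (N.mem_core_iff N.v_mem).mpr rfl

/-- No nontrivial 2-subgroup is normalised by `S`, `x` and a nontrivial odd element of `M₁`. -/
theorem no_common (h : Hard G) (N : NData (S : Subgroup G) K M₁ F z v x) {P : Subgroup G} (hP : IsPGroup 2 ↥P)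
    (hne : P ≠ ⊥) (hS : (S : Subgroup G) ≤ Subgroup.normalizer (P : Set G))
    (hx : x ∈ Subgroup.normalizer (P : Set G)) {y : G} (hy : y ∈ M₁) (hyo : Odd (orderOf y))
    (hyP : y ∈ Subgroup.normalizer (P : Set G)) : y = 1 := by
  have hL := h.good_normalizer hP hne
  refine N.toMData.eq_one_of_comm hy hyo fun q hq => ?_
  have hm := hL.commutator_mem h.sect (core_two M₁) (N.toMData.Q_le_S.trans hS) hq hyP hyo
    (N.toMData.conj_mem_Q hy (inv_mem hq))
  set a := ⁅q, y⁆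
  have h1 := core_le_conj S hS (Subgroup.inv_mem _ hx) hm
  rw [inv_inv] at h1
  have h2 := N.z_mem.2.2 _ h1
  calc a * v = x * (x⁻¹ * a * x * z) * x⁻¹ := by rw [← N.xz]; group
    _ = x * (z * (x⁻¹ * a * x)) * x⁻¹ := by rw [h2]
    _ = v * a := by rw [← N.xz]; group

/-- CRIT: `M₁` and `x` normalise no nontrivial 2-subgroup. -/
theorem crit (h : Hard G) (N : NData (S : Subgroup G) K M₁ F z v x) {P : Subgroup G} (hP : IsPGroup 2 ↥P)
    (hne : P ≠ ⊥) (hM : M₁ ≤ Subgroup.normalizer (P : Set G))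
    (hx : x ∈ Subgroup.normalizer (P : Set G)) : False := by
  obtain ⟨f, hf, hf1, hfo⟩ := N.toMData.exists_odd
  exact hf1 (N.no_common h hP hne (N.toMData.S_le.trans hM) hx (N.ov.F_le hf) hfo (hM (N.ov.F_le hf)))

/-- Nothing in `Ω₁Z(S)` is centralised by `x`. -/
theorem eq_one_of_Z (h : Hard G) (N : NData (S : Subgroup G) K M₁ F z v x) {a : G} (ha : InZ (S : Subgroup G) a)
    (hxa : x * a = a * x) : a = 1 := by
  by_contra hne
  have hnorm : ∀ m : G, m * a = a * m → m ∈ Subgroup.normalizer (Subgroup.zpowers a : Set G) := fun m hm =>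
    Subgroup.mem_normalizer_fintype fun b hb => by
      obtain ⟨i, rfl⟩ := Subgroup.mem_zpowers_iff.mp hb
      rw [← conj_zpow, hm, mul_inv_cancel_right]
      exact Subgroup.zpow_mem _ (Subgroup.mem_zpowers a) i
  refine N.crit h (P := Subgroup.zpowers a) ?_ (by simpa using hne)
    (fun m hm => hnorm m (mem_centZ.mp (N.M_le hm) a ha)) (hnorm x hxa)
  exact IsPGroup.of_card (n := 1) (by rw [card_zpowers_two ha.2.1 hne, pow_one])

/-- `x` fixes no involution of the centre of `O₂(K)`. -/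
theorem fpf (h : Hard G) (N : NData (S : Subgroup G) K M₁ F z v x) {a : G} (ha : a ∈ pCoreOf 2 K)
    (hc : ∀ q ∈ pCoreOf 2 K, q * a = a * q) (hxa : x * a = a * x) : a = 1 := by
  by_contra hne
  let A : Subgroup G := pCoreOf 2 K ⊓ Subgroup.centralizer (pCoreOf 2 K : Set G) ⊓ Subgroup.centralizer {x}
  have haA : a ∈ A := ⟨⟨ha, Subgroup.mem_centralizer_iff.mpr hc⟩, Subgroup.mem_centralizer_singleton_iff.mpr hxa.symm⟩
  have hn : (S : Subgroup G) ≤ Subgroup.normalizer (A : Set G) := Subgroup.le_normalizer_iff.mpr fun s hs b hb => by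
    have hcore : s * b * s⁻¹ ∈ pCoreOf 2 K := conj_mem_core (N.S_le_K hs) hb.1.1
    refine ⟨⟨hcore, Subgroup.mem_centralizer_iff.mpr fun q hq => ?_⟩, Subgroup.mem_centralizer_singleton_iff.mpr ?_⟩
    · have hq' : s⁻¹ * q * s ∈ pCoreOf 2 K := by
        have := conj_mem_core (N.S_le_K (inv_mem hs)) hq
        rwa [inv_inv] at this
      have e := Subgroup.mem_centralizer_iff.mp hb.1.2 _ hq'
      calc q * (s * b * s⁻¹) = s * (s⁻¹ * q * s * b) * s⁻¹ := by group
        _ = s * (b * (s⁻¹ * q * s)) * s⁻¹ := by rw [e]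
        _ = s * b * s⁻¹ * q := by group
    · obtain ⟨q, hq, i, hi⟩ := N.x_norm s⁻¹ (inv_mem hs)
      rw [inv_inv] at hi
      have hbq : Commute b q := (Subgroup.mem_centralizer_iff.mp hb.1.2 q hq).symm
      have hbx : Commute b (x ^ i) := Commute.zpow_right (Subgroup.mem_centralizer_singleton_iff.mp hb.2) i
      have hb' : b * (s⁻¹ * x * s) = s⁻¹ * x * s * b := by rw [hi]; exact (hbq.mul_right hbx).eq
      calc s * b * s⁻¹ * x = s * (b * (s⁻¹ * x * s)) * s⁻¹ := by group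
        _ = s * (s⁻¹ * x * s * b) * s⁻¹ := by rw [hb']
        _ = x * (s * b * s⁻¹) := by group
  obtain ⟨b, hb, hb1, hb2, hbc⟩ := exists_central S.isPGroup' (A := A) ((inf_le_left.trans inf_le_left).trans N.core_le_S) hn
    (fun e => hne (Subgroup.mem_bot.mp (e ▸ haA)))
  exact hb1 (N.eq_one_of_Z h ⟨N.core_le_S hb.1.1, hb2, hbc⟩ (Subgroup.mem_centralizer_singleton_iff.mp hb.2).symm)

/-- An element moving `v` gives `S = O₂(K) ∪ O₂(K)t`. -/
theorem core_cover (N : NData (S : Subgroup G) K M₁ F z v x) {t : G} (ht : t ∈ (S : Subgroup G))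
    (htv : t * v * t⁻¹ = z * v) {s : G} (hs : s ∈ (S : Subgroup G)) :
    s ∈ pCoreOf 2 K ∨ s * t⁻¹ ∈ pCoreOf 2 K := by
  rcases N.sv s hs with e | e
  · exact Or.inl ((N.mem_core_iff hs).mpr (mul_inv_eq_iff_eq_mul.mp e))
  · refine Or.inr ((N.mem_core_iff (mul_mem hs (inv_mem ht))).mpr (mul_inv_eq_iff_eq_mul.mp ?_))
    have e2 : t⁻¹ * v * t = z * v := by
      have h1 := congrArg (fun a => t⁻¹ * a * t) htv
      simp only [show t⁻¹ * (t * v * t⁻¹) * t = v by group] at h1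
      have hz' : t⁻¹ * z = z * t⁻¹ := N.z_mem.2.2 _ (inv_mem ht)
      calc t⁻¹ * v * t = z * (t⁻¹ * (z * v) * t) := by
            rw [show t⁻¹ * (z * v) * t = (t⁻¹ * z) * v * t by group, hz',
              show z * (z * t⁻¹ * v * t) = (z * z) * (t⁻¹ * v * t) by group, N.z_mem.2.1, one_mul]
        _ = z * v := by rw [← h1]
    calc s * t⁻¹ * v * (s * t⁻¹)⁻¹ = s * (t⁻¹ * v * t) * s⁻¹ := by group
      _ = (s * z * s⁻¹) * (s * v * s⁻¹) := by rw [e2]; group
      _ = z * (z * v) := by rw [e, N.z_mem.2.2 s hs, mul_inv_cancel_right]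
      _ = v := by rw [← mul_assoc, N.z_mem.2.1, one_mul]

/-- `g = x t` interchanges `z` and `v`. -/
theorem swap (N : NData (S : Subgroup G) K M₁ F z v x) {t : G} (ht : t ∈ (S : Subgroup G))
    (htv : t * v * t⁻¹ = z * v) :
    x * t ∈ K ∧ x * t * z * (x * t)⁻¹ = v ∧ x * t * v * (x * t)⁻¹ = z ∧ x * t * (x * t) ∈ pCoreOf 2 K := by
  have hg : x * t ∈ K := K.mul_mem N.x_mem (N.S_le_K ht)
  have h1 : x * t * z * (x * t)⁻¹ = v := by
    rw [show x * t * z * (x * t)⁻¹ = x * (t * z * t⁻¹) * x⁻¹ by group, N.z_mem.2.2 t ht, mul_inv_cancel_right, N.xz]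
  have h2 : x * t * v * (x * t)⁻¹ = z := by
    rw [show x * t * v * (x * t)⁻¹ = x * (t * v * t⁻¹) * x⁻¹ by group, htv, N.xzv]
  refine ⟨hg, h1, h2, N.fix_core _ (K.mul_mem hg hg) ?_ ?_⟩
  · exact mul_inv_eq_iff_eq_mul.mp (by
      rw [show x * t * (x * t) * z * (x * t * (x * t))⁻¹ = x * t * (x * t * z * (x * t)⁻¹) * (x * t)⁻¹ by group, h1, h2])
  · exact mul_inv_eq_iff_eq_mul.mp (by
      rw [show x * t * (x * t) * v * (x * t * (x * t))⁻¹ = x * t * (x * t * v * (x * t)⁻¹) * (x * t)⁻¹ by group, h2, h1])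

end NData

end CfsgLib.SRFour
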