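import Mathlib
import Cfsg.Agent.Lib.SRFour.NType

/-!
Extraspecial groups of order 32 given by squares and centre, and counting of their involutions.

Blueprint: `blueprint/S0517.md`, addendum "Parcel Extra".
-/

set_option autoImplicit false
set_option linter.unusedSectionVars false
set_option linter.style.haveILetI false

namespace CfsgLib.SRFour

open Cfsg
open scoped commutatorElement

universe u

variable {G : Type u} [Group G]

/-- An extraspecial subgroup of order 32 with centre `⟨z⟩`. -/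
structure Ex32 (Q : Subgroup G) (z : G) : Prop where
  card : Nat.card Q = 32
  z_mem : z ∈ Q
  z_sq : z * z = 1
  z_ne : z ≠ 1
  z_comm : ∀ q ∈ Q, q * z = z * q
  sq : ∀ q ∈ Q, q * q ∈ Subgroup.zpowers z
  center : ∀ c ∈ Q, (∀ q ∈ Q, q * c = c * q) → c ∈ Subgroup.zpowers z

theorem mem_normalizer_closure [Finite G] {X : Set G} {g : G} (h : ∀ x ∈ X, g * x * g⁻¹ ∈ Subgroup.closure X) :
    g ∈ Subgroup.normalizer (Subgroup.closure X : Set G) := by
  refine Subgroup.mem_normalizer_fintype fun a ha => ?_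
  induction ha using Subgroup.closure_induction with
  | mem x hx => exact h x hx
  | one => simp
  | mul a b _ _ iha ihb =>
    rw [show g * (a * b) * g⁻¹ = (g * a * g⁻¹) * (g * b * g⁻¹) by group]
    exact mul_mem iha ihb
  | inv a _ iha =>
    rw [show g * a⁻¹ * g⁻¹ = (g * a * g⁻¹)⁻¹ by group]
    exact inv_mem iha

theorem comm_closure {X : Set G} (h : ∀ x ∈ X, ∀ y ∈ X, x * y = y * x) :
    ∀ a ∈ Subgroup.closure X, ∀ b ∈ Subgroup.closure X, a * b = b * a := by
  have h1 : Subgroup.closure X ≤ Subgroup.centralizer X :=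
    (Subgroup.closure_le _).mpr fun x hx => Subgroup.mem_centralizer_iff.mpr fun y hy => h y hy x hx
  intro a ha b hb
  have h2 : Subgroup.closure X ≤ Subgroup.centralizer ({a} : Set G) :=
    (Subgroup.closure_le _).mpr fun x hx =>
      Subgroup.mem_centralizer_singleton_iff.mpr (Subgroup.mem_centralizer_iff.mp (h1 ha) x hx)
  exact (Subgroup.mem_centralizer_singleton_iff.mp (h2 hb)).symm

/-- Orbits of an element of prime order acting by conjugation on a set. -/
theorem card_modEq_fixed [Finite G] [DecidableEq G] {p : ℕ} (hp : p.Prime) {f : G} (hf : f ^ p = 1)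
    (T : Finset G) (hT : ∀ a ∈ T, f * a * f⁻¹ ∈ T) :
    T.card ≡ (T.filter fun a => f * a = a * f).card [MOD p] := by
  haveI : Fact p.Prime := ⟨hp⟩
  have hnat : ∀ n : ℕ, ∀ a ∈ T, f ^ n * a * (f ^ n)⁻¹ ∈ T := by
    intro n
    induction n with
    | zero => intro a ha; simpa using ha
    | succ n ih =>
      intro a ha
      rw [show f ^ (n + 1) * a * (f ^ (n + 1))⁻¹ = f * (f ^ n * a * (f ^ n)⁻¹) * f⁻¹ by rw [pow_succ']; group]
      exact hT _ (ih a ha)
  have hall : ∀ g ∈ Subgroup.zpowers f, ∀ a ∈ T, g * a * g⁻¹ ∈ T := by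
    intro g hg
    obtain ⟨n, rfl⟩ := mem_powers_iff_mem_zpowers.mpr hg
    exact hnat n
  letI : MulAction ↥(Subgroup.zpowers f) {a // a ∈ T} :=
    { smul := fun g a => ⟨g * a * (g : G)⁻¹, hall g g.2 a a.2⟩
      one_smul := fun a => Subtype.ext (show ((1 : ↥(Subgroup.zpowers f)) : G) * a * _ = a by simp)
      mul_smul := fun g k a => Subtype.ext (by
        show ((g * k : ↥(Subgroup.zpowers f)) : G) * a * ((g * k : ↥(Subgroup.zpowers f)) : G)⁻¹ =
          g * (k * a * (k : G)⁻¹) * (g : G)⁻¹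
        rw [Subgroup.coe_mul]; group) }
  have hP : IsPGroup p ↥(Subgroup.zpowers f) := by
    rintro ⟨g, hg⟩
    obtain ⟨n, rfl⟩ := mem_powers_iff_mem_zpowers.mpr hg
    refine ⟨1, Subtype.ext ?_⟩
    show (f ^ n) ^ p ^ 1 = 1
    rw [pow_one, ← pow_mul, mul_comm, pow_mul, hf, one_pow]
  have h := hP.card_modEq_card_fixedPoints {a // a ∈ T}
  rw [Nat.card_eq_fintype_card, Fintype.card_coe] at h
  refine h.trans (congrArg (· % p) ?_)
  rw [← Fintype.card_coe, ← Nat.card_eq_fintype_card]
  refine Nat.card_congr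
    { toFun := fun a => ⟨a.1.1, Finset.mem_filter.mpr ⟨a.1.2, mul_inv_eq_iff_eq_mul.mp
        (congrArg Subtype.val (a.2 ⟨f, Subgroup.mem_zpowers f⟩))⟩⟩
      invFun := fun a => ⟨⟨a.1, (Finset.mem_filter.mp a.2).1⟩, fun g => Subtype.ext (by
        show (g : G) * a.1 * (g : G)⁻¹ = a.1
        obtain ⟨n, hn⟩ := mem_powers_iff_mem_zpowers.mpr g.2
        rw [← hn, mul_inv_eq_iff_eq_mul]
        exact (Commute.pow_left (show Commute f a.1 from (Finset.mem_filter.mp a.2).2) n).eq)⟩
      left_inv := fun a => rfl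
      right_inv := fun a => rfl }

namespace Ex32

variable {Q : Subgroup G} {z : G}

theorem zpow_cases (X : Ex32 Q z) {a : G} (ha : a ∈ Subgroup.zpowers z) : a = 1 ∨ a = z := mem_two X.z_sq ha

theorem comm_mem (X : Ex32 Q z) {a b : G} (ha : a ∈ Q) (hb : b ∈ Q) : ⁅a, b⁆ ∈ Subgroup.zpowers z := by
  have e : b⁻¹ * (a * a)⁻¹ * b = (a * a)⁻¹ := by
    rcases X.zpow_cases (X.sq a ha) with e | e <;> rw [e]
    · group
    · rw [inv_eq_of_mul_eq_one_right X.z_sq, mul_assoc, ← X.z_comm b hb, ← mul_assoc, inv_mul_cancel, one_mul]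
  rw [show ⁅a, b⁆ = (a * b * (a * b)) * (b⁻¹ * (a * a)⁻¹ * b) * (b * b)⁻¹ by
    simp only [commutatorElement_def]; group, e]
  exact mul_mem (mul_mem (X.sq _ (Q.mul_mem ha hb)) (inv_mem (X.sq a ha))) (inv_mem (X.sq b hb))

theorem move (X : Ex32 Q z) {a b : G} (ha : a ∈ Q) (hb : b ∈ Q) : a * b = b * a ∨ a * b = z * (b * a) := by
  rcases X.zpow_cases (X.comm_mem ha hb) with e | e
  · exact Or.inl (commutatorElement_eq_one_iff_mul_comm.mp e)
  · refine Or.inr ?_
    rw [← e, commutatorElement_def]; group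

theorem norm (X : Ex32 Q z) {A : Subgroup G} (hA : A ≤ Q) (hz : z ∈ A) [Finite G] :
    Q ≤ Subgroup.normalizer (A : Set G) := by
  intro q hq
  refine Subgroup.mem_normalizer_fintype fun a ha => ?_
  rcases X.move hq (hA ha) with e | e <;> rw [e]
  · rwa [mul_inv_cancel_right]
  · rw [mul_assoc, mul_inv_cancel_right]; exact mul_mem hz ha

variable [Finite G]

theorem card_halve (X : Ex32 Q z) {H : Subgroup G} (hH : H ≤ Q) {e : G} (he : e ∈ Q) {h : G} (hh : h ∈ H)
    (hne : h * e ≠ e * h) : 2 * Nat.card ↥(H ⊓ Subgroup.centralizer {e} : Subgroup G) = Nat.card H := by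
  classical
  set C := H ⊓ Subgroup.centralizer ({e} : Set G)
  have hC : ∀ c, c ∈ C ↔ c ∈ H ∧ c * e = e * c := fun c =>
    ⟨fun hc => ⟨hc.1, Subgroup.mem_centralizer_singleton_iff.mp hc.2⟩,
      fun hc => ⟨hc.1, Subgroup.mem_centralizer_singleton_iff.mpr hc.2⟩⟩
  let φ : ↥C ⊕ ↥C → ↥H := Sum.elim (fun c => ⟨c, ((hC _).mp c.2).1⟩)
    (fun c => ⟨c * h, H.mul_mem ((hC _).mp c.2).1 hh⟩)
  have hout : ∀ c ∈ C, c * h ∉ C := fun c hc hm => hne ((hC h).mp (by simpa using mul_mem (inv_mem hc) hm)).2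
  have hφ : Function.Bijective φ := by
    constructor
    · rintro (c | c) (d | d) e' <;> have e'' := congrArg Subtype.val e' <;> simp only [φ, Sum.elim_inl, Sum.elim_inr] at e''
      · rw [Subtype.ext e'']
      · exact absurd (e'' ▸ c.2 : (d : G) * h ∈ C) (hout d d.2)
      · exact absurd (e''.symm ▸ d.2 : (c : G) * h ∈ C) (hout c c.2)
      · rw [Subtype.ext (mul_right_cancel e'')]
    · rintro ⟨k, hk⟩
      by_cases hke : k * e = e * k
      · exact ⟨Sum.inl ⟨k, (hC k).mpr ⟨hk, hke⟩⟩, rfl⟩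
      refine ⟨Sum.inr ⟨k * h⁻¹, (hC _).mpr ⟨H.mul_mem hk (H.inv_mem hh), ?_⟩⟩,
        Subtype.ext (show k * h⁻¹ * h = k by group)⟩
      have e1 := (X.move (hH hk) he).resolve_left hke
      have e2 := (X.move (hH hh) he).resolve_left hne
      have e3 : h⁻¹ * e = z * (e * h⁻¹) := by
        have h1 : z * (h * e) = e * h := by rw [e2, ← mul_assoc, X.z_sq, one_mul]
        calc h⁻¹ * e = h⁻¹ * (e * h) * h⁻¹ := by group
          _ = h⁻¹ * (z * (h * e)) * h⁻¹ := by rw [h1]
          _ = (h⁻¹ * z * h) * (e * h⁻¹) := by group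
          _ = z * (e * h⁻¹) := by rw [mul_assoc h⁻¹ z h, ← X.z_comm h (hH hh), inv_mul_cancel_left]
      calc k * h⁻¹ * e = (k * z) * e * h⁻¹ := by rw [mul_assoc, e3]; group
        _ = z * (k * e) * h⁻¹ := by rw [X.z_comm k (hH hk)]; group
        _ = e * (k * h⁻¹) := by rw [e1, ← mul_assoc z z, X.z_sq, one_mul]; group
  rw [← Nat.card_congr (Equiv.ofBijective φ hφ), Nat.card_sum, two_mul]

/-- An element of `Q` outside the centre has centraliser of order sixteen. -/
theorem card_cent (X : Ex32 Q z) {e : G} (he : e ∈ Q) (hne : e ∉ Subgroup.zpowers z) :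
    Nat.card ↥(Q ⊓ Subgroup.centralizer {e} : Subgroup G) = 16 := by
  obtain ⟨q, hq, hqe⟩ : ∃ q ∈ Q, q * e ≠ e * q := by
    by_contra hh
    push Not at hh
    exact hne (X.center e he hh)
  have := X.card_halve le_rfl he hq hqe
  rw [X.card] at this
  omega

/-- Abelian subgroups have order at most eight. -/
theorem card_comm_le (X : Ex32 Q z) {H : Subgroup G} (hH : H ≤ Q) (hc : ∀ a ∈ H, ∀ b ∈ H, a * b = b * a) :
    Nat.card H ≤ 8 := by
  by_contra hlt
  push Not at hlt
  have hd : Nat.card H ∣ 2 ^ 5 := by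
    have := Subgroup.card_dvd_of_le hH
    rw [X.card] at this
    exact this.trans (dvd_of_eq (by norm_num))
  obtain ⟨k, hk5, hk⟩ := (Nat.dvd_prime_pow Nat.prime_two).mp hd
  have hz2 := card_zpowers_two X.z_sq X.z_ne
  rcases (show k = 4 ∨ k = 5 by
    rw [hk] at hlt
    interval_cases k <;> omega) with rfl | rfl
  · obtain ⟨t, ht, htH⟩ : ∃ t ∈ Q, t ∉ H := by
      by_contra hh
      push Not at hh
      have := Subgroup.card_le_of_le (show Q ≤ H from hh)
      rw [X.card, hk] at this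
      omega
    have hidx : ∀ q ∈ Q, q ∈ H ∨ q * t⁻¹ ∈ H := by
      intro q hq
      have hr : H.relIndex Q = 2 := by
        have h1 := Subgroup.card_mul_index (H.subgroupOf Q)
        rw [Nat.card_congr (Subgroup.subgroupOfEquivOfLe hH).toEquiv, X.card, hk] at h1
        change 2 ^ 4 * H.relIndex Q = 32 at h1
        omega
      by_cases hqH : q ∈ H
      · exact Or.inl hqH
      refine Or.inr ((Subgroup.mul_mem_iff_of_index_two (H := H.subgroupOf Q) hr (a := (⟨q, hq⟩ : ↥Q))
        (b := (⟨t⁻¹, Q.inv_mem ht⟩ : ↥Q))).mpr ⟨fun h => absurd h hqH, fun h => ?_⟩)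
      exact absurd (H.inv_mem_iff.mp h) htH
    set A := H ⊓ Subgroup.centralizer ({t} : Set G)
    have hA : A ≤ Subgroup.zpowers z := fun a ha => by
      refine X.center a (hH ha.1) fun q hq => ?_
      rcases hidx q hq with h | h
      · exact hc q h a ha.1
      · have h1 : Commute (q * t⁻¹) a := hc _ h a ha.1
        have h2 : Commute t a := (Subgroup.mem_centralizer_singleton_iff.mp ha.2).symm
        simpa using (h1.mul_left h2).eq
    have h16 : 8 ≤ Nat.card A := by
      by_cases hall : ∀ a ∈ H, a * t = t * a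
      · have : H ≤ A := fun a ha => ⟨ha, Subgroup.mem_centralizer_singleton_iff.mpr (hall a ha)⟩
        have := Subgroup.card_le_of_le this
        rw [hk] at this
        omega
      · push Not at hall
        obtain ⟨a, ha, hne⟩ := hall
        have := X.card_halve hH ht ha hne
        rw [hk] at this
        change 2 * Nat.card A = _ at this
        omega
    have := Subgroup.card_le_of_le hA
    omega
  · have e : H = Q := Subgroup.eq_of_le_of_card_ge hH (by rw [X.card, hk]; norm_num)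
    subst e
    have := Subgroup.card_le_of_le (show H ≤ Subgroup.zpowers z from fun a ha => X.center a ha fun q hq => hc q hq a ha)
    rw [X.card] at this
    omega

/-- An abelian subgroup of order eight is its own centraliser. -/
theorem cent_eight (X : Ex32 Q z) {H : Subgroup G} (hH : H ≤ Q) (hc : ∀ a ∈ H, ∀ b ∈ H, a * b = b * a)
    (h8 : Nat.card H = 8) {q : G} (hq : q ∈ Q) (hqH : ∀ a ∈ H, q * a = a * q) : q ∈ H := by
  by_contra hne
  have hle : Subgroup.closure (insert q (H : Set G)) ≤ Q :=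
    (Subgroup.closure_le _).mpr (Set.insert_subset hq hH)
  have hcc := comm_closure (X := insert q (H : Set G)) (by
    rintro a (rfl | ha) b (rfl | hb)
    · rfl
    · exact hqH b hb
    · exact (hqH a ha).symm
    · exact hc a ha b hb)
  have hsub : H ≤ Subgroup.closure (insert q (H : Set G)) := fun a ha => Subgroup.subset_closure (Or.inr ha)
  have h1 := X.card_comm_le hle hcc
  rw [← h8] at h1
  exact hne ((Subgroup.eq_of_le_of_card_ge hsub h1).ge (Subgroup.subset_closure (Or.inl rfl)))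

/-- With an elementary subgroup of order eight there are exactly twenty solutions of `q * q = 1`. -/
theorem count [DecidableEq G] (X : Ex32 Q z) {E : Subgroup G} (hE : E ≤ Q) (h8 : Nat.card E = 8)
    (hsq : ∀ e ∈ E, e * e = 1) (T : Finset G) (hT : ∀ q, q ∈ T ↔ q ∈ Q ∧ q * q = 1) : T.card = 20 := by
  classical
  haveI := Fintype.ofFinite G
  set Qf := (Q : Set G).toFinset
  set Ef := (E : Set G).toFinset
  have hQf : ∀ {q}, q ∈ Qf ↔ q ∈ Q := by simp [Qf]
  have hEf : ∀ {q}, q ∈ Ef ↔ q ∈ E := by simp [Ef]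
  have cQ : Qf.card = 32 := by rw [Set.toFinset_card, ← Nat.card_eq_fintype_card]; exact X.card
  have cE : Ef.card = 8 := by rw [Set.toFinset_card, ← Nat.card_eq_fintype_card]; exact h8
  have hc := comm_of_exp_two hsq
  have hrow : ∀ e ∈ Ef, (Qf.filter fun q => q * e * (q * e) = 1).card = T.card := by
    intro e he
    have heQ := hE (hEf.mp he)
    refine Finset.card_bij' (fun q _ => q * e) (fun q _ => q * e⁻¹) ?_ ?_ ?_ ?_
    · intro q hq
      rw [Finset.mem_filter, hQf] at hq
      exact (hT _).mpr ⟨Q.mul_mem hq.1 heQ, hq.2⟩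
    · intro q hq
      rw [Finset.mem_filter, hQf, inv_mul_cancel_right]
      exact ⟨Q.mul_mem ((hT q).mp hq).1 (Q.inv_mem heQ), ((hT q).mp hq).2⟩
    · intro q _; exact mul_inv_cancel_right q e
    · intro q _; exact inv_mul_cancel_right q e
  have hcol : ∀ q ∈ Qf, (Ef.filter fun e => q * e * (q * e) = 1).card = if q ∈ E then 8 else 4 := by
    intro q hq
    rw [hQf] at hq
    split_ifs with hqE
    · rw [Finset.filter_true_of_mem fun e he => hsq _ (E.mul_mem hqE (hEf.mp he)), cE]
    · obtain ⟨h, hh, hne⟩ : ∃ h ∈ E, h * q ≠ q * h := by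
        by_contra hh
        push Not at hh
        exact hqE (X.cent_eight hE hc h8 hq fun a ha => (hh a ha).symm)
      have h4 := X.card_halve hE hq hh hne
      rw [h8] at h4
      have hk : (Ef.filter fun e => e * q = q * e).card = 4 := by
        rw [show (Ef.filter fun e => e * q = q * e) = ((E ⊓ Subgroup.centralizer {q} : Subgroup G) : Set G).toFinset by
          ext e
          simp [Ef, Subgroup.mem_centralizer_singleton_iff], Set.toFinset_card, ← Nat.card_eq_fintype_card]
        change Nat.card ↥(E ⊓ Subgroup.centralizer {q} : Subgroup G) = 4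
        omega
      have hn : (Ef.filter fun e => ¬ e * q = q * e).card = 4 := by
        have := Finset.card_filter_add_card_filter_not (s := Ef) (fun e => e * q = q * e)
        omega
      have hval : ∀ e ∈ E, (e * q = q * e → q * e * (q * e) = q * q) ∧
          (¬ e * q = q * e → q * e * (q * e) = q * q * z) := by
        intro e he
        constructor <;> intro h'
        · rw [show q * e * (q * e) = q * (e * q) * e by group, h', show q * (q * e) * e = q * q * (e * e) by group,
            hsq e he, mul_one]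
        · have h2 := (X.move (hE he) hq).resolve_left h'
          rw [show q * e * (q * e) = q * (e * q) * e by group, h2,
            show q * (z * (q * e)) * e = (q * z) * q * (e * e) by group, hsq e he, mul_one, mul_assoc q z q,
            ← X.z_comm q hq]
          group
      rcases X.zpow_cases (X.sq q hq) with e2 | e2
      · rw [show (Ef.filter fun e => q * e * (q * e) = 1) = Ef.filter fun e => e * q = q * e from
          Finset.filter_congr fun e he => ?_]
        · exact hk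
        · constructor
          · intro h1
            by_contra h'
            rw [(hval e (hEf.mp he)).2 h', e2, one_mul] at h1
            exact X.z_ne h1
          · intro h'
            rw [(hval e (hEf.mp he)).1 h', e2]
      · rw [show (Ef.filter fun e => q * e * (q * e) = 1) = Ef.filter fun e => ¬ e * q = q * e from
          Finset.filter_congr fun e he => ?_]
        · exact hn
        · constructor
          · intro h1 h'
            rw [(hval e (hEf.mp he)).1 h', e2] at h1
            exact X.z_ne h1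
          · intro h'
            rw [(hval e (hEf.mp he)).2 h', e2, X.z_sq]
  have hsum : ∑ q ∈ Qf, (Ef.filter fun e => q * e * (q * e) = 1).card =
      ∑ e ∈ Ef, (Qf.filter fun q => q * e * (q * e) = 1).card := by
    simp only [Finset.card_filter]
    exact Finset.sum_comm
  rw [Finset.sum_congr rfl hcol, Finset.sum_congr rfl hrow, Finset.sum_const, cE, Finset.sum_ite,
    Finset.sum_const, Finset.sum_const] at hsum
  have hin : (Qf.filter fun q => q ∈ E) = Ef := by
    ext q
    simp only [Finset.mem_filter, hQf, hEf]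
    exact ⟨fun h => h.2, fun h => ⟨hE h, h⟩⟩
  have := Finset.card_filter_add_card_filter_not (s := Qf) (fun q => q ∈ E)
  rw [hin] at hsum this
  simp only [smul_eq_mul] at hsum
  omega

/-- No three elementary subgroups of order eight share a four-group `⟨z, v⟩`. -/
theorem not_three_eight (X : Ex32 Q z) {v : G} (hv : v ∈ Q) (hvz : v ∉ Subgroup.zpowers z)
    (A : Fin 3 → Subgroup G) (hA : ∀ i, A i ≤ Q) (h8 : ∀ i, Nat.card (A i) = 8)
    (hsq : ∀ i, ∀ a ∈ A i, a * a = 1) (hvA : ∀ i, v ∈ A i) (hzA : ∀ i, z ∈ A i)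
    (hne : ∀ i j, i ≠ j → A i ≠ A j) : False := by
  classical
  haveI := Fintype.ofFinite G
  set D := Q ⊓ Subgroup.centralizer ({v} : Set G)
  set Af : Fin 3 → Finset G := fun i => (A i : Set G).toFinset
  set Df := (D : Set G).toFinset
  have hD : ∀ i, Af i ⊆ Df := fun i a ha => by
    simp only [Af, Df, Set.mem_toFinset, SetLike.mem_coe] at *
    exact ⟨hA i ha, Subgroup.mem_centralizer_singleton_iff.mpr (comm_of_exp_two (hsq i) a ha v (hvA i))⟩
  have c8 : ∀ i, (Af i).card = 8 := fun i => by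
    rw [Set.toFinset_card, ← Nat.card_eq_fintype_card]; exact h8 i
  have c16 : Df.card = 16 := by
    rw [Set.toFinset_card, ← Nat.card_eq_fintype_card]; exact X.card_cent hv hvz
  have h4 : ∀ i j, i ≠ j → (Af i ∩ Af j).card = 4 := by
    intro i j hij
    have e : Af i ∩ Af j = ((A i ⊓ A j : Subgroup G) : Set G).toFinset := by ext a; simp [Af]
    rw [e, Set.toFinset_card, ← Nat.card_eq_fintype_card]
    obtain ⟨k, hk3, hk⟩ := (Nat.dvd_prime_pow Nat.prime_two).mp
      ((Subgroup.card_dvd_of_le (inf_le_left : A i ⊓ A j ≤ A i)).trans (dvd_of_eq (by rw [h8]; norm_num : _ = 2 ^ 3)))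
    change Nat.card ↥(A i ⊓ A j : Subgroup G) = 4
    have hlow : 2 < Nat.card ↥(A i ⊓ A j : Subgroup G) := by
      have hle : Subgroup.zpowers z ≤ A i ⊓ A j := Subgroup.zpowers_le.mpr ⟨hzA i, hzA j⟩
      have := Subgroup.card_le_of_le hle
      rw [card_zpowers_two X.z_sq X.z_ne] at this
      rcases this.lt_or_eq with h | h
      · exact h
      · refine absurd ?_ hvz
        exact (Subgroup.eq_of_le_of_card_ge hle (by rw [card_zpowers_two X.z_sq X.z_ne]; omega)).ge ⟨hvA i, hvA j⟩
    have hne8 : Nat.card ↥(A i ⊓ A j : Subgroup G) ≠ 8 := fun h => hne i j hij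
      ((Subgroup.eq_of_le_of_card_ge (inf_le_left : A i ⊓ A j ≤ A i) (by rw [h, h8])).symm.trans
        (Subgroup.eq_of_le_of_card_ge (inf_le_right : A i ⊓ A j ≤ A j) (by rw [h, h8])))
    rw [hk] at hlow hne8 ⊢
    interval_cases k <;> simp_all
  have hWeq : Af 2 ∩ (Af 0 ∪ Af 1) ⊆ Af 2 ∩ Af 0 := by
    have e : Af 0 ∩ Af 1 ⊆ Af 2 ∩ Af 0 ∧ Af 2 ∩ Af 1 ⊆ Af 2 ∩ Af 0 := by
      set W4 : Finset G := {1, z, v, z * v}
      have hW : ∀ i, W4 ⊆ Af i := fun i a ha => by
        simp only [W4, Finset.mem_insert, Finset.mem_singleton] at ha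
        simp only [Af, Set.mem_toFinset, SetLike.mem_coe]
        rcases ha with rfl | rfl | rfl | rfl
        exacts [one_mem _, hzA i, hvA i, mul_mem (hzA i) (hvA i)]
      have hvn : v ≠ 1 := fun e => hvz (e ▸ one_mem _)
      have hvnz : v ≠ z := fun e => hvz (e ▸ Subgroup.mem_zpowers z)
      have hzv : z * v ≠ 1 := fun e => hvnz (((inv_eq_of_mul_eq_one_right X.z_sq).symm.trans (inv_eq_of_mul_eq_one_right e)).symm)
      have cW : W4.card = 4 := by
        simp [W4, Ne.symm X.z_ne, Ne.symm hvn, Ne.symm hzv, Ne.symm hvnz, hvn, X.z_ne]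
      have eq4 : ∀ i j, i ≠ j → Af i ∩ Af j = W4 := fun i j hij =>
        (Finset.eq_of_subset_of_card_le (fun a ha => Finset.mem_inter.mpr ⟨hW i ha, hW j ha⟩)
          (by rw [h4 i j hij, cW])).symm
      exact ⟨by rw [eq4 0 1 (by decide), eq4 2 0 (by decide)], by rw [eq4 2 1 (by decide), eq4 2 0 (by decide)]⟩
    rw [Finset.inter_union_distrib_left]
    exact Finset.union_subset (Finset.Subset.refl _) e.2
  have h12 := Finset.card_union_add_card_inter (Af 0) (Af 1)
  rw [c8, c8, h4 0 1 (by decide)] at h12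
  have h16 := Finset.card_union_add_card_inter (Af 2) (Af 0 ∪ Af 1)
  have h5 := (Finset.card_le_card hWeq).trans_eq (h4 2 0 (by decide))
  rw [c8] at h16
  have hall : Af 2 ∪ (Af 0 ∪ Af 1) = Df :=
    Finset.eq_of_subset_of_card_le (Finset.union_subset (hD 2) (Finset.union_subset (hD 0) (hD 1))) (by omega)
  have hDsq : ∀ a ∈ D, a * a = 1 := by
    intro a ha
    have : a ∈ Af 2 ∪ (Af 0 ∪ Af 1) := by rw [hall]; simpa [Df] using ha
    simp only [Af, Finset.mem_union, Set.mem_toFinset, SetLike.mem_coe] at this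
    rcases this with h | h | h <;> exact hsq _ a h
  have := X.card_comm_le (H := D) inf_le_left (comm_of_exp_two hDsq)
  rw [X.card_cent hv hvz] at this
  omega

end Ex32

namespace NData

variable [Finite G] {S : Sylow 2 G} {K M₁ F : Subgroup G} {z v x : G}

theorem ex32 (N : NData (S : Subgroup G) K M₁ F z v x) (hQ : Nat.card ↥(pCoreOf 2 M₁) = 32)
    (hsq : ∀ q ∈ pCoreOf 2 M₁, q * q ∈ Subgroup.zpowers z)
    (hcen : ∀ c ∈ pCoreOf 2 M₁, (∀ q ∈ pCoreOf 2 M₁, q * c = c * q) → c ∈ Subgroup.zpowers z) :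
    Ex32 (pCoreOf 2 M₁) z :=
  ⟨hQ, N.toMData.z_Q, N.z_mem.2.1, N.z_ne, fun q hq => N.z_mem.2.2 q (N.toMData.Q_le_S hq), hsq, hcen⟩

end NData

namespace MData

variable [Finite G] {S : Sylow 2 G} {M₁ F : Subgroup G} {z v : G}

/-- An element of `S` centralising `F` lies in `Q₁`. -/
theorem mem_Q_of_centF (h : MData (S : Subgroup G) M₁ F z v) {n : G} (hn : n ∈ (S : Subgroup G))
    (hc : ∀ g ∈ F, n * g = g * n) : n ∈ pCoreOf 2 M₁ := by
  have hcj : ∀ m ∈ M₁, ∀ q ∈ pCoreOf 2 M₁, m * q * m⁻¹ ∈ pCoreOf 2 M₁ := fun m hm q hq => h.conj_mem_Q hm hq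
  let P : Subgroup G :=
    { carrier := {s | s ∈ (S : Subgroup G) ∧ ∀ g ∈ F, ⁅s, g⁆ ∈ pCoreOf 2 M₁}
      one_mem' := ⟨one_mem _, fun g _ => by simp⟩
      mul_mem' := fun {a b} ha hb => ⟨mul_mem ha.1 hb.1, fun g hg => by
        rw [show ⁅a * b, g⁆ = (a * ⁅b, g⁆ * a⁻¹) * ⁅a, g⁆ by simp only [commutatorElement_def]; group]
        exact mul_mem (hcj a (h.S_le ha.1) _ (hb.2 g hg)) (ha.2 g hg)⟩
      inv_mem' := fun {a} ha => ⟨inv_mem ha.1, fun g hg => by
        rw [show ⁅a⁻¹, g⁆ = (a⁻¹ * ⁅a, g⁆ * a⁻¹⁻¹)⁻¹ by simp only [commutatorElement_def]; group]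
        exact inv_mem (hcj a⁻¹ (M₁.inv_mem (h.S_le ha.1)) _ (ha.2 g hg))⟩ }
  have hQP : pCoreOf 2 M₁ ≤ P := fun q hq => ⟨h.Q_le_S hq, fun g hg => by
    rw [show ⁅q, g⁆ = q * (g * q⁻¹ * g⁻¹) by simp only [commutatorElement_def]; group]
    exact mul_mem hq (hcj g (h.ov.F_le hg) _ (inv_mem hq))⟩
  have hS : ∀ s ∈ (S : Subgroup G), ∀ a ∈ P, s * a * s⁻¹ ∈ P := by
    intro s hs a ha
    refine ⟨mul_mem (mul_mem hs ha.1) (inv_mem hs), fun g hg => ?_⟩
    obtain ⟨q, hq, k, hk, hkn, rfl⟩ := h.ov.lift s hs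
    set g' := k⁻¹ * g * k
    have hg' : g' ∈ F := (Subgroup.mem_normalizer_iff.mp hkn g').mpr (by simpa [g', mul_assoc] using hg)
    have hka := hcj k (h.S_le hk) _ (ha.2 g' hg')
    set c := k * a * k⁻¹ with hc
    have hcS : c ∈ (S : Subgroup G) := mul_mem (mul_mem hk ha.1) (inv_mem hk)
    have hgQ : g * q⁻¹ * g⁻¹ ∈ pCoreOf 2 M₁ := hcj g (h.ov.F_le hg) _ (inv_mem hq)
    have hgQ' : g * q * g⁻¹ ∈ pCoreOf 2 M₁ := hcj g (h.ov.F_le hg) _ hq
    have e : k * ⁅a, g'⁆ * k⁻¹ = ⁅c, g⁆ := by simp only [g', hc, commutatorElement_def]; group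
    rw [e] at hka
    rw [show q * k * a * (q * k)⁻¹ = q * c * q⁻¹ by simp only [hc]; group,
      show ⁅q * c * q⁻¹, g⁆ = q * ((c * (q⁻¹ * (g * q * g⁻¹)) * c⁻¹) * ⁅c, g⁆) * (g * q⁻¹ * g⁻¹) by
        simp only [commutatorElement_def]; group]
    exact mul_mem (mul_mem hq (mul_mem (hcj c (h.S_le hcS) _ (mul_mem (inv_mem hq) hgQ')) hka)) hgQ
  have hle : P ≤ pCoreOf 2 M₁ := by
    refine le_core (S.isPGroup'.to_le fun a ha => ha.1) (fun a ha => h.S_le ha.1)
      (Subgroup.le_normalizer_iff.mpr fun m hm a ha => ?_)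
    obtain ⟨q, hq, g, hg, k, hk, -, rfl⟩ := h.ov.decomp m hm
    have h1 := hS k hk a ha
    have h2 : g * (k * a * k⁻¹) * g⁻¹ ∈ P := by
      rw [show g * (k * a * k⁻¹) * g⁻¹ = ⁅k * a * k⁻¹, g⁆⁻¹ * (k * a * k⁻¹) by
        simp only [commutatorElement_def]; group]
      exact mul_mem (inv_mem (hQP (h1.2 g hg))) h1
    rw [show q * g * k * a * (q * g * k)⁻¹ = q * (g * (k * a * k⁻¹) * g⁻¹) * q⁻¹ by group]
    exact mul_mem (mul_mem (hQP hq) h2) (inv_mem (hQP hq))
  exact hle ⟨hn, fun g hg => by rw [commutatorElement_eq_one_iff_mul_comm.mpr (hc g hg)]; exact one_mem _⟩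

end MData

end CfsgLib.SRFour
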