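import Mathlib
import Cfsg.Agent.Lib.SRFour.NType

/-!
An abelian `U` has order eight.

Blueprint: `blueprint/S0517.md`, §3.
-/

set_option autoImplicit false
set_option linter.unusedSectionVars false
set_option linter.style.haveILetI false

namespace CfsgLib.SRFour

open Cfsg
open scoped commutatorElement

universe u

variable {G : Type u} [Group G] [Finite G]

namespace NData

variable {S : Sylow 2 G} {K M₁ F : Subgroup G} {z v x : G}

theorem U_exp_two (N : NData (S : Subgroup G) K M₁ F z v x)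
    (hab : ∀ a ∈ N.toMData.U, ∀ b ∈ N.toMData.U, a * b = b * a) {u : G} (hu : u ∈ N.toMData.U) : u * u = 1 := by
  have h := sq_mem_closure (X := ({z} ∪ {w | ∃ m ∈ M₁, w = m * v * m⁻¹} : Set G)) (N := ⊥)
    (fun x _ n hn => by rw [Subgroup.mem_bot] at hn ⊢; rw [hn]; group)
    (fun x _ n hn => by rw [Subgroup.mem_bot] at hn ⊢; rw [hn]; group)
    (by
      rintro a (rfl | ⟨m, -, rfl⟩)
      · rw [N.z_mem.2.1]; exact one_mem _
      · rw [show m * v * m⁻¹ * (m * v * m⁻¹) = m * (v * v) * m⁻¹ by group, N.v_sq]; simp)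
    (fun a ha b hb => by
      rw [commutatorElement_eq_one_iff_mul_comm.mpr (hab a (Subgroup.subset_closure ha) b (Subgroup.subset_closure hb))]
      exact one_mem _) u hu
  exact Subgroup.mem_bot.mp h

theorem U_le_core (N : NData (S : Subgroup G) K M₁ F z v x)
    (hab : ∀ a ∈ N.toMData.U, ∀ b ∈ N.toMData.U, a * b = b * a) : N.toMData.U ≤ pCoreOf 2 K := fun a ha =>
  (N.mem_core_iff (N.toMData.Q_le_S (N.toMData.U_le ha))).mpr (hab a ha v N.toMData.v_U)

theorem U_conj (N : NData (S : Subgroup G) K M₁ F z v x) {s a : G} (hs : s ∈ (S : Subgroup G))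
    (ha : a ∈ N.toMData.U) : s * a * s⁻¹ ∈ N.toMData.U :=
  (Subgroup.mem_normalizer_iff.mp (N.toMData.U_norm (N.toMData.S_le hs)) a).mp ha

/-- `g = x t` does not normalise `U`. -/
theorem moves_U (h : Hard G) (N : NData (S : Subgroup G) K M₁ F z v x) {t : G} (ht : t ∈ (S : Subgroup G))
    (hg : x * t ∈ Subgroup.normalizer (N.toMData.U : Set G)) : False := by
  refine N.crit h ((core_two M₁).to_le N.toMData.U_le) (fun e => N.z_ne ?_) N.toMData.U_norm ?_
  · exact Subgroup.mem_bot.mp (e ▸ N.toMData.z_U)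
  · simpa using mul_mem hg (inv_mem (N.toMData.U_norm (N.toMData.S_le ht)))

/-- A nontrivial element of `U` fixed by `O₂(K)` and by `g` is `zv`. -/
theorem eq_zv (h : Hard G) (N : NData (S : Subgroup G) K M₁ F z v x)
    (hab : ∀ a ∈ N.toMData.U, ∀ b ∈ N.toMData.U, a * b = b * a) {t : G} (ht : t ∈ pCoreOf 2 M₁)
    (htv : t * v * t⁻¹ = z * v) {c : G} (hc : c ∈ N.toMData.U) (hcK : ∀ q ∈ pCoreOf 2 K, q * c = c * q)
    (hgc : x * t * c * (x * t)⁻¹ = c) (hne : c ≠ 1) : c = z * v := by
  have htS : t ∈ (S : Subgroup G) := N.toMData.Q_le_S ht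
  obtain ⟨-, hgz, hgv, -⟩ := N.swap htS htv
  have hcS : c ∈ (S : Subgroup G) := N.toMData.Q_le_S (N.toMData.U_le hc)
  have hcent : ∀ {a : G}, a ∈ (S : Subgroup G) → a * a = 1 → (∀ q ∈ pCoreOf 2 K, q * a = a * q) →
      t * a * t⁻¹ = a → x * t * a * (x * t)⁻¹ = a → a = 1 := by
    intro a haS ha2 haK hta hga
    have hta' : t * a = a * t := mul_inv_eq_iff_eq_mul.mp hta
    have hga' : x * t * a = a * (x * t) := mul_inv_eq_iff_eq_mul.mp hga
    refine N.eq_one_of_Z h ⟨haS, ha2, fun s hs => ?_⟩ ?_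
    · rcases N.core_cover htS htv hs with e | e
      · exact haK s e
      · calc s * a = s * t⁻¹ * (t * a) := by group
          _ = (s * t⁻¹) * a * t := by rw [hta']; group
          _ = a * s := by rw [haK _ e]; group
    · calc x * a = x * t * (t⁻¹ * (a * t)) * t⁻¹ := by group
        _ = x * t * a * t⁻¹ := by rw [← hta']; group
        _ = a * x := by rw [hga']; group
  rcases mem_two N.z_mem.2.1 (N.toMData.comm_U ht hc) with e | e
  · exact absurd (hcent hcS (N.U_exp_two hab hc) hcK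
      (mul_inv_eq_iff_eq_mul.mpr (commutatorElement_eq_one_iff_mul_comm.mp e)) hgc) hne
  · have htc : t * c * t⁻¹ = z * c := by
      rw [← e]; simp only [commutatorElement_def]; group
    have hu : z * v * c ∈ N.toMData.U := mul_mem (mul_mem N.toMData.z_U N.toMData.v_U) hc
    have hz := N.z_mem.2.2 t htS
    have he : z * v * c = 1 := by
      refine hcent (N.toMData.Q_le_S (N.toMData.U_le hu)) (N.U_exp_two hab hu) (fun q hq => ?_) ?_ ?_
      · exact ((Commute.mul_right (N.core_z hq : Commute q z) (N.core_v q hq : Commute q v)).mul_right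
          (hcK q hq : Commute q c))
      · calc t * (z * v * c) * t⁻¹ = (t * z * t⁻¹) * (t * v * t⁻¹) * (t * c * t⁻¹) := by group
          _ = z * (z * v) * (z * c) := by rw [hz, mul_inv_cancel_right, htv, htc]
          _ = (z * z) * (v * z) * c := by group
          _ = z * v * c := by rw [N.z_mem.2.1, one_mul, ← N.toMData.zv]
      · calc x * t * (z * v * c) * (x * t)⁻¹
            = (x * t * z * (x * t)⁻¹) * (x * t * v * (x * t)⁻¹) * (x * t * c * (x * t)⁻¹) := by group
          _ = z * v * c := by rw [hgz, hgv, hgc, ← N.toMData.zv]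
    rw [eq_inv_of_mul_eq_one_right he]
    refine inv_eq_of_mul_eq_one_right ?_
    exact N.U_exp_two hab (mul_mem N.toMData.z_U N.toMData.v_U)

/-- Some nontrivial commutator of `U` and `U^g` forces `zv` to be one. -/
theorem zv_mem_comm (h : Hard G) (N : NData (S : Subgroup G) K M₁ F z v x)
    (hab : ∀ a ∈ N.toMData.U, ∀ b ∈ N.toMData.U, a * b = b * a) {t : G} (ht : t ∈ pCoreOf 2 M₁)
    (htv : t * v * t⁻¹ = z * v)
    (hne : ∃ a ∈ N.toMData.U, ∃ b ∈ N.toMData.U, a * (x * t * b * (x * t)⁻¹) ≠ x * t * b * (x * t)⁻¹ * a) :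
    z * v ∈ Subgroup.closure
      {c | ∃ a ∈ N.toMData.U, ∃ b ∈ N.toMData.U, c = ⁅a, x * t * b * (x * t)⁻¹⁆} := by
  have htS : t ∈ (S : Subgroup G) := N.toMData.Q_le_S ht
  obtain ⟨hgK, -, -, hg2⟩ := N.swap htS htv
  set g := x * t
  set C := Subgroup.closure {c | ∃ a ∈ N.toMData.U, ∃ b ∈ N.toMData.U, c = ⁅a, g * b * g⁻¹⁆} with hC
  have hU2 : ∀ b ∈ N.toMData.U, g * b * g⁻¹ ∈ pCoreOf 2 K := fun b hb => conj_mem_core hgK (N.U_le_core hab hb)
  have hU3 : ∀ b ∈ N.toMData.U, g * (g * b * g⁻¹) * g⁻¹ ∈ N.toMData.U := fun b hb => by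
    rw [show g * (g * b * g⁻¹) * g⁻¹ = g * g * b * (g * g)⁻¹ by group]
    exact N.U_conj (N.core_le_S hg2) hb
  have hCU : C ≤ N.toMData.U := (Subgroup.closure_le _).mpr (by
    rintro _ ⟨a, ha, b, hb, rfl⟩
    rw [show ⁅a, g * b * g⁻¹⁆ = a * ((g * b * g⁻¹) * a⁻¹ * (g * b * g⁻¹)⁻¹) by simp only [commutatorElement_def]; group]
    exact mul_mem ha (N.U_conj (N.core_le_S (hU2 b hb)) (inv_mem ha)))
  have hCn : pCoreOf 2 K ≤ Subgroup.normalizer (C : Set G) := Subgroup.le_normalizer_iff.mpr fun q hq c hc => by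
    induction hc using Subgroup.closure_induction with
    | mem y hy =>
      obtain ⟨a, ha, b, hb, rfl⟩ := hy
      refine Subgroup.subset_closure ⟨q * a * q⁻¹, N.U_conj (N.core_le_S hq) ha, g⁻¹ * q * g * b * (g⁻¹ * q * g)⁻¹,
        N.U_conj (N.core_le_S ?_) hb, by simp only [commutatorElement_def]; group⟩
      have := conj_mem_core (K.inv_mem hgK) hq
      rwa [inv_inv] at this
    | one => simp
    | mul a b _ _ iha ihb =>
      rw [show q * (a * b) * q⁻¹ = (q * a * q⁻¹) * (q * b * q⁻¹) by group]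
      exact mul_mem iha ihb
    | inv a _ iha =>
      rw [show q * a⁻¹ * q⁻¹ = (q * a * q⁻¹)⁻¹ by group]
      exact inv_mem iha
  have hgC : ∀ c ∈ C, g * c * g⁻¹ ∈ C := fun c hc => by
    induction hc using Subgroup.closure_induction with
    | mem y hy =>
      obtain ⟨a, ha, b, hb, rfl⟩ := hy
      rw [show g * ⁅a, g * b * g⁻¹⁆ * g⁻¹ = ⁅g * (g * b * g⁻¹) * g⁻¹, g * a * g⁻¹⁆⁻¹ by
        simp only [commutatorElement_def]; group]
      exact inv_mem (Subgroup.subset_closure ⟨_, hU3 b hb, a, ha, rfl⟩)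
    | one => simp
    | mul a b _ _ iha ihb =>
      rw [show g * (a * b) * g⁻¹ = (g * a * g⁻¹) * (g * b * g⁻¹) by group]
      exact mul_mem iha ihb
    | inv a _ iha =>
      rw [show g * a⁻¹ * g⁻¹ = (g * a * g⁻¹)⁻¹ by group]
      exact inv_mem iha
  have hCne : C ≠ ⊥ := by
    intro e
    obtain ⟨a, ha, b, hb, hab'⟩ := hne
    have hm : ⁅a, g * b * g⁻¹⁆ ∈ C := Subgroup.subset_closure ⟨a, ha, b, hb, rfl⟩
    rw [e, Subgroup.mem_bot, commutatorElement_eq_one_iff_mul_comm] at hm
    exact hab' hm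
  obtain ⟨c, hc, hc1, -, hcK⟩ := exists_central (core_two K) (fun y hy => N.U_le_core hab (hCU hy)) hCn hCne
  by_cases hfix : g * c * g⁻¹ = c
  · exact N.eq_zv h hab ht htv (hCU hc) hcK hfix hc1 ▸ hc
  · have hc' := hgC c hc
    have hm : c * (g * c * g⁻¹) ∈ C := mul_mem hc hc'
    refine N.eq_zv h hab ht htv (hCU hm) (fun q hq => ?_) ?_ (fun e => hfix ?_) ▸ hm
    · refine (Commute.mul_right (hcK q hq : Commute q c) ?_).eq
      have hq' : g⁻¹ * q * g ∈ pCoreOf 2 K := by
        have := conj_mem_core (K.inv_mem hgK) hq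
        rwa [inv_inv] at this
      show q * (g * c * g⁻¹) = g * c * g⁻¹ * q
      calc q * (g * c * g⁻¹) = g * ((g⁻¹ * q * g) * c) * g⁻¹ := by group
        _ = g * c * g⁻¹ * q := by rw [hcK _ hq']; group
    · calc g * (c * (g * c * g⁻¹)) * g⁻¹ = (g * c * g⁻¹) * ((g * g * c) * (g * g)⁻¹) := by group
        _ = c * (g * c * g⁻¹) := by
          rw [hcK _ hg2, mul_inv_cancel_right]
          exact hab _ (hCU hc') _ (hCU hc)
    · rw [eq_inv_of_mul_eq_one_right e]
      exact inv_eq_of_mul_eq_one_right (N.U_exp_two hab (hCU hc))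

/-- An abelian `U` has order eight and `|F| = 3`. -/
theorem card_U_of_abelian (h : Hard G) (N : NData (S : Subgroup G) K M₁ F z v x)
    (hab : ∀ a ∈ N.toMData.U, ∀ b ∈ N.toMData.U, a * b = b * a) :
    Nat.card N.toMData.U = 8 ∧ Nat.card F = 3 := by
  classical
  have hU16 : Nat.card N.toMData.U ≤ 16 := card_le_sixteen h.sect fun u hu => N.U_exp_two hab hu
  have hbd := N.toMData.card_F_le
  have hF3 : 3 ≤ Nat.card F := by rcases N.ov.card with e | e | e | e <;> omega
  obtain ⟨k, hk⟩ := IsPGroup.iff_card.mp ((core_two M₁).to_le N.toMData.U_le)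
  have hk34 : k = 3 ∨ k = 4 := by
    rcases Nat.lt_or_ge k 3 with e | e
    · exfalso; interval_cases k <;> omega
    · rcases Nat.lt_or_ge k 5 with e' | e'
      · omega
      · exfalso
        have := Nat.pow_le_pow_right (show 0 < 2 by norm_num) e'
        omega
  rcases hk34 with rfl | rfl
  · exact ⟨by rw [hk]; norm_num, by rw [hk] at hbd; omega⟩
  exfalso
  norm_num at hk
  obtain ⟨t, ht, htv⟩ := N.toMData.exists_t
  have htS : t ∈ (S : Subgroup G) := N.toMData.Q_le_S ht
  obtain ⟨hgK, -, -, -⟩ := N.swap htS htv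
  set g := x * t with hg
  set U := N.toMData.U with hU
  -- commuting conjugates would give a bigger elementary subgroup
  by_cases hne : ∃ a ∈ U, ∃ b ∈ U, a * (g * b * g⁻¹) ≠ g * b * g⁻¹ * a
  swap
  · push Not at hne
    refine N.moves_U h htS (Subgroup.mem_normalizer_fintype fun b hb => ?_)
    set U' := U ⊔ Subgroup.zpowers (g * b * g⁻¹)
    have hsq : ∀ a ∈ U', a * a = 1 := by
      have hX : U' = Subgroup.closure ((U : Set G) ∪ {g * b * g⁻¹}) := by
        rw [Subgroup.closure_union, Subgroup.closure_eq, ← Subgroup.zpowers_eq_closure]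
      intro a ha
      refine Subgroup.mem_bot.mp (sq_mem_closure (N := ⊥)
        (fun x _ n hn => by rw [Subgroup.mem_bot] at hn ⊢; rw [hn]; group)
        (fun x _ n hn => by rw [Subgroup.mem_bot] at hn ⊢; rw [hn]; group) ?_ ?_ a (hX ▸ ha))
      · rintro y (hy | rfl)
        · rw [Subgroup.mem_bot]; exact N.U_exp_two hab hy
        · rw [Subgroup.mem_bot, show g * b * g⁻¹ * (g * b * g⁻¹) = g * (b * b) * g⁻¹ by group,
            N.U_exp_two hab hb]
          group
      · rintro y (hy | rfl) w (hw | rfl) <;> rw [Subgroup.mem_bot, commutatorElement_eq_one_iff_mul_comm]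
        · exact hab y hy w hw
        · exact hne y hy b hb
        · exact (hne w hw b hb).symm
    have h16 := card_le_sixteen h.sect hsq
    have heq : U = U' := Subgroup.eq_of_le_of_card_ge le_sup_left (by omega)
    exact heq.ge (Subgroup.mem_sup_right (Subgroup.mem_zpowers _))
  have hzv := N.zv_mem_comm h hab ht htv hne
  -- `F` has prime order
  have hFp : (Nat.card F).Prime := by
    rcases N.ov.card with e | e | e | e <;> first | (rw [e]; norm_num; done) | (exfalso; omega)
  haveI : Fact (Nat.card F).Prime := ⟨hFp⟩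
  have hconjF : ∀ f ∈ F, ∀ a ∈ U, f * a * f⁻¹ ∈ U := fun f hf a ha =>
    (Subgroup.mem_normalizer_iff.mp (N.toMData.U_norm (N.ov.F_le hf)) a).mp ha
  set B := Subgroup.closure {b | ∃ a ∈ U, ∃ f ∈ F, b = a⁻¹ * (f * a * f⁻¹)} with hB
  have hBU : B ≤ U := (Subgroup.closure_le _).mpr (by
    rintro _ ⟨a, ha, f, hf, rfl⟩
    exact mul_mem (inv_mem ha) (hconjF f hf a ha))
  set H := B ⊔ Subgroup.zpowers z with hH
  have hzH : z ∈ H := Subgroup.mem_sup_right (Subgroup.mem_zpowers z)
  have hHU : H ≤ U := sup_le hBU (Subgroup.zpowers_le.mpr N.toMData.z_U)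
  have hQfix : ∀ q ∈ pCoreOf 2 M₁, ∀ a ∈ U, q * a * q⁻¹ = a ∨ q * a * q⁻¹ = z * a := by
    intro q hq a ha
    rcases mem_two N.z_mem.2.1 (N.toMData.comm_U hq ha) with e | e
    · exact Or.inl (mul_inv_eq_iff_eq_mul.mpr (commutatorElement_eq_one_iff_mul_comm.mp e))
    · right; rw [← e]; simp only [commutatorElement_def]; group
  have hSH : ∀ s ∈ (S : Subgroup G), ∀ a ∈ H, s * a * s⁻¹ ∈ H := by
    intro s hs
    obtain ⟨q, hq, n, hn, hnn, rfl⟩ := N.ov.lift s hs
    have hnB : ∀ a ∈ H, n * a * n⁻¹ ∈ H := by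
      intro a ha
      have hle : H ≤ H.comap (MulAut.conj n).toMonoidHom := by
        refine sup_le ((Subgroup.closure_le _).mpr ?_) (Subgroup.zpowers_le.mpr ?_)
        · rintro _ ⟨b, hb, f, hf, rfl⟩
          show n * (b⁻¹ * (f * b * f⁻¹)) * n⁻¹ ∈ H
          refine Subgroup.mem_sup_left (Subgroup.subset_closure ⟨n * b * n⁻¹, N.U_conj hn hb, n * f * n⁻¹,
            (Subgroup.mem_normalizer_iff.mp hnn f).mp hf, by group⟩)
        · show n * z * n⁻¹ ∈ H
          rw [N.z_mem.2.2 n hn, mul_inv_cancel_right]; exact hzH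
      exact hle ha
    intro a ha
    rw [show q * n * a * (q * n)⁻¹ = q * (n * a * n⁻¹) * q⁻¹ by group]
    rcases hQfix q hq _ (hHU (hnB a ha)) with e | e <;> rw [e]
    · exact hnB a ha
    · exact mul_mem hzH (hnB a ha)
  have hUH : ∀ u ∈ U, u ∈ H ∨ v * u ∈ H := by
    intro u hu
    induction hu using Subgroup.closure_induction with
    | mem y hy =>
      rcases hy with rfl | ⟨m, hm, rfl⟩
      · exact Or.inl hzH
      · right
        obtain ⟨q, hq, f, hf, n, hn, -, rfl⟩ := N.ov.decomp m hm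
        have hw : n * v * n⁻¹ = v ∨ n * v * n⁻¹ = z * v := N.sv n hn
        set w := n * v * n⁻¹ with hwdef
        have hwU : w ∈ U := N.U_conj hn N.toMData.v_U
        have h1 : w⁻¹ * (f * w * f⁻¹) ∈ H :=
          Subgroup.mem_sup_left (Subgroup.subset_closure ⟨w, hwU, f, hf, rfl⟩)
        have hvw : v * w ∈ H := by
          rcases hw with e | e <;> rw [e]
          · rw [N.v_sq]; exact one_mem _
          · rw [← mul_assoc, ← N.toMData.zv, mul_assoc, N.v_sq, mul_one]; exact hzH
        have h2 : v * (f * w * f⁻¹) ∈ H := by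
          have := mul_mem hvw h1
          rwa [show v * w * (w⁻¹ * (f * w * f⁻¹)) = v * (f * w * f⁻¹) by group] at this
        rw [show q * f * n * v * (q * f * n)⁻¹ = q * (f * w * f⁻¹) * q⁻¹ by rw [hwdef]; group]
        rcases hQfix q hq _ (hconjF f hf w hwU) with e | e <;> rw [e]
        · exact h2
        · rw [← mul_assoc, ← N.toMData.zv, mul_assoc]
          exact mul_mem hzH h2
    | one => exact Or.inl (one_mem _)
    | mul a b ha hb iha ihb =>
      rcases iha with e | e <;> rcases ihb with e' | e'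
      · exact Or.inl (mul_mem e e')
      · refine Or.inr ?_
        rw [← mul_assoc, hab v N.toMData.v_U a ha, mul_assoc]
        exact mul_mem e e'
      · exact Or.inr (by rw [← mul_assoc]; exact mul_mem e e')
      · refine Or.inl ?_
        have := mul_mem e e'
        rwa [show v * a * (v * b) = v * (a * v) * b by group, ← hab v N.toMData.v_U a ha, ← mul_assoc v v a,
          N.v_sq, one_mul] at this
    | inv a ha iha =>
      rcases iha with e | e
      · exact Or.inl (inv_mem e)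
      · refine Or.inr ?_
        rw [inv_eq_of_mul_eq_one_right (N.U_exp_two hab ha)]; exact e
  have hcomm : ∀ a ∈ U, ∀ s ∈ (S : Subgroup G), ⁅a, s⁆ ∈ H := by
    intro a ha s hs
    have hone : ∀ b ∈ H, ⁅b, s⁆ ∈ H := fun b hb => by
      rw [show ⁅b, s⁆ = b * (s * b⁻¹ * s⁻¹) by simp only [commutatorElement_def]; group]
      exact mul_mem hb (hSH s hs _ (inv_mem hb))
    rcases hUH a ha with e | e
    · exact hone a e
    · have hv : ⁅v, s⁆ ∈ H := by
        have : ⁅s, v⁆ ∈ H := by rcases N.toMData.comm_v hs with e' | e' <;> rw [e'] <;> first | exact one_mem _ | exact hzH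
        rw [← commutatorElement_inv]; exact inv_mem this
      have h2 : v * ⁅v * a, s⁆ * v⁻¹ ∈ H := by
        rw [hab v N.toMData.v_U _ (hHU (hone _ e)), mul_inv_cancel_right]; exact hone _ e
      have hd : ⁅v * (v * a), s⁆ = v * ⁅v * a, s⁆ * v⁻¹ * ⁅v, s⁆ := by simp only [commutatorElement_def]; group
      rw [← mul_assoc, N.v_sq, one_mul] at hd
      rw [hd]
      exact mul_mem h2 hv
  have hvH : v ∈ H := by
    have hle : z * v ∈ H := (Subgroup.closure_le H).mpr (by
      rintro _ ⟨a, ha, b, hb, rfl⟩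
      exact hcomm a ha _ (N.core_le_S (conj_mem_core hgK (N.U_le_core hab hb)))) hzv
    have := mul_mem hzH hle
    rwa [← mul_assoc, N.z_mem.2.1, one_mul] at this
  have hUleH : U ≤ H := fun a ha => (hUH a ha).elim id fun e => by
    have := mul_mem hvH e
    rwa [← mul_assoc, N.v_sq, one_mul] at this
  have hHz : ∀ a ∈ H, a ∈ B ∨ z * a ∈ B := by
    intro a ha
    have hn : Subgroup.zpowers z ≤ Subgroup.normalizer (B : Set G) :=
      Subgroup.zpowers_le.mpr (Subgroup.mem_normalizer_fintype fun b hb => by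
        rw [hab z N.toMData.z_U b (hBU hb), mul_inv_cancel_right]; exact hb)
    rw [hH, ← SetLike.mem_coe, Subgroup.coe_mul_of_right_le_normalizer_left B _ hn] at ha
    obtain ⟨b, hb, i, hi, rfl⟩ := ha
    rcases mem_two N.z_mem.2.1 hi with e | e
    · left; show b * i ∈ B; rw [e, mul_one]; exact hb
    · right
      show z * (b * i) ∈ B
      rw [e, ← mul_assoc, hab z N.toMData.z_U b (hBU hb), mul_assoc, N.z_mem.2.1, mul_one]
      exact hb
  -- count the fixed points of `F`
  letI : MulAction ↥F ↥U :=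
    { smul := fun f a => ⟨f * a * (f : G)⁻¹, hconjF _ f.2 _ a.2⟩
      one_smul := fun a => Subtype.ext (show (1 : G) * a * (1 : G)⁻¹ = a by group)
      mul_smul := fun e f a => Subtype.ext
        (show (e : G) * f * a * ((e : G) * f)⁻¹ = (e : G) * (f * a * (f : G)⁻¹) * (e : G)⁻¹ by group) }
  have hfix : MulAction.fixedPoints ↥F ↥U = ({1, ⟨z, N.toMData.z_U⟩} : Set ↥U) := by
    ext ⟨a, ha⟩
    simp only [MulAction.mem_fixedPoints, Set.mem_insert_iff, Set.mem_singleton_iff]
    constructor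
    · intro hh
      have hfx : ∀ f ∈ F, f * a = a * f := fun f hf =>
        mul_inv_eq_iff_eq_mul.mp (congrArg Subtype.val (hh ⟨f, hf⟩))
      have htr : ∀ b ∈ B, (∀ f ∈ F, f * b = b * f) → b = 1 := fun b hb hbf =>
        trace_eq_one ((core_two M₁).to_le N.toMData.U_le) N.ov.odd_card hab hconjF hb hbf
      rcases hHz a (hUleH ha) with e | e
      · exact Or.inl (Subtype.ext (htr a e hfx))
      · right
        refine Subtype.ext ?_
        have h1 := htr _ e fun f hf =>
          (Commute.mul_right (N.toMData.comm_z (N.ov.F_le hf) : Commute f z) (hfx f hf : Commute f a)).eq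
        show a = z
        rw [eq_inv_of_mul_eq_one_right h1]
        exact inv_eq_of_mul_eq_one_right N.z_mem.2.1
    · rintro (e | e) f <;> rw [e]
      · exact Subtype.ext (show (f : G) * 1 * (f : G)⁻¹ = 1 by group)
      · exact Subtype.ext (N.toMData.conj_z (N.ov.F_le f.2))
  have hmod := (IsPGroup.of_card (n := 1) (pow_one (Nat.card F)).symm : IsPGroup (Nat.card F) ↥F).card_modEq_card_fixedPoints ↥U
  rw [hk, hfix, Nat.card_coe_set_eq, Set.ncard_pair (fun e => N.z_ne (congrArg Subtype.val e).symm)] at hmod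
  have hF7 : Nat.card F = 7 := by
    rcases N.ov.card with e | e | e | e <;> rw [e] at hmod hbd <;>
      first | exact e | (exfalso; omega) | (exfalso; revert hmod; decide)
  have hSQ : ∀ s ∈ (S : Subgroup G), s ∈ pCoreOf 2 M₁ := fun s hs => by
    by_contra hs'
    exact N.ov.seven ⟨s, hs, hs'⟩ hF7
  refine N.toMData.conj_v_ne F.one_mem ?_
  have hle : z * v ∈ Subgroup.zpowers z := (Subgroup.closure_le _).mpr (by
    rintro _ ⟨a, ha, b, hb, rfl⟩
    rw [SetLike.mem_coe, ← commutatorElement_inv]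
    exact inv_mem (N.toMData.comm_U (hSQ _ (N.core_le_S (conj_mem_core hgK (N.U_le_core hab hb)))) ha)) hzv
  have := mul_mem (Subgroup.mem_zpowers z) hle
  rw [← mul_assoc, N.z_mem.2.1, one_mul] at this
  simpa using this

end NData

end CfsgLib.SRFour
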