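import Mathlib
import Cfsg.Agent.Lib.SRFour.NAbelian

/-!
An elementary `U` of order eight: its conjugates under `x` do not commute.

Blueprint: `blueprint/S0517.md`, §3.
-/

set_option autoImplicit false
set_option linter.unusedSectionVars false
set_option linter.style.haveILetI false

namespace CfsgLib.SRFour

open Cfsg
open scoped commutatorElement

universe u

variable {G : Type u} [Group G] [Finite G]

namespace NData

variable {S : Sylow 2 G} {K M₁ F : Subgroup G} {z v x : G}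

theorem mem_four (N : NData (S : Subgroup G) K M₁ F z v x) {a : G}
    (ha : a ∈ Subgroup.closure ({z, v} : Set G)) : a = 1 ∨ a = z ∨ a = v ∨ a = z * v := by
  have hzv := N.toMData.zv
  have hvz : v * z = z * v := hzv.symm
  have key : ∀ a b : G, (a = 1 ∨ a = z ∨ a = v ∨ a = z * v) → (b = 1 ∨ b = z ∨ b = v ∨ b = z * v) →
      (a * b = 1 ∨ a * b = z ∨ a * b = v ∨ a * b = z * v) := by
    have e1 : z * (z * v) = v := by rw [← mul_assoc, N.z_mem.2.1, one_mul]
    have e2 : v * (z * v) = z := by rw [← mul_assoc, hvz, mul_assoc, N.v_sq, mul_one]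
    have e3 : z * v * z = v := by rw [mul_assoc, hvz, e1]
    have e4 : z * v * v = z := by rw [mul_assoc, N.v_sq, mul_one]
    have e5 : z * v * (z * v) = 1 := by rw [mul_assoc, e2, N.z_mem.2.1]
    rintro a b (rfl | rfl | rfl | rfl) (rfl | rfl | rfl | rfl) <;>
      simp [N.z_mem.2.1, N.v_sq, hvz, e1, e2, e3, e4, e5]
  induction ha using Subgroup.closure_induction with
  | mem y hy => rcases hy with rfl | rfl <;> simp
  | one => exact Or.inl rfl
  | mul a b _ _ iha ihb => exact key a b iha ihb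
  | inv a _ iha =>
    rcases iha with rfl | rfl | rfl | rfl
    · exact Or.inl inv_one
    · exact Or.inr (Or.inl (inv_eq_of_mul_eq_one_right N.z_mem.2.1))
    · exact Or.inr (Or.inr (Or.inl (inv_eq_of_mul_eq_one_right N.v_sq)))
    · refine Or.inr (Or.inr (Or.inr (inv_eq_of_mul_eq_one_right ?_)))
      calc z * v * (z * v) = z * (v * z) * v := by group
        _ = (z * z) * (v * v) := by rw [hvz]; group
        _ = 1 := by rw [N.z_mem.2.1, N.v_sq, one_mul]

theorem x_cube (N : NData (S : Subgroup G) K M₁ F z v x) : x ^ 3 = 1 := by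
  have e : ∀ a, x ^ 3 * a * (x ^ 3)⁻¹ = x * (x * (x * a * x⁻¹) * x⁻¹) * x⁻¹ := fun a => by
    rw [pow_succ, pow_succ, pow_one]; group
  refine eq_one_of_odd_mem (core_two K) (Odd.of_dvd_nat N.x_odd (orderOf_pow_dvd 3))
    (N.fix_core _ (K.pow_mem N.x_mem 3) ?_ ?_)
  · exact mul_inv_eq_iff_eq_mul.mp (by rw [e, N.xz, N.xv, N.xzv])
  · exact mul_inv_eq_iff_eq_mul.mp (by rw [e, N.xv, N.xzv, N.xz])

/-- An element of `S` moving `v` inverts `x` modulo `O₂(K)`. -/
theorem t_x (N : NData (S : Subgroup G) K M₁ F z v x) {t : G} (ht : t ∈ (S : Subgroup G))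
    (htv : t * v * t⁻¹ = z * v) : ∃ q ∈ pCoreOf 2 K, t * x * t⁻¹ = q * (x * x) := by
  obtain ⟨q, hq, i, hi⟩ := N.x_norm t ht
  refine ⟨q, hq, ?_⟩
  rw [zpow_eq_zpow_emod' i N.x_cube] at hi
  have h0 : (0 : ℤ) ≤ i % ((3 : ℕ) : ℤ) := Int.emod_nonneg _ (by norm_num)
  have h1 : i % ((3 : ℕ) : ℤ) < 3 := Int.emod_lt_of_pos _ (by norm_num)
  have hz : t * z * t⁻¹ = z := by rw [N.z_mem.2.2 t ht, mul_inv_cancel_right]
  have hval : t * x * t⁻¹ * z * (t * x * t⁻¹)⁻¹ = z * v := by
    calc t * x * t⁻¹ * z * (t * x * t⁻¹)⁻¹ = t * (x * (t⁻¹ * (z * t)) * x⁻¹) * t⁻¹ := by group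
      _ = t * (x * z * x⁻¹) * t⁻¹ := by rw [← N.z_mem.2.2 t ht]; group
      _ = z * v := by rw [N.xz, htv]
  have hqc : ∀ {a : G}, q * a = a * q → q * a * q⁻¹ = a := fun h => by rw [h, mul_inv_cancel_right]
  generalize i % ((3 : ℕ) : ℤ) = r at hi h0 h1
  interval_cases r
  · exfalso
    rw [hi, zpow_zero, mul_one, hqc (N.core_z hq)] at hval
    exact N.v_ne (left_eq_mul.mp hval)
  · exfalso
    rw [hi, zpow_one, show q * x * z * (q * x)⁻¹ = q * (x * z * x⁻¹) * q⁻¹ by group, N.xz,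
      hqc (N.core_v q hq)] at hval
    exact N.z_ne (right_eq_mul.mp hval)
  · rw [hi, show (2 : ℤ) = ((2 : ℕ) : ℤ) from rfl, zpow_natCast, pow_two]

/-- For `|U| = 8` every element of `U` outside `⟨z⟩` is, modulo `z`, a conjugate of `v` under `F`. -/
theorem U_cases (N : NData (S : Subgroup G) K M₁ F z v x) (hU : Nat.card N.toMData.U = 8)
    (hF : Nat.card F = 3) {a : G} (ha : a ∈ N.toMData.U) :
    a ∈ Subgroup.zpowers z ∨ ∃ f ∈ F, a = f * v * f⁻¹ ∨ a = z * (f * v * f⁻¹) := by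
  classical
  by_contra hh
  push Not at hh
  obtain ⟨hz, hf⟩ := hh
  let φ : Option ↥F × ↥(Subgroup.zpowers z) → {b : ↥N.toMData.U // (b : G) ≠ a} := fun p =>
    match p.1 with
    | none => ⟨⟨p.2, Subgroup.zpowers_le.mpr N.toMData.z_U p.2.2⟩, fun e => hz (e ▸ p.2.2)⟩
    | some f => ⟨⟨p.2 * ((f : G) * v * (f : G)⁻¹),
        mul_mem (Subgroup.zpowers_le.mpr N.toMData.z_U p.2.2) (N.toMData.conj_v_U (N.ov.F_le f.2))⟩, fun e => by
          rcases mem_two N.z_mem.2.1 p.2.2 with e' | e'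
          · exact (hf f f.2).1 (by rw [← e]; simp [e'])
          · exact (hf f f.2).2 (by rw [← e]; simp [e'])⟩
  have hφ : Function.Injective φ := by
    rintro ⟨o, b⟩ ⟨o', b'⟩ e
    have e0 := congrArg (fun c : {b : ↥N.toMData.U // (b : G) ≠ a} => ((c : ↥N.toMData.U) : G)) e
    rcases o with _ | f <;> rcases o' with _ | f'
    · exact Prod.ext rfl (Subtype.ext e0)
    · exfalso
      have e' : (b : G) = b' * ((f' : G) * v * (f' : G)⁻¹) := e0
      exact N.toMData.conj_v_ne f'.2 (by rw [← inv_mul_eq_iff_eq_mul.mpr e']; exact mul_mem (inv_mem b'.2) b.2)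
    · exfalso
      have e' : (b : G) * ((f : G) * v * (f : G)⁻¹) = b' := e0
      exact N.toMData.conj_v_ne f.2 (by rw [eq_inv_mul_of_mul_eq e']; exact mul_mem (inv_mem b.2) b'.2)
    · have e' : (b : G) * ((f : G) * v * (f : G)⁻¹) = b' * ((f' : G) * v * (f' : G)⁻¹) := e0
      have hff : f = f' := by
        refine Subtype.ext (N.toMData.orbit_inj f.2 f'.2 ?_)
        have := mul_mem (inv_mem b.2) b'.2
        rw [eq_inv_mul_of_mul_eq e', ← mul_assoc]
        rcases mem_two N.z_mem.2.1 this with e1 | e1 <;> rw [e1]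
        · exact Or.inl (one_mul _)
        · exact Or.inr rfl
      subst hff
      exact Prod.ext rfl (Subtype.ext (mul_right_cancel e'))
  have h1 := Nat.card_le_card_of_injective φ hφ
  have h2 : Nat.card {b : ↥N.toMData.U // (b : G) ≠ a} < Nat.card ↥N.toMData.U :=
    Finite.card_subtype_lt (x := ⟨a, ha⟩) (not_not_intro rfl)
  rw [Nat.card_prod, Finite.card_option, card_zpowers_two N.z_mem.2.1 N.z_ne, hF] at h1
  omega

/-- For `|U| = 8` only `⟨z⟩` is fixed in `U` by a nontrivial element of `F`. -/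
theorem U_fix (N : NData (S : Subgroup G) K M₁ F z v x) (hU : Nat.card N.toMData.U = 8) (hF : Nat.card F = 3)
    {a f : G} (ha : a ∈ N.toMData.U) (hf : f ∈ F) (hf1 : f ≠ 1) (hfa : f * a = a * f) :
    a ∈ Subgroup.zpowers z := by
  rcases N.U_cases hU hF ha with e | ⟨g, hg, e⟩
  · exact e
  exfalso
  have hfz := N.toMData.conj_z (N.ov.F_le hf)
  have h1 : f * (g * v * g⁻¹) * f⁻¹ = g * v * g⁻¹ := by
    rcases e with e | e
    · rw [← e, hfa, mul_inv_cancel_right]
    · have h2 : f * a * f⁻¹ = a := by rw [hfa, mul_inv_cancel_right]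
      rw [e, show f * (z * (g * v * g⁻¹)) * f⁻¹ = (f * z * f⁻¹) * (f * (g * v * g⁻¹) * f⁻¹) by group, hfz,
        mul_left_cancel_iff] at h2
      exact h2
  refine hf1 (N.toMData.eq_one_of_fix (N.ov.F_le hf) (N.ov.odd_order hf) (Or.inl ?_))
  have hc : Commute g f := N.ov.comm g hg f hf
  calc f * v * f⁻¹ = g⁻¹ * ((g * f) * v * (g * f)⁻¹) * g := by group
    _ = g⁻¹ * ((f * g) * v * (f * g)⁻¹) * g := by rw [hc.eq]
    _ = g⁻¹ * (f * (g * v * g⁻¹) * f⁻¹) * g := by group
    _ = v := by rw [h1]; group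

/-- The set-up of `|U| = 8`. -/
structure Eight (N : NData (S : Subgroup G) K M₁ F z v x) (t w : G) : Prop where
  comm : ∀ a ∈ N.toMData.U, ∀ b ∈ N.toMData.U, a * b = b * a
  card : Nat.card N.toMData.U = 8
  three : Nat.card F = 3
  t_Q : t ∈ pCoreOf 2 M₁
  tv : t * v * t⁻¹ = z * v
  w_U : w ∈ N.toMData.U
  w_W : w ∉ Subgroup.closure ({z, v} : Set G)

namespace Eight

variable {N : NData (S : Subgroup G) K M₁ F z v x} {t w : G}

theorem t_S (E : Eight N t w) : t ∈ (S : Subgroup G) := N.toMData.Q_le_S E.t_Q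

theorem W_U (_E : Eight N t w) : Subgroup.closure ({z, v} : Set G) ≤ N.toMData.U :=
  (Subgroup.closure_le _).mpr (by
    rintro _ (rfl | rfl)
    · exact N.toMData.z_U
    · exact N.toMData.v_U)

theorem card_W (E : Eight N t w) : 4 ≤ Nat.card (Subgroup.closure ({z, v} : Set G)) := by
  have hlt : Subgroup.zpowers z < Subgroup.closure ({z, v} : Set G) :=
    lt_of_le_of_ne (Subgroup.zpowers_le.mpr (Subgroup.subset_closure (Or.inl rfl))) fun e =>
      N.toMData.conj_v_ne F.one_mem (by simpa using e.ge (Subgroup.subset_closure (Or.inr rfl)))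
  have hd := Subgroup.card_dvd_of_le hlt.le
  rw [card_zpowers_two N.z_mem.2.1 N.z_ne] at hd
  by_contra h4
  obtain ⟨k, hk⟩ := hd
  have hne : Nat.card (Subgroup.closure ({z, v} : Set G)) ≠ 2 := fun e =>
    hlt.ne (Subgroup.eq_of_le_of_card_ge hlt.le (by rw [e, card_zpowers_two N.z_mem.2.1 N.z_ne]))
  have := Nat.card_pos (α := ↥(Subgroup.closure ({z, v} : Set G)))
  omega

/-- `U = W ∪ W w`. -/
theorem U_cases' (E : Eight N t w) {a : G} (ha : a ∈ N.toMData.U) :
    a ∈ Subgroup.closure ({z, v} : Set G) ∨ a * w ∈ Subgroup.closure ({z, v} : Set G) := by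
  set W := Subgroup.closure ({z, v} : Set G)
  by_contra hh
  push Not at hh
  obtain ⟨h1, h2⟩ := hh
  have hW : 4 ≤ Nat.card ↥W := E.card_W
  let φ : Fin 3 × ↥W → ↥N.toMData.U := fun p =>
    ⟨(![(1 : G), w, a] p.1) * p.2, mul_mem (by
      obtain ⟨i, r⟩ := p
      fin_cases i
      · exact one_mem _
      · exact E.w_U
      · exact ha) (E.W_U p.2.2)⟩
  have hwinv : w⁻¹ = w := inv_eq_of_mul_eq_one_right (N.U_exp_two E.comm E.w_U)
  have hφ : Function.Injective φ := by
    rintro ⟨i, p⟩ ⟨j, q⟩ e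
    have e' := congrArg Subtype.val e
    have hm : (![(1 : G), w, a] j)⁻¹ * (![(1 : G), w, a] i)
        ∈ W := by
      have h := mul_mem q.2 (inv_mem p.2)
      have e3 : (![(1 : G), w, a] j)⁻¹ * (![(1 : G), w, a] i)
          = (q : G) * (p : G)⁻¹ := by
        rw [inv_mul_eq_iff_eq_mul, ← mul_assoc, eq_mul_inv_iff_mul_eq]
        exact e'
      rwa [e3]
    have hij : i = j := by
      fin_cases i <;> fin_cases j <;> simp at hm ⊢
      · exact E.w_W hm
      · exact h1 hm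
      · exact E.w_W hm
      · refine h2 ?_
        have := inv_mem hm
        rwa [mul_inv_rev, inv_inv, E.comm _ (inv_mem E.w_U) _ ha, hwinv] at this
      · exact h1 hm
      · refine h2 ?_
        rwa [hwinv, E.comm _ E.w_U _ ha] at hm
    subst hij
    exact Prod.ext rfl (Subtype.ext (mul_left_cancel e'))
  have h3 := Nat.card_le_card_of_injective φ hφ
  rw [Nat.card_prod, Nat.card_fin, E.card] at h3
  omega

theorem conj_U (E : Eight N t w) {q a : G} (hq : q ∈ pCoreOf 2 K) (ha : a ∈ N.toMData.U) :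
    q * a * q⁻¹ ∈ N.toMData.U := N.U_conj (N.core_le_S hq) ha

/-- `O₂(K)` fixes `W` pointwise. -/
theorem core_W (_E : Eight N t w) {q a : G} (hq : q ∈ pCoreOf 2 K) (ha : a ∈ Subgroup.closure ({z, v} : Set G)) :
    q * a = a * q := by
  have hz := N.core_z hq
  have hv := N.core_v q hq
  rcases N.mem_four ha with rfl | rfl | rfl | rfl
  · simp
  · exact hz
  · exact hv
  · exact (Commute.mul_right (hz : Commute q z) (hv : Commute q v))

/-- `q` moves `w` inside `W w`. -/
theorem core_w (E : Eight N t w) {q : G} (hq : q ∈ pCoreOf 2 K) :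
    q * w * q⁻¹ * w ∈ Subgroup.closure ({z, v} : Set G) := by
  rcases E.U_cases' (E.conj_U hq E.w_U) with e | e
  · exfalso
    refine E.w_W ?_
    have h := E.core_W hq e
    have : w = q * w * q⁻¹ := by
      calc w = q⁻¹ * (q * w * q⁻¹ * q) := by group
        _ = q * w * q⁻¹ := by rw [← h]; group
    rwa [← this] at e
  · exact e

theorem W_x (_E : Eight N t w) {a : G} (ha : a ∈ Subgroup.closure ({z, v} : Set G)) :
    x * a * x⁻¹ ∈ Subgroup.closure ({z, v} : Set G) := by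
  rcases N.mem_four ha with rfl | rfl | rfl | rfl
  · simp
  · rw [N.xz]; exact Subgroup.subset_closure (Or.inr rfl)
  · rw [N.xv]; exact mul_mem (Subgroup.subset_closure (Or.inl rfl)) (Subgroup.subset_closure (Or.inr rfl))
  · rw [N.xzv]; exact Subgroup.subset_closure (Or.inl rfl)

theorem W_sq (E : Eight N t w) {a : G} (ha : a ∈ Subgroup.closure ({z, v} : Set G)) : a * a = 1 :=
  N.U_exp_two E.comm (E.W_U ha)

theorem w_sq (E : Eight N t w) : w * w = 1 := N.U_exp_two E.comm E.w_U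

theorem w_core (E : Eight N t w) : w ∈ pCoreOf 2 K := N.U_le_core E.comm E.w_U

theorem w2_core (E : Eight N t w) : x * w * x⁻¹ ∈ pCoreOf 2 K := conj_mem_core N.x_mem E.w_core

theorem w3_core (E : Eight N t w) : x * (x * w * x⁻¹) * x⁻¹ ∈ pCoreOf 2 K := conj_mem_core N.x_mem E.w2_core

/-- `x w x⁻¹` lies outside `U`. -/
theorem w2_notU (h : Hard G) (E : Eight N t w) : x * w * x⁻¹ ∉ N.toMData.U := by
  intro hm
  refine N.moves_U h E.t_S (mul_mem (Subgroup.mem_normalizer_fintype fun a ha => ?_)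
    (N.toMData.U_norm (N.toMData.S_le E.t_S)))
  rcases E.U_cases' ha with e | e
  · exact E.W_U (E.W_x e)
  · have e' : a = a * w * w := by rw [mul_assoc, E.w_sq, mul_one]
    rw [e', show x * (a * w * w) * x⁻¹ = (x * (a * w) * x⁻¹) * (x * w * x⁻¹) by group]
    exact mul_mem (E.W_U (E.W_x e)) hm

/-- `t` maps `x w x⁻¹` into `W x² w x⁻²`. -/
theorem t_w2 (E : Eight N t w) :
    t * (x * w * x⁻¹) * t⁻¹ * (x * (x * w * x⁻¹) * x⁻¹) ∈ Subgroup.closure ({z, v} : Set G) := by
  obtain ⟨q, hq, e⟩ := N.t_x E.t_S E.tv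
  set W := Subgroup.closure ({z, v} : Set G)
  set b := t * w * t⁻¹
  have hb : b * w ∈ W := by
    rcases E.U_cases' (N.U_conj E.t_S E.w_U) with e' | e'
    · exfalso
      refine E.w_W ?_
      have htW : ∀ a ∈ W, t⁻¹ * a * t ∈ W := by
        intro a ha
        have hs := inv_mem E.t_S
        rcases N.mem_four ha with rfl | rfl | rfl | rfl
        · simp
        · rw [N.z_mem.2.2 _ hs, inv_mul_cancel_right]; exact ha
        · have h := N.sv _ hs
          rw [inv_inv] at h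
          rcases h with e | e <;> rw [e]
          · exact ha
          · exact mul_mem (Subgroup.subset_closure (Or.inl rfl)) ha
        · have h := N.sv _ hs
          rw [inv_inv] at h
          rw [show t⁻¹ * (z * v) * t = (t⁻¹ * z) * t * (t⁻¹ * v * t) by group, N.z_mem.2.2 _ hs,
            inv_mul_cancel_right]
          rcases h with e | e <;> rw [e]
          · exact ha
          · rw [← mul_assoc, N.z_mem.2.1, one_mul]; exact Subgroup.subset_closure (Or.inr rfl)
      have := htW b e'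
      rwa [show t⁻¹ * b * t = w by simp only [b]; group] at this
    · exact e'
  have hbw : b = b * w * w := by rw [mul_assoc, E.w_sq, mul_one]
  -- `t x t⁻¹ = q x²`
  set w3 := x * (x * w * x⁻¹) * x⁻¹
  have h1 : t * (x * w * x⁻¹) * t⁻¹ = q * ((x * (x * (b * w) * x⁻¹) * x⁻¹) * w3) * q⁻¹ := by
    calc t * (x * w * x⁻¹) * t⁻¹ = (t * x * t⁻¹) * b * (t * x * t⁻¹)⁻¹ := by simp only [b]; group
      _ = q * (x * x * (b * w * w) * (x * x)⁻¹) * q⁻¹ := by rw [e, ← hbw]; group
      _ = q * ((x * (x * (b * w) * x⁻¹) * x⁻¹) * w3) * q⁻¹ := by simp only [w3]; group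
  set r := (x * x)⁻¹ * q * (x * x)
  have hr : r ∈ pCoreOf 2 K := by
    have := conj_mem_core (K.inv_mem (K.mul_mem N.x_mem N.x_mem)) hq
    rwa [inv_inv] at this
  have hw3sq : w3 * w3 = 1 := by
    simp only [w3]; rw [show x * (x * w * x⁻¹) * x⁻¹ * (x * (x * w * x⁻¹) * x⁻¹) = x * (x * (w * w) * x⁻¹) * x⁻¹ by group,
      E.w_sq]; group
  have h2 : q * w3 * q⁻¹ * w3 = x * (x * (r * w * r⁻¹ * w) * x⁻¹) * x⁻¹ := by
    simp only [w3, r, mul_inv_rev, inv_inv, mul_assoc, inv_mul_cancel_left, mul_inv_cancel_left]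
  rw [h1, show q * ((x * (x * (b * w) * x⁻¹) * x⁻¹) * w3) * q⁻¹ * w3 =
    (q * (x * (x * (b * w) * x⁻¹) * x⁻¹) * q⁻¹) * (q * w3 * q⁻¹ * w3) by group, h2]
  refine mul_mem ?_ (E.W_x (E.W_x (E.core_w hr)))
  have hm := E.W_x (E.W_x hb)
  rw [E.core_W hq hm, mul_inv_cancel_right]
  exact hm

end Eight

end NData

end CfsgLib.SRFour
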