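import Mathlib
import Cfsg.Agent.Lib.SRFour.NEight

/-!
`|U| = 8`: the conjugates of `U` under `x` do not commute.

Blueprint: `blueprint/S0517.md`, §3.
-/

set_option autoImplicit false
set_option linter.unusedSectionVars false
set_option linter.style.haveILetI false

namespace CfsgLib.SRFour

open Cfsg
open scoped commutatorElement

universe u

variable {G : Type u} [Group G] [Finite G]

/-- A subgroup generated by commuting involutions is elementary abelian. -/
theorem sq_one_closure {X : Set G} (hsq : ∀ a ∈ X, a * a = 1) (hc : ∀ a ∈ X, ∀ b ∈ X, a * b = b * a) :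
    ∀ g ∈ Subgroup.closure X, g * g = 1 := fun g hg =>
  Subgroup.mem_bot.mp (sq_mem_closure (N := ⊥)
    (fun x _ n hn => by rw [Subgroup.mem_bot] at hn ⊢; rw [hn]; group)
    (fun x _ n hn => by rw [Subgroup.mem_bot] at hn ⊢; rw [hn]; group)
    (fun a ha => by rw [hsq a ha]; exact one_mem _)
    (fun a ha b hb => by rw [commutatorElement_eq_one_iff_mul_comm.mpr (hc a ha b hb)]; exact one_mem _) g hg)

theorem mem_normalizer_closure {X : Set G} {s : G} (h : ∀ a ∈ X, s * a * s⁻¹ ∈ Subgroup.closure X) :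
    s ∈ Subgroup.normalizer (Subgroup.closure X : Set G) :=
  Subgroup.mem_normalizer_fintype fun a ha => by
    induction ha using Subgroup.closure_induction with
    | mem y hy => exact h y hy
    | one => simp
    | mul a b _ _ iha ihb =>
      rw [show s * (a * b) * s⁻¹ = (s * a * s⁻¹) * (s * b * s⁻¹) by group]
      exact mul_mem iha ihb
    | inv a _ iha =>
      rw [show s * a⁻¹ * s⁻¹ = (s * a * s⁻¹)⁻¹ by group]
      exact inv_mem iha

namespace NData.Eight

variable {S : Sylow 2 G} {K M₁ F : Subgroup G} {z v x t w : G}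
variable {N : NData (S : Subgroup G) K M₁ F z v x}

/-- `w` and `x w x⁻¹` do not commute. -/
theorem noncomm (h : Hard G) (E : Eight N t w) : w * (x * w * x⁻¹) ≠ x * w * x⁻¹ * w := by
  intro hcm
  classical
  set U := N.toMData.U with hUdef
  set u2 := x * w * x⁻¹ with hu2
  set u3 := x * u2 * x⁻¹ with hu3
  set W := Subgroup.closure ({z, v} : Set G)
  have hx3 := N.x_cube
  have hu3w : x * u3 * x⁻¹ = w := by
    calc x * u3 * x⁻¹ = x ^ 3 * w * (x ^ 3)⁻¹ := by simp only [hu3, hu2, pow_succ, pow_zero, one_mul]; group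
      _ = w := by rw [hx3]; group
  have hconj : ∀ a b : G, a * b = b * a → (x * a * x⁻¹) * (x * b * x⁻¹) = (x * b * x⁻¹) * (x * a * x⁻¹) := by
    intro a b e
    calc (x * a * x⁻¹) * (x * b * x⁻¹) = x * (a * b) * x⁻¹ := by group
      _ = (x * b * x⁻¹) * (x * a * x⁻¹) := by rw [e]; group
  have h23 : u2 * u3 = u3 * u2 := hconj w u2 hcm
  have h31 : u3 * w = w * u3 := by
    have := hconj u2 u3 h23
    rwa [← hu3, hu3w] at this
  have hu2sq : u2 * u2 = 1 := by
    rw [hu2, show x * w * x⁻¹ * (x * w * x⁻¹) = x * (w * w) * x⁻¹ by group, E.w_sq]; group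
  have hu3sq : u3 * u3 = 1 := by
    rw [hu3, show x * u2 * x⁻¹ * (x * u2 * x⁻¹) = x * (u2 * u2) * x⁻¹ by group, hu2sq]; group
  have hUcore : ∀ a ∈ U, a * u2 = u2 * a ∧ a * u3 = u3 * a := by
    intro a ha
    rcases E.U_cases' ha with e | e
    · exact ⟨(E.core_W E.w2_core e).symm, (E.core_W E.w3_core e).symm⟩
    · have e' : a = a * w * w := by rw [mul_assoc, E.w_sq, mul_one]
      have h2 : Commute (a * w) u2 := (E.core_W E.w2_core e).symm
      have h3 : Commute (a * w) u3 := (E.core_W E.w3_core e).symm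
      rw [e']
      exact ⟨(h2.mul_left (hcm : Commute w u2)).eq, (h3.mul_left (h31.symm : Commute w u3)).eq⟩
  set X : Set G := (U : Set G) ∪ {u2} with hX
  set Y := Subgroup.closure X with hY
  have hUY : U ≤ Y := fun a ha => Subgroup.subset_closure (Or.inl ha)
  have hu2Y : u2 ∈ Y := Subgroup.subset_closure (Or.inr rfl)
  have hXc : ∀ a ∈ X, ∀ b ∈ X, a * b = b * a := by
    rintro a (ha | rfl) b (hb | rfl)
    · exact E.comm a ha b hb
    · exact (hUcore a ha).1
    · exact ((hUcore b hb).1).symm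
    · rfl
  have hXsq : ∀ a ∈ X, a * a = 1 := by
    rintro a (ha | rfl)
    · exact N.U_exp_two E.comm ha
    · exact hu2sq
  have hYsq := sq_one_closure hXsq hXc
  have hYlt : U < Y := lt_of_le_of_ne hUY fun e => E.w2_notU h (e.ge hu2Y)
  have hY16 : Nat.card Y = 16 := by
    have h1 : Nat.card Y ≤ 16 := card_le_sixteen h.sect hYsq
    have h2 := Subgroup.card_dvd_of_le hUY
    rw [E.card] at h2
    have h3 : Nat.card Y ≠ 8 := fun e => hYlt.ne (Subgroup.eq_of_le_of_card_ge hUY (by rw [e, E.card]))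
    have := Nat.card_pos (α := ↥Y)
    omega
  have hu3Y : u3 ∈ Y := by
    set Y' := Subgroup.closure (X ∪ {u3})
    have hle : Y ≤ Y' := Subgroup.closure_mono Set.subset_union_left
    have hsq' : ∀ g ∈ Y', g * g = 1 := sq_one_closure (by
      rintro a (ha | rfl)
      · exact hXsq a ha
      · exact hu3sq) (by
      rintro a (ha | rfl) b (hb | rfl)
      · exact hXc a ha b hb
      · rcases ha with ha | rfl
        · exact (hUcore a ha).2
        · exact h23
      · rcases hb with hb | rfl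
        · exact ((hUcore b hb).2).symm
        · exact h23.symm
      · rfl)
    have heq := Subgroup.eq_of_le_of_card_ge hle (by rw [hY16]; exact card_le_sixteen h.sect hsq')
    exact heq.ge (Subgroup.subset_closure (Or.inr rfl))
  have hYcases : ∀ a ∈ Y, a ∈ U ∨ a * u2 ∈ U := by
    intro a ha
    induction ha using Subgroup.closure_induction with
    | mem y hy =>
      rcases hy with hy | rfl
      · exact Or.inl hy
      · exact Or.inr (by rw [hu2sq]; exact one_mem _)
    | one => exact Or.inl (one_mem _)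
    | mul a b ha hb iha ihb =>
      have hcm' : b * u2 = u2 * b := comm_of_exp_two hYsq b hb u2 hu2Y
      rcases iha with e | e <;> rcases ihb with e' | e'
      · exact Or.inl (mul_mem e e')
      · exact Or.inr (by rw [mul_assoc]; exact mul_mem e e')
      · exact Or.inr (by rw [mul_assoc, hcm', ← mul_assoc]; exact mul_mem e e')
      · refine Or.inl ?_
        have := mul_mem e e'
        rwa [show a * u2 * (b * u2) = a * (u2 * b) * u2 by group, ← hcm',
          show a * (b * u2) * u2 = a * b * (u2 * u2) by group, hu2sq, mul_one] at this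
    | inv a ha iha =>
      rw [inv_eq_of_mul_eq_one_right (hYsq a ha)]; exact iha
  have hxY : x ∈ Subgroup.normalizer (Y : Set G) := mem_normalizer_closure (by
    rintro a (ha | rfl)
    · rcases E.U_cases' ha with e | e
      · exact hUY (E.W_U (E.W_x e))
      · have e' : a = a * w * w := by rw [mul_assoc, E.w_sq, mul_one]
        rw [e', show x * (a * w * w) * x⁻¹ = (x * (a * w) * x⁻¹) * u2 by simp only [hu2]; group]
        exact mul_mem (hUY (E.W_U (E.W_x e))) hu2Y
    · exact hu3Y)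
  have hSY : (S : Subgroup G) ≤ Subgroup.normalizer (Y : Set G) := by
    have hcore : pCoreOf 2 K ≤ Subgroup.normalizer (Y : Set G) := fun q hq => mem_normalizer_closure (by
      rintro a (ha | rfl)
      · exact hUY (E.conj_U hq ha)
      · set r := x⁻¹ * q * x
        have hr : r ∈ pCoreOf 2 K := by
          have := conj_mem_core (K.inv_mem N.x_mem) hq
          rwa [inv_inv] at this
        have h1 := hUY (E.W_U (E.W_x (E.core_w hr)))
        rw [show x * (r * w * r⁻¹ * w) * x⁻¹ = q * u2 * q⁻¹ * u2 by simp only [r, hu2]; group] at h1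
        have := mul_mem h1 hu2Y
        rwa [mul_assoc, hu2sq, mul_one] at this)
    have htY : t ∈ Subgroup.normalizer (Y : Set G) := mem_normalizer_closure (by
      rintro a (ha | rfl)
      · exact hUY (N.U_conj E.t_S ha)
      · have := mul_mem (hUY (E.W_U E.t_w2)) hu3Y
        rwa [← hu3, mul_assoc, hu3sq, mul_one] at this)
    intro s hs
    rcases N.core_cover E.t_S E.tv hs with e | e
    · exact hcore e
    · simpa using mul_mem (hcore e) htY
  have hYne : Y ≠ ⊥ := fun e => by rw [e, Subgroup.card_bot] at hY16; omega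
  have hY2 : IsPGroup 2 ↥Y := IsPGroup.of_card (n := 4) (by rw [hY16]; norm_num)
  by_cases hQ : u2 ∈ pCoreOf 2 M₁
  swap
  · refine hQ (N.toMData.mem_Q_of_act (A := U) N.toMData.U_norm (fun a ha => E.comm a ha v N.toMData.v_U)
      (N.toMData.S_le (N.core_le_S E.w2_core)) fun q hq => ?_)
    have hqY : ⁅q, u2⁆ ∈ Y := by
      have := mul_mem ((Subgroup.mem_normalizer_iff.mp (hSY (N.toMData.Q_le_S hq)) u2).mp hu2Y) (inv_mem hu2Y)
      simpa [commutatorElement_def] using this
    have hqQ : ⁅q, u2⁆ ∈ pCoreOf 2 M₁ := by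
      have := mul_mem hq (N.toMData.conj_mem_Q (N.toMData.S_le (N.core_le_S E.w2_core)) (inv_mem hq))
      rw [show ⁅q, u2⁆ = q * (u2 * q⁻¹ * u2⁻¹) by simp only [commutatorElement_def]; group]
      exact this
    rcases hYcases _ hqY with e | e
    · exact e
    · exfalso
      have := mul_mem (inv_mem hqQ) (N.toMData.U_le e)
      rw [inv_mul_cancel_left] at this
      exact hQ this
  obtain ⟨f, hf, hf1, hfo⟩ := N.toMData.exists_odd
  have hfU : ∀ g ∈ F, ∀ a ∈ U, g * a * g⁻¹ ∈ U := fun g hg a ha =>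
    (Subgroup.mem_normalizer_iff.mp (N.toMData.U_norm (N.ov.F_le hg)) a).mp ha
  have hnotY : ∀ g ∈ F, g ≠ 1 → g * u2 * g⁻¹ ∉ Y := by
    intro g hg hg1 hm
    refine hg1 (N.no_common h hY2 hYne hSY hxY (N.ov.F_le hg) (N.ov.odd_order hg) (mem_normalizer_closure ?_))
    rintro a (ha | rfl)
    · exact hUY (hfU g hg a ha)
    · exact hm
  -- properties of the conjugates of `u2`
  have hprop : ∀ g ∈ F, (g * u2 * g⁻¹) * (g * u2 * g⁻¹) = 1 ∧ g * u2 * g⁻¹ ∈ pCoreOf 2 M₁ ∧
      (∀ a ∈ U, a * (g * u2 * g⁻¹) = g * u2 * g⁻¹ * a) ∧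
      ∀ q ∈ pCoreOf 2 M₁, q * (g * u2 * g⁻¹) * q⁻¹ * (g * u2 * g⁻¹) ∈ U := by
    intro g hg
    refine ⟨?_, N.toMData.conj_mem_Q (N.ov.F_le hg) hQ, fun a ha => ?_, fun q hq => ?_⟩
    · rw [show g * u2 * g⁻¹ * (g * u2 * g⁻¹) = g * (u2 * u2) * g⁻¹ by group, hu2sq]; group
    · have := hUcore (g⁻¹ * a * g) (by
        have := hfU g⁻¹ (F.inv_mem hg) a ha
        rwa [inv_inv] at this)
      calc a * (g * u2 * g⁻¹) = g * ((g⁻¹ * a * g) * u2) * g⁻¹ := by group
        _ = g * u2 * g⁻¹ * a := by rw [this.1]; group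
    · set r := g⁻¹ * q * g
      have hr : r ∈ pCoreOf 2 M₁ := by
        have := N.toMData.conj_mem_Q (M₁.inv_mem (N.ov.F_le hg)) hq
        rwa [inv_inv] at this
      have hm : r * u2 * r⁻¹ ∈ Y :=
        (Subgroup.mem_normalizer_iff.mp (hSY (N.toMData.Q_le_S hr)) u2).mp hu2Y
      rcases hYcases _ hm with e | e
      · exfalso
        refine E.w2_notU h ?_
        have := (Subgroup.mem_normalizer_iff.mp (N.toMData.U_norm (M₁.inv_mem (core_le M₁ hr))) _).mp e
        rwa [show r⁻¹ * (r * u2 * r⁻¹) * r⁻¹⁻¹ = u2 by group] at this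
      · have := hfU g hg _ e
        rwa [show g * (r * u2 * r⁻¹ * u2) * g⁻¹ = q * (g * u2 * g⁻¹) * q⁻¹ * (g * u2 * g⁻¹) by
          simp only [r]; group] at this
  have hpair : ∀ g ∈ F, ∀ k ∈ F, ⁅g * u2 * g⁻¹, k * u2 * k⁻¹⁆ ∈ Subgroup.zpowers z := by
    intro g hg k hk
    obtain ⟨ha2, haQ, haU, haq⟩ := hprop g hg
    obtain ⟨hb2, hbQ, hbU, hbq⟩ := hprop k hk
    set a := g * u2 * g⁻¹
    set b := k * u2 * k⁻¹
    have hainv : a⁻¹ = a := inv_eq_of_mul_eq_one_right ha2
    have hbinv : b⁻¹ = b := inv_eq_of_mul_eq_one_right hb2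
    have he : ⁅a, b⁆ ∈ U := by rw [commutatorElement_def, hbinv]; exact hbq a haQ
    refine N.U_fix E.card E.three he hf hf1 (N.toMData.fix_U₀ he (fun q hq => ?_) (N.ov.F_le hf) hfo)
    set u' := q * a * q⁻¹ * a
    set u'' := q * b * q⁻¹ * b
    have hu' : u' ∈ U := haq q hq
    have hu'' : u'' ∈ U := hbq q hq
    have e1 : q * a * q⁻¹ = u' * a := by simp only [u', mul_assoc, ha2, mul_one]
    have e2 : q * b * q⁻¹ = u'' * b := by simp only [u'', mul_assoc, hb2, mul_one]
    refine mul_inv_eq_iff_eq_mul.mp ?_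
    calc q * ⁅a, b⁆ * q⁻¹ = ⁅q * a * q⁻¹, q * b * q⁻¹⁆ := by simp only [commutatorElement_def]; group
      _ = (u' * a) * (u'' * b) * (u' * a)⁻¹ * (u'' * b)⁻¹ := by rw [e1, e2, commutatorElement_def]
      _ = u' * (a * u'') * b * a⁻¹ * u'⁻¹ * b⁻¹ * u''⁻¹ := by group
      _ = u' * u'' * (a * b * a⁻¹) * (u'⁻¹ * b⁻¹) * u''⁻¹ := by rw [← haU u'' hu'']; group
      _ = u' * u'' * (a * b * a⁻¹) * (b⁻¹ * u'⁻¹) * u''⁻¹ := by
        rw [hbinv, hbU _ (inv_mem hu')]
      _ = (u' * u'') * (⁅a, b⁆ * (u'⁻¹ * u''⁻¹)) := by simp only [commutatorElement_def]; group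
      _ = ⁅a, b⁆ := by
        rw [E.comm _ he _ (mul_mem (inv_mem hu') (inv_mem hu'')), ← mul_assoc,
          E.comm _ (inv_mem hu') _ (inv_mem hu'')]
        group
  set b := f * u2 * f⁻¹ with hb
  set c := f * f * u2 * (f * f)⁻¹ with hc
  obtain ⟨hb2, hbQ, hbU, -⟩ := hprop f hf
  obtain ⟨hc2, hcQ, hcU, -⟩ := hprop (f * f) (F.mul_mem hf hf)
  have hab := hpair 1 F.one_mem f hf
  have hac := hpair 1 F.one_mem (f * f) (F.mul_mem hf hf)
  have hbc := hpair f hf (f * f) (F.mul_mem hf hf)
  simp only [one_mul, inv_one, mul_one, ← hb, ← hc] at hab hac hbc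
  set X2 : Set G := X ∪ {b, c}
  have hzc : ∀ a ∈ X2, a * z = z * a := by
    rintro a ((ha | rfl) | rfl | rfl)
    · exact E.comm a ha z N.toMData.z_U
    · exact ((hUcore z N.toMData.z_U).1).symm
    · exact (hbU z N.toMData.z_U).symm
    · exact (hcU z N.toMData.z_U).symm
  have hcomm2 : ∀ p ∈ X2, ∀ r ∈ X2, ⁅p, r⁆ ∈ Subgroup.zpowers z := by
    have one : ∀ {p r : G}, p * r = r * p → ⁅p, r⁆ ∈ Subgroup.zpowers z := fun e => by
      rw [commutatorElement_eq_one_iff_mul_comm.mpr e]; exact one_mem _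
    have sym : ∀ {p r : G}, ⁅p, r⁆ ∈ Subgroup.zpowers z → ⁅r, p⁆ ∈ Subgroup.zpowers z := fun e => by
      rw [← commutatorElement_inv]; exact inv_mem e
    rintro p ((hp | rfl) | rfl | rfl) r ((hr | rfl) | rfl | rfl)
    · exact one (E.comm p hp r hr)
    · exact one (hUcore p hp).1
    · exact one (hbU p hp)
    · exact one (hcU p hp)
    · exact one (hUcore r hr).1.symm
    · exact one rfl
    · exact hab
    · exact hac
    · exact one (hbU r hr).symm
    · exact sym hab
    · exact one rfl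
    · exact hbc
    · exact one (hcU r hr).symm
    · exact sym hac
    · exact sym hbc
    · exact one rfl
  have hzn : ∀ a ∈ X2, ∀ n ∈ Subgroup.zpowers z, a * n * a⁻¹ ∈ Subgroup.zpowers z ∧ a⁻¹ * n * a ∈ Subgroup.zpowers z := by
    intro a ha n hn
    obtain ⟨i, rfl⟩ := Subgroup.mem_zpowers_iff.mp hn
    have h1 : Commute a (z ^ i) := Commute.zpow_right (hzc a ha) i
    rw [h1.eq, mul_inv_cancel_right, h1.inv_left.eq, inv_mul_cancel_right]
    exact ⟨hn, hn⟩
  have hsq2 : ∀ g ∈ Subgroup.closure X2, g * g ∈ Subgroup.zpowers z :=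
    sq_mem_closure (fun a ha n hn => (hzn a ha n hn).1) (fun a ha n hn => (hzn a ha n hn).2) (by
      rintro a (ha | rfl | rfl)
      · rw [hXsq a ha]; exact one_mem _
      · rw [hb2]; exact one_mem _
      · rw [hc2]; exact one_mem _) hcomm2
  have hT32 : Nat.card (Subgroup.closure X2) ≤ 32 := by
    have := card_le_of_sq h.sect (N := Subgroup.zpowers z) (H := Subgroup.closure X2)
      (Subgroup.zpowers_le.mpr (Subgroup.subset_closure (Or.inl (Or.inl N.toMData.z_U))))
      ((Subgroup.closure_le _).mpr fun a ha => Subgroup.mem_normalizer_fintype fun n hn => (hzn a ha n hn).1) hsq2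
    rw [card_zpowers_two N.z_mem.2.1 N.z_ne] at this
    omega
  have hbnY : b ∈ Subgroup.normalizer (Y : Set G) := hSY (N.toMData.Q_le_S hbQ)
  set T0 := Y ⊔ Subgroup.zpowers b
  have hT0le : T0 ≤ Subgroup.closure X2 :=
    sup_le (Subgroup.closure_mono Set.subset_union_left)
      (Subgroup.zpowers_le.mpr (Subgroup.subset_closure (Or.inr (Or.inl rfl))))
  have hYT0 : Y < T0 := lt_of_le_of_ne le_sup_left fun e =>
    hnotY f hf hf1 (e.ge (Subgroup.mem_sup_right (Subgroup.mem_zpowers b)))
  have hT0card : 32 ≤ Nat.card T0 := by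
    have h1 : 16 ∣ Nat.card T0 := hY16 ▸ Subgroup.card_dvd_of_le (le_sup_left : Y ≤ T0)
    have h2 : Nat.card T0 ≠ 16 := fun e => hYT0.ne (Subgroup.eq_of_le_of_card_ge le_sup_left (by rw [e, hY16]))
    have := Nat.card_pos (α := ↥T0)
    omega
  have hcT : c ∈ T0 :=
    (Subgroup.eq_of_le_of_card_ge hT0le (by omega)).ge (Subgroup.subset_closure (Or.inr (Or.inr rfl)))
  have habne : ⁅u2, b⁆ ≠ 1 := by
    intro e
    rw [commutatorElement_eq_one_iff_mul_comm] at e
    have hel := sq_one_closure (X := X ∪ {b}) (by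
      rintro a (ha | rfl)
      · exact hXsq a ha
      · exact hb2) (by
      rintro a (ha | rfl) d (hd | rfl)
      · exact hXc a ha d hd
      · rcases ha with ha | rfl
        · exact hbU a ha
        · exact e
      · rcases hd with hd | rfl
        · exact (hbU d hd).symm
        · exact e.symm
      · rfl)
    have hle : T0 ≤ Subgroup.closure (X ∪ {b}) := sup_le (Subgroup.closure_mono Set.subset_union_left)
      (Subgroup.zpowers_le.mpr (Subgroup.subset_closure (Or.inr rfl)))
    have := (Subgroup.card_le_of_le hle).trans (card_le_sixteen h.sect hel)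
    omega
  rw [← SetLike.mem_coe, Subgroup.coe_mul_of_right_le_normalizer_left Y _ (Subgroup.zpowers_le.mpr hbnY)] at hcT
  obtain ⟨y, hy, r, hr, hyr⟩ := hcT
  have hyr' : y * r = c := hyr
  rcases mem_two hb2 hr with rfl | rfl
  · rw [mul_one] at hyr'
    have hf2 : f * f ≠ 1 := fun e => hf1 (by
      have h3 : f ^ 3 = 1 := by
        rw [← E.three]
        exact congrArg Subtype.val (pow_card_eq_one' (x := (⟨f, hf⟩ : ↥F)))
      rwa [pow_succ, pow_two, e, one_mul] at h3)
    exact hnotY (f * f) (F.mul_mem hf hf) hf2 (by rw [← hc, ← hyr']; exact hy)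
  · rcases hYcases y hy with e | e
    · refine hnotY f hf hf1 ?_
      have h1 : u2 * (f⁻¹ * c * f) ∈ Y := by
        have h2 := hUY (hfU f⁻¹ (F.inv_mem hf) y e)
        rw [← hyr', show f⁻¹ * (y * b) * f = (f⁻¹ * y * f⁻¹⁻¹) * (f⁻¹ * b * f) by group,
          show f⁻¹ * b * f = u2 by simp only [hb]; group]
        exact mul_mem hu2Y (mul_mem h2 hu2Y)
      have := mul_mem hu2Y h1
      rwa [← mul_assoc, hu2sq, one_mul, show f⁻¹ * c * f = b by simp only [hc, hb]; group] at this
    · set u' := y * u2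
      have hy' : y = u' * u2 := by simp only [u']; rw [mul_assoc, hu2sq, mul_one]
      have hu'c : u' * (u2 * b) = u2 * b * u' := by
        calc u' * (u2 * b) = (u' * u2) * b := by group
          _ = u2 * (u' * b) := by rw [(hUcore u' e).1]; group
          _ = u2 * b * u' := by rw [hbU u' e]; simp only [hb]; group
      have h1 : c * c = ⁅u2, b⁆ := by
        rw [← hyr', hy', commutatorElement_def, inv_eq_of_mul_eq_one_right hu2sq, inv_eq_of_mul_eq_one_right hb2]
        calc u' * u2 * b * (u' * u2 * b) = u' * ((u2 * b) * u') * (u2 * b) := by group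
          _ = (u' * u') * (u2 * b * (u2 * b)) := by rw [← hu'c]; group
          _ = u2 * b * u2 * b := by rw [N.U_exp_two E.comm e]; group
      rw [hc2] at h1
      exact habne h1.symm

end NData.Eight

end CfsgLib.SRFour
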