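import Mathlib
import Cfsg.Agent.Lib.SRFour.Setting
import Cfsg.Agent.Lib.SRFour.ExtraCommon
import Cfsg.Agent.Lib.SRFour.NEightComm
import Cfsg.Agent.Lib.ZNStructure.ZN
import Cfsg.Agent.S0518

/-!
The three configurations of the core theorem: uniqueness, the natural movers, the irreducible movers.

Blueprint: `blueprint/S0517.md`, §2.
-/

set_option autoImplicit false
set_option linter.unusedSectionVars false
set_option linter.style.haveILetI false

namespace CfsgLib.SRFour

open Cfsg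
open scoped commutatorElement

universe u

variable {G : Type u} [Group G] [Finite G]

/-- Two elements of a group with a cyclic subgroup of index two cannot span more than a four-group. -/
theorem prankLE_of_half {R : Type u} [Group R] [Finite R] (x : R) (hx : Nat.card R ≤ 2 * orderOf x) :
    PRankLE 2 2 R := by
  classical
  intro A hA hA2
  set X := Subgroup.zpowers x
  have hXA : Nat.card ↥(A ⊓ X : Subgroup R) ≤ 2 := by
    haveI : IsCyclic ↥(A ⊓ X : Subgroup R) := Subgroup.isCyclic_of_le (inf_le_right : A ⊓ X ≤ Subgroup.zpowers x)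
    obtain ⟨g, hg⟩ := IsCyclic.exists_ofOrder_eq_natCard (α := ↥(A ⊓ X : Subgroup R))
    rw [← hg]
    exact Nat.le_of_dvd two_pos (orderOf_dvd_of_pow_eq_one (Subtype.ext (by simpa using hA2 g g.2.1)))
  have hidx : X.index ≤ 2 := by
    have h1 := Subgroup.index_mul_card X
    rw [Nat.card_zpowers] at h1
    by_contra h3
    push Not at h3
    have h2 : 3 * orderOf x ≤ X.index * orderOf x := Nat.mul_le_mul_right _ h3
    have := orderOf_pos x
    omega
  have h2 : (A ⊓ X).relIndex A ≤ 2 := by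
    rw [inf_comm, Subgroup.inf_relIndex_right]
    refine le_trans ?_ hidx
    rw [← Subgroup.relIndex_top_right]
    exact Subgroup.relIndex_le_of_le_right le_top (by rw [Subgroup.relIndex_top_right]; exact X.index_ne_zero_of_finite)
  have h3 := Subgroup.relIndex_mul_relIndex (⊥ : Subgroup R) (A ⊓ X) A bot_le inf_le_left
  rw [Subgroup.relIndex_bot_left, Subgroup.relIndex_bot_left] at h3
  calc Nat.card A = Nat.card ↥(A ⊓ X : Subgroup R) * (A ⊓ X).relIndex A := h3.symm
    _ ≤ 2 * 2 := Nat.mul_le_mul hXA h2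
    _ = 2 ^ 2 := rfl

/-- A self-centralising four-group bounds the rank. -/
theorem rank_of_four {V : Subgroup G} (h4 : Nat.card V = 4) (h2 : ∀ a ∈ V, a * a = 1)
    (hC : Subgroup.centralizer (V : Set G) ≤ V) : PRankLE 2 2 G := by
  haveI : Fact (Nat.Prime 2) := ⟨Nat.prime_two⟩
  have hV : IsPGroup 2 ↥V := fun a => ⟨1, Subtype.ext (by simpa [pow_two] using h2 a a.2)⟩
  obtain ⟨T, hT⟩ := hV.exists_le_sylow
  have hW := ZNStructure.dihedral_or_semi T.isPGroup' (V.subgroupOf (T : Subgroup G))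
    (by rw [Nat.card_congr (Subgroup.subgroupOfEquivOfLe hT).toEquiv, h4])
    (fun w hw => Subtype.ext (h2 _ hw))
    (fun g hg => hC (Subgroup.mem_centralizer_iff.mpr fun y hy =>
      congrArg Subtype.val (Subgroup.mem_centralizer_iff.mp hg (⟨y, hT hy⟩ : ↥(T : Subgroup G)) hy)))
  have hr : PRankLE 2 2 ↥(T : Subgroup G) := by
    rcases hW with ⟨n, hn, ⟨e⟩⟩ | ⟨n, hn, hcard, x, y, hx, -, -⟩
    · haveI : NeZero n := ⟨by omega⟩
      refine prankLE_of_half (e.symm (DihedralGroup.r 1)) (le_of_eq ?_)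
      rw [MulEquiv.orderOf_eq, DihedralGroup.orderOf_r_one, Nat.card_congr e.toEquiv, DihedralGroup.nat_card]
    · exact prankLE_of_half x (le_of_eq (by rw [hx, hcard, pow_succ']))
  intro A hA hA2
  have hAp : IsPGroup 2 ↥A := fun a => ⟨1, Subtype.ext (by simpa using hA2 a a.2)⟩
  obtain ⟨T', hT'⟩ := hAp.exists_le_sylow
  obtain ⟨g, hg⟩ := MulAction.exists_smul_eq G T' T
  set A' := A.map (MulAut.conj g).toMonoidHom
  have hA' : A' ≤ (T : Subgroup G) := by
    rintro _ ⟨a, ha, rfl⟩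
    rw [← hg, Sylow.coe_subgroup_smul]
    exact ⟨a, hT' ha, rfl⟩
  have h1 := hr (A'.subgroupOf (T : Subgroup G))
    ⟨⟨fun p q => by
      obtain ⟨a, ha, e1⟩ := p.2
      obtain ⟨b, hb, e2⟩ := q.2
      refine Subtype.ext (Subtype.ext ?_)
      show ((p : ↥(T : Subgroup G)) : G) * (q : ↥(T : Subgroup G)) = (q : ↥(T : Subgroup G)) * (p : ↥(T : Subgroup G))
      rw [show ((p : ↥(T : Subgroup G)) : G) = (MulAut.conj g).toMonoidHom a from e1.symm,
        show ((q : ↥(T : Subgroup G)) : G) = (MulAut.conj g).toMonoidHom b from e2.symm, ← map_mul, ← map_mul]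
      exact congrArg _ (congrArg Subtype.val (hA.is_comm.comm (⟨a, ha⟩ : ↥A) ⟨b, hb⟩))⟩⟩
    (fun p hp => by
      obtain ⟨a, ha, e1⟩ := hp
      refine Subtype.ext ?_
      show ((p : G)) ^ 2 = 1
      rw [show (p : G) = (MulAut.conj g).toMonoidHom a from e1.symm, ← map_pow, hA2 a ha, map_one])
  rwa [Nat.card_congr (Subgroup.subgroupOfEquivOfLe hA').toEquiv,
    Subgroup.card_map_of_injective (MulEquiv.injective _)] at h1

theorem Hard.pCore_eq_bot (h : Hard G) : pCore 2 G = ⊥ := by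
  haveI := h.simple
  haveI : Fact (Nat.Prime 2) := ⟨Nat.prime_two⟩
  rcases (inferInstance : (pCore 2 G).Normal).eq_bot_or_eq_top with i | i
  · exact i
  · exfalso
    have hG2 : IsPGroup 2 ↥(⊤ : Subgroup G) := i ▸ CfsgLib.isPGroup_pCore 2
    have hG : IsPGroup 2 G := hG2.of_equiv Subgroup.topEquiv
    haveI : Nontrivial G := h.simple.toNontrivial
    haveI := hG.center_nontrivial
    rcases (inferInstance : (Subgroup.center G).Normal).eq_bot_or_eq_top with j | j
    · exact (Subgroup.nontrivial_iff_ne_bot _).mp inferInstance j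
    · exact h.nonComm ⟨⟨fun a b => Subgroup.mem_center_iff.mp (j ▸ Subgroup.mem_top b) a⟩⟩

/-- Some Sylow subgroup is not normal in the centraliser of its central involutions. -/
theorem Hard.exists_sylow (h : Hard G) : ∃ S : Sylow 2 G,
    ¬ centZ (S : Subgroup G) ≤ Subgroup.normalizer ((S : Subgroup G) : Set G) := by
  by_contra hh
  push Not at hh
  haveI := h.simple
  have hset : ∀ S : Sylow 2 G, {z : G | z ∈ (S : Subgroup G) ∧ z ^ 2 = 1 ∧ ∀ s ∈ (S : Subgroup G), s * z = z * s}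
      = {a : G | InZ (S : Subgroup G) a} := fun S => by
    ext a
    simp only [Set.mem_ofPred_eq, InZ, pow_two]
  set H := Subgroup.closure {g : G | Odd (orderOf g)} with hHdef
  rcases Cfsg.Agent.S0518.result h.charTwo h.pCore_eq_bot h.solv (fun S => by rw [hset S]; exact hh S) H hHdef with
    ⟨K, hK⟩ | ⟨M₁, -, -, hM₁, -, ⟨e⟩, -, -⟩
  · exact h.noSE K hK
  obtain ⟨V, hV4, hV2, hVC⟩ := ZNStructure.exists_four hM₁.1 e
  have hHn : H.Normal := ⟨fun a ha g => by
    have hle : H ≤ H.comap (MulAut.conj g).toMonoidHom := (Subgroup.closure_le _).mpr fun y hy => by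
      refine Subgroup.subset_closure ?_
      show Odd (orderOf ((MulAut.conj g).toMonoidHom y))
      rw [orderOf_injective _ (MulEquiv.injective (MulAut.conj g))]
      exact hy
    exact hle ha⟩
  have hH : H = ⊤ := by
    rcases hHn.eq_bot_or_eq_top with i | i
    · exfalso
      have hV1 : V = ⊥ := (Subgroup.eq_bot_iff_forall V).mpr fun a _ =>
        Subtype.ext (Subgroup.mem_bot.mp (i ▸ a.2 : (a : G) ∈ (⊥ : Subgroup G)))
      rw [hV1, Subgroup.card_bot] at hV4
      omega
    · exact i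
  refine h.rank (rank_of_four (V := V.map H.subtype) ?_ ?_ ?_)
  · rw [Subgroup.card_map_of_injective H.subtype_injective, hV4]
  · rintro _ ⟨a, ha, rfl⟩
    rw [← map_mul, hV2 a ha, map_one]
  · intro g hg
    refine ⟨⟨g, hH ▸ Subgroup.mem_top g⟩, hVC (Subgroup.mem_centralizer_iff.mpr fun a ha => Subtype.ext ?_), rfl⟩
    exact Subgroup.mem_centralizer_iff.mp hg _ ⟨a, ha, rfl⟩

theorem Hard.exists_InZ (h : Hard G) (S : Sylow 2 G) : ∃ a, InZ (S : Subgroup G) a ∧ a ≠ 1 := by
  haveI : Fact (Nat.Prime 2) := ⟨Nat.prime_two⟩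
  have hne : (S : Subgroup G) ≠ ⊥ := by
    intro e
    refine h.rank fun A _ hA2 => ?_
    have hAp : IsPGroup 2 ↥A := fun a => ⟨1, Subtype.ext (by simpa using hA2 a a.2)⟩
    obtain ⟨T, hT⟩ := hAp.exists_le_sylow
    have h1 : Nat.card ↥(T : Subgroup G) = 1 := by
      rw [Sylow.card_eq_multiplicity, ← Sylow.card_eq_multiplicity S, e, Subgroup.card_bot]
    have := Subgroup.card_le_of_le hT
    omega
  obtain ⟨a, ha, ha1, ha2, hc⟩ := exists_central S.isPGroup' (A := (S : Subgroup G)) le_rfl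
    Subgroup.le_normalizer hne
  exact ⟨a, ⟨ha, ha2, hc⟩, ha1⟩

/-- A 2-element centralising `F` lies in the 2-core. -/
theorem IsOver.mem_core_of_centF {S : Sylow 2 G} {H K F : Subgroup G} (h : IsOver (S : Subgroup G) H K F) {n : G}
    (hn : n ∈ (S : Subgroup G)) (hc : ∀ g ∈ F, n * g = g * n) : n ∈ pCoreOf 2 K := by
  have hcj : ∀ m ∈ K, ∀ q ∈ pCoreOf 2 K, m * q * m⁻¹ ∈ pCoreOf 2 K := fun m hm q hq => conj_mem_core hm hq
  let P : Subgroup G :=
    { carrier := {s | s ∈ (S : Subgroup G) ∧ ∀ g ∈ F, ⁅s, g⁆ ∈ pCoreOf 2 K}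
      one_mem' := ⟨one_mem _, fun g _ => by simp⟩
      mul_mem' := fun {a b} ha hb => ⟨mul_mem ha.1 hb.1, fun g hg => by
        rw [show ⁅a * b, g⁆ = (a * ⁅b, g⁆ * a⁻¹) * ⁅a, g⁆ by simp only [commutatorElement_def]; group]
        exact mul_mem (hcj a (h.S_le ha.1) _ (hb.2 g hg)) (ha.2 g hg)⟩
      inv_mem' := fun {a} ha => ⟨inv_mem ha.1, fun g hg => by
        rw [show ⁅a⁻¹, g⁆ = (a⁻¹ * ⁅a, g⁆ * a⁻¹⁻¹)⁻¹ by simp only [commutatorElement_def]; group]
        exact inv_mem (hcj a⁻¹ (K.inv_mem (h.S_le ha.1)) _ (ha.2 g hg))⟩ }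
  have hQP : pCoreOf 2 K ≤ P := fun q hq => ⟨core_le_sylow S h.S_le hq, fun g hg => by
    rw [show ⁅q, g⁆ = q * (g * q⁻¹ * g⁻¹) by simp only [commutatorElement_def]; group]
    exact mul_mem hq (hcj g (h.F_le hg) _ (inv_mem hq))⟩
  have hS : ∀ s ∈ (S : Subgroup G), ∀ a ∈ P, s * a * s⁻¹ ∈ P := by
    intro s hs a ha
    refine ⟨mul_mem (mul_mem hs ha.1) (inv_mem hs), fun g hg => ?_⟩
    obtain ⟨q, hq, k, hk, hkn, rfl⟩ := h.lift s hs
    set g' := k⁻¹ * g * k
    have hg' : g' ∈ F := (Subgroup.mem_normalizer_iff.mp hkn g').mpr (by simpa [g', mul_assoc] using hg)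
    have hka := hcj k (h.S_le hk) _ (ha.2 g' hg')
    set c := k * a * k⁻¹ with hc'
    have hcS : c ∈ (S : Subgroup G) := mul_mem (mul_mem hk ha.1) (inv_mem hk)
    have hgQ : g * q⁻¹ * g⁻¹ ∈ pCoreOf 2 K := hcj g (h.F_le hg) _ (inv_mem hq)
    have hgQ' : g * q * g⁻¹ ∈ pCoreOf 2 K := hcj g (h.F_le hg) _ hq
    have e : k * ⁅a, g'⁆ * k⁻¹ = ⁅c, g⁆ := by simp only [g', hc', commutatorElement_def]; group
    rw [e] at hka
    rw [show q * k * a * (q * k)⁻¹ = q * c * q⁻¹ by simp only [hc']; group,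
      show ⁅q * c * q⁻¹, g⁆ = q * ((c * (q⁻¹ * (g * q * g⁻¹)) * c⁻¹) * ⁅c, g⁆) * (g * q⁻¹ * g⁻¹) by
        simp only [commutatorElement_def]; group]
    exact mul_mem (mul_mem hq (mul_mem (hcj c (h.S_le hcS) _ (mul_mem (inv_mem hq) hgQ')) hka)) hgQ
  have hle : P ≤ pCoreOf 2 K := by
    refine le_core (S.isPGroup'.to_le fun a ha => ha.1) (fun a ha => h.S_le ha.1)
      (Subgroup.le_normalizer_iff.mpr fun m hm a ha => ?_)
    obtain ⟨q, hq, g, hg, k, hk, -, rfl⟩ := h.decomp m hm
    have h1 := hS k hk a ha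
    have h2 : g * (k * a * k⁻¹) * g⁻¹ ∈ P := by
      rw [show g * (k * a * k⁻¹) * g⁻¹ = ⁅k * a * k⁻¹, g⁆⁻¹ * (k * a * k⁻¹) by
        simp only [commutatorElement_def]; group]
      exact mul_mem (inv_mem (hQP (h1.2 g hg))) h1
    rw [show q * g * k * a * (q * g * k)⁻¹ = q * (g * (k * a * k⁻¹) * g⁻¹) * q⁻¹ by group]
    exact mul_mem (mul_mem (hQP hq) h2) (inv_mem (hQP hq))
  exact hle ⟨hn, fun g hg => by rw [commutatorElement_eq_one_iff_mul_comm.mpr (hc g hg)]; exact one_mem _⟩

namespace Mover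

/-- The subgroup generated by the odd elements. -/
def odds (M : Subgroup G) : Subgroup G := Subgroup.closure {y | y ∈ M ∧ Odd (orderOf y)}

theorem odds_le (M : Subgroup G) : odds M ≤ M := (Subgroup.closure_le _).mpr fun _ hy => hy.1

theorem le_normalizer_odds {g : G} {M : Subgroup G} (h : g ∈ Subgroup.normalizer (M : Set G)) :
    g ∈ Subgroup.normalizer (odds M : Set G) := mem_normalizer_closure fun y hy => Subgroup.subset_closure
  ⟨(Subgroup.mem_normalizer_iff.mp h y).mp hy.1, by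
    rw [show g * y * g⁻¹ = MulAut.conj g y from rfl, MulEquiv.orderOf_eq]; exact hy.2⟩

theorem le_normalizer_pCoreOf {R : Subgroup G} {g : G} (hg : g ∈ Subgroup.normalizer (R : Set G)) :
    g ∈ Subgroup.normalizer (pCoreOf 2 R : Set G) := by
  set P := (pCoreOf 2 R).map (MulAut.conj g).toMonoidHom
  have hP : P ≤ pCoreOf 2 R := by
    refine le_core ((core_two R).map _) ?_ (Subgroup.le_normalizer_iff.mpr fun r hr a ha => ?_)
    · rintro _ ⟨a, ha, rfl⟩
      exact (Subgroup.mem_normalizer_iff.mp hg a).mp (core_le R ha)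
    · obtain ⟨b, hb, rfl⟩ := ha
      have hr' : g⁻¹ * r * g ∈ R := by
        have := (Subgroup.mem_normalizer_iff.mp (inv_mem hg) r).mp hr
        rwa [inv_inv] at this
      exact ⟨(g⁻¹ * r * g) * b * (g⁻¹ * r * g)⁻¹, conj_mem_core hr' hb, by simp [mul_assoc]⟩
  exact Subgroup.mem_normalizer_fintype fun a ha => hP ⟨a, ha, rfl⟩

/-- The orbit bound for a fixed point free part. -/
theorem orbit_bound {V F : Subgroup G} (hV2 : ∀ a ∈ V, a * a = 1) (hFV : ∀ f ∈ F, ∀ a ∈ V, f * a * f⁻¹ ∈ V)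
    (hFodd : ∀ f ∈ F, Odd (orderOf f)) {a : G} (ha : a ∈ V) (hreg : ∀ f ∈ F, f * a = a * f → f = 1)
    (hne : ∃ f ∈ F, f ≠ 1) :
    Nat.card ↥(V ⊓ Subgroup.centralizer (F : Set G) : Subgroup G) * (Nat.card F + 1) ≤ Nat.card V := by
  classical
  set C := V ⊓ Subgroup.centralizer (F : Set G)
  have hCf : ∀ {c f : G}, c ∈ C → f ∈ F → f * c = c * f := fun hc hf => Subgroup.mem_centralizer_iff.mp hc.2 _ hf
  have haC : a ∉ C := fun hc => by
    obtain ⟨f, hf, hf1⟩ := hne
    exact hf1 (hreg f hf (hCf hc hf))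
  have hcm := comm_of_exp_two hV2
  let φ : ↥C × Option ↥F → ↥V := fun p =>
    match p.2 with
    | none => ⟨p.1, p.1.2.1⟩
    | some f => ⟨p.1 * ((f : G) * a * (f : G)⁻¹), mul_mem p.1.2.1 (hFV f f.2 a ha)⟩
  have hφ : Function.Injective φ := by
    rintro ⟨c, o⟩ ⟨c', o'⟩ e
    have hout : ∀ (c c' : ↥C) (f : ↥F), (c : G) * ((f : G) * a * (f : G)⁻¹) ≠ c' := by
      intro c c' f i
      refine haC ?_
      have hm : (f : G) * a * (f : G)⁻¹ ∈ C := by rw [eq_inv_mul_of_mul_eq i]; exact mul_mem (inv_mem c.2) c'.2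
      have e2 : a = (f : G)⁻¹ * ((f : G) * a * (f : G)⁻¹) * (f : G) := by group
      rw [e2, mul_assoc, ← hCf hm f.2, inv_mul_cancel_left]
      exact hm
    rcases o with _ | f <;> rcases o' with _ | f'
    · have e' : (c : G) = c' := congrArg (fun p : ↥V => (p : G)) e
      exact Prod.ext (Subtype.ext e') rfl
    · exact absurd (congrArg Subtype.val e).symm (hout c' c f')
    · exact absurd (congrArg Subtype.val e) (hout c c' f)
    · have e' : (c : G) * ((f : G) * a * (f : G)⁻¹) = c' * ((f' : G) * a * (f' : G)⁻¹) := congrArg Subtype.val e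
      set d := (c' : G)⁻¹ * c with hd
      have hdC : d ∈ C := mul_mem (inv_mem c'.2) c.2
      set g := (f' : G)⁻¹ * f with hg
      have hgF : g ∈ F := F.mul_mem (F.inv_mem f'.2) f.2
      have hga : g * a * g⁻¹ = a * d := by
        have e3 : (f' : G) * a * (f' : G)⁻¹ = d * ((f : G) * a * (f : G)⁻¹) := by
          calc (f' : G) * a * (f' : G)⁻¹ = (c' : G)⁻¹ * ((c' : G) * ((f' : G) * a * (f' : G)⁻¹)) := by group
            _ = d * ((f : G) * a * (f : G)⁻¹) := by rw [← e', hd]; group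
        have hdf : Commute d (f' : G) := (hCf hdC f'.2).symm
        have e4 : a = d * (g * a * g⁻¹) := by
          calc a = (f' : G)⁻¹ * ((f' : G) * a * (f' : G)⁻¹) * f' := by group
            _ = ((f' : G)⁻¹ * d) * ((f : G) * a * (f : G)⁻¹) * f' := by rw [e3]; group
            _ = d * (g * a * g⁻¹) := by rw [← hdf.inv_right.eq, hg]; group
        have hd2 : d * d = 1 := hV2 d hdC.1
        conv_rhs => rw [hcm a ha d hdC.1, e4]
        rw [← mul_assoc, hd2, one_mul]
      have hd1 : d = 1 := by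
        have := fix_of_shift (hFodd g hgF) (k := 1) (by rw [pow_one, pow_two]; exact hV2 d hdC.1) (hCf hdC hgF)
          (hcm a ha d hdC.1) hga
        exact this
      rw [hd1, mul_one] at hga
      have hg1 := hreg g hgF (mul_inv_eq_iff_eq_mul.mp hga)
      rw [hd, inv_mul_eq_one] at hd1
      rw [hg, inv_mul_eq_one] at hg1
      exact Prod.ext (Subtype.ext hd1.symm) (congrArg some (Subtype.ext hg1.symm))
  have := Nat.card_le_card_of_injective φ hφ
  rwa [Nat.card_prod, Finite.card_option] at this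

/-- In an action of an abelian group of order nine some point has trivial stabiliser. -/
theorem exists_regular {V F : Subgroup G} (hV2 : ∀ a ∈ V, a * a = 1) (hFV : ∀ f ∈ F, ∀ a ∈ V, f * a * f⁻¹ ∈ V)
    (hFc : Nat.card F = 9) (hcomm : ∀ a ∈ F, ∀ b ∈ F, a * b = b * a)
    (hFodd : ∀ f ∈ F, Odd (orderOf f)) (hexp : ∀ f ∈ F, f ^ 3 = 1)
    (hfaith : ∀ f ∈ F, (∀ a ∈ V, f * a = a * f) → f = 1) :
    ∃ a ∈ V, ∀ f ∈ F, f * a = a * f → f = 1 := by
  classical
  by_contra hh
  push Not at hh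
  haveI : Nontrivial ↥F := Finite.one_lt_card_iff_nontrivial.mp (by omega)
  obtain ⟨⟨f1, hf1⟩, hne⟩ := exists_ne (1 : ↥F)
  have hf1' : f1 ≠ 1 := fun e => hne (Subtype.ext e)
  obtain ⟨a, ha, hmove⟩ : ∃ a ∈ V, f1 * a ≠ a * f1 := by
    by_contra h'
    push Not at h'
    exact hf1' (hfaith f1 hf1 h')
  obtain ⟨f2, hf2, hf2a, hf2ne⟩ := hh a ha
  obtain ⟨b, hb, hmove2⟩ : ∃ b ∈ V, f2 * b ≠ b * f2 := by
    by_contra h'
    push Not at h'
    exact hf2ne (hfaith f2 hf2 h')
  obtain ⟨f3, hf3, hf3b, hf3ne⟩ := hh b hb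
  have hcm := comm_of_exp_two hV2
  obtain ⟨f, hf, hfab, hfne⟩ := hh (a * b) (mul_mem ha hb)
  -- `F` is the product of the stabilisers of `a` and `b`
  set A := Subgroup.zpowers f2
  set B := Subgroup.zpowers f3
  have hord : ∀ {g : G}, g ∈ F → g ≠ 1 → Nat.card (Subgroup.zpowers g) = 3 := fun hg hg1 => by
    haveI : Fact (Nat.Prime 3) := ⟨Nat.prime_three⟩
    rw [Nat.card_zpowers]
    exact orderOf_eq_prime (hexp _ hg) hg1
  have hAB : ∀ g ∈ A, g ∈ B → g = 1 := by
    intro g hgA hgB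
    by_contra hg1
    obtain ⟨i, hi⟩ := Subgroup.mem_zpowers_iff.mp hgB
    have hgF : g ∈ F := (Subgroup.zpowers_le.mpr hf2) hgA
    have hle : Subgroup.zpowers g ≤ A := Subgroup.zpowers_le.mpr hgA
    have heq : Subgroup.zpowers g = A := Subgroup.eq_of_le_of_card_ge hle (by rw [hord hgF hg1, hord hf2 hf2ne])
    obtain ⟨j, hj⟩ := Subgroup.mem_zpowers_iff.mp (heq.ge (Subgroup.mem_zpowers f2))
    refine hmove2 ?_
    rw [← hj, ← hi]
    exact ((Commute.zpow_left (show Commute f3 b from hf3b) i).zpow_left j).eq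
  have hgen : ∀ g ∈ F, ∃ i j : ℤ, g = f2 ^ i * f3 ^ j := by
    let φ : ↥A × ↥B → ↥F := fun p => ⟨p.1 * p.2,
      F.mul_mem ((Subgroup.zpowers_le.mpr hf2) p.1.2) ((Subgroup.zpowers_le.mpr hf3) p.2.2)⟩
    have hφ : Function.Injective φ := by
      rintro ⟨p, q⟩ ⟨p', q'⟩ e
      have e' : (p : G) * q = p' * q' := congrArg Subtype.val e
      have e2 : (p' : G)⁻¹ * p = q' * (q : G)⁻¹ := by
        rw [inv_mul_eq_iff_eq_mul, ← mul_assoc, eq_mul_inv_iff_mul_eq]; exact e'
      have h1 := hAB _ (mul_mem (inv_mem p'.2) p.2) (e2 ▸ mul_mem q'.2 (inv_mem q.2))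
      rw [inv_mul_eq_one] at h1
      have h2 : q = q' := Subtype.ext (mul_left_cancel (h1 ▸ e'))
      exact Prod.ext (Subtype.ext h1.symm) h2
    have hsurj : Function.Surjective φ := ((Nat.bijective_iff_injective_and_card φ).mpr
      ⟨hφ, by rw [Nat.card_prod, hord hf2 hf2ne, hord hf3 hf3ne, hFc]⟩).surjective
    intro g hg
    obtain ⟨⟨⟨p, i, hi⟩, ⟨q, j, hj⟩⟩, e⟩ := hsurj ⟨g, hg⟩
    exact ⟨i, j, by
      have e' : p * q = g := congrArg Subtype.val e
      rw [← e', ← hi, ← hj]⟩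
  obtain ⟨i, j, rfl⟩ := hgen f hf
  set p := f2 ^ i
  set q := f3 ^ j
  have hpF : p ∈ F := F.zpow_mem hf2 i
  have hqF : q ∈ F := F.zpow_mem hf3 j
  have hpa : Commute p a := Commute.zpow_left hf2a i
  have hqb : Commute q b := Commute.zpow_left hf3b j
  set a' := q * a * q⁻¹
  set b' := p * b * p⁻¹
  have ha' : a' ∈ V := hFV q hqF a ha
  have hb' : b' ∈ V := hFV p hpF b hb
  have hpq : Commute p q := hcomm p hpF q hqF
  have hprod : a' * b' = a * b := by
    have h1 : p * q * (a * b) * (p * q)⁻¹ = a' * b' := by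
      calc p * q * (a * b) * (p * q)⁻¹ = (p * q * a * (p * q)⁻¹) * (p * (q * b * q⁻¹) * p⁻¹) := by group
        _ = (q * p * a * (q * p)⁻¹) * (p * b * p⁻¹) := by rw [hqb.eq, mul_inv_cancel_right, hpq.eq]
        _ = a' * b' := by
          rw [show q * p * a * (q * p)⁻¹ = q * (p * a * p⁻¹) * q⁻¹ by group, hpa.eq, mul_inv_cancel_right]
    rw [← h1, hfab, mul_inv_cancel_right]
  set w := a * a' with hw
  have hwV : w ∈ V := mul_mem ha ha'
  have hw' : w = b * b' := by
    calc a * a' = a * (a' * b') * b' := by rw [mul_assoc a, mul_assoc a' b' b', hV2 b' hb', mul_one]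
      _ = b * b' := by rw [hprod, ← mul_assoc a a b, hV2 a ha, one_mul]
  have hpw : Commute p w := by
    have h1 : Commute p q := hpq
    exact hpa.mul_right ((h1.mul_right hpa).mul_right h1.inv_right)
  have hqw : Commute q w := by
    rw [hw']
    exact hqb.mul_right ((hpq.symm.mul_right hqb).mul_right hpq.symm.inv_right)
  have shift : ∀ {g y : G}, g ∈ F → y ∈ V → Commute g w → g * y * g⁻¹ = y * w → g * y = y * g := by
    intro g y hg hy hgw he
    have := fix_of_shift (hFodd g hg) (k := 1) (by rw [pow_one, pow_two]; exact hV2 w hwV) hgw.eq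
      (hcm y hy w hwV) he
    rw [this, mul_one] at he
    exact mul_inv_eq_iff_eq_mul.mp he
  have hqa : q * a = a * q := shift hqF ha hqw (by rw [hw, ← mul_assoc, hV2 a ha, one_mul])
  have hpb : p * b = b * p := shift hpF hb hpw (by rw [hw', ← mul_assoc, hV2 b hb, one_mul])
  have hq1 : q = 1 := by
    by_contra hq1
    have hle : Subgroup.zpowers q ≤ B := Subgroup.zpowers_le.mpr (Subgroup.zpow_mem _ (Subgroup.mem_zpowers f3) j)
    have heq : Subgroup.zpowers q = B := Subgroup.eq_of_le_of_card_ge hle (by rw [hord hqF hq1, hord hf3 hf3ne])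
    obtain ⟨l, hl⟩ := Subgroup.mem_zpowers_iff.mp (heq.ge (Subgroup.mem_zpowers f3))
    refine hmove ?_
    obtain ⟨i', j', e⟩ := hgen f1 hf1
    rw [e]
    refine (Commute.mul_left (Commute.zpow_left hf2a i') (Commute.zpow_left ?_ j')).eq
    rw [← hl]
    exact Commute.zpow_left hqa l
  have hp1 : p = 1 := by
    by_contra hp1
    have hle : Subgroup.zpowers p ≤ A := Subgroup.zpowers_le.mpr (Subgroup.zpow_mem _ (Subgroup.mem_zpowers f2) i)
    have heq : Subgroup.zpowers p = A := Subgroup.eq_of_le_of_card_ge hle (by rw [hord hpF hp1, hord hf2 hf2ne])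
    obtain ⟨l, hl⟩ := Subgroup.mem_zpowers_iff.mp (heq.ge (Subgroup.mem_zpowers f2))
    refine hmove2 ?_
    rw [← hl]
    exact (Commute.zpow_left hpb l).eq
  exact hfne (by rw [hp1, hq1, one_mul])

end Mover

/-- The three configurations. -/
theorem Hard.movers (h : Hard G) :
    (∃ (S : Sylow 2 G) (M : Subgroup G), IsTwoLocal M ∧
      (∀ L, IsTwoLocal L → (S : Subgroup G) ≤ L → L ≤ M) ∧
      ¬ centZ (S : Subgroup G) ≤ Subgroup.normalizer ((S : Subgroup G) : Set G)) ∨
    (∃ (S : Sylow 2 G) (K M₁ F : Subgroup G) (z v x : G), NData (S : Subgroup G) K M₁ F z v x) ∨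
    ∃ (S : Sylow 2 G) (K F H V : Subgroup G), IData (S : Subgroup G) K F H V := by
  classical
  haveI : Fact (Nat.Prime 2) := ⟨Nat.prime_two⟩
  obtain ⟨S, hnS⟩ := h.exists_sylow
  obtain ⟨a0, ha0, ha01⟩ := h.exists_InZ S
  set M0 := centZ (S : Subgroup G) with hM0
  have hM0g : Good M0 := by
    refine h.good_of_sylow (P := Subgroup.zpowers a0) ?_ (by simpa using ha01) S (le_centZ _) fun m hm =>
      Subgroup.mem_normalizer_fintype fun b hb => ?_
    · exact IsPGroup.of_card (n := 1) (by rw [card_zpowers_two ha0.2.1 ha01, pow_one])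
    · obtain ⟨i, rfl⟩ := Subgroup.mem_zpowers_iff.mp hb
      rw [← conj_zpow, mem_centZ.mp hm a0 ha0, mul_inv_cancel_right]
      exact Subgroup.zpow_mem _ (Subgroup.mem_zpowers a0) i
  set R := Mover.odds M0
  set P := pCoreOf 2 R
  have hRM : R ≤ M0 := Mover.odds_le M0
  have hRn : M0 ≤ Subgroup.normalizer (R : Set G) := fun m hm =>
    Mover.le_normalizer_odds (Subgroup.le_normalizer hm)
  have hP : P ≠ ⊥ := by
    intro hbot
    have hodd : ∀ y ∈ M0, Odd (orderOf y) → y = 1 := by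
      intro y hy hyo
      have hyR : y ∈ R := Subgroup.subset_closure ⟨hy, hyo⟩
      refine eq_one_of_odd_mem (core_two M0) hyo (hM0g.charTwo y hy fun q hq => ?_)
      have hqM := core_le M0 hq
      have hD : pCoreOf 2 M0 ⊓ R ≤ pCoreOf 2 R := le_core ((core_two M0).to_le inf_le_left) inf_le_right
        (Subgroup.le_normalizer_iff.mpr fun r hr b hb => ⟨conj_mem_core (hRM hr) hb.1,
          R.mul_mem (R.mul_mem hr hb.2) (R.inv_mem hr)⟩)
      have hm : ⁅q, y⁆ ∈ pCoreOf 2 M0 ⊓ R := by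
        refine ⟨?_, ?_⟩
        · rw [show ⁅q, y⁆ = q * (y * q⁻¹ * y⁻¹) by simp only [commutatorElement_def]; group]
          exact mul_mem hq (conj_mem_core hy (inv_mem hq))
        · rw [show ⁅q, y⁆ = (q * y * q⁻¹) * y⁻¹ by simp only [commutatorElement_def]]
          exact R.mul_mem ((Subgroup.mem_normalizer_iff.mp (hRn hqM) y).mp hyR) (R.inv_mem hyR)
      have h1 := hD hm
      rw [show pCoreOf 2 R = ⊥ from hbot, Subgroup.mem_bot, commutatorElement_eq_one_iff_mul_comm] at h1
      exact h1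
    refine hnS fun m hm => ?_
    have h2 : IsPGroup 2 ↥M0 := by
      rintro ⟨b, hb⟩
      obtain ⟨k, r, hr, he⟩ := Nat.exists_eq_pow_mul_and_not_dvd (orderOf_pos b).ne' 2 (by norm_num)
      refine ⟨k, Subtype.ext (hodd _ (pow_mem hb _) ?_)⟩
      show Odd (orderOf (b ^ 2 ^ k))
      rw [orderOf_pow, he, Nat.gcd_eq_right (dvd_mul_right _ _), Nat.mul_div_cancel_left _ (by positivity)]
      exact Nat.not_even_iff_odd.mp fun e => hr (even_iff_two_dvd.mp e)
    have heq := S.is_maximal' h2 (le_centZ _)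
    exact Subgroup.le_normalizer (heq ▸ hm)
  set N0 := Subgroup.normalizer (P : Set G)
  have hN0 : IsTwoLocal N0 := ⟨P, core_two R, hP, rfl⟩
  obtain ⟨M, ⟨hMl, hNM⟩, hMmax⟩ := (Set.toFinite {L : Subgroup G | IsTwoLocal L ∧ N0 ≤ L}).exists_maximal
    ⟨N0, hN0, le_rfl⟩
  have hM0M : M0 ≤ M := fun m hm => hNM (Mover.le_normalizer_pCoreOf (hRn hm))
  by_cases hU : ∀ L, IsTwoLocal L → (S : Subgroup G) ≤ L → L ≤ M
  · exact Or.inl ⟨S, M, hMl, hU, hnS⟩
  right
  push Not at hU
  obtain ⟨L, hLl, hSL, hLM⟩ := hU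
  obtain ⟨T, hT, hTne, rfl⟩ := hLl
  have hLg := h.good_normalizer hT hTne
  obtain ⟨K, F, hKL, ov⟩ := exists_over h.sect S hLg hSL ((le_centZ _).trans hM0M) hLM
  have hcoreS : pCoreOf 2 K ≤ (S : Subgroup G) := core_le_sylow S ov.S_le
  -- whatever normalises `R` lies in `M`
  have habs : ∀ {k : G}, k ∈ Subgroup.normalizer (R : Set G) → k ∈ M := fun hk => hNM (Mover.le_normalizer_pCoreOf hk)
  have hSK : ∃ s ∈ (S : Subgroup G), s ∉ pCoreOf 2 K := by
    by_contra hall
    push Not at hall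
    have hS : (S : Subgroup G) = pCoreOf 2 K := le_antisymm hall hcoreS
    refine ov.not_le fun k hk => habs (Mover.le_normalizer_odds ?_)
    have hkS : ∀ {s : G}, s ∈ (S : Subgroup G) → ∀ {k : G}, k ∈ K → k * s * k⁻¹ ∈ (S : Subgroup G) :=
      fun {s} hs {k} hk => hcoreS (conj_mem_core hk (hall _ hs))
    refine Subgroup.mem_normalizer_fintype fun m hm => mem_centZ.mpr fun b hb => ?_
    have hb' : InZ (S : Subgroup G) (k⁻¹ * b * k) := by
      refine ⟨by simpa using hkS hb.1 (K.inv_mem hk), ?_, fun s hs => ?_⟩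
      · rw [show k⁻¹ * b * k * (k⁻¹ * b * k) = k⁻¹ * (b * b) * k by group, hb.2.1]; group
      · calc s * (k⁻¹ * b * k) = k⁻¹ * ((k * s * k⁻¹) * b) * k := by group
          _ = k⁻¹ * b * k * s := by rw [hb.2.2 _ (hkS hs hk)]; group
    calc k * m * k⁻¹ * b = k * (m * (k⁻¹ * b * k)) * k⁻¹ := by group
      _ = b * (k * m * k⁻¹) := by rw [mem_centZ.mp hm _ hb']; group
  -- the module `V`
  have hZK : ∀ a, InZ (S : Subgroup G) a → a ∈ pCoreOf 2 K ∧ ∀ q ∈ pCoreOf 2 K, q * a = a * q := fun a ha =>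
    ⟨ov.good.charTwo a (ov.S_le ha.1) fun q hq => ha.2.2 q (hcoreS hq), fun q hq => ha.2.2 q (hcoreS hq)⟩
  have hconjC : ∀ {a k : G}, InZ (S : Subgroup G) a → k ∈ K → ∀ q ∈ pCoreOf 2 K, q * (k * a * k⁻¹) = k * a * k⁻¹ * q := by
    intro a k ha hk q hq
    have hq' : k⁻¹ * q * k ∈ pCoreOf 2 K := by simpa using conj_mem_core (K.inv_mem hk) hq
    calc q * (k * a * k⁻¹) = k * (k⁻¹ * q * k * a) * k⁻¹ := by group
      _ = k * a * k⁻¹ * q := by rw [(hZK a ha).2 _ hq']; group
  set Vset : Set G := {w | ∃ a f, InZ (S : Subgroup G) a ∧ f ∈ F ∧ w = f * a * f⁻¹}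
  set V := Subgroup.closure Vset
  have hVK : V ≤ pCoreOf 2 K := (Subgroup.closure_le _).mpr (by
    rintro _ ⟨a, f, ha, hf, rfl⟩; exact conj_mem_core (ov.F_le hf) (hZK a ha).1)
  have hVc : ∀ q ∈ pCoreOf 2 K, ∀ b ∈ V, q * b = b * q := by
    intro q hq b hb
    induction hb using Subgroup.closure_induction with
    | mem y hy => obtain ⟨a, f, ha, hf, rfl⟩ := hy; exact hconjC ha (ov.F_le hf) q hq
    | one => simp
    | mul p r _ _ ihp ihr => exact (Commute.mul_right (ihp : Commute q p) ihr).eq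
    | inv p _ ihp => exact (Commute.inv_right (ihp : Commute q p)).eq
  have hV2 : ∀ b ∈ V, b * b = 1 := sq_one_closure (by
    rintro _ ⟨a, f, ha, -, rfl⟩
    rw [show f * a * f⁻¹ * (f * a * f⁻¹) = f * (a * a) * f⁻¹ by group, ha.2.1]; group)
    fun p hp r hr => hVc p (hVK (Subgroup.subset_closure hp)) r (Subgroup.subset_closure hr)
  have hVn : K ≤ Subgroup.normalizer (V : Set G) := fun k hk => mem_normalizer_closure (by
    rintro _ ⟨a, f, ha, hf, rfl⟩
    obtain ⟨q, hq, f', hf', n, hn, -, e⟩ := ov.decomp (k * f) (K.mul_mem hk (ov.F_le hf))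
    have e2 : k * (f * a * f⁻¹) * k⁻¹ = f' * a * f'⁻¹ := by
      calc k * (f * a * f⁻¹) * k⁻¹ = (k * f) * a * (k * f)⁻¹ := by group
        _ = q * (f' * (n * a * n⁻¹) * f'⁻¹) * q⁻¹ := by rw [e]; group
        _ = f' * a * f'⁻¹ := by
          rw [ha.2.2 n hn, mul_inv_cancel_right, hconjC ha (ov.F_le hf') q hq, mul_inv_cancel_right]
    rw [e2]
    exact Subgroup.subset_closure ⟨a, f', ha, hf', rfl⟩)
  have hFV : ∀ f ∈ F, ∀ b ∈ V, f * b * f⁻¹ ∈ V := fun f hf b hb =>
    (Subgroup.mem_normalizer_iff.mp (hVn (ov.F_le hf)) b).mp hb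
  have hVZ : ∀ a, InZ (S : Subgroup G) a → a ∈ V := fun a ha =>
    Subgroup.subset_closure ⟨a, 1, ha, F.one_mem, by simp⟩
  -- if the odd elements of `M0` fix `V`, then `K` normalises `R`
  have hfixV : (∀ y ∈ M0, Odd (orderOf y) → ∀ a f, InZ (S : Subgroup G) a → f ∈ F →
      y * (f * a * f⁻¹) = f * a * f⁻¹ * y) → False := by
    intro hy
    have hyV : ∀ y ∈ M0, Odd (orderOf y) → ∀ b ∈ V, y * b = b * y := by
      intro y hy0 hyo b hb
      induction hb using Subgroup.closure_induction with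
      | mem w hw => obtain ⟨a, f, ha, hf, rfl⟩ := hw; exact hy y hy0 hyo a f ha hf
      | one => simp
      | mul p r _ _ ihp ihr => exact (Commute.mul_right (ihp : Commute y p) ihr).eq
      | inv p _ ihp => exact (Commute.inv_right (ihp : Commute y p)).eq
    refine ov.not_le fun k hk => habs (mem_normalizer_closure ?_)
    rintro y ⟨hy0, hyo⟩
    refine Subgroup.subset_closure ⟨mem_centZ.mpr fun b hb => ?_, by
      rw [show k * y * k⁻¹ = MulAut.conj k y from rfl, MulEquiv.orderOf_eq]; exact hyo⟩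
    have hb' : k⁻¹ * b * k ∈ V := by
      have := (Subgroup.mem_normalizer_iff.mp (hVn (K.inv_mem hk)) b).mp (hVZ b hb)
      rwa [inv_inv] at this
    calc k * y * k⁻¹ * b = k * (y * (k⁻¹ * b * k)) * k⁻¹ := by group
      _ = b * (k * y * k⁻¹) := by rw [hyV y hy0 hyo _ hb']; group
  -- `F` acts faithfully on `V`
  have hfaith : ∀ f ∈ F, (∀ b ∈ V, f * b = b * f) → f = 1 := by
    let A : Subgroup G := F ⊓ Subgroup.centralizer (V : Set G)
    have hAn : ∀ n ∈ (S : Subgroup G), n ∈ Subgroup.normalizer (F : Set G) → ∀ g ∈ A, n * g * n⁻¹ ∈ A := by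
      intro n hn hnn g hg
      refine ⟨(Subgroup.mem_normalizer_iff.mp hnn g).mp hg.1, Subgroup.mem_centralizer_iff.mpr fun b hb => ?_⟩
      have hb' : n⁻¹ * b * n ∈ V := by
        have := (Subgroup.mem_normalizer_iff.mp (hVn (K.inv_mem (ov.S_le hn))) b).mp hb
        rwa [inv_inv] at this
      calc b * (n * g * n⁻¹) = n * ((n⁻¹ * b * n) * g) * n⁻¹ := by group
        _ = n * g * n⁻¹ * b := by rw [Subgroup.mem_centralizer_iff.mp hg.2 _ hb']; group
    rcases ov.irred A inf_le_left hAn with e | e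
    · intro f hf hfb
      exact Subgroup.mem_bot.mp (e ▸ (⟨hf, Subgroup.mem_centralizer_iff.mpr fun b hb => (hfb b hb).symm⟩ : f ∈ A))
    · exfalso
      have hFM : F ≤ M := fun f hf => hM0M (mem_centZ.mpr fun a ha =>
        (Subgroup.mem_centralizer_iff.mp ((e.ge hf).2) a (hVZ a ha)).symm)
      have := ov.inter
      rw [inf_eq_left.mpr hFM] at this
      rcases ov.card with c | c | c | c <;> rw [this, Subgroup.card_bot] at c <;> omega
  have hodd : ∀ f ∈ F, Odd (orderOf f) := fun f hf => ov.odd_order hf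
  rcases ov.card with hF | hF | hF | hF
  · -- a natural mover
    left
    haveI : Fact (Nat.Prime 3) := ⟨Nat.prime_three⟩
    haveI : Nontrivial ↥F := Finite.one_lt_card_iff_nontrivial.mp (by omega)
    obtain ⟨⟨f, hf⟩, hf1⟩ := exists_ne (1 : ↥F)
    have hf1' : f ≠ 1 := fun e => hf1 (Subtype.ext e)
    have hf3 : f ^ 3 = 1 := by
      rw [← hF]; exact congrArg Subtype.val (pow_card_eq_one' (x := (⟨f, hf⟩ : ↥F)))
    have hgen : ∀ g ∈ F, g = 1 ∨ g = f ∨ g = f * f := by
      intro g hg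
      have hz : Subgroup.zpowers (⟨f, hf⟩ : ↥F) = ⊤ := zpowers_eq_top_of_prime_card hF hf1
      obtain ⟨i, hi⟩ := Subgroup.mem_zpowers_iff.mp (hz ▸ Subgroup.mem_top (⟨g, hg⟩ : ↥F))
      have hi' : f ^ i = g := congrArg Subtype.val hi
      rw [zpow_eq_zpow_emod' i hf3] at hi'
      have h0 : (0 : ℤ) ≤ i % ((3 : ℕ) : ℤ) := Int.emod_nonneg _ (by norm_num)
      have h1 : i % ((3 : ℕ) : ℤ) < 3 := Int.emod_lt_of_pos _ (by norm_num)
      generalize i % ((3 : ℕ) : ℤ) = r at hi' h0 h1
      interval_cases r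
      · exact Or.inl (by rw [← hi', zpow_zero])
      · exact Or.inr (Or.inl (by rw [← hi', zpow_one]))
      · exact Or.inr (Or.inr (by rw [← hi', zpow_two]))
    have hfV : ∀ {a}, InZ (S : Subgroup G) a → f * a * f⁻¹ ∈ V := fun {a} ha =>
      Subgroup.subset_closure ⟨a, f, ha, hf, rfl⟩
    have hffV : ∀ {a}, InZ (S : Subgroup G) a → f * (f * a * f⁻¹) * f⁻¹ ∈ V := fun ha => hFV f hf _ (hfV ha)
    have hVS : ∀ b ∈ V, b ∈ (S : Subgroup G) := fun b hb => hcoreS (hVK hb)
    have hcV := comm_of_exp_two hV2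
    have hsum : ∀ {a}, InZ (S : Subgroup G) a →
        InZ (S : Subgroup G) (a * (f * a * f⁻¹) * (f * (f * a * f⁻¹) * f⁻¹)) := by
      intro a ha
      have hm := mul_mem (mul_mem (hVZ a ha) (hfV ha)) (hffV ha)
      refine ⟨hVS _ hm, hV2 _ hm, fun s hs => ?_⟩
      obtain ⟨q, hq, n, hn, hnn, rfl⟩ := ov.lift s hs
      set T := a * (f * a * f⁻¹) * (f * (f * a * f⁻¹) * f⁻¹) with hT
      have hna : n * a * n⁻¹ = a := by rw [ha.2.2 n hn, mul_inv_cancel_right]
      have hnT : n * T * n⁻¹ = T := by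
        have hconj : ∀ g : G, n * (g * a * g⁻¹) * n⁻¹ = (n * g * n⁻¹) * a * (n * g * n⁻¹)⁻¹ := fun g => by
          calc n * (g * a * g⁻¹) * n⁻¹ = (n * g * n⁻¹) * (n * a * n⁻¹) * (n * g * n⁻¹)⁻¹ := by group
            _ = _ := by rw [hna]
        have e0 : n * T * n⁻¹ = (n * a * n⁻¹) * (n * (f * a * f⁻¹) * n⁻¹) * (n * (f * f * a * (f * f)⁻¹) * n⁻¹) := by
          rw [hT]; group
        rw [e0, hna, hconj, hconj, show n * (f * f) * n⁻¹ = (n * f * n⁻¹) * (n * f * n⁻¹) by group]
        rcases hgen _ ((Subgroup.mem_normalizer_iff.mp hnn f).mp hf) with e | e | e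
        · exact absurd (conj_eq_one_iff.mp e) hf1'
        · rw [e, hT]; group
        · have hff : f * f * (f * f) = f := by
            calc f * f * (f * f) = f ^ 3 * f := by simp only [pow_succ, pow_zero, one_mul]; group
              _ = f := by rw [hf3, one_mul]
          rw [e, hff, hT, mul_assoc a, mul_assoc a, show f * f * a * (f * f)⁻¹ = f * (f * a * f⁻¹) * f⁻¹ by group,
            hcV _ (hfV ha) _ (hffV ha)]
      calc q * n * T = q * (n * T * n⁻¹) * n := by group
        _ = T * (q * n) := by rw [hnT, hVc q hq T hm]; group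
    obtain ⟨z, hz, hz1, hzprod, hzmove⟩ : ∃ z, InZ (S : Subgroup G) z ∧ z ≠ 1 ∧
        z * (f * z * f⁻¹) * (f * (f * z * f⁻¹) * f⁻¹) = 1 ∧
        ¬ M0 ≤ Subgroup.normalizer ((Subgroup.closure ({z, f * z * f⁻¹} : Set G) : Subgroup G) : Set G) := by
      by_contra hh
      push Not at hh
      refine hfixV fun y hy hyo a g ha hg => ?_
      have hya : Commute y a := mem_centZ.mp hy a ha
      -- `y` fixes the orbit of `z = a s`
      set s := a * (f * a * f⁻¹) * (f * (f * a * f⁻¹) * f⁻¹) with hs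
      have hsZ := hsum ha
      set z := a * s with hzdef
      have hzZ : InZ (S : Subgroup G) z := ha.mul hsZ
      set a' := f * a * f⁻¹ with ha'
      set a'' := f * a' * f⁻¹ with ha''
      have hfa'' : f * a'' * f⁻¹ = a := by
        calc f * a'' * f⁻¹ = f ^ 3 * a * (f ^ 3)⁻¹ := by simp only [ha'', ha', pow_succ, pow_zero, one_mul]; group
          _ = a := by rw [hf3]; group
      have hfs : f * s * f⁻¹ = s := by
        rw [hs, show f * (a * a' * a'') * f⁻¹ = a' * a'' * (f * a'' * f⁻¹) by rw [ha'', ha']; group, hfa'',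
          hcV _ (mul_mem (hfV ha) (hffV ha)) a (hVZ a ha), ← mul_assoc]
      have hzprod : z * (f * z * f⁻¹) * (f * (f * z * f⁻¹) * f⁻¹) = 1 := by
        have e1 : f * z * f⁻¹ = a' * s := by
          rw [hzdef, show f * (a * s) * f⁻¹ = (f * a * f⁻¹) * (f * s * f⁻¹) by group, hfs]
        have e2 : f * (a' * s) * f⁻¹ = a'' * s := by
          rw [show f * (a' * s) * f⁻¹ = (f * a' * f⁻¹) * (f * s * f⁻¹) by group, hfs]
        rw [e1, e2, hzdef]
        have c1 : Commute s a' := hcV _ (hVZ s hsZ) _ (hfV ha)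
        have c2 : Commute s a'' := hcV _ (hVZ s hsZ) _ (hffV ha)
        have key : ∀ (b b' b'' t : G), t * t = 1 → b * b' * b'' = t → Commute t b' → Commute t b'' →
            b * t * (b' * t) * (b'' * t) = 1 := by
          intro b b' b'' t ht hb d1 d2
          calc b * t * (b' * t) * (b'' * t) = b * (t * b') * (t * b'') * t := by group
            _ = b * b' * (t * t) * b'' * t := by rw [d1.eq]; group
            _ = t * t := by rw [ht, mul_one, hb]; exact ht
            _ = 1 := ht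
        exact key a a' a'' s hsZ.2.1 rfl c1 c2
      have hyfz : Commute y (f * z * f⁻¹) := by
        by_cases hz1 : z = 1
        · rw [hz1, mul_one, mul_inv_cancel]; exact Commute.one_right y
        have hn := hh z hzZ hz1 hzprod hy
        set v := f * z * f⁻¹ with hv
        set W := Subgroup.closure ({z, v} : Set G)
        have hyz : Commute y z := mem_centZ.mp hy z hzZ
        have hyv : y * v * y⁻¹ ∈ W :=
          (Subgroup.mem_normalizer_iff.mp hn v).mp (Subgroup.subset_closure (Or.inr rfl))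
        have hzv : z * v = v * z := hcV z (hVZ z hzZ) v (hfV hzZ)
        have hv2 : v * v = 1 := hV2 v (hfV hzZ)
        have hcases : ∀ w ∈ W, w = 1 ∨ w = z ∨ w = v ∨ w = z * v := by
          intro w hw
          induction hw using Subgroup.closure_induction with
          | mem u hu => rcases hu with rfl | rfl <;> simp
          | one => exact Or.inl rfl
          | mul p r _ _ ihp ihr =>
            have e1 : z * (z * v) = v := by rw [← mul_assoc, hzZ.2.1, one_mul]
            have e2 : v * (z * v) = z := by rw [← mul_assoc, ← hzv, mul_assoc, hv2, mul_one]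
            have e3 : z * v * z = v := by rw [mul_assoc, ← hzv, e1]
            have e4 : z * v * v = z := by rw [mul_assoc, hv2, mul_one]
            have e5 : z * v * (z * v) = 1 := by rw [mul_assoc, e2, hzZ.2.1]
            rcases ihp with rfl | rfl | rfl | rfl <;> rcases ihr with rfl | rfl | rfl | rfl <;>
              simp [hzZ.2.1, hv2, hzv.symm, e1, e2, e3, e4, e5]
          | inv p hp ihp =>
            have hp2 : p * p = 1 := hV2 p (((Subgroup.closure_le V).mpr (by
              rintro u (rfl | rfl)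
              exacts [hVZ _ hzZ, hfV hzZ])) hp)
            rw [inv_eq_of_mul_eq_one_right hp2]; exact ihp
        rcases hcases _ hyv with e | e | e | e
        · have hv1 : v = 1 := conj_eq_one_iff.mp e
          rw [hv1]; exact Commute.one_right y
        · have e' : v = z := by
            calc v = y⁻¹ * (y * v * y⁻¹) * y := by group
              _ = z := by rw [e, mul_assoc, ← hyz.eq, inv_mul_cancel_left]
          rw [e']; exact hyz
        · exact mul_inv_eq_iff_eq_mul.mp e
        · have hzv' : y * v * y⁻¹ = v * z := by rw [e, hzv]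
          have := fix_of_shift hyo (k := 1) (by rw [pow_one, pow_two]; exact hzZ.2.1) hyz.eq hzv.symm hzv'
          exact absurd this hz1
      have hys : Commute y s := mem_centZ.mp hy s hsZ
      have hfa : f * a * f⁻¹ = f * z * f⁻¹ * s := by
        have hs2 : s * s = 1 := hsZ.2.1
        rw [hzdef, show f * (a * s) * f⁻¹ = f * a * f⁻¹ * (f * s * f⁻¹) by group, hfs, mul_assoc (f * a * f⁻¹) s s, hs2,
          mul_one]
      have hya' : Commute y a' := by rw [ha', hfa]; exact hyfz.mul_right hys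
      rcases hgen g hg with rfl | rfl | rfl
      · simpa using hya.eq
      · exact hya'.eq
      · have hya'' : Commute y a'' := by
          have e3 : a'' = a'⁻¹ * a⁻¹ * s := by rw [hs]; group
          rw [e3]; exact (hya'.inv_right.mul_right hya.inv_right).mul_right hys
        rw [show f * f * a * (f * f)⁻¹ = a'' by rw [ha'', ha']; group]
        exact hya''.eq
    set v := f * z * f⁻¹ with hv
    set u := f * v * f⁻¹ with hu
    have hv2 : v * v = 1 := hV2 v (hfV hz)
    have hzv : z * v = v * z := hcV z (hVZ z hz) v (hfV hz)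
    have hu' : u = z * v := by
      rw [eq_inv_of_mul_eq_one_right hzprod]
      exact inv_eq_of_mul_eq_one_right (hV2 _ (mul_mem (hVZ z hz) (hfV hz)))
    have hfu : f * u * f⁻¹ = z := by
      calc f * u * f⁻¹ = f ^ 3 * z * (f ^ 3)⁻¹ := by simp only [hu, hv, pow_succ, pow_zero, one_mul]; group
        _ = z := by rw [hf3]; group
    have hvz : v ≠ z := fun e => hz1 (by
      have : u = z := by rw [hu, e, ← hv, e]
      rw [hu', e, hz.2.1] at this
      exact this.symm)
    have hv1 : v ≠ 1 := fun e => hz1 (conj_eq_one_iff.mp e)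
    have hn_cases : ∀ n ∈ (S : Subgroup G), n ∈ Subgroup.normalizer (F : Set G) →
        (n * f * n⁻¹ = f ∧ n * v * n⁻¹ = v) ∨ (n * f * n⁻¹ = f * f ∧ n * v * n⁻¹ = z * v) := by
      intro n hn hnn
      have hnz : n * z * n⁻¹ = z := by rw [hz.2.2 n hn, mul_inv_cancel_right]
      have e0 : n * v * n⁻¹ = (n * f * n⁻¹) * z * (n * f * n⁻¹)⁻¹ := by
        calc n * v * n⁻¹ = (n * f * n⁻¹) * (n * z * n⁻¹) * (n * f * n⁻¹)⁻¹ := by rw [hv]; group
          _ = _ := by rw [hnz]
      rcases hgen _ ((Subgroup.mem_normalizer_iff.mp hnn f).mp hf) with e | e | e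
      · exact absurd (conj_eq_one_iff.mp e) hf1'
      · exact Or.inl ⟨e, by rw [e0, e]⟩
      · exact Or.inr ⟨e, by rw [e0, e, ← hu', hu, hv]; group⟩
    have hsv : ∀ s ∈ (S : Subgroup G), s * v * s⁻¹ = v ∨ s * v * s⁻¹ = z * v := by
      intro s hs
      obtain ⟨q, hq, n, hn, hnn, rfl⟩ := ov.lift s hs
      have hq' : ∀ b ∈ V, q * b * q⁻¹ = b := fun b hb => by rw [hVc q hq b hb, mul_inv_cancel_right]
      rw [show q * n * v * (q * n)⁻¹ = q * (n * v * n⁻¹) * q⁻¹ by group]
      rcases hn_cases n hn hnn with ⟨-, e⟩ | ⟨-, e⟩ <;> rw [e]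
      · exact Or.inl (hq' v (hfV hz))
      · exact Or.inr (hq' _ (mul_mem (hVZ z hz) (hfV hz)))
    set W := Subgroup.closure ({z, v} : Set G)
    have hSW : (S : Subgroup G) ≤ Subgroup.normalizer (W : Set G) := fun s hs => mem_normalizer_closure (by
      rintro b (rfl | rfl)
      · rw [hz.2.2 s hs, mul_inv_cancel_right]; exact Subgroup.subset_closure (Or.inl rfl)
      · rcases hsv s hs with e | e <;> rw [e]
        · exact Subgroup.subset_closure (Or.inr rfl)
        · exact mul_mem (Subgroup.subset_closure (Or.inl rfl)) (Subgroup.subset_closure (Or.inr rfl)))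
    obtain ⟨M₁, F₁, hM₁, ov₁⟩ := exists_over h.sect S hM0g (le_centZ _) hSW hzmove
    refine ⟨S, K, M₁, F₁, z, v, f, ⟨⟨ov₁, hM₁, hz, hz1, hVS v (hfV hz), hv2, hv1, hvz, hsv⟩, ov.S_le, ov.good,
      ov.F_le hf, hodd f hf, rfl, hu', fun q hq => hVc q hq v (hfV hz), ?_, ?_⟩⟩
    · intro k hk hkz hkv
      obtain ⟨q, hq, g, hg, n, hn, hnn, rfl⟩ := ov.decomp k hk
      have hqz : Commute q z := hVc q hq z (hVZ z hz)
      have hqv : Commute q v := hVc q hq v (hfV hz)
      have hnz : Commute n z := hz.2.2 n hn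
      have hgn : ∀ {b}, Commute (q * g * n) b → Commute q b → Commute (g * n) b := fun {b} hb1 hb2 => by
        have := hb2.inv_left.mul_left hb1
        rwa [show q⁻¹ * (q * g * n) = g * n by group] at this
      have hgz : Commute g z := by
        have := (hgn hkz hqz).mul_left hnz.inv_left
        rwa [mul_inv_cancel_right] at this
      have hg1 : g = 1 := by
        rcases hgen g hg with e | e | e
        · exact e
        · exfalso
          subst e
          exact hvz (by rw [hv, hgz.eq, mul_inv_cancel_right])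
        · exfalso
          subst e
          have : u = z := by
            rw [hu, hv, show f * (f * z * f⁻¹) * f⁻¹ = f * f * z * (f * f)⁻¹ by group, hgz.eq, mul_inv_cancel_right]
          rw [hu'] at this
          exact hv1 (mul_eq_left.mp this)
      subst hg1
      have hnv : Commute n v := by
        have := hgn hkv hqv
        rwa [one_mul] at this
      rw [mul_one]
      refine mul_mem hq (ov.mem_core_of_centF hn fun g hg => ?_)
      rcases hn_cases n hn hnn with ⟨e, -⟩ | ⟨-, e⟩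
      · have hnf : Commute n f := mul_inv_eq_iff_eq_mul.mp e
        rcases hgen g hg with rfl | rfl | rfl
        exacts [(Commute.one_right n).eq, hnf.eq, (hnf.mul_right hnf).eq]
      · exfalso
        rw [hnv.eq, mul_inv_cancel_right] at e
        exact hz1 (right_eq_mul.mp e)
    · intro s hs
      obtain ⟨q, hq, n, hn, hnn, rfl⟩ := ov.lift s hs
      have hcj : ∀ {g : G}, g ∈ F → g * q⁻¹ * g⁻¹ ∈ pCoreOf 2 K := fun hg => conj_mem_core (ov.F_le hg) (inv_mem hq)
      rcases hn_cases n hn hnn with ⟨e, -⟩ | ⟨e, -⟩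
      · refine ⟨q * (f * q⁻¹ * f⁻¹), mul_mem hq (hcj hf), 1, ?_⟩
        calc q * n * f * (q * n)⁻¹ = q * (n * f * n⁻¹) * q⁻¹ := by group
          _ = q * (f * q⁻¹ * f⁻¹) * f ^ (1 : ℤ) := by rw [e]; group
      · refine ⟨q * ((f * f) * q⁻¹ * (f * f)⁻¹), mul_mem hq (hcj (F.mul_mem hf hf)), 2, ?_⟩
        calc q * n * f * (q * n)⁻¹ = q * (n * f * n⁻¹) * q⁻¹ := by group
          _ = q * ((f * f) * q⁻¹ * (f * f)⁻¹) * f ^ (2 : ℤ) := by rw [e]; group
  · right
    refine mkI h ov hVK hV2 hVn hVc hfaith hM0M hfixV (Or.inl hF) hSK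
  · exact absurd hF (ov.seven hSK)
  · right
    refine mkI h ov hVK hV2 hVn hVc hfaith hM0M hfixV (Or.inr hF) hSK
where
  mkI (h : Hard G) {S : Sylow 2 G} {M K F : Subgroup G} (ov : IsOver (S : Subgroup G) M K F)
      {V : Subgroup G} (hVK : V ≤ pCoreOf 2 K) (hV2 : ∀ b ∈ V, b * b = 1)
      (hVn : K ≤ Subgroup.normalizer (V : Set G)) (hVc : ∀ q ∈ pCoreOf 2 K, ∀ b ∈ V, q * b = b * q)
      (hfaith : ∀ f ∈ F, (∀ b ∈ V, f * b = b * f) → f = 1) (hM0M : centZ (S : Subgroup G) ≤ M)
      (hfixV : (∀ y ∈ centZ (S : Subgroup G), Odd (orderOf y) → ∀ a f, InZ (S : Subgroup G) a → f ∈ F →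
        y * (f * a * f⁻¹) = f * a * f⁻¹ * y) → False)
      (hF : Nat.card F = 5 ∨ Nat.card F = 9) (hSK : ∃ s ∈ (S : Subgroup G), s ∉ pCoreOf 2 K) :
      ∃ (S : Sylow 2 G) (K F H V : Subgroup G), IData (S : Subgroup G) K F H V := by
    classical
    haveI := Fintype.ofFinite G
    have hFV : ∀ f ∈ F, ∀ b ∈ V, f * b * f⁻¹ ∈ V := fun f hf b hb =>
      (Subgroup.mem_normalizer_iff.mp (hVn (ov.F_le hf)) b).mp hb
    have hodd : ∀ f ∈ F, Odd (orderOf f) := fun f hf => ov.odd_order hf
    have hcV := comm_of_exp_two hV2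
    have hV16 : Nat.card V ≤ 16 := card_le_sixteen h.sect hV2
    set C := V ⊓ Subgroup.centralizer (F : Set G)
    have hcV' : Nat.card V = 16 ∧ Nat.card C = 1 := by
      haveI : Nontrivial ↥F := Finite.one_lt_card_iff_nontrivial.mp (by omega)
      obtain ⟨⟨f, hf⟩, hf1⟩ := exists_ne (1 : ↥F)
      have hf1' : f ≠ 1 := fun e => hf1 (Subtype.ext e)
      have hne : ∃ f ∈ F, f ≠ 1 := ⟨f, hf, hf1'⟩
      have hVp : IsPGroup 2 ↥V := fun b => ⟨1, Subtype.ext (by simpa [pow_two] using hV2 b b.2)⟩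
      haveI : Fact (Nat.Prime 2) := ⟨Nat.prime_two⟩
      obtain ⟨i, hi⟩ := IsPGroup.iff_card.mp hVp
      have hCpos : 0 < Nat.card C := Nat.card_pos
      rcases hF with h5 | h9
      · haveI : Fact (Nat.Prime 5) := ⟨Nat.prime_five⟩
        obtain ⟨a, ha, hmove⟩ : ∃ a ∈ V, f * a ≠ a * f := by
          by_contra h'
          push Not at h'
          exact hf1' (hfaith f hf h')
        have hgen : ∀ g ∈ F, g ∈ Subgroup.zpowers f := fun g hg => by
          have hz : Subgroup.zpowers (⟨f, hf⟩ : ↥F) = ⊤ := zpowers_eq_top_of_prime_card h5 hf1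
          obtain ⟨j, hj⟩ := Subgroup.mem_zpowers_iff.mp (hz ▸ Subgroup.mem_top (⟨g, hg⟩ : ↥F))
          exact Subgroup.mem_zpowers_iff.mpr ⟨j, congrArg Subtype.val hj⟩
        have hreg : ∀ g ∈ F, g * a = a * g → g = 1 := by
          intro g hg hga
          by_contra hg1
          have hz : Subgroup.zpowers (⟨g, hg⟩ : ↥F) = ⊤ :=
            zpowers_eq_top_of_prime_card h5 (fun e => hg1 (congrArg Subtype.val e))
          obtain ⟨j, hj⟩ := Subgroup.mem_zpowers_iff.mp (hz ▸ Subgroup.mem_top (⟨f, hf⟩ : ↥F))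
          have hj' : g ^ j = f := congrArg Subtype.val hj
          exact hmove (hj' ▸ (Commute.zpow_left hga j).eq)
        have hb : Nat.card C * (Nat.card F + 1) ≤ Nat.card V := Mover.orbit_bound hV2 hFV hodd ha hreg hne
        rw [h5] at hb
        have hf5 : f ^ 5 = 1 := by
          rw [← h5]; exact congrArg Subtype.val (pow_card_eq_one' (x := (⟨f, hf⟩ : ↥F)))
        set T := (V : Set G).toFinset
        have hmod := card_modEq_fixed (p := 5) Nat.prime_five hf5 T (fun b hb => by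
          simp only [T, Set.mem_toFinset, SetLike.mem_coe] at hb ⊢; exact hFV f hf b hb)
        have hT : T.card = Nat.card V := by rw [Set.toFinset_card, ← Nat.card_eq_fintype_card]; rfl
        have hfix : (T.filter fun b => f * b = b * f).card = Nat.card C := by
          rw [show (T.filter fun b => f * b = b * f) = (C : Set G).toFinset by
            ext b
            simp only [T, C, Finset.mem_filter, Set.mem_toFinset, SetLike.mem_coe, Subgroup.mem_inf]
            refine ⟨fun hb => ⟨hb.1, Subgroup.mem_centralizer_iff.mpr fun g hg => ?_⟩,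
              fun hb => ⟨hb.1, Subgroup.mem_centralizer_iff.mp hb.2 f hf⟩⟩
            obtain ⟨j, rfl⟩ := Subgroup.mem_zpowers_iff.mp (hgen g hg)
            exact (Commute.zpow_left hb.2 j).eq, Set.toFinset_card, ← Nat.card_eq_fintype_card]
          rfl
        rw [hT, hfix] at hmod
        rw [hi] at hb hV16 hmod ⊢
        have hi4 : i ≤ 4 := by
          by_contra h'
          have := Nat.pow_le_pow_right (show 0 < 2 by norm_num) (show 5 ≤ i by omega)
          omega
        simp only [Nat.ModEq] at hmod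
        interval_cases i <;> omega
      · have hexp : ∀ g ∈ F, g ^ 3 = 1 := by
          obtain ⟨p, hp, -, hexp⟩ := ov.exp
          have hp3 : p = 3 := by
            have h1 : orderOf f ∣ p := orderOf_dvd_of_pow_eq_one (hexp f hf)
            have h2 : orderOf f ∣ 9 := h9 ▸ Subgroup.orderOf_dvd_natCard F hf
            have h3 : orderOf f ≠ 1 := fun e => hf1' (orderOf_eq_one_iff.mp e)
            have h4 := (Nat.dvd_prime hp).mp h1
            rcases h4 with h4 | h4
            · exact absurd h4 h3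
            · exact (Nat.prime_dvd_prime_iff_eq hp Nat.prime_three).mp
                (hp.dvd_of_dvd_pow (show p ∣ 3 ^ 2 by rw [← h4]; exact h2))
          rw [← hp3]; exact hexp
        obtain ⟨a, ha, hreg⟩ := Mover.exists_regular hV2 hFV h9 ov.comm hodd hexp hfaith
        have hb : Nat.card C * (Nat.card F + 1) ≤ Nat.card V := Mover.orbit_bound hV2 hFV hodd ha hreg hne
        rw [h9] at hb
        rw [hi] at hb hV16 ⊢
        have hi4 : i ≤ 4 := by
          by_contra h'
          have := Nat.pow_le_pow_right (show 0 < 2 by norm_num) (show 5 ≤ i by omega)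
          omega
        interval_cases i <;> omega
    obtain ⟨hV16', hC⟩ := hcV'
    refine ⟨S, K, F, M, V, ov, hM0M, hF, hVK, hV16', hV2, hVn, hVc, fun q hq hq2 => ?_, fun b hb hfix => ?_,
      fun hle => ?_⟩
    · by_contra hqV
      set X := Subgroup.closure (insert q (V : Set G))
      have hX2 : ∀ b ∈ X, b * b = 1 := sq_one_closure (by
        rintro b (rfl | hb)
        exacts [hq2, hV2 b hb]) (by
        rintro b (rfl | hb) b' (rfl | hb')
        exacts [rfl, hVc _ hq b' hb', (hVc _ hq b hb).symm, hcV b hb b' hb'])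
      have h1 : Nat.card X ≤ 16 := card_le_sixteen h.sect hX2
      exact hqV ((Subgroup.eq_of_le_of_card_ge (fun b hb => Subgroup.subset_closure (Or.inr hb) : V ≤ X)
        (h1.trans hV16'.ge)).ge (Subgroup.subset_closure (Or.inl rfl)))
    · have hbC : b ∈ C := ⟨hb, Subgroup.mem_centralizer_iff.mpr hfix⟩
      rw [Subgroup.eq_bot_of_card_eq C hC] at hbC
      exact Subgroup.mem_bot.mp hbC
    · -- the odd elements of `centZ S` would fix `V`
      haveI : Fact (Nat.Prime 2) := ⟨Nat.prime_two⟩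
      have hVne : V ≠ ⊥ := fun e => by rw [e, Subgroup.card_bot] at hV16'; omega
      have hVp : IsPGroup 2 ↥V := fun b => ⟨1, Subtype.ext (by simpa [pow_two] using hV2 b b.2)⟩
      set L := Subgroup.normalizer (V : Set G)
      have hLg : Good L := h.good_normalizer hVp hVne
      have hSL : (S : Subgroup G) ≤ L := ov.S_le.trans hVn
      obtain ⟨s, hs, hsK⟩ := hSK
      have hsL : s ∉ pCoreOf 2 L := fun i => hsK (by
        have hle : pCoreOf 2 L ⊓ K ≤ pCoreOf 2 K := le_core ((core_two L).to_le inf_le_left) inf_le_right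
          (Subgroup.le_normalizer_iff.mpr fun k hk b hb => ⟨conj_mem_core (hVn hk) hb.1,
            K.mul_mem (K.mul_mem hk hb.2) (K.inv_mem hk)⟩)
        exact hle ⟨i, ov.S_le hs⟩)
      obtain ⟨N, -, -, -, hNy, -, -, -, heven⟩ := hLg.exists_oddPre h.sect
      obtain ⟨-, hNc, -⟩ := heven ⟨s, hSL hs, hsL, by
        obtain ⟨j, hj⟩ := S.isPGroup' ⟨s, hs⟩
        exact ⟨j, by rw [show s ^ 2 ^ j = 1 from congrArg Subtype.val hj]; exact one_mem _⟩⟩
      refine hfixV fun y hy hyo a f ha hf => ?_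
      have hya : Commute y a := mem_centZ.mp hy a ha
      set c := ⁅y, f⁆ with hc
      have hcL : c ∈ pCoreOf 2 L := hNc y (hNy y (hle hy) hyo) f (hNy f (hVn (ov.F_le hf)) (hodd f hf))
      have hfL : f ∈ L := hVn (ov.F_le hf)
      have hcw : Commute c (f * a * f⁻¹) := by
        have h1 : f⁻¹ * c * f ∈ (S : Subgroup G) := by simpa using core_le_conj S hSL (inv_mem hfL) hcL
        show c * (f * a * f⁻¹) = f * a * f⁻¹ * c
        calc c * (f * a * f⁻¹) = f * ((f⁻¹ * c * f) * a) * f⁻¹ := by group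
          _ = f * a * f⁻¹ * c := by rw [ha.2.2 _ h1]; group
      refine mul_inv_eq_iff_eq_mul.mp ?_
      calc y * (f * a * f⁻¹) * y⁻¹ = c * (f * (y * a * y⁻¹) * f⁻¹) * c⁻¹ := by
            rw [hc, commutatorElement_def]; group
        _ = f * a * f⁻¹ := by rw [hya.eq, mul_inv_cancel_right, hcw.eq, mul_inv_cancel_right]

end CfsgLib.SRFour
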