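import Mathlib
import Cfsg.Agent.Lib.SRFour.ExtraCommon

/-!
An extraspecial `Q₁` of order 32 with `|F| ∈ {5, 9}` does not occur.

Blueprint: `blueprint/S0517.md`, addendum "Parcel Extra", E1.
-/

set_option autoImplicit false
set_option linter.unusedSectionVars false
set_option linter.style.haveILetI false

namespace CfsgLib.SRFour

open Cfsg
open scoped commutatorElement

universe u

variable {G : Type u} [Group G] [Finite G] {S : Sylow 2 G} {K M₁ F : Subgroup G} {z v x t : G}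

namespace Five

/-- The four elements of `W`. -/
def InW (z v e : G) : Prop := e = 1 ∨ e = z ∨ e = v ∨ e = z * v

/-- `C_{Q₁}(v)`. -/
def D (M₁ : Subgroup G) (v : G) : Subgroup G := pCoreOf 2 M₁ ⊓ Subgroup.centralizer {v}

/-- The image of `C_{Q₁}(v)` under `x`. -/
def D' (M₁ : Subgroup G) (v x : G) : Subgroup G := (D M₁ v).map (MulAut.conj x).toMonoidHom

theorem mem_D {d : G} : d ∈ D M₁ v ↔ d ∈ pCoreOf 2 M₁ ∧ d * v = v * d :=
  ⟨fun h => ⟨h.1, Subgroup.mem_centralizer_singleton_iff.mp h.2⟩,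
    fun h => ⟨h.1, Subgroup.mem_centralizer_singleton_iff.mpr h.2⟩⟩

theorem mem_D' {c : G} : c ∈ D' M₁ v x ↔ x⁻¹ * c * x ∈ D M₁ v := by
  constructor
  · rintro ⟨d, hd, rfl⟩
    simpa [mul_assoc] using hd
  · exact fun h => ⟨_, h, by simp [mul_assoc]⟩

variable (N : NData (S : Subgroup G) K M₁ F z v x) (X : Ex32 (pCoreOf 2 M₁) z)
variable (htQ : t ∈ pCoreOf 2 M₁) (htv : t * v * t⁻¹ = z * v)

include N

theorem vQ : v ∈ pCoreOf 2 M₁ := N.toMData.v_Q

theorem v_nz : v ∉ Subgroup.zpowers z := fun e => by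
  rcases mem_two N.z_mem.2.1 e with e | e
  · exact N.v_ne e
  · exact N.v_ne_z e

theorem inW_mem_D {e : G} (he : InW z v e) : e ∈ D M₁ v := by
  have hz : z ∈ D M₁ v := mem_D.mpr ⟨N.toMData.z_Q, N.toMData.zv⟩
  have hv : v ∈ D M₁ v := mem_D.mpr ⟨vQ N, rfl⟩
  rcases he with rfl | rfl | rfl | rfl
  exacts [one_mem _, hz, hv, mul_mem hz hv]

theorem z_D' : z ∈ D' M₁ v x := by
  rw [mem_D']
  have : x⁻¹ * z * x = z * v := by
    calc x⁻¹ * z * x = x⁻¹ * (x * (z * v) * x⁻¹) * x := by rw [N.xzv]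
      _ = z * v := by group
  rw [this]
  exact inW_mem_D N (Or.inr (Or.inr (Or.inr rfl)))

theorem v_D' : v ∈ D' M₁ v x := by
  rw [mem_D']
  have : x⁻¹ * v * x = z := by rw [← N.xz]; group
  rw [this]
  exact inW_mem_D N (Or.inr (Or.inl rfl))

theorem inW_mem_D' {e : G} (he : InW z v e) : e ∈ D' M₁ v x := by
  rcases he with rfl | rfl | rfl | rfl
  exacts [one_mem _, z_D' N, v_D' N, mul_mem (z_D' N) (v_D' N)]

theorem x_cube : x ^ 3 = 1 := by
  have hz : x ^ 3 * z * (x ^ 3)⁻¹ = z := by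
    calc x ^ 3 * z * (x ^ 3)⁻¹ = x * (x * (x * z * x⁻¹) * x⁻¹) * x⁻¹ := by rw [pow_succ, pow_two]; group
      _ = z := by rw [N.xz, N.xv, N.xzv]
  have hv : x ^ 3 * v * (x ^ 3)⁻¹ = v := by
    calc x ^ 3 * v * (x ^ 3)⁻¹ = x * (x * (x * v * x⁻¹) * x⁻¹) * x⁻¹ := by rw [pow_succ, pow_two]; group
      _ = v := by rw [N.xv, N.xzv, N.xz]
  exact eq_one_of_odd_mem (core_two K) (Odd.of_dvd_nat N.x_odd (orderOf_pow_dvd 3))
    (N.fix_core _ (K.pow_mem N.x_mem 3) (mul_inv_eq_iff_eq_mul.mp hz) (mul_inv_eq_iff_eq_mul.mp hv))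

theorem x_core {q : G} (hq : q ∈ pCoreOf 2 K) : x⁻¹ * q * x ∈ pCoreOf 2 K := by
  simpa using conj_mem_core (K.inv_mem N.x_mem) hq

theorem D_le_K {d : G} (hd : d ∈ D M₁ v) : d ∈ pCoreOf 2 K :=
  (N.mem_core_iff (N.toMData.Q_le_S (mem_D.mp hd).1)).mpr (mem_D.mp hd).2

theorem D'_le_K {c : G} (hc : c ∈ D' M₁ v x) : c ∈ pCoreOf 2 K := by
  have h := conj_mem_core N.x_mem (D_le_K N (mem_D'.mp hc))
  simpa [mul_assoc] using h

theorem K_Q {q : G} (hq : q ∈ pCoreOf 2 K) {d : G} (hd : d ∈ pCoreOf 2 M₁) :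
    q * d * q⁻¹ ∈ pCoreOf 2 M₁ :=
  N.toMData.conj_mem_Q (N.toMData.S_le (N.core_le_S hq)) hd

theorem K_D {q : G} (hq : q ∈ pCoreOf 2 K) {d : G} (hd : d ∈ D M₁ v) : q * d * q⁻¹ ∈ D M₁ v := by
  refine mem_D.mpr ⟨K_Q N hq (mem_D.mp hd).1, ?_⟩
  have h1 : Commute q v := N.core_v q hq
  exact ((h1.mul_left (show Commute d v from (mem_D.mp hd).2)).mul_left h1.inv_left).eq

theorem K_D' {q : G} (hq : q ∈ pCoreOf 2 K) {c : G} (hc : c ∈ D' M₁ v x) : q * c * q⁻¹ ∈ D' M₁ v x := by
  rw [mem_D'] at hc ⊢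
  have h := K_D N (x_core N hq) hc
  rw [show x⁻¹ * q * x * (x⁻¹ * c * x) * (x⁻¹ * q * x)⁻¹ = x⁻¹ * (q * c * q⁻¹) * x by group] at h
  exact h

theorem Q_inter {c : G} (hc : c ∈ pCoreOf 2 M₁) (hcK : c ∈ pCoreOf 2 K) : c ∈ D M₁ v :=
  mem_D.mpr ⟨hc, N.core_v c hcK⟩

include htQ htv

theorem t_D {d : G} (hd : d ∈ D M₁ v) : t * d * t⁻¹ ∈ D M₁ v :=
  Q_inter N (mul_mem (mul_mem htQ (mem_D.mp hd).1) (inv_mem htQ))
    (conj_mem_core (N.S_le_K (N.toMData.Q_le_S htQ)) (D_le_K N hd))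

theorem t_D_inv {d : G} (hd : d ∈ D M₁ v) : t⁻¹ * d * t ∈ D M₁ v :=
  Q_inter N (mul_mem (mul_mem (inv_mem htQ) (mem_D.mp hd).1) htQ)
    (by simpa using conj_mem_core (K.inv_mem (N.S_le_K (N.toMData.Q_le_S htQ))) (D_le_K N hd))

/-- `E = D ∩ D'` is normalised by `S` and `x`. -/
theorem E_norm (X : Ex32 (pCoreOf 2 M₁) z) :
    (S : Subgroup G) ≤ Subgroup.normalizer ((D M₁ v ⊓ D' M₁ v x : Subgroup G) : Set G) ∧
      x ∈ Subgroup.normalizer ((D M₁ v ⊓ D' M₁ v x : Subgroup G) : Set G) := by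
  set E := D M₁ v ⊓ D' M₁ v x
  have hQ : pCoreOf 2 M₁ ≤ Subgroup.normalizer (E : Set G) :=
    X.norm (inf_le_left.trans inf_le_left) ⟨inW_mem_D N (Or.inr (Or.inl rfl)), z_D' N⟩
  have ht := hQ htQ
  constructor
  · intro s hs
    have hK : ∀ q ∈ pCoreOf 2 K, q ∈ Subgroup.normalizer (E : Set G) := fun q hq =>
      Subgroup.mem_normalizer_fintype fun e he => ⟨K_D N hq he.1, K_D' N hq he.2⟩
    rcases N.core_cover (N.toMData.Q_le_S htQ) htv hs with h | h
    · exact hK s h
    · simpa using mul_mem (hK _ h) ht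
  · have hg : x * t ∈ Subgroup.normalizer (E : Set G) := by
      refine Subgroup.mem_normalizer_fintype fun e he => ⟨?_, ?_⟩
      · have h1 := K_D N (N.swap (N.toMData.Q_le_S htQ) htv).2.2.2 (t_D_inv N htQ htv (mem_D'.mp he.2))
        rwa [show x * t * (x * t) * (t⁻¹ * (x⁻¹ * e * x) * t) * (x * t * (x * t))⁻¹ = x * t * e * (x * t)⁻¹ by
          group] at h1
      · refine mem_D'.mpr ?_
        rw [show x⁻¹ * (x * t * e * (x * t)⁻¹) * x = t * e * t⁻¹ by group]
        exact t_D N htQ htv he.1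
    simpa using mul_mem hg (inv_mem ht)

omit htQ htv in
theorem E_sq (X : Ex32 (pCoreOf 2 M₁) z) {e : G} (he : e ∈ D M₁ v ⊓ D' M₁ v x) : e * e = 1 := by
  obtain ⟨he1, he2⟩ := he
  rcases X.zpow_cases (X.sq e (mem_D.mp he1).1) with h | h
  · exact h
  · exfalso
    rcases X.zpow_cases (X.sq _ (mem_D.mp (mem_D'.mp he2)).1) with h' | h'
    · rw [show x⁻¹ * e * x * (x⁻¹ * e * x) = x⁻¹ * (e * e) * x by group, h] at h'
      refine N.z_ne ?_
      calc z = x * (x⁻¹ * z * x) * x⁻¹ := by group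
        _ = 1 := by rw [h']; group
    · rw [show x⁻¹ * e * x * (x⁻¹ * e * x) = x⁻¹ * (e * e) * x by group, h] at h'
      refine N.v_ne_z ?_
      calc v = x * z * x⁻¹ := N.xz.symm
        _ = x * (x⁻¹ * z * x) * x⁻¹ := by rw [h']
        _ = z := by group

omit htQ htv

theorem card_D (X : Ex32 (pCoreOf 2 M₁) z) : Nat.card (D M₁ v) = 16 := X.card_cent (vQ N) (v_nz N)

theorem card_D' (X : Ex32 (pCoreOf 2 M₁) z) : Nat.card (D' M₁ v x) = 16 := by
  rw [D', ← Nat.card_congr ((D M₁ v).equivMapOfInjective _ (MulAut.conj x).injective).toEquiv, card_D N X]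

theorem odd_ne {f : G} (hf : f ∈ F) (h2 : f * f = 1) : f = 1 := by
  refine orderOf_eq_one_iff.mp (Nat.eq_one_of_dvd_coprimes (a := orderOf f) (b := 2) ?_ dvd_rfl
    (orderOf_dvd_of_pow_eq_one (by rw [pow_two, h2])))
  exact Nat.coprime_two_right.mpr (N.ov.odd_order hf)

/-- `|D ∩ D'| ≠ 16`, so it is four or eight. -/
theorem card_E (X : Ex32 (pCoreOf 2 M₁) z) :
    (∀ e ∈ D M₁ v, e ∈ D' M₁ v x → InW z v e) ∨ Nat.card ↥(D M₁ v ⊓ D' M₁ v x : Subgroup G) = 8 := by
  classical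
  haveI := Fintype.ofFinite G
  set E := D M₁ v ⊓ D' M₁ v x
  have h8 := X.card_comm_le (H := E) (inf_le_left.trans inf_le_left) (comm_of_exp_two fun e he => E_sq N X he)
  by_cases hall : ∀ e ∈ D M₁ v, e ∈ D' M₁ v x → InW z v e
  · exact Or.inl hall
  refine Or.inr ?_
  push Not at hall
  obtain ⟨e, he, he', hne⟩ := hall
  have hd := Subgroup.card_dvd_of_le (inf_le_left : E ≤ D M₁ v)
  rw [card_D N X] at hd
  have h5 : 5 ≤ Nat.card E := by
    have hsub : ({1, z, v, z * v, e} : Finset G) ⊆ (E : Set G).toFinset := by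
      intro a ha
      simp only [Finset.mem_insert, Finset.mem_singleton] at ha
      rw [Set.mem_toFinset, SetLike.mem_coe]
      rcases ha with rfl | rfl | rfl | rfl | rfl
      exacts [one_mem _, ⟨inW_mem_D N (Or.inr (Or.inl rfl)), z_D' N⟩,
        ⟨inW_mem_D N (Or.inr (Or.inr (Or.inl rfl))), v_D' N⟩,
        ⟨inW_mem_D N (Or.inr (Or.inr (Or.inr rfl))), inW_mem_D' N (Or.inr (Or.inr (Or.inr rfl)))⟩, ⟨he, he'⟩]
    have h := Finset.card_le_card hsub
    rw [Set.toFinset_card, ← Nat.card_eq_fintype_card] at h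
    refine le_trans (le_of_eq ?_) h
    simp only [InW, not_or] at hne
    obtain ⟨n1, n2, n3, n4⟩ := hne
    have hzv : z * v ≠ 1 := fun e => v_nz N ((eq_inv_of_mul_eq_one_right e) ▸ inv_mem (Subgroup.mem_zpowers z))
    simp [Ne.symm N.z_ne, Ne.symm N.v_ne, Ne.symm N.v_ne_z, Ne.symm hzv, Ne.symm n1, Ne.symm n2, Ne.symm n3,
      Ne.symm n4, N.z_ne, N.v_ne]
  change Nat.card E = 8
  generalize Nat.card E = n at *
  interval_cases n <;> first | rfl | omega | norm_num at hd

/-- The case of an elementary `D ∩ D'` of order eight. -/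
theorem not_eight (h : Hard G) (X : Ex32 (pCoreOf 2 M₁) z) (hF : Nat.card F = 5 ∨ Nat.card F = 9)
    (htQ : t ∈ pCoreOf 2 M₁) (htv : t * v * t⁻¹ = z * v)
    (h8 : Nat.card ↥(D M₁ v ⊓ D' M₁ v x : Subgroup G) = 8) : False := by
  classical
  haveI := Fintype.ofFinite G
  set E := D M₁ v ⊓ D' M₁ v x with hEdef
  have hEQ : E ≤ pCoreOf 2 M₁ := inf_le_left.trans inf_le_left
  have hsq : ∀ e ∈ E, e * e = 1 := fun e he => E_sq N X he
  set T : Finset G := Finset.univ.filter fun q => q ∈ pCoreOf 2 M₁ ∧ q * q = 1 with hT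
  have hT' : ∀ q, q ∈ T ↔ q ∈ pCoreOf 2 M₁ ∧ q * q = 1 := fun q => by simp [T]
  have h20 := X.count hEQ h8 hsq T hT'
  rcases hF with h5 | h9
  · obtain ⟨f, hf, hf1, -⟩ := N.toMData.exists_odd
    have hfp : f ^ 5 = 1 := by
      have := pow_card_eq_one' (x := (⟨f, hf⟩ : ↥F))
      rw [h5] at this
      exact congrArg Subtype.val this
    have hfM := N.ov.F_le hf
    set Qf : Finset G := (pCoreOf 2 M₁ : Set G).toFinset
    have m1 := card_modEq_fixed Nat.prime_five hfp Qf fun a ha => by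
      simp only [Qf, Set.mem_toFinset, SetLike.mem_coe] at *
      exact N.toMData.conj_mem_Q hfM ha
    have m2 := card_modEq_fixed Nat.prime_five hfp T fun a ha => by
      rw [hT'] at *
      exact ⟨N.toMData.conj_mem_Q hfM ha.1,
        by rw [show f * a * f⁻¹ * (f * a * f⁻¹) = f * (a * a) * f⁻¹ by group, ha.2]; group⟩
    set C := pCoreOf 2 M₁ ⊓ Subgroup.centralizer ({f} : Set G)
    have hC : Qf.filter (fun a => f * a = a * f) = (C : Set G).toFinset := by
      ext a
      simp [Qf, C, Subgroup.mem_centralizer_singleton_iff, eq_comm]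
    have hd : Nat.card C ∣ 32 := X.card ▸ Subgroup.card_dvd_of_le (inf_le_left : C ≤ pCoreOf 2 M₁)
    have hzC : Subgroup.zpowers z ≤ C := Subgroup.zpowers_le.mpr
      ⟨X.z_mem, Subgroup.mem_centralizer_singleton_iff.mpr (N.toMData.comm_z hfM).symm⟩
    have h2 := Subgroup.card_le_of_le hzC
    rw [card_zpowers_two X.z_sq X.z_ne] at h2
    rw [Set.toFinset_card, ← Nat.card_eq_fintype_card] at m1
    change Nat.card (pCoreOf 2 M₁) ≡ _ [MOD 5] at m1
    rw [X.card, hC, Set.toFinset_card, ← Nat.card_eq_fintype_card] at m1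
    change 32 % 5 = Nat.card C % 5 at m1
    have hC2 : Nat.card C = 2 := by
      obtain ⟨k, hk5, hk⟩ := (Nat.dvd_prime_pow Nat.prime_two).mp (hd.trans (dvd_of_eq (by norm_num : 32 = 2 ^ 5)))
      rw [hk] at h2 m1 ⊢
      interval_cases k <;> first | rfl | (norm_num at h2; done) | (norm_num at m1; done) | skip
      refine absurd (N.toMData.eq_one_of_comm hfM (N.ov.odd_order hf) fun q hq => ?_) hf1
      have : q ∈ C := (Subgroup.eq_of_le_of_card_ge (inf_le_left : C ≤ pCoreOf 2 M₁) (by rw [X.card, hk]; norm_num)).ge hq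
      rw [commutatorElement_eq_one_iff_mul_comm.mpr (Subgroup.mem_centralizer_singleton_iff.mp this.2)]
      simp
    have hfix : T.filter (fun a => f * a = a * f) = {1, z} := by
      ext a
      simp only [Finset.mem_filter, hT', Finset.mem_insert, Finset.mem_singleton]
      constructor
      · rintro ⟨⟨ha, -⟩, hc⟩
        exact X.zpow_cases ((Subgroup.eq_of_le_of_card_ge hzC (by rw [hC2, card_zpowers_two X.z_sq X.z_ne])).ge
          ⟨ha, Subgroup.mem_centralizer_singleton_iff.mpr hc.symm⟩)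
      · rintro (rfl | rfl)
        · simp
        · exact ⟨⟨X.z_mem, X.z_sq⟩, N.toMData.comm_z hfM⟩
    rw [h20, hfix, Finset.card_insert_of_notMem (by simp [Ne.symm X.z_ne]), Finset.card_singleton] at m2
    exact absurd m2 (by decide)
  · obtain ⟨hSE, hxE⟩ := E_norm N htQ htv X
    have hne : E ≠ ⊥ := fun e => by
      rw [e, Subgroup.card_bot] at h8
      omega
    have hfix : ∀ b ∈ F, b ∈ Subgroup.normalizer (E : Set G) → b = 1 := fun b hb hbE =>
      N.no_common h ((core_two M₁).to_le hEQ) hne hSE hxE (N.ov.F_le hb) (N.ov.odd_order hb) hbE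
    -- every noncentral involution of `Q₁` is conjugate to `v` or `z v` under `F`
    let T' := T.filter fun a => a ∉ Subgroup.zpowers z
    have c18 : T'.card = 18 := by
      have h1 := Finset.card_filter_add_card_filter_not (s := T) (fun a => a ∈ Subgroup.zpowers z)
      rw [show (T.filter fun a => a ∈ Subgroup.zpowers z) = {1, z} by
        ext a
        simp only [Finset.mem_filter, hT', Finset.mem_insert, Finset.mem_singleton]
        constructor
        · exact fun h => X.zpow_cases h.2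
        · rintro (rfl | rfl)
          · simp
          · exact ⟨⟨X.z_mem, X.z_sq⟩, Subgroup.mem_zpowers _⟩,
        Finset.card_insert_of_notMem (by simp [Ne.symm X.z_ne]), Finset.card_singleton, h20] at h1
      show (T.filter fun a => a ∉ Subgroup.zpowers z).card = 18
      omega
    let φ : ↥F × ↥(Subgroup.zpowers z) → {a // a ∈ T'} := fun p => ⟨p.2 * ((p.1 : G) * v * (p.1 : G)⁻¹), by
      refine Finset.mem_filter.mpr ⟨(hT' _).mpr ⟨mul_mem (Subgroup.zpowers_le.mpr X.z_mem p.2.2)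
        (N.toMData.conj_mem_Q (N.ov.F_le p.1.2) (vQ N)), ?_⟩, fun e =>
          N.toMData.conj_v_ne p.1.2 (by simpa using mul_mem (inv_mem p.2.2) e)⟩
      have hb : (p.1 : G) * v * (p.1 : G)⁻¹ * ((p.1 : G) * v * (p.1 : G)⁻¹) = 1 := by
        rw [show (p.1 : G) * v * (p.1 : G)⁻¹ * ((p.1 : G) * v * (p.1 : G)⁻¹) = p.1 * (v * v) * (p.1 : G)⁻¹ by group,
          N.v_sq]
        group
      rcases X.zpow_cases p.2.2 with e | e <;> rw [e]
      · rw [one_mul, hb]
      · have hc := X.z_comm _ (N.toMData.conj_mem_Q (N.ov.F_le p.1.2) (vQ N))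
        generalize (p.1 : G) * v * (p.1 : G)⁻¹ = B at hb hc ⊢
        rw [mul_assoc z, ← mul_assoc B z, hc, mul_assoc z B B, hb, mul_one, X.z_sq]⟩
    have hφ : Function.Injective φ := by
      rintro ⟨b, w⟩ ⟨b', w'⟩ e
      have e' : (w : G) * ((b : G) * v * (b : G)⁻¹) = w' * ((b' : G) * v * (b' : G)⁻¹) := congrArg Subtype.val e
      have hbb : b = b' := by
        refine Subtype.ext (N.toMData.orbit_inj b.2 b'.2 ?_)
        rw [eq_inv_mul_of_mul_eq e', ← mul_assoc]
        rcases X.zpow_cases (mul_mem (inv_mem w.2) w'.2) with e1 | e1 <;> rw [e1]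
        · exact Or.inl (one_mul _)
        · exact Or.inr rfl
      subst hbb
      exact Prod.ext rfl (Subtype.ext (mul_right_cancel e'))
    have hbij : Function.Bijective φ := (Nat.bijective_iff_injective_and_card φ).mpr ⟨hφ, by
      rw [Nat.card_prod, h9, card_zpowers_two X.z_sq X.z_ne, Nat.card_eq_fintype_card, Fintype.card_coe, c18]⟩
    have hzE : z ∈ E := ⟨inW_mem_D N (Or.inr (Or.inl rfl)), z_D' N⟩
    have hvE : v ∈ E := ⟨inW_mem_D N (Or.inr (Or.inr (Or.inl rfl))), v_D' N⟩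
    have hlift : ∀ e ∈ E, e ∉ Subgroup.zpowers z → ∃ b ∈ F, b * v * b⁻¹ ∈ E ∧
        ∃ w ∈ Subgroup.zpowers z, e = w * (b * v * b⁻¹) := by
      intro e he hez
      obtain ⟨⟨b, w⟩, hbw⟩ := hbij.2 ⟨e, Finset.mem_filter.mpr ⟨(hT' e).mpr ⟨hEQ he, hsq e he⟩, hez⟩⟩
      have hbw' : (w : G) * ((b : G) * v * (b : G)⁻¹) = e := congrArg Subtype.val hbw
      refine ⟨b, b.2, ?_, w, w.2, hbw'.symm⟩
      rw [eq_inv_mul_of_mul_eq hbw']
      exact mul_mem (inv_mem (Subgroup.zpowers_le.mpr hzE w.2)) he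
    obtain ⟨e, heE, heW⟩ : ∃ e ∈ E, ¬ InW z v e := by
      by_contra hh
      push Not at hh
      have h1 : (E : Set G).toFinset ⊆ {1, z, v, z * v} := fun a ha => by
        simpa [InW] using hh a (by simpa using ha)
      have h2 := (Finset.card_le_card h1).trans
        ((Finset.card_insert_le _ _).trans (add_le_add_left ((Finset.card_insert_le _ _).trans
          (add_le_add_left (Finset.card_insert_le _ _) 1)) 1))
      rw [Set.toFinset_card, ← Nat.card_eq_fintype_card, Finset.card_singleton] at h2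
      change Nat.card E ≤ _ at h2
      omega
    simp only [InW, not_or] at heW
    obtain ⟨n1, n2, n3, n4⟩ := heW
    have hez : e ∉ Subgroup.zpowers z := fun h' => (X.zpow_cases h').elim n1 n2
    have hvez : v * e ∉ Subgroup.zpowers z := fun h' => by
      rcases X.zpow_cases h' with h' | h'
      · exact n3 (by rw [eq_inv_of_mul_eq_one_right h', inv_eq_of_mul_eq_one_right N.v_sq])
      · refine n4 ?_
        calc e = v * (v * e) := by rw [← mul_assoc, N.v_sq, one_mul]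
          _ = z * v := by rw [h', N.toMData.zv]
    obtain ⟨b2, hb2, hb2E, w2, hw2, he2⟩ := hlift e heE hez
    obtain ⟨b3, hb3, hb3E, w3, hw3, he3⟩ := hlift (v * e) (mul_mem hvE heE) hvez
    set bs : Fin 3 → G := ![1, b2, b3] with hbs
    have hbF : ∀ i, bs i ∈ F := fun i => by fin_cases i <;> first | exact one_mem _ | assumption
    have hbE : ∀ i, bs i * v * (bs i)⁻¹ ∈ E := fun i => by
      fin_cases i
      · simpa [bs] using hvE
      · exact hb2E
      · exact hb3E
    have hinj : Function.Injective bs := by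
      have h12 : b2 ≠ 1 := fun e1 => by
        rcases X.zpow_cases hw2 with e' | e' <;> rw [e1, e'] at he2
        · exact n3 (by simpa using he2)
        · exact n4 (by simpa using he2)
      have h13 : b3 ≠ 1 := fun e1 => by
        rcases X.zpow_cases hw3 with e' | e' <;> rw [e1, e'] at he3
        · exact n1 (by simpa using he3)
        · refine n2 ?_
          simp only [one_mul, inv_one, mul_one] at he3
          rw [N.toMData.zv] at he3
          exact mul_left_cancel he3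
      have h23 : b2 ≠ b3 := fun e1 => by
        subst e1
        refine v_nz N ?_
        have e5 : v = (v * e) * e⁻¹ := by group
        rw [e5, he3, he2, show w3 * (b2 * v * b2⁻¹) * (w2 * (b2 * v * b2⁻¹))⁻¹ = w3 * w2⁻¹ by group]
        exact mul_mem hw3 (inv_mem hw2)
      intro i j hij
      fin_cases i <;> fin_cases j <;>
        simp [bs, h12, h13, h23, Ne.symm h12, Ne.symm h13, Ne.symm h23] at hij ⊢
    refine X.not_three_eight (vQ N) (v_nz N) (fun i => E.map (MulAut.conj (bs i)⁻¹).toMonoidHom) ?_ ?_ ?_ ?_ ?_ ?_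
    · rintro i _ ⟨a, ha, rfl⟩
      exact N.toMData.conj_mem_Q (M₁.inv_mem (N.ov.F_le (hbF i))) (hEQ ha)
    · intro i
      rw [← Nat.card_congr (E.equivMapOfInjective _ (MulAut.conj (bs i)⁻¹).injective).toEquiv]
      exact h8
    · rintro i _ ⟨a, ha, rfl⟩
      rw [← map_mul, hsq a ha, map_one]
    · exact fun i => ⟨_, hbE i, by simp [mul_assoc]⟩
    · exact fun i => ⟨z, hzE, by simpa using N.toMData.conj_z (M₁.inv_mem (N.ov.F_le (hbF i)))⟩
    · intro i j hij e'
      refine hij (hinj ?_)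
      have hn : bs i * (bs j)⁻¹ ∈ Subgroup.normalizer (E : Set G) := by
        refine Subgroup.mem_normalizer_fintype fun a ha => ?_
        obtain ⟨c, hc, hca⟩ := (show MulAut.conj (bs j)⁻¹ a ∈ E.map (MulAut.conj (bs i)⁻¹).toMonoidHom from
          e'.symm ▸ ⟨a, ha, rfl⟩)
        have hca' : (bs i)⁻¹ * c * bs i = (bs j)⁻¹ * a * bs j := by simpa using hca
        rw [show bs i * (bs j)⁻¹ * a * (bs i * (bs j)⁻¹)⁻¹ = bs i * ((bs j)⁻¹ * a * bs j) * (bs i)⁻¹ by group,
          ← hca', show bs i * ((bs i)⁻¹ * c * bs i) * (bs i)⁻¹ = c by group]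
        exact hc
      exact mul_inv_eq_one.mp (hfix _ (F.mul_mem (hbF i) (F.inv_mem (hbF j))) hn)

/-- `|D ∩ D'| = 4` is impossible for `|F| = 5`: no four-group acts faithfully on `F`. -/
theorem not_four_five (X : Ex32 (pCoreOf 2 M₁) z) (hF : Nat.card F = 5)
    (hW : ∀ e ∈ D M₁ v, e ∈ D' M₁ v x → InW z v e) : False := by
  classical
  haveI := Fintype.ofFinite G
  haveI : Fact (Nat.Prime 5) := ⟨Nat.prime_five⟩
  obtain ⟨f, hf, hf1, -⟩ := N.toMData.exists_odd
  have hgen : ∀ b ∈ F, ∃ j : ℕ, j < 5 ∧ f ^ j = b := by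
    intro b hb
    have ho : orderOf f = 5 := orderOf_eq_prime (by
      have := pow_card_eq_one' (x := (⟨f, hf⟩ : ↥F))
      rw [hF] at this
      exact congrArg Subtype.val this) hf1
    have e : Subgroup.zpowers f = F := Subgroup.eq_of_le_of_card_ge (Subgroup.zpowers_le.mpr hf)
      (by rw [hF, Nat.card_zpowers, ho])
    obtain ⟨j, hj⟩ := mem_powers_iff_mem_zpowers.mpr (e.symm ▸ hb)
    exact ⟨j % orderOf f, ho ▸ Nat.mod_lt _ (orderOf_pos f), (pow_mod_orderOf f j).trans hj⟩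
  have hsq : ∀ c ∈ D' M₁ v x, InW z v (c * c) := by
    intro c hc
    rcases X.zpow_cases (X.sq _ (mem_D.mp (mem_D'.mp hc)).1) with e | e
    · left
      calc c * c = x * (x⁻¹ * c * x * (x⁻¹ * c * x)) * x⁻¹ := by group
        _ = 1 := by rw [e]; group
    · right; right; left
      calc c * c = x * (x⁻¹ * c * x * (x⁻¹ * c * x)) * x⁻¹ := by group
        _ = v := by rw [e, N.xz]
  have hnotQ : ∀ c ∈ D' M₁ v x, ¬ InW z v c → c ∉ pCoreOf 2 M₁ := fun c hc hcW hcQ =>
    hcW (hW c (Q_inter N hcQ (D'_le_K N hc)) hc)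
  have hinv : ∀ c ∈ D' M₁ v x, ¬ InW z v c → ∃ q ∈ pCoreOf 2 M₁, ∃ n ∈ (S : Subgroup G),
      n ∈ Subgroup.normalizer (F : Set G) ∧ c = q * n ∧ n * f * n⁻¹ = f⁻¹ := by
    intro c hc hcW
    obtain ⟨q, hq, n, hn, hnn, rfl⟩ := N.ov.lift c (N.core_le_S (D'_le_K N hc))
    refine ⟨q, hq, n, hn, hnn, rfl, ?_⟩
    have hnQ : n ∉ pCoreOf 2 M₁ := fun e => hnotQ _ hc hcW (mul_mem hq e)
    have hn2 : n * n ∈ pCoreOf 2 M₁ := by
      have h1 := (mem_D.mp (inW_mem_D N (hsq _ hc))).1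
      have h2 := mul_mem (mul_mem (N.toMData.conj_mem_Q (N.toMData.S_le hn) (inv_mem hq)) (inv_mem hq)) h1
      rwa [show n * q⁻¹ * n⁻¹ * q⁻¹ * (q * n * (q * n)) = n * n by group] at h2
    have hm : n * n * f * (n * n)⁻¹ * f⁻¹ = 1 := N.ov.core_inter
      (F.mul_mem ((Subgroup.mem_normalizer_iff.mp (mul_mem hnn hnn) f).mp hf) (F.inv_mem hf)) (by
        have := mul_mem hn2 (N.toMData.conj_mem_Q (N.ov.F_le hf) (inv_mem hn2))
        simpa [mul_assoc] using this)
    obtain ⟨j, hj5, hj⟩ := hgen _ ((Subgroup.mem_normalizer_iff.mp hnn f).mp hf)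
    have hjj : f ^ (j * j) = f := by
      have e : n * (n * f * n⁻¹) * n⁻¹ = f := by
        rw [mul_inv_eq_one] at hm
        calc n * (n * f * n⁻¹) * n⁻¹ = n * n * f * (n * n)⁻¹ := by group
          _ = f := hm
      rwa [← hj, ← conj_pow, ← hj, ← pow_mul] at e
    have hfp : f ^ 5 = 1 := by
      have := pow_card_eq_one' (x := (⟨f, hf⟩ : ↥F))
      rw [hF] at this
      exact congrArg Subtype.val this
    have hne : ∀ k, 0 < k → k < 5 → f ^ k ≠ 1 := fun k hk hk5 e => by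
      have := orderOf_dvd_of_pow_eq_one e
      rw [orderOf_eq_prime hfp hf1] at this
      exact absurd (Nat.le_of_dvd hk this) (by omega)
    interval_cases j
    · exfalso
      rw [pow_zero] at hj
      exact hf1 (conj_eq_one_iff.mp hj.symm)
    · exfalso
      refine hnQ (N.toMData.mem_Q_of_centF hn fun b hb => ?_)
      obtain ⟨k, -, rfl⟩ := hgen b hb
      rw [pow_one] at hj
      exact (Commute.pow_right (show Commute n f from mul_inv_eq_iff_eq_mul.mp hj.symm) k).eq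
    · exact absurd (mul_right_cancel (b := f) (by rw [← pow_succ, one_mul]; exact hjj)) (hne 3 (by norm_num) (by norm_num))
    · exfalso
      refine hne 3 (by norm_num) (by norm_num) (mul_right_cancel (b := f) ?_)
      rw [one_mul]
      calc f ^ 3 * f = f ^ 5 * (f ^ 3 * f) := by rw [hfp, one_mul]
        _ = f ^ (3 * 3) := by rw [← pow_succ, ← pow_add]
        _ = f := hjj
    · rw [← hj, eq_inv_iff_mul_eq_one, ← pow_succ]
      exact hfp
  obtain ⟨c1, hc1, hc1W⟩ : ∃ c ∈ D' M₁ v x, ¬ InW z v c := by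
    by_contra hh
    push Not at hh
    have h1 : (D' M₁ v x : Set G).toFinset ⊆ {1, z, v, z * v} := fun a ha => by
      simpa [InW] using hh a (by simpa using ha)
    have h2 := (Finset.card_le_card h1).trans Finset.card_le_four
    rw [Set.toFinset_card, ← Nat.card_eq_fintype_card] at h2
    change Nat.card (D' M₁ v x) ≤ 4 at h2
    rw [card_D' N X] at h2
    omega
  obtain ⟨c2, hc2, hc2W, hc21⟩ : ∃ c ∈ D' M₁ v x, ¬ InW z v c ∧ ¬ InW z v (c * c1⁻¹) := by
    by_contra hh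
    push Not at hh
    have h1 : (D' M₁ v x : Set G).toFinset ⊆
        ({1, z, v, z * v} : Finset G) ∪ ({1, z, v, z * v} : Finset G).image (· * c1) := fun a ha => by
      rw [Set.mem_toFinset, SetLike.mem_coe] at ha
      rw [Finset.mem_union, Finset.mem_image]
      by_cases haW : InW z v a
      · left; simpa [InW] using haW
      · right
        exact ⟨a * c1⁻¹, by simpa [InW] using hh a ha haW, by group⟩
    have h2 := ((Finset.card_le_card h1).trans (Finset.card_union_le _ _)).trans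
      (add_le_add Finset.card_le_four (Finset.card_image_le.trans Finset.card_le_four))
    rw [Set.toFinset_card, ← Nat.card_eq_fintype_card] at h2
    change Nat.card (D' M₁ v x) ≤ 8 at h2
    rw [card_D' N X] at h2
    omega
  obtain ⟨q1, hq1, n1, hn1, hn1n, e1, hi1⟩ := hinv c1 hc1 hc1W
  obtain ⟨q2, hq2, n2, hn2, hn2n, e2, hi2⟩ := hinv c2 hc2 hc2W
  have hn : n2 * n1 ∈ pCoreOf 2 M₁ := N.toMData.mem_Q_of_centF (mul_mem hn2 hn1) fun b hb => by
    obtain ⟨k, -, rfl⟩ := hgen b hb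
    refine (Commute.pow_right (show Commute (n2 * n1) f from mul_inv_eq_iff_eq_mul.mp ?_) k).eq
    calc n2 * n1 * f * (n2 * n1)⁻¹ = n2 * (n1 * f * n1⁻¹) * n2⁻¹ := by group
      _ = (n2 * f * n2⁻¹)⁻¹ := by rw [hi1]; group
      _ = f := by rw [hi2, inv_inv]
  have hm : c2 * c1 ∈ pCoreOf 2 M₁ := by
    rw [e1, e2, show q2 * n2 * (q1 * n1) = q2 * (n2 * q1 * n2⁻¹) * (n2 * n1) by group]
    exact mul_mem (mul_mem hq2 (N.toMData.conj_mem_Q (N.toMData.S_le hn2) hq1)) hn
  have hD' : c2 * c1 ∈ D' M₁ v x := mul_mem hc2 hc1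
  have hD := Q_inter N hm (D'_le_K N hD')
  refine hc21 (hW _ ?_ (mul_mem hc2 (inv_mem hc1)))
  have h3 := mul_mem hD (inv_mem (inW_mem_D N (hsq c1 hc1)))
  rwa [show c2 * c1 * (c1 * c1)⁻¹ = c2 * c1⁻¹ by group] at h3

/-- Some `f v f⁻¹` lies in `D` outside `W` when `|F| = 9`. -/
theorem exists_a (X : Ex32 (pCoreOf 2 M₁) z) (hF : Nat.card F = 9) (htQ : t ∈ pCoreOf 2 M₁)
    (htv : t * v * t⁻¹ = z * v) : ∃ f ∈ F, f ≠ 1 ∧ f * v * f⁻¹ ∈ D M₁ v := by
  classical
  haveI := Fintype.ofFinite G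
  by_contra hh
  push Not at hh
  set Qo := ((pCoreOf 2 M₁ : Set G).toFinset).filter fun q => q ∉ D M₁ v with hQo
  have c16 : Qo.card = 16 := by
    have h1 := Finset.card_filter_add_card_filter_not (s := (pCoreOf 2 M₁ : Set G).toFinset) (fun q => q ∈ D M₁ v)
    rw [show ((pCoreOf 2 M₁ : Set G).toFinset.filter fun q => q ∈ D M₁ v) = (D M₁ v : Set G).toFinset by
      ext a
      simp only [Finset.mem_filter, Set.mem_toFinset, SetLike.mem_coe]
      exact ⟨fun h => h.2, fun h => ⟨(mem_D.mp h).1, h⟩⟩,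
      Set.toFinset_card, ← Nat.card_eq_fintype_card, Set.toFinset_card, ← Nat.card_eq_fintype_card] at h1
    change Nat.card (D M₁ v) + Qo.card = Nat.card (pCoreOf 2 M₁) at h1
    rw [card_D N X, X.card] at h1
    omega
  set I := (((F : Set G).toFinset.erase 1) ×ˢ ({1, z} : Finset G)) with hI
  have cI : I.card = 16 := by
    rw [Finset.card_product, Finset.card_erase_of_mem (by simp), Set.toFinset_card, ← Nat.card_eq_fintype_card,
      Finset.card_insert_of_notMem (by simp [Ne.symm X.z_ne]), Finset.card_singleton]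
    change (Nat.card F - 1) * (1 + 1) = 16
    rw [hF]
  let φ : G × G → G := fun p => p.2 * (p.1 * v * p.1⁻¹)
  have hsub : I.image φ ⊆ Qo := by
    intro a ha
    obtain ⟨⟨b, w⟩, hp, rfl⟩ := Finset.mem_image.mp ha
    simp only [I, Finset.mem_product, Finset.mem_erase, Set.mem_toFinset, SetLike.mem_coe, Finset.mem_insert,
      Finset.mem_singleton] at hp
    have hw : w ∈ D M₁ v := inW_mem_D N (hp.2.elim Or.inl fun e => Or.inr (Or.inl e))
    simp only [Qo, φ, Finset.mem_filter, Set.mem_toFinset, SetLike.mem_coe]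
    exact ⟨mul_mem (mem_D.mp hw).1 (N.toMData.conj_mem_Q (N.ov.F_le hp.1.2) (vQ N)),
      fun e => hh b hp.1.2 hp.1.1 (by simpa using mul_mem (inv_mem hw) e)⟩
  have hcard : (I.image φ).card = 16 := by
    rw [Finset.card_image_of_injOn, cI]
    rintro ⟨b, w⟩ hb ⟨b', w'⟩ hb' e
    simp only [Finset.coe_product, Set.mem_prod, I, Finset.coe_erase, Set.coe_toFinset, Set.mem_sdiff,
      SetLike.mem_coe, Set.mem_singleton_iff, Finset.coe_insert, Finset.coe_singleton, Set.mem_insert_iff] at hb hb'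
    have e' : w * (b * v * b⁻¹) = w' * (b' * v * b'⁻¹) := e
    have hww : w⁻¹ * w' = 1 ∨ w⁻¹ * w' = z := by
      rcases hb.2 with rfl | rfl <;> rcases hb'.2 with rfl | rfl <;>
        simp [inv_eq_of_mul_eq_one_right X.z_sq, X.z_sq]
    have hbb : b = b' := by
      refine N.toMData.orbit_inj hb.1.1 hb'.1.1 ?_
      rw [eq_inv_mul_of_mul_eq e', ← mul_assoc]
      rcases hww with e1 | e1 <;> rw [e1]
      · exact Or.inl (one_mul _)
      · exact Or.inr rfl
    subst hbb
    rw [mul_right_cancel e']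
  have hall : ∀ q ∈ pCoreOf 2 M₁, q ∉ D M₁ v → q * q = 1 := by
    intro q hq hqD
    have hmem : q ∈ I.image φ := by
      rw [Finset.eq_of_subset_of_card_le hsub (by rw [hcard, c16])]
      simp [Qo, hq, hqD]
    obtain ⟨⟨b, w⟩, hp, rfl⟩ := Finset.mem_image.mp hmem
    simp only [I, Finset.mem_product, Finset.mem_erase, Set.mem_toFinset, SetLike.mem_coe, Finset.mem_insert,
      Finset.mem_singleton] at hp
    have hb : b * v * b⁻¹ * (b * v * b⁻¹) = 1 := by
      rw [show b * v * b⁻¹ * (b * v * b⁻¹) = b * (v * v) * b⁻¹ by group, N.v_sq]; group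
    have hc := X.z_comm _ (N.toMData.conj_mem_Q (N.ov.F_le hp.1.2) (vQ N))
    show w * (b * v * b⁻¹) * (w * (b * v * b⁻¹)) = 1
    generalize b * v * b⁻¹ = B at hb hc ⊢
    rcases hp.2 with rfl | rfl
    · rw [one_mul, hb]
    · rw [mul_assoc w, ← mul_assoc B w, hc, mul_assoc w B B, hb, mul_one, X.z_sq]
  have htD : t ∉ D M₁ v := fun e => by
    rw [(mem_D.mp e).2, mul_inv_cancel_right] at htv
    exact N.z_ne (by simpa using htv.symm)
  have ht2 := hall t htQ htD
  have hinv : ∀ d ∈ D M₁ v, t * d * t = d⁻¹ := fun d hd => by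
    have h1 := hall (t * d) (mul_mem htQ (mem_D.mp hd).1) fun e => htD (by simpa using mul_mem e (inv_mem hd))
    exact eq_inv_of_mul_eq_one_left (by rw [← h1]; group)
  have hc : ∀ a ∈ D M₁ v, ∀ b ∈ D M₁ v, a * b = b * a := by
    intro a ha b hb
    have h1 : t * (a * b) * t = (t * a * t) * (t * b * t) := by
      rw [show (t * a * t) * (t * b * t) = t * a * (t * t) * (b * t) by group, ht2]; group
    rw [hinv a ha, hinv b hb, hinv _ (mul_mem ha hb), mul_inv_rev] at h1
    calc a * b = a * b * (b⁻¹ * a⁻¹) * (b * a) := by rw [h1]; group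
      _ = b * a := by group
  have := X.card_comm_le (H := D M₁ v) inf_le_left hc
  rw [card_D N X] at this
  omega

/-- `|D ∩ D'| = 4` is impossible for `|F| = 9`. -/
theorem not_four_nine (h : Hard G) (X : Ex32 (pCoreOf 2 M₁) z) (hF : Nat.card F = 9) (htQ : t ∈ pCoreOf 2 M₁)
    (htv : t * v * t⁻¹ = z * v) (hW : ∀ e ∈ D M₁ v, e ∈ D' M₁ v x → InW z v e) : False := by
  classical
  haveI := Fintype.ofFinite G
  set E := D M₁ v ⊓ D' M₁ v x with hEdef
  obtain ⟨hSE, hxE⟩ := E_norm N htQ htv X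
  have hEnx : ∀ e ∈ E, x * e * x⁻¹ ∈ E ∧ x⁻¹ * e * x ∈ E := fun e he => ⟨(Subgroup.mem_normalizer_iff.mp hxE e).mp he, by
    have h' := (Subgroup.mem_normalizer_iff.mp (inv_mem hxE) e).mp he
    rwa [inv_inv] at h'⟩
  have hEW : ∀ {e}, InW z v e → e ∈ E := fun he => ⟨inW_mem_D N he, inW_mem_D' N he⟩
  have hEK : ∀ e ∈ E, ∀ q ∈ pCoreOf 2 K, q * e = e * q := by
    intro e he q hq
    have h1 : Commute q z := N.core_z hq
    have h2 : Commute q v := N.core_v q hq
    rcases hW e he.1 he.2 with rfl | rfl | rfl | rfl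
    exacts [Commute.one_right q, h1, h2, h1.mul_right h2]
  have hEsq : ∀ e ∈ E, e * e = 1 := fun e he => E_sq N X he
  have hzE : z ∈ E := hEW (Or.inr (Or.inl rfl))
  have hvE : v ∈ E := hEW (Or.inr (Or.inr (Or.inl rfl)))
  have hZE : Subgroup.zpowers z ≤ E := Subgroup.zpowers_le.mpr hzE
  have hcube := x_cube N
  have hx2 : x⁻¹ * x⁻¹ = x := by
    rw [← mul_inv_rev]; refine inv_eq_of_mul_eq_one_right ?_
    rw [← hcube, pow_succ, pow_two]
  obtain ⟨f, hf, hf1, hfD⟩ := exists_a N X hF htQ htv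
  have hfM := N.ov.F_le hf
  set a := f * v * f⁻¹ with hadef
  have haQ : a ∈ pCoreOf 2 M₁ := (mem_D.mp hfD).1
  have ha2 : a * a = 1 := by
    rw [hadef, show f * v * f⁻¹ * (f * v * f⁻¹) = f * (v * v) * f⁻¹ by group, N.v_sq]; group
  have hainv : a⁻¹ = a := inv_eq_of_mul_eq_one_right ha2
  have haE : a ∉ E := fun e => by
    rcases hW a e.1 e.2 with e' | e' | e' | e'
    · exact N.toMData.conj_v_ne hf (by rw [← hadef, e']; exact one_mem _)
    · exact N.toMData.conj_v_ne hf (by rw [← hadef, e']; exact Subgroup.mem_zpowers z)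
    · exact hf1 (N.toMData.eq_one_of_fix hfM (N.ov.odd_order hf) (Or.inl e'))
    · exact hf1 (N.toMData.eq_one_of_fix hfM (N.ov.odd_order hf) (Or.inr e'))
  have htD : t ∉ D M₁ v := fun e => by
    rw [(mem_D.mp e).2, mul_inv_cancel_right] at htv
    exact N.z_ne (by simpa using htv.symm)
  -- an element of `D` moving `a`
  obtain ⟨b, hbD, hba⟩ : ∃ b ∈ D M₁ v, b * a ≠ a * b := by
    by_contra hh
    push Not at hh
    have haz : a ∉ Subgroup.zpowers z := fun e => haE (hZE e)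
    have heq : D M₁ v = pCoreOf 2 M₁ ⊓ Subgroup.centralizer {a} := Subgroup.eq_of_le_of_card_ge
      (fun d hd => ⟨(mem_D.mp hd).1, Subgroup.mem_centralizer_singleton_iff.mpr (hh d hd)⟩)
      (by rw [card_D N X, X.card_cent haQ haz])
    refine haE ?_
    have hva : v * a ∈ Subgroup.zpowers z := X.center _ (mul_mem (vQ N) haQ) fun q hq => by
      by_cases hqD : q ∈ D M₁ v
      · exact ((show Commute q v from (mem_D.mp hqD).2).mul_right (show Commute q a from hh q hqD)).eq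
      · have e1 := (X.move hq (vQ N)).resolve_left fun e => hqD (mem_D.mpr ⟨hq, e⟩)
        have e2 := (X.move hq haQ).resolve_left fun e => hqD
          (heq ▸ ⟨hq, Subgroup.mem_centralizer_singleton_iff.mpr e⟩)
        calc q * (v * a) = (q * v) * a := by group
          _ = z * v * (q * a) := by rw [e1]; group
          _ = z * (v * z) * (a * q) := by rw [e2]; group
          _ = (z * z) * (v * a * q) := by rw [← N.toMData.zv]; group
          _ = v * a * q := by rw [X.z_sq, one_mul]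
    simpa using mul_mem (inv_mem hvE) (hZE hva)
  have hbQ : b ∈ pCoreOf 2 M₁ := (mem_D.mp hbD).1
  have hbK := D_le_K N hbD
  have haK := D_le_K N hfD
  set A := D M₁ v ⊓ Subgroup.centralizer ({a} : Set G) with hAdef
  have hAmem : ∀ {e}, e ∈ A ↔ e ∈ D M₁ v ∧ e * a = a * e := fun {e} =>
    ⟨fun h => ⟨h.1, Subgroup.mem_centralizer_singleton_iff.mp h.2⟩,
      fun h => ⟨h.1, Subgroup.mem_centralizer_singleton_iff.mpr h.2⟩⟩
  have hA8 : Nat.card A = 8 := by
    have := X.card_halve (H := D M₁ v) inf_le_left haQ hbD hba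
    rw [card_D N X] at this
    change 2 * Nat.card A = 16 at this
    omega
  have haA : a ∈ A := hAmem.mpr ⟨hfD, rfl⟩
  have hEA : E ≤ A := fun e he => hAmem.mpr ⟨he.1, (hEK e he a haK).symm⟩
  have hEcard : 4 ≤ Nat.card E := by
    have hsub : ({1, z, v, z * v} : Finset G) ⊆ (E : Set G).toFinset := fun c hc => by
      rw [Set.mem_toFinset, SetLike.mem_coe]
      exact hEW (by simpa [InW] using hc)
    have h' := Finset.card_le_card hsub
    rw [Set.toFinset_card, ← Nat.card_eq_fintype_card] at h'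
    refine le_trans (le_of_eq ?_) h'
    have hzv : z * v ≠ 1 := fun e => v_nz N ((eq_inv_of_mul_eq_one_right e) ▸ inv_mem (Subgroup.mem_zpowers z))
    simp [Ne.symm N.z_ne, Ne.symm N.v_ne, Ne.symm N.v_ne_z, Ne.symm hzv, N.z_ne, N.v_ne]
  have hker : A ⊓ Subgroup.centralizer ({b} : Set G) = E := by
    refine (Subgroup.eq_of_le_of_card_ge (fun e he => Subgroup.mem_inf.mpr ⟨hEA he,
      Subgroup.mem_centralizer_singleton_iff.mpr (hEK e he b hbK).symm⟩) ?_).symm
    have := X.card_halve (H := A) (inf_le_left.trans inf_le_left) hbQ haA (Ne.symm hba)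
    rw [hA8] at this
    omega
  have hAdec : ∀ e ∈ A, e ∈ E ∨ ∃ w ∈ E, e = w * a := by
    intro e he
    by_cases heb : e * b = b * e
    · exact Or.inl (hker ▸ ⟨he, Subgroup.mem_centralizer_singleton_iff.mpr heb⟩)
    refine Or.inr ⟨e * a, hker ▸ ⟨mul_mem he haA, Subgroup.mem_centralizer_singleton_iff.mpr ?_⟩,
      by rw [mul_assoc, ha2, mul_one]⟩
    have e1 := (X.move (mem_D.mp (hAmem.mp he).1).1 hbQ).resolve_left heb
    have e2 := (X.move haQ hbQ).resolve_left (Ne.symm hba)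
    calc e * a * b = e * (a * b) := by group
      _ = (e * z) * (b * a) := by rw [e2]; group
      _ = z * (e * b) * a := by rw [X.z_comm e (mem_D.mp (hAmem.mp he).1).1]; group
      _ = (z * z) * (b * e) * a := by rw [e1]; group
      _ = b * (e * a) := by rw [X.z_sq]; group
  have hAc : ∀ p ∈ A, ∀ q ∈ A, p * q = q * p := by
    intro p hp q hq
    rcases hAdec p hp with hp' | ⟨w, hw, rfl⟩
    · exact (hEK p hp' q (D_le_K N (hAmem.mp hq).1)).symm
    · exact ((show Commute w q from (hEK w hw q (D_le_K N (hAmem.mp hq).1)).symm).mul_left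
        (show Commute a q from (hAmem.mp hq).2.symm)).eq
  have hAsq : ∀ p ∈ A, p * p = 1 := by
    intro p hp
    rcases hAdec p hp with hp' | ⟨w, hw, rfl⟩
    · exact hEsq p hp'
    · rw [(show Commute w a from (hEK w hw a haK).symm).symm.mul_mul_mul_comm, hEsq w hw, ha2, one_mul]
  have hAQ : A ≤ pCoreOf 2 M₁ := inf_le_left.trans inf_le_left
  have hDdec : ∀ d ∈ D M₁ v, d ∉ A → d * b⁻¹ ∈ A := by
    intro d hd hdA
    refine hAmem.mpr ⟨mul_mem hd (inv_mem hbD), ?_⟩
    have e1 := (X.move (mem_D.mp hd).1 haQ).resolve_left fun e => hdA (hAmem.mpr ⟨hd, e⟩)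
    have e2 := (X.move hbQ haQ).resolve_left hba
    have e3 : b⁻¹ * a = z * (a * b⁻¹) := by
      have h1 : z * (b * a) = a * b := by rw [e2, ← mul_assoc, X.z_sq, one_mul]
      calc b⁻¹ * a = b⁻¹ * (a * b) * b⁻¹ := by group
        _ = b⁻¹ * (z * (b * a)) * b⁻¹ := by rw [h1]
        _ = (b⁻¹ * z * b) * (a * b⁻¹) := by group
        _ = z * (a * b⁻¹) := by rw [mul_assoc b⁻¹ z b, ← X.z_comm b hbQ, inv_mul_cancel_left]
    calc d * b⁻¹ * a = (d * z) * a * b⁻¹ := by rw [mul_assoc, e3]; group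
      _ = z * (d * a) * b⁻¹ := by rw [X.z_comm d (mem_D.mp hd).1]; group
      _ = (z * z) * (a * d) * b⁻¹ := by rw [e1]; group
      _ = a * (d * b⁻¹) := by rw [X.z_sq]; group
  -- the elements of `O₂(K)` normalising `A`
  have hnA : ∀ q ∈ pCoreOf 2 K, q * a * q⁻¹ ∈ A → q ∈ Subgroup.normalizer (A : Set G) := by
    intro q hq hqa
    refine Subgroup.mem_normalizer_fintype fun e he => ?_
    rcases hAdec e he with he' | ⟨w, hw, rfl⟩
    · rw [hEK e he' q hq, mul_inv_cancel_right]; exact he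
    · rw [show q * (w * a) * q⁻¹ = (q * w * q⁻¹) * (q * a * q⁻¹) by group, hEK w hw q hq, mul_inv_cancel_right]
      exact mul_mem (hEA hw) hqa
  have htriv : ∀ q ∈ pCoreOf 2 K, q ∈ Subgroup.normalizer (A : Set G) → ∀ d ∈ D M₁ v,
      q * d * q⁻¹ * d⁻¹ ∈ E := by
    intro q hq hn
    have hconj : ∀ e ∈ A, q * e * q⁻¹ ∈ A := fun e he => (Subgroup.mem_normalizer_iff.mp hn e).mp he
    have ha' : q * a * q⁻¹ * a⁻¹ ∈ E := by
      rcases hAdec _ (hconj a haA) with h' | ⟨w, hw, h'⟩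
      · refine absurd ?_ haE
        have := hEK _ h' q hq
        rwa [show a = q⁻¹ * (q * a * q⁻¹) * q by group, mul_assoc, ← this, inv_mul_cancel_left]
      · rw [h', mul_inv_cancel_right]; exact hw
    have hA' : ∀ e ∈ A, q * e * q⁻¹ * e⁻¹ ∈ E := by
      intro e he
      rcases hAdec e he with he' | ⟨w, hw, rfl⟩
      · rw [hEK e he' q hq, mul_inv_cancel_right, mul_inv_cancel]; exact one_mem _
      · rw [show q * (w * a) * q⁻¹ * (w * a)⁻¹ = (q * w * q⁻¹) * (q * a * q⁻¹ * a⁻¹) * w⁻¹ by group, hEK w hw q hq,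
          mul_inv_cancel_right]
        exact mul_mem (mul_mem hw ha') (inv_mem hw)
    have hb' : q * b * q⁻¹ * b⁻¹ ∈ E := by
      have he : q * b * q⁻¹ ∉ A := fun e => hba
        ((hAmem.mp ((Subgroup.mem_normalizer_iff.mp hn b).mpr e)).2)
      rcases hAdec _ (hDdec _ (K_D N hq hbD) he) with h' | ⟨w, hw, h'⟩
      · exact h'
      · exfalso
        refine N.z_ne ?_
        have e1 : q * b * q⁻¹ = w * (a * b) := by rw [mul_inv_eq_iff_eq_mul.mp h']; group
        have e2 : q * b * q⁻¹ * (q * b * q⁻¹) = b * b := by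
          rw [show q * b * q⁻¹ * (q * b * q⁻¹) = q * (b * b) * q⁻¹ by group,
            hEK _ (hZE (X.sq b hbQ)) q hq, mul_inv_cancel_right]
        have e3 : (a * b) * (a * b) = z * (b * b) := by
          have e4 := (X.move hbQ haQ).resolve_left hba
          calc a * b * (a * b) = a * (b * a) * b := by group
            _ = (a * z) * (a * b) * b := by rw [e4]; group
            _ = z * (a * a) * (b * b) := by rw [X.z_comm a haQ]; group
            _ = z * (b * b) := by rw [ha2, mul_one]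
        rw [e1, ((show Commute w (a * b) from
          ((show Commute a w from hEK w hw a haK).mul_left (show Commute b w from hEK w hw b hbK)).symm).symm).mul_mul_mul_comm,
          hEsq w hw, one_mul, e3] at e2
        exact mul_eq_right.mp e2
    intro d hd
    by_cases hdA : d ∈ A
    · exact hA' d hdA
    · obtain ⟨α, hα, rfl⟩ : ∃ α ∈ A, d = α * b := ⟨d * b⁻¹, hDdec d hd hdA, by group⟩
      rw [show q * (α * b) * q⁻¹ * (α * b)⁻¹ = (q * α * q⁻¹ * α⁻¹) * (α * (q * b * q⁻¹ * b⁻¹) * α⁻¹) by group,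
        hEK _ hb' α (D_le_K N (hAmem.mp hα).1), mul_inv_cancel_right]
      exact mul_mem (hA' α hα) hb'
  obtain ⟨hgK, -, -, hg2⟩ := N.swap (N.toMData.Q_le_S htQ) htv
  have htK := N.S_le_K (N.toMData.Q_le_S htQ)
  have hD'' : ∀ c ∈ D' M₁ v x, x * (t * c * t⁻¹) * x⁻¹ ∈ D M₁ v := by
    intro c hc
    have h1 := K_D N hg2 (t_D_inv N htQ htv (mem_D'.mp hc))
    rwa [show x * t * (x * t) * (t⁻¹ * (x⁻¹ * c * x) * t) * (x * t * (x * t))⁻¹ = x * (t * c * t⁻¹) * x⁻¹ by group] at h1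
  have hxD : ∀ {q : G}, q ∈ pCoreOf 2 K → x * q * x⁻¹ ∈ pCoreOf 2 K := fun hq => conj_mem_core N.x_mem hq
  have htrivD' : ∀ q ∈ pCoreOf 2 K, q ∈ Subgroup.normalizer (A : Set G) → ∀ c ∈ D' M₁ v x,
      q * c * q⁻¹ * c⁻¹ ∈ E := by
    intro q hq hn c hc
    set d := t * c * t⁻¹ * c⁻¹ with hd
    have hdD : d ∈ D M₁ v := Q_inter N (by
      have h1 := mul_mem htQ (K_Q N (D'_le_K N hc) (inv_mem htQ))
      rwa [show t * (c * t⁻¹ * c⁻¹) = d by simp only [hd, mul_assoc]] at h1)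
      (mul_mem (conj_mem_core htK (D'_le_K N hc)) (inv_mem (D'_le_K N hc)))
    set e := q * (d * c) * q⁻¹ * (d * c)⁻¹ with he
    have hdc : d * c = t * c * t⁻¹ := by simp [hd]
    have he1 : x * e * x⁻¹ ∈ D M₁ v := by
      have h1 := mul_mem (K_D N (hxD hq) (hD'' c hc)) (inv_mem (hD'' c hc))
      rwa [show x * q * x⁻¹ * (x * (t * c * t⁻¹) * x⁻¹) * (x * q * x⁻¹)⁻¹ * (x * (t * c * t⁻¹) * x⁻¹)⁻¹ =
        x * e * x⁻¹ by rw [he, hdc]; group] at h1
    have hq' : q * c * q⁻¹ * c⁻¹ ∈ D' M₁ v x := mul_mem (K_D' N hq hc) (inv_mem hc)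
    have hee : e = (q * d * q⁻¹ * d⁻¹) * (d * (q * c * q⁻¹ * c⁻¹) * d⁻¹) := by rw [he]; group
    have he2 : e ∈ D' M₁ v x := hee ▸ mul_mem (htriv q hq hn d hdD).2 (K_D' N (D_le_K N hdD) hq')
    have he3 : x⁻¹ * e * x ∈ E := by
      refine ⟨mem_D'.mp he2, mem_D'.mpr ?_⟩
      rw [show x⁻¹ * (x⁻¹ * e * x) * x = (x⁻¹ * x⁻¹) * e * (x⁻¹ * x⁻¹)⁻¹ by simp only [mul_inv_rev, inv_inv, mul_assoc], hx2]
      exact he1
    have he4 : e ∈ E := by
      have := (hEnx _ he3).1
      rwa [show x * (x⁻¹ * e * x) * x⁻¹ = e by group] at this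
    have h2 : d * (q * c * q⁻¹ * c⁻¹) * d⁻¹ ∈ E := by
      have := mul_mem (inv_mem (htriv q hq hn d hdD)) he4
      rwa [hee, inv_mul_cancel_left] at this
    have h3 := hEK _ h2 d⁻¹ (inv_mem (D_le_K N hdD))
    have h4 : q * c * q⁻¹ * c⁻¹ = d * (q * c * q⁻¹ * c⁻¹) * d⁻¹ := by
      calc q * c * q⁻¹ * c⁻¹ = d⁻¹ * (d * (q * c * q⁻¹ * c⁻¹) * d⁻¹) * d := by group
        _ = _ := by rw [h3]; group
    rw [h4]; exact h2
  set a2 := x * a * x⁻¹ with ha2def
  have ha2D : a2 ∈ D' M₁ v x := mem_D'.mpr (by rw [ha2def]; simpa [mul_assoc] using hfD)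
  have ha2K := D'_le_K N ha2D
  have ha2S := N.core_le_S ha2K
  have hxN : ∀ q ∈ pCoreOf 2 K, q ∈ Subgroup.normalizer (A : Set G) →
      x⁻¹ * q * x ∈ Subgroup.normalizer (A : Set G) := by
    intro q hq hn
    refine hnA _ (x_core N hq) ?_
    have h1 := (hEnx _ (htrivD' q hq hn a2 ha2D)).2
    rw [show x⁻¹ * q * x * a * (x⁻¹ * q * x)⁻¹ = (x⁻¹ * (q * a2 * q⁻¹ * a2⁻¹) * x) * a by rw [ha2def]; group]
    exact mul_mem (hEA h1) haA
  have hprod : ∀ q1 ∈ pCoreOf 2 K, ∀ q2 ∈ pCoreOf 2 K, q1 ∉ Subgroup.normalizer (A : Set G) →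
      q2 ∉ Subgroup.normalizer (A : Set G) → q1 * q2 ∈ Subgroup.normalizer (A : Set G) := by
    intro q1 h1 q2 h2 n1 n2
    by_contra n3
    set qs : Fin 3 → G := ![1, q1, q1 * q2]
    have hqs : ∀ i, qs i ∈ pCoreOf 2 K := fun i => by fin_cases i <;> simp [qs, h1, mul_mem h1 h2]
    refine X.not_three_eight (vQ N) (v_nz N) (fun i => A.map (MulAut.conj (qs i)).toMonoidHom) ?_ ?_ ?_ ?_ ?_ ?_
    · rintro i _ ⟨c, hc, rfl⟩
      exact K_Q N (hqs i) (hAQ hc)
    · intro i
      rw [← Nat.card_congr (A.equivMapOfInjective _ (MulAut.conj (qs i)).injective).toEquiv]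
      exact hA8
    · rintro i _ ⟨c, hc, rfl⟩
      rw [← map_mul, hAsq c hc, map_one]
    · exact fun i => ⟨v, hEA hvE, by simp [hEK v hvE _ (hqs i)]⟩
    · exact fun i => ⟨z, hEA hzE, by simp [hEK z hzE _ (hqs i)]⟩
    · have key : ∀ i j, A.map (MulAut.conj (qs i)).toMonoidHom = A.map (MulAut.conj (qs j)).toMonoidHom →
          (qs i)⁻¹ * qs j ∈ Subgroup.normalizer (A : Set G) := by
        intro i j e
        refine Subgroup.mem_normalizer_fintype fun c hc => ?_
        obtain ⟨c', hc', e'⟩ := (e.symm ▸ ⟨c, hc, rfl⟩ :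
          MulAut.conj (qs j) c ∈ A.map (MulAut.conj (qs i)).toMonoidHom)
        have e'' : qs i * c' * (qs i)⁻¹ = qs j * c * (qs j)⁻¹ := by simpa using e'
        rw [show (qs i)⁻¹ * qs j * c * ((qs i)⁻¹ * qs j)⁻¹ = (qs i)⁻¹ * (qs j * c * (qs j)⁻¹) * qs i by group,
          ← e'', show (qs i)⁻¹ * (qs i * c' * (qs i)⁻¹) * qs i = c' by group]
        exact hc'
      intro i j hij e
      have hk := key i j e
      fin_cases i <;> fin_cases j <;> simp [qs] at hk hij <;>
        first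
        | exact n1 hk
        | exact n2 hk
        | exact n3 hk
        | exact n1 (by simpa using inv_mem hk)
        | exact n2 (by simpa using inv_mem hk)
        | exact n3 (by simpa using inv_mem hk)
  -- `t` inverts `x` modulo an element normalising `A`
  have htv2 : t⁻¹ * v * t = z * v := by
    calc t⁻¹ * v * t = (z * z) * (t⁻¹ * v * t) := by rw [X.z_sq, one_mul]
      _ = z * ((t⁻¹ * z * t) * (t⁻¹ * v * t)) := by
        rw [mul_assoc t⁻¹ z t, ← X.z_comm t htQ, inv_mul_cancel_left]; group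
      _ = z * (t⁻¹ * (z * v) * t) := by group
      _ = z * v := by rw [show t⁻¹ * (z * v) * t = v by rw [← htv]; group]
  have htzv2 : t⁻¹ * (z * v) * t = v := by rw [← htv]; group
  set q0 := t * x * t⁻¹ * x with hq0
  have hq0K : q0 ∈ pCoreOf 2 K := by
    refine N.fix_core _ (K.mul_mem (K.mul_mem (K.mul_mem htK N.x_mem) (K.inv_mem htK)) N.x_mem)
      (mul_inv_eq_iff_eq_mul.mp ?_) (mul_inv_eq_iff_eq_mul.mp ?_)
    · calc q0 * z * q0⁻¹ = t * (x * (t⁻¹ * (x * z * x⁻¹) * t) * x⁻¹) * t⁻¹ := by rw [hq0]; group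
        _ = z := by rw [N.xz, htv2, N.xzv, X.z_comm t htQ, mul_inv_cancel_right]
    · calc q0 * v * q0⁻¹ = t * (x * (t⁻¹ * (x * v * x⁻¹) * t) * x⁻¹) * t⁻¹ := by rw [hq0]; group
        _ = t * (z * v) * t⁻¹ := by rw [N.xv, htzv2, N.xv]
        _ = (t * z * t⁻¹) * (t * v * t⁻¹) := by group
        _ = v := by rw [X.z_comm t htQ, mul_inv_cancel_right, htv, ← mul_assoc, X.z_sq, one_mul]
  have hq1K := x_core N hq0K
  have hq2K := x_core N hq1K
  have hq0N : q0 ∈ Subgroup.normalizer (A : Set G) := by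
    by_contra hn
    have hback : x * (x * (x * q0 * x⁻¹) * x⁻¹) * x⁻¹ = q0 := by
      calc _ = (x * x * x) * q0 * (x * x * x)⁻¹ := by group
        _ = q0 := by rw [show x * x * x = x ^ 3 by rw [pow_succ, pow_two], hcube]; group
    have hn1 : x⁻¹ * q0 * x ∉ Subgroup.normalizer (A : Set G) := fun e => hn (by
      have h1 := hxN _ hq2K (hxN _ hq1K e)
      rwa [show x⁻¹ * (x⁻¹ * (x⁻¹ * q0 * x) * x) * x = q0 by
        calc _ = (x * x * x)⁻¹ * q0 * (x * x * x) := by group
          _ = q0 := by rw [show x * x * x = x ^ 3 by rw [pow_succ, pow_two], hcube]; group] at h1)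
    have hn2 : x⁻¹ * (x⁻¹ * q0 * x) * x ∉ Subgroup.normalizer (A : Set G) := fun e => hn (by
      have h1 := hxN _ hq2K e
      rwa [show x⁻¹ * (x⁻¹ * (x⁻¹ * q0 * x) * x) * x = q0 by
        calc _ = (x * x * x)⁻¹ * q0 * (x * x * x) := by group
          _ = q0 := by rw [show x * x * x = x ^ 3 by rw [pow_succ, pow_two], hcube]; group] at h1)
    have hm := hprod _ hq0K _ hq1K hn hn1
    have h1 : q0 * (x⁻¹ * q0 * x) * (x⁻¹ * (x⁻¹ * q0 * x) * x) = 1 := by
      calc _ = (q0 * x⁻¹) * (q0 * x⁻¹) * (q0 * x⁻¹) * (x * x * x) := by group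
        _ = (t * x ^ 3 * t⁻¹) * x ^ 3 := by rw [hq0, pow_succ, pow_two]; group
        _ = 1 := by rw [hcube]; group
    refine hn2 ?_
    rw [eq_inv_of_mul_eq_one_right h1]
    exact inv_mem hm
  have hq0x : x * q0 * x⁻¹ ∈ Subgroup.normalizer (A : Set G) := by
    have h1 := hxN _ hq1K (hxN _ hq0K hq0N)
    rwa [show x⁻¹ * (x⁻¹ * q0 * x) * x = (x⁻¹ * x⁻¹) * q0 * (x⁻¹ * x⁻¹)⁻¹ by simp only [mul_inv_rev, inv_inv, mul_assoc], hx2] at h1
  set a3 := x⁻¹ * a * x with ha3def
  have ha3K : a3 ∈ pCoreOf 2 K := x_core N haK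
  have ha3sq : a3 * a3 = 1 := by
    rw [ha3def, show x⁻¹ * a * x * (x⁻¹ * a * x) = x⁻¹ * (a * a) * x by group, ha2]; group
  obtain ⟨w, hw, hta2⟩ : ∃ w ∈ E, t * a2 * t⁻¹ = w * a3 := by
    obtain ⟨w1, hw1, e1⟩ : ∃ w1 ∈ E, t * a * t⁻¹ = w1 * a := by
      refine ⟨t * a * t⁻¹ * a⁻¹, hZE ?_, by group⟩
      have := X.comm_mem htQ haQ
      rwa [commutatorElement_def] at this
    have e0 : t * x * t⁻¹ = q0 * x⁻¹ := by rw [hq0, mul_inv_cancel_right]
    have h1 : t * a2 * t⁻¹ = (q0 * x⁻¹) * (w1 * a) * (q0 * x⁻¹)⁻¹ := by rw [← e0, ← e1, ha2def]; group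
    have h2 := hEK _ (hEnx _ hw1).2 q0 hq0K
    have h3 := (hEnx _ (htriv _ (hxD hq0K) hq0x a hfD)).2
    refine ⟨(x⁻¹ * w1 * x) * (x⁻¹ * (x * q0 * x⁻¹ * a * (x * q0 * x⁻¹)⁻¹ * a⁻¹) * x), mul_mem (hEnx _ hw1).2 h3, ?_⟩
    calc t * a2 * t⁻¹ = (q0 * (x⁻¹ * w1 * x)) * a3 * q0⁻¹ := by rw [h1, ha3def]; group
      _ = _ := by rw [h2, ha3def]; group
  set d := t * a2 * t⁻¹ * a2⁻¹ with hddef
  have hdD : d ∈ D M₁ v := Q_inter N (by
    have h1 := mul_mem htQ (K_Q N ha2K (inv_mem htQ))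
    rwa [show t * (a2 * t⁻¹ * a2⁻¹) = d by simp only [hddef, mul_assoc]] at h1)
    (mul_mem (conj_mem_core htK ha2K) (inv_mem ha2K))
  have ha2sq : a2 * a2 = 1 := by
    rw [ha2def, show x * a * x⁻¹ * (x * a * x⁻¹) = x * (a * a) * x⁻¹ by group, ha2]; group
  have ha2inv : a2⁻¹ = a2 := inv_eq_of_mul_eq_one_right ha2sq
  have ha3inv : a3⁻¹ = a3 := inv_eq_of_mul_eq_one_right ha3sq
  have hxa2 : x * a2 * x⁻¹ = a3 := by
    have hxx : x * x = x⁻¹ := eq_inv_of_mul_eq_one_left (by rw [← hcube, pow_succ, pow_two])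
    calc x * a2 * x⁻¹ = (x * x) * a * (x * x)⁻¹ := by rw [ha2def]; simp only [mul_inv_rev, mul_assoc]
      _ = a3 := by rw [hxx, inv_inv]
  have had : a * d ∈ E := by
    refine ⟨mul_mem hfD hdD, ?_⟩
    have h1 : x * d * x⁻¹ ∈ D' M₁ v x := mem_D'.mpr (by rwa [show x⁻¹ * (x * d * x⁻¹) * x = d by group])
    have h2 : x * d * x⁻¹ = (x * w * x⁻¹) * (a * a3) := by
      calc x * d * x⁻¹ = (x * w * x⁻¹) * a * ((x * a2 * x⁻¹)⁻¹) := by rw [hddef, hta2, ha3def]; group
        _ = _ := by rw [hxa2, ha3inv]; group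
    have h3 : a * a3 ∈ D' M₁ v x := by
      have := mul_mem (inv_mem (show x * w * x⁻¹ ∈ D' M₁ v x from (hEnx _ hw).1.2)) (h2 ▸ h1)
      rwa [inv_mul_cancel_left] at this
    have h4 : a * d = w * ((a * a3) * a2⁻¹) := by
      rw [hddef, hta2, show a * (w * a3 * a2⁻¹) = (a * w) * (a3 * a2⁻¹) by group, hEK w hw a haK]; group
    rw [h4]
    exact (show w * ((a * a3) * a2⁻¹) ∈ D' M₁ v x from mul_mem hw.2 (mul_mem h3 (inv_mem ha2D)))
  obtain ⟨w2, hw2, hd2⟩ : ∃ w2 ∈ E, d = a * w2 :=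
    ⟨a * d, had, by rw [← mul_assoc, ha2, one_mul]⟩
  have ha3eq : ∃ w3 ∈ E, a3 = w3 * (a * a2) := by
    refine ⟨w⁻¹ * w2, mul_mem (inv_mem hw) hw2, ?_⟩
    calc a3 = w⁻¹ * (d * a2) := by rw [hddef, inv_mul_cancel_right, hta2, inv_mul_cancel_left]
      _ = w⁻¹ * ((a * w2) * a2) := by rw [hd2]
      _ = _ := by rw [hEK w2 hw2 a haK]; group
  obtain ⟨w3, hw3, ha3eq⟩ := ha3eq
  have hcomm : a2 * a = a * a2 := by
    have h1 := ha3sq
    rw [ha3eq, ((show Commute w3 (a * a2) from ((show Commute a w3 from hEK w3 hw3 a haK).mul_left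
      (show Commute a2 w3 from hEK w3 hw3 a2 ha2K)).symm).symm).mul_mul_mul_comm, hEsq w3 hw3, one_mul] at h1
    calc a2 * a = a * (a * a2 * (a * a2)) * a2 := by
          rw [show a * (a * a2 * (a * a2)) * a2 = (a * a) * a2 * a * (a2 * a2) by group, ha2, ha2sq, one_mul, mul_one]
      _ = a * a2 := by rw [h1, mul_one]
  have ha2A : ∀ e ∈ A, e * a2 = a2 * e := by
    intro e he
    rcases hAdec e he with he' | ⟨w', hw', rfl⟩
    · exact (hEK e he' a2 ha2K).symm
    · exact ((show Commute w' a2 from (hEK w' hw' a2 ha2K).symm).mul_left (show Commute a a2 from hcomm.symm)).eq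
  -- the elements of `Q₁` centralising `a2` modulo `⟨z⟩`
  have hC : ∀ c ∈ pCoreOf 2 M₁, c * a2 * c⁻¹ * a2⁻¹ ∈ Subgroup.zpowers z → c ∈ A := by
    intro c hc hcm
    have hDE : ∀ d' ∈ D M₁ v, d' * a2 * d'⁻¹ * a2⁻¹ ∈ E := fun d' hd' =>
      ⟨by
        have h1 := mul_mem hd' (K_D N ha2K (inv_mem hd'))
        rwa [show d' * (a2 * d'⁻¹ * a2⁻¹) = d' * a2 * d'⁻¹ * a2⁻¹ by group] at h1,
      (show d' * a2 * d'⁻¹ * a2⁻¹ ∈ D' M₁ v x from mul_mem (K_D' N (D_le_K N hd') ha2D) (inv_mem ha2D))⟩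
    by_contra hcA
    by_cases hcD : c ∈ D M₁ v
    · obtain ⟨α, hα, rfl⟩ : ∃ α ∈ A, c = α * b := ⟨c * b⁻¹, hDdec c hcD hcA, by group⟩
      set w' := b * a2 * b⁻¹ * a2⁻¹ with hw'
      have hw'E : w' ∈ E := hDE b hbD
      have e1 : α * b * a2 * (α * b)⁻¹ * a2⁻¹ = w' := by
        calc _ = α * w' * (a2 * α⁻¹) * a2⁻¹ := by rw [hw']; group
          _ = α * w' * (α⁻¹ * a2) * a2⁻¹ := by
            rw [show a2 * α⁻¹ = α⁻¹ * a2 from ((show Commute α a2 from ha2A α hα).inv_left).symm.eq]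
          _ = (α * w') * α⁻¹ := by group
          _ = w' := by rw [hEK w' hw'E α (D_le_K N (hAmem.mp hα).1), mul_inv_cancel_right]
      rw [e1] at hcm
      have e2 : t * w' * t⁻¹ = w' := by
        rcases X.zpow_cases hcm with e | e <;> rw [e]
        · group
        · rw [X.z_comm t htQ, mul_inv_cancel_right]
      obtain ⟨wt, hwt, etb⟩ : ∃ wt ∈ E, t * b * t⁻¹ = wt * b := ⟨t * b * t⁻¹ * b⁻¹, hZE (by
        have := X.comm_mem htQ hbQ
        rwa [commutatorElement_def] at this), by group⟩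
      have e3 : t * w' * t⁻¹ = z * w' := by
        have h5 : t * a2 * t⁻¹ = w2 * (a * a2) := by
          calc t * a2 * t⁻¹ = d * a2 := by rw [hddef, inv_mul_cancel_right]
            _ = (a * w2) * a2 := by rw [hd2]
            _ = _ := by rw [hEK w2 hw2 a haK]; group
        have hc1 : Commute wt (b * (w2 * (a * a2)) * b⁻¹) :=
          (hEK wt hwt _ (mul_mem (mul_mem hbK (mul_mem (D_le_K N hw2.1) (mul_mem haK ha2K))) (inv_mem hbK))).symm
        calc t * w' * t⁻¹ = (t * b * t⁻¹) * (t * a2 * t⁻¹) * (t * b * t⁻¹)⁻¹ * (t * a2 * t⁻¹)⁻¹ := by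
              rw [hw']; group
          _ = wt * (b * (w2 * (a * a2)) * b⁻¹) * wt⁻¹ * (w2 * (a * a2))⁻¹ := by rw [etb, h5]; group
          _ = (b * w2) * (a * a2) * b⁻¹ * (w2 * (a * a2))⁻¹ := by rw [hc1.eq]; group
          _ = (w2 * ((b * a * b⁻¹ * a⁻¹) * (a * w') * a⁻¹)) * w2⁻¹ := by rw [hEK w2 hw2 b hbK, hw']; group
          _ = (w2 * (z * w')) * w2⁻¹ := by
            rw [show b * a * b⁻¹ * a⁻¹ = z by
              rw [(X.move hbQ haQ).resolve_left hba]; group,
              hEK w' hw'E a haK]; group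
          _ = z * w' := by
            rw [(show Commute w2 (z * w') from hEK _ (mul_mem hzE hw'E) w2 (D_le_K N hw2.1)).eq,
              mul_inv_cancel_right]
      exact N.z_ne (mul_eq_right.mp (e3.symm.trans e2))
    · have hd' : c * t⁻¹ ∈ D M₁ v := by
        refine mem_D.mpr ⟨mul_mem hc (inv_mem htQ), ?_⟩
        have e1 := (X.move hc (vQ N)).resolve_left fun e => hcD (mem_D.mpr ⟨hc, e⟩)
        have e2 : t⁻¹ * v = z * v * t⁻¹ := by
          calc t⁻¹ * v = t⁻¹ * v * t * t⁻¹ := by group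
            _ = _ := by rw [htv2]
        calc c * t⁻¹ * v = c * (z * v * t⁻¹) := by rw [mul_assoc, e2]
          _ = (c * z) * v * t⁻¹ := by group
          _ = z * (c * v) * t⁻¹ := by rw [X.z_comm c hc]; group
          _ = (z * z) * (v * c) * t⁻¹ := by rw [e1]; group
          _ = v * (c * t⁻¹) := by rw [X.z_sq]; group
      set d' := c * t⁻¹
      refine haE ?_
      have e1 : c * a2 * c⁻¹ * a2⁻¹ = (d' * a * d'⁻¹) * (d' * w2 * d'⁻¹) * (d' * a2 * d'⁻¹ * a2⁻¹) := by
        calc _ = d' * (d * a2) * d'⁻¹ * a2⁻¹ := by rw [hddef]; simp only [d']; group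
          _ = _ := by rw [hd2]; group
      have e2 : d' * a * d'⁻¹ * a⁻¹ ∈ E := hZE (by
        have := X.comm_mem (mem_D.mp hd').1 haQ
        rwa [commutatorElement_def] at this)
      have e3 := hEK w2 hw2 d' (D_le_K N hd')
      rw [e3, mul_inv_cancel_right] at e1
      rw [e1] at hcm
      have h6 := mul_mem (hZE hcm) (inv_mem (mul_mem hw2 (hDE d' hd')))
      rw [show d' * a * d'⁻¹ * w2 * (d' * a2 * d'⁻¹ * a2⁻¹) * (w2 * (d' * a2 * d'⁻¹ * a2⁻¹))⁻¹ = d' * a * d'⁻¹ by
        group] at h6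
      have := mul_mem (inv_mem e2) h6
      rwa [show (d' * a * d'⁻¹ * a⁻¹)⁻¹ * (d' * a * d'⁻¹) = a by group] at this
  -- `f` fixes `a2` modulo `Q₁`
  obtain ⟨q, hq, n, hn, hnn, ea2⟩ := N.ov.lift a2 ha2S
  have hnf : n * f * n⁻¹ = f := by
    have hf' : n * f * n⁻¹ ∈ F := (Subgroup.mem_normalizer_iff.mp hnn f).mp hf
    refine N.toMData.orbit_inj hf' hf ?_
    have e1 : n * a * n⁻¹ = q⁻¹ * a * q := by
      calc n * a * n⁻¹ = q⁻¹ * (a2 * a * a2⁻¹) * q := by rw [ea2]; group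
        _ = _ := by rw [hcomm, mul_inv_cancel_right]
    have e2 : n * a * n⁻¹ = (n * f * n⁻¹) * (n * v * n⁻¹) * (n * f * n⁻¹)⁻¹ := by rw [hadef]; group
    have e3 : q⁻¹ * a * q = a ∨ q⁻¹ * a * q = z * a := by
      rcases X.move (inv_mem hq) haQ with e | e <;> rw [e]
      · left; group
      · right; group
    have hzf := N.toMData.conj_z (N.ov.F_le hf')
    rw [← hadef]
    generalize n * f * n⁻¹ = f' at e2 hzf ⊢
    rcases N.sv n hn with e4 | e4 <;> rw [e4] at e2
    · rcases e3 with e | e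
      · exact Or.inl (e2.symm.trans (e1.trans e))
      · exact Or.inr (e2.symm.trans (e1.trans e))
    · have e5 : n * a * n⁻¹ = z * (f' * v * f'⁻¹) := by
        rw [e2, show f' * (z * v) * f'⁻¹ = (f' * z * f'⁻¹) * (f' * v * f'⁻¹) by group, hzf]
      rcases e3 with e | e
      · right
        rw [← e, ← e1, e5, ← mul_assoc, X.z_sq, one_mul]
      · left
        exact mul_left_cancel (e5.symm.trans (e1.trans e))
  have hq' : f * q * f⁻¹ * q⁻¹ ∈ pCoreOf 2 M₁ := mul_mem (N.toMData.conj_mem_Q hfM hq) (inv_mem hq)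
  set q' := f * q * f⁻¹ * q⁻¹ with hq'def
  have hfa2 : f * a2 * f⁻¹ = q' * a2 := by
    have hc1 : n * f = f * n := mul_inv_eq_iff_eq_mul.mp hnf
    calc f * a2 * f⁻¹ = f * q * (n * f⁻¹) := by rw [ea2]; group
      _ = f * q * (f⁻¹ * n) := by
        rw [(show Commute n f from hc1).inv_right.eq]
      _ = q' * a2 := by rw [hq'def, ea2]; group
  have hfA : f ∈ Subgroup.normalizer (A : Set G) := Subgroup.mem_normalizer_fintype fun e he => by
    have hc := N.toMData.conj_mem_Q hfM (hAQ he)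
    refine hC _ hc ?_
    set c := f * e * f⁻¹
    have e1 : c * (q' * a2) * c⁻¹ * (q' * a2)⁻¹ = 1 := by
      rw [← hfa2, show c * (f * a2 * f⁻¹) * c⁻¹ * (f * a2 * f⁻¹)⁻¹ = f * ((e * a2) * e⁻¹ * a2⁻¹) * f⁻¹ by
        simp only [c]; group, ha2A e he]
      group
    have hk := X.comm_mem hc hq'
    rw [commutatorElement_def] at hk
    have e2 : c * a2 * c⁻¹ * a2⁻¹ = q'⁻¹ * (c * q' * c⁻¹ * q'⁻¹)⁻¹ * q' := by
      calc c * a2 * c⁻¹ * a2⁻¹ = q'⁻¹ * ((c * q' * c⁻¹ * q'⁻¹)⁻¹ * (c * (q' * a2) * c⁻¹ * (q' * a2)⁻¹)) * q' := by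
            group
        _ = _ := by rw [e1, mul_one]
    rw [e2]
    rcases X.zpow_cases (inv_mem hk) with e3 | e3 <;> rw [e3]
    · simp
    · rw [X.z_comm _ (inv_mem hq'), inv_mul_cancel_right]; exact Subgroup.mem_zpowers z
  have hq'A : q' ∈ A := X.cent_eight hAQ hAc hA8 hq' fun e he => by
    obtain ⟨e', he', rfl⟩ : ∃ e' ∈ A, f * e' * f⁻¹ = e :=
      ⟨f⁻¹ * e * f, by simpa using (Subgroup.mem_normalizer_iff.mp (inv_mem hfA) e).mp he, by group⟩
    have h1 : Commute (f * e' * f⁻¹) (q' * a2) := by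
      rw [← hfa2]
      show f * e' * f⁻¹ * (f * a2 * f⁻¹) = f * a2 * f⁻¹ * (f * e' * f⁻¹)
      rw [show f * e' * f⁻¹ * (f * a2 * f⁻¹) = f * (e' * a2) * f⁻¹ by group, ha2A e' he']; group
    have h2 : Commute (f * e' * f⁻¹) a2 := ha2A _ he
    simpa using (h1.mul_right h2.inv_right).eq.symm
  -- the subgroup `Y`
  set Xs : Set G := (A : Set G) ∪ {a2}
  set Y := Subgroup.closure Xs with hY
  have haY : ∀ e ∈ A, e ∈ Y := fun e he => Subgroup.subset_closure (Or.inl he)
  have ha2Y : a2 ∈ Y := Subgroup.subset_closure (Or.inr rfl)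
  have hYc := comm_closure (X := Xs) (by
    rintro p (hp | rfl) q'' (hq'' | rfl)
    · exact hAc p hp q'' hq''
    · exact ha2A p hp
    · exact (ha2A q'' hq'').symm
    · rfl)
  have hYdec : ∀ y ∈ Y, ∃ α ∈ A, y = α ∨ y = α * a2 := by
    intro y hy
    induction hy using Subgroup.closure_induction with
    | mem c hc =>
      rcases hc with hc | rfl
      · exact ⟨c, hc, Or.inl rfl⟩
      · exact ⟨1, one_mem _, Or.inr (one_mul _).symm⟩
    | one => exact ⟨1, one_mem _, Or.inl rfl⟩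
    | mul p q'' _ _ ihp ihq =>
      obtain ⟨α, hα, hp⟩ := ihp
      obtain ⟨β, hβ, hq''⟩ := ihq
      refine ⟨α * β, mul_mem hα hβ, ?_⟩
      rcases hp with rfl | rfl <;> rcases hq'' with rfl | rfl
      · exact Or.inl rfl
      · exact Or.inr (mul_assoc _ _ _).symm
      · exact Or.inr (by rw [mul_assoc, ← ha2A _ hβ, ← mul_assoc])
      · refine Or.inl ?_
        rw [show α * a2 * (β * a2) = α * (a2 * β) * a2 by group, ← ha2A β hβ,
          show α * (β * a2) * a2 = α * β * (a2 * a2) by group, ha2sq, mul_one]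
    | inv p _ ihp =>
      obtain ⟨α, hα, hp⟩ := ihp
      refine ⟨α⁻¹, inv_mem hα, ?_⟩
      rcases hp with rfl | rfl
      · exact Or.inl rfl
      · exact Or.inr (by rw [mul_inv_rev, ha2inv, ha2A _ (inv_mem hα)])
  have hY2 : IsPGroup 2 ↥Y := fun ⟨y, hy⟩ => ⟨1, Subtype.ext (by
    show y ^ 2 ^ 1 = 1
    rw [pow_one, pow_two]
    obtain ⟨α, hα, e | e⟩ := hYdec y hy <;> rw [e]
    · exact hAsq α hα
    · rw [(show Commute α a2 from ha2A α hα).symm.mul_mul_mul_comm, hAsq α hα, ha2sq, one_mul])⟩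
  have hxY : x ∈ Subgroup.normalizer (Y : Set G) := mem_normalizer_closure (X := Xs) fun c hc => by
    rcases hc with hc | rfl
    · rcases hAdec c hc with h' | ⟨w', hw', rfl⟩
      · exact haY _ (hEA (hEnx c h').1)
      · rw [show x * (w' * a) * x⁻¹ = (x * w' * x⁻¹) * a2 by rw [ha2def]; group]
        exact mul_mem (haY _ (hEA (hEnx _ hw').1)) ha2Y
    · rw [hxa2, ha3eq]
      exact mul_mem (haY _ (hEA hw3)) (mul_mem (haY _ haA) ha2Y)
  have hfY : f ∈ Subgroup.normalizer (Y : Set G) := mem_normalizer_closure (X := Xs) fun c hc => by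
    rcases hc with hc | rfl
    · exact haY _ ((Subgroup.mem_normalizer_iff.mp hfA c).mp hc)
    · rw [hfa2]; exact mul_mem (haY _ hq'A) ha2Y
  have hQY : pCoreOf 2 M₁ ≤ Subgroup.normalizer (Y : Set G) := by
    have hQA := X.norm hAQ (hEA hzE)
    have hDY : ∀ d' ∈ D M₁ v, d' ∈ Subgroup.normalizer (Y : Set G) := fun d' hd' =>
      mem_normalizer_closure (X := Xs) fun c hc => by
        rcases hc with hc | rfl
        · exact haY _ ((Subgroup.mem_normalizer_iff.mp (hQA (mem_D.mp hd').1) c).mp hc)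
        · have h1 : d' * a2 * d'⁻¹ * a2⁻¹ ∈ E :=
            ⟨by
              have h1 := mul_mem hd' (K_D N ha2K (inv_mem hd'))
              rwa [show d' * (a2 * d'⁻¹ * a2⁻¹) = d' * a2 * d'⁻¹ * a2⁻¹ by group] at h1,
            (show d' * a2 * d'⁻¹ * a2⁻¹ ∈ D' M₁ v x from mul_mem (K_D' N (D_le_K N hd') ha2D) (inv_mem ha2D))⟩
          have := mul_mem (haY _ (hEA h1)) ha2Y
          rwa [inv_mul_cancel_right] at this
    have htY : t ∈ Subgroup.normalizer (Y : Set G) := mem_normalizer_closure (X := Xs) fun c hc => by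
      rcases hc with hc | rfl
      · exact haY _ ((Subgroup.mem_normalizer_iff.mp (hQA htQ) c).mp hc)
      · have := mul_mem (haY _ (mul_mem haA (hEA hw2))) ha2Y
        rw [← hd2, hddef, inv_mul_cancel_right] at this
        exact this
    intro c hc
    by_cases hcD : c ∈ D M₁ v
    · exact hDY c hcD
    · have hd' : c * t⁻¹ ∈ D M₁ v := by
        refine mem_D.mpr ⟨mul_mem hc (inv_mem htQ), ?_⟩
        have e1 := (X.move hc (vQ N)).resolve_left fun e => hcD (mem_D.mpr ⟨hc, e⟩)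
        have e2 : t⁻¹ * v = z * v * t⁻¹ := by
          calc t⁻¹ * v = t⁻¹ * v * t * t⁻¹ := by group
            _ = _ := by rw [htv2]
        calc c * t⁻¹ * v = c * (z * v * t⁻¹) := by rw [mul_assoc, e2]
          _ = (c * z) * v * t⁻¹ := by group
          _ = z * (c * v) * t⁻¹ := by rw [X.z_comm c hc]; group
          _ = (z * z) * (v * c) * t⁻¹ := by rw [e1]; group
          _ = v * (c * t⁻¹) := by rw [X.z_sq]; group
      simpa using mul_mem (hDY _ hd') htY
  have hYne : Y ≠ ⊥ := fun e => N.z_ne (Subgroup.mem_bot.mp (e ▸ haY z (hEA hzE)))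
  have hL := h.good_normalizer hY2 hYne
  set L := Subgroup.normalizer (Y : Set G) with hLdef
  have hYO : Y ≤ pCoreOf 2 L := le_core hY2 Subgroup.le_normalizer le_rfl
  have hfo := N.ov.odd_order hf
  have hcom : ∀ c ∈ pCoreOf 2 M₁, ⁅c, f⁆ ∈ pCoreOf 2 L := fun c hc =>
    hL.commutator_mem h.sect (core_two M₁) hQY hc hfY hfo (N.toMData.conj_mem_Q hfM (inv_mem hc))
  have hkey : ∀ y ∈ Y, (∀ c ∈ pCoreOf 2 M₁, ⁅c, f⁆ * y = y * ⁅c, f⁆) → y ∈ Subgroup.zpowers z := by
    intro y hy hcy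
    obtain ⟨α, hα, rfl | rfl⟩ := hYdec y hy
    · set β := f⁻¹ * y * f with hβ
      have hβA : β ∈ A := by simpa [hβ] using (Subgroup.mem_normalizer_iff.mp (inv_mem hfA) y).mp hα
      have hmem : y * β ∈ Subgroup.zpowers z := X.center _ (hAQ (mul_mem hα hβA)) fun c hc => by
        have hr := N.toMData.conj_mem_Q hfM hc
        have h0 : Commute (c * (f * c * f⁻¹)⁻¹) y := by
          have := hcy c hc
          rwa [show ⁅c, f⁆ = c * (f * c * f⁻¹)⁻¹ by simp only [commutatorElement_def]; group] at this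
        have hiff : c * y = y * c ↔ c * β = β * c := by
          constructor
          · intro e
            have h1 : Commute (f * c * f⁻¹) y := by
              have := (h0.inv_left.mul_left (show Commute c y from e))
              simpa using this
            have := congrArg (fun r => f⁻¹ * r * f) h1.eq
            simpa [hβ, mul_assoc] using this
          · intro e
            have h1 : Commute (f * c * f⁻¹) y := by
              show f * c * f⁻¹ * y = y * (f * c * f⁻¹)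
              calc f * c * f⁻¹ * y = f * (c * β) * f⁻¹ := by rw [hβ]; group
                _ = f * (β * c) * f⁻¹ := by rw [e]
                _ = y * (f * c * f⁻¹) := by rw [hβ]; group
            have := (h0.mul_left h1).eq
            rwa [inv_mul_cancel_right] at this
        by_cases e : c * y = y * c
        · exact ((show Commute c y from e).mul_right (show Commute c β from hiff.mp e)).eq
        · have e1 := (X.move hc (hAQ hα)).resolve_left e
          have e2 := (X.move hc (hAQ hβA)).resolve_left fun h' => e (hiff.mpr h')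
          calc c * (y * β) = (c * y) * β := by group
            _ = z * y * (c * β) := by rw [e1]; group
            _ = z * (y * z) * (β * c) := by rw [e2]; group
            _ = (z * z) * (y * β * c) := by rw [X.z_comm y (hAQ hα)]; group
            _ = y * β * c := by rw [X.z_sq, one_mul]
      have hcong : β * y⁻¹ ∈ Subgroup.zpowers z := by
        rwa [inv_eq_of_mul_eq_one_right (hAsq y hα), hAc β hβA y hα]
      rcases hAdec y hα with hyE | ⟨w', hw', hyw⟩
      · rcases hW y hyE.1 hyE.2 with e | e | e | e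
        · rw [e]; exact one_mem _
        · rw [e]; exact Subgroup.mem_zpowers z
        all_goals
          exfalso
          rcases X.zpow_cases hcong with e' | e'
          all_goals
            rw [mul_inv_eq_iff_eq_mul, hβ, e] at e'
            apply hf1
            apply inv_eq_one.mp
            refine N.toMData.eq_one_of_fix (M₁.inv_mem hfM) (by rw [orderOf_inv]; exact hfo) ?_
            rw [inv_inv]
        · left; simpa using e'
        · right; exact e'
        · left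
          have hzz : f⁻¹ * z * f = z := by simpa using N.toMData.conj_z (M₁.inv_mem hfM)
          rw [show f⁻¹ * (z * v) * f = (f⁻¹ * z * f) * (f⁻¹ * v * f) by group, hzz, one_mul] at e'
          exact mul_left_cancel e'
        · right
          have hzz : f⁻¹ * z * f = z := by simpa using N.toMData.conj_z (M₁.inv_mem hfM)
          rw [show f⁻¹ * (z * v) * f = (f⁻¹ * z * f) * (f⁻¹ * v * f) by group, hzz] at e'
          exact mul_left_cancel e'
      · exfalso
        have hzf : ∀ u ∈ Subgroup.zpowers z, f⁻¹ * u * f = u := fun u hu => by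
          rcases X.zpow_cases hu with e | e <;> rw [e]
          · group
          · simpa using N.toMData.conj_z (M₁.inv_mem hfM)
        have hfa : f⁻¹ * a * f = v := by rw [hadef]; group
        rcases hW w' hw'.1 hw'.2 with e | e | e | e
        · -- `y = a`
          refine haE ?_
          have h5 : β * y⁻¹ = v * a⁻¹ := by rw [hβ, hyw, e, one_mul, hfa]
          rw [h5] at hcong
          have := mul_mem (inv_mem (hZE hcong)) hvE
          rwa [show (v * a⁻¹)⁻¹ * v = a by group] at this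
        · refine haE ?_
          have h5 : β * y⁻¹ = z * (v * a⁻¹) * z⁻¹ := by
            rw [hβ, hyw, e, show f⁻¹ * (z * a) * f = (f⁻¹ * z * f) * (f⁻¹ * a * f) by group,
              hzf z (Subgroup.mem_zpowers z), hfa]
            group
          rw [h5] at hcong
          have h6 : z * (v * a⁻¹) * z⁻¹ ∈ E := hZE hcong
          have := mul_mem (inv_mem (mul_mem (mul_mem (inv_mem hzE) h6) hzE)) hvE
          rwa [show (z⁻¹ * (z * (v * a⁻¹) * z⁻¹) * z)⁻¹ * v = a by group] at this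
        all_goals
          have hva : v * a = a * v := hEK v hvE a haK |>.symm
          have hkey2 : f⁻¹ * v * f * a⁻¹ ∈ Subgroup.zpowers z := by
            have h5 : β * y⁻¹ = f⁻¹ * v * f * a⁻¹ := by
              rw [hβ, hyw, e]
              first
                | rw [show f⁻¹ * (v * a) * f = (f⁻¹ * v * f) * (f⁻¹ * a * f) by group, hfa, mul_inv_rev,
                    show f⁻¹ * v * f * v * (a⁻¹ * v⁻¹) = f⁻¹ * v * f * (v * (v * a)⁻¹) by group, hva]
                  group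
                | rw [show f⁻¹ * (z * v * a) * f = (f⁻¹ * z * f) * ((f⁻¹ * v * f) * (f⁻¹ * a * f)) by group,
                    hzf z (Subgroup.mem_zpowers z), hfa, mul_assoc z v a, hva]
                  have hcz : Commute (f⁻¹ * v * f * a⁻¹) z :=
                    X.z_comm _ (mul_mem (by simpa using N.toMData.conj_mem_Q (M₁.inv_mem hfM) (vQ N)) (inv_mem haQ))
                  calc z * (f⁻¹ * v * f * v) * (z * (a * v))⁻¹ = z * (f⁻¹ * v * f * a⁻¹) * z⁻¹ := by group
                    _ = _ := by rw [← hcz.eq, mul_inv_cancel_right]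
            rwa [h5] at hcong
          refine hf1 (odd_ne N hf ?_)
          have hor := N.toMData.orbit_inj (F.inv_mem hf) hf (by
            rcases X.zpow_cases hkey2 with e' | e' <;> rw [mul_inv_eq_iff_eq_mul] at e'
            · left; rw [inv_inv, ← hadef, e', one_mul]
            · right; rw [inv_inv, ← hadef, e'])
          calc f * f = f * f⁻¹ := by rw [hor]
            _ = 1 := mul_inv_cancel f
    · exfalso
      refine hf1 (N.toMData.eq_one_of_comm hfM hfo fun c hc => ?_)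
      have hcQ : ⁅c, f⁆ ∈ pCoreOf 2 M₁ := by
        have := mul_mem hc (N.toMData.conj_mem_Q hfM (inv_mem hc))
        simpa [commutatorElement_def, mul_assoc] using this
      refine (mem_D.mp (hAmem.mp (hC _ hcQ ?_)).1).2
      set r := ⁅c, f⁆
      have h1 : r * (α * a2) * r⁻¹ * (α * a2)⁻¹ = 1 := by
        have h0 : r * (α * a2) = α * a2 * r := hcy c hc
        rw [h0, mul_inv_cancel_right, mul_inv_cancel]
      have hk := X.comm_mem hcQ (hAQ hα)
      rw [commutatorElement_def] at hk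
      have e2 : r * a2 * r⁻¹ * a2⁻¹ = α⁻¹ * (r * α * r⁻¹ * α⁻¹)⁻¹ * α := by
        calc r * a2 * r⁻¹ * a2⁻¹ = α⁻¹ * ((r * α * r⁻¹ * α⁻¹)⁻¹ * (r * (α * a2) * r⁻¹ * (α * a2)⁻¹)) * α := by group
          _ = _ := by rw [h1, mul_one]
      rw [e2]
      rcases X.zpow_cases (inv_mem hk) with e3 | e3 <;> rw [e3]
      · simp
      · rw [X.z_comm _ (inv_mem (hAQ hα)), inv_mul_cancel_right]; exact Subgroup.mem_zpowers z
  obtain ⟨y, hy, hy1, -, hyc⟩ := exists_central (core_two L) hYO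
    (fun m hm => (core_le L hm : m ∈ L)) hYne
  rcases X.zpow_cases (hkey y hy fun c hc => hyc _ (hcom c hc)) with e | e
  · exact hy1 e
  have hvc : ∀ c ∈ pCoreOf 2 L, c * v = v * c := fun c hc => by
    have hc' : x⁻¹ * c * x ∈ pCoreOf 2 L := by
      simpa using conj_mem_core (inv_mem hxY) hc
    have h1 := hyc _ hc'
    rw [e] at h1
    calc c * v = x * ((x⁻¹ * c * x) * z) * x⁻¹ := by rw [← N.xz]; group
      _ = x * (z * (x⁻¹ * c * x)) * x⁻¹ := by rw [h1]
      _ = v * c := by rw [← N.xz]; group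
  exact v_nz N (hkey v (haY v (hEA hvE)) fun c hc => hvc _ (hcom c hc))

end Five

/-- E1: `|Q₁| = 32` extraspecial with `|F| ∈ {5, 9}` is impossible. -/
theorem extraFive (h : Hard G) (N : NData (S : Subgroup G) K M₁ F z v x)
    (hQ : Nat.card ↥(pCoreOf 2 M₁) = 32) (hsq : ∀ q ∈ pCoreOf 2 M₁, q * q ∈ Subgroup.zpowers z)
    (hcen : ∀ c ∈ pCoreOf 2 M₁, (∀ q ∈ pCoreOf 2 M₁, q * c = c * q) → c ∈ Subgroup.zpowers z)
    (hF : Nat.card F = 5 ∨ Nat.card F = 9) : False := by
  have X := N.ex32 hQ hsq hcen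
  obtain ⟨t, htQ, htv⟩ := N.toMData.exists_t
  rcases Five.card_E N X with hW | h8
  · rcases hF with h5 | h9
    · exact Five.not_four_five N X h5 hW
    · exact Five.not_four_nine N h X h9 htQ htv hW
  · exact Five.not_eight N h X hF htQ htv h8

end CfsgLib.SRFour
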