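import Mathlib
import Cfsg.Agent.Lib.SRFour.ExtraFive

/-!
The centraliser of `z` with an extraspecial 2-core: odd elements and the count of singular points.

Blueprint: `blueprint/S0517.md`, addendum "Parcel Extra".
-/

set_option autoImplicit false
set_option linter.unusedSectionVars false
set_option linter.style.haveILetI false

namespace CfsgLib.SRFour

open Cfsg
open scoped commutatorElement

universe u

variable {G : Type u} [Group G]

/-- An element of odd order fixing a shift of `2`-power order fixes the shifted element. -/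
theorem eq_one_of_shift_odd {y a c : G} (hy : Odd (orderOf y)) {k : ℕ} (hc : c ^ 2 ^ k = 1) (hyc : y * c = c * y)
    (h : y * a * y⁻¹ = a * c) : c = 1 := by
  have hpow : ∀ n : ℕ, y ^ n * a * (y ^ n)⁻¹ = a * c ^ n := by
    intro n
    induction n with
    | zero => simp
    | succ n ih =>
      have hcn : y * c ^ n * y⁻¹ = c ^ n := by
        rw [(Commute.pow_right (hyc : Commute y c) n).eq, mul_inv_cancel_right]
      calc y ^ (n + 1) * a * (y ^ (n + 1))⁻¹ = y * (y ^ n * a * (y ^ n)⁻¹) * y⁻¹ := by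
            rw [pow_succ']; group
        _ = (y * a * y⁻¹) * (y * c ^ n * y⁻¹) := by rw [ih]; group
        _ = a * c ^ (n + 1) := by rw [h, hcn, mul_assoc, ← pow_succ']
  have h1 := hpow (orderOf y)
  rw [pow_orderOf_eq_one, one_mul, inv_one, mul_one, left_eq_mul] at h1
  exact orderOf_eq_one_iff.mp (Nat.eq_one_of_dvd_coprimes ((Nat.coprime_two_right.mpr hy).pow_right k)
    (orderOf_dvd_of_pow_eq_one h1) (orderOf_dvd_of_pow_eq_one hc))

variable [Finite G] {S : Sylow 2 G} {K M₁ F : Subgroup G} {z v x : G}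

namespace Fpf

open Five

variable (N : NData (S : Subgroup G) K M₁ F z v x)
include N

/-- `C(z)`. -/
theorem good_cent (h : Hard G) : Good (Subgroup.centralizer ({z} : Set G)) := by
  refine h.good_of_sylow (P := Subgroup.zpowers z)
    (IsPGroup.of_card (n := 1) (by rw [card_zpowers_two N.z_mem.2.1 N.z_ne, pow_one]))
    (by simpa using N.z_ne) S (fun s hs => Subgroup.mem_centralizer_singleton_iff.mpr (N.z_mem.2.2 s hs))
    (fun m hm => Subgroup.mem_normalizer_fintype fun a ha => ?_)
  rcases mem_two N.z_mem.2.1 ha with rfl | rfl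
  · simp
  · rw [Subgroup.mem_centralizer_singleton_iff.mp hm, mul_inv_cancel_right]; exact Subgroup.mem_zpowers _

theorem M_le_L : M₁ ≤ Subgroup.centralizer ({z} : Set G) := fun _ hm =>
  Subgroup.mem_centralizer_singleton_iff.mpr (N.toMData.comm_z hm)

theorem S_le_L : (S : Subgroup G) ≤ Subgroup.centralizer ({z} : Set G) :=
  N.toMData.S_le.trans (M_le_L N)

/-- An odd element of `C(z)` normalising `E` is trivial. -/
theorem normE_of (h : Hard G) (X : Ex32 (pCoreOf 2 M₁) z)
    (hO : pCoreOf 2 (Subgroup.centralizer ({z} : Set G)) = pCoreOf 2 M₁)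
    (hvfix : ∀ y ∈ Subgroup.centralizer ({z} : Set G), Odd (orderOf y) →
      (y * v * y⁻¹ = v ∨ y * v * y⁻¹ = z * v) → y = 1) {E : Subgroup G} (hE2 : IsPGroup 2 ↥E) (hne : E ≠ ⊥)
    (hSE : (S : Subgroup G) ≤ Subgroup.normalizer (E : Set G)) (hxE : x ∈ Subgroup.normalizer (E : Set G))
    {y : G} (hy : y ∈ Subgroup.centralizer ({z} : Set G)) (hyo : Odd (orderOf y))
    (hyE : y ∈ Subgroup.normalizer (E : Set G)) : y = 1 := by
  have hyQ : ∀ q ∈ pCoreOf 2 M₁, y * q * y⁻¹ ∈ pCoreOf 2 M₁ := fun q hq => by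
    rw [← hO] at hq ⊢; exact conj_mem_core hy hq
  have hL := h.good_normalizer hE2 hne
  have hcv : ∀ q ∈ pCoreOf 2 M₁, ⁅q, y⁆ * v = v * ⁅q, y⁆ := by
    intro q hq
    have hm := hL.commutator_mem h.sect (core_two M₁) (N.toMData.Q_le_S.trans hSE) hq hyE hyo
      (hyQ _ (inv_mem hq))
    set a := ⁅q, y⁆
    have h1 := core_le_conj S hSE (Subgroup.inv_mem _ hxE) hm
    rw [inv_inv] at h1
    have h2 := N.z_mem.2.2 _ h1
    calc a * v = x * (x⁻¹ * a * x * z) * x⁻¹ := by rw [← N.xz]; group
      _ = x * (z * (x⁻¹ * a * x)) * x⁻¹ := by rw [h2]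
      _ = v * a := by rw [← N.xz]; group
  refine hvfix y hy hyo ?_
  set v' := y * v * y⁻¹ with hv'
  have hv'Q : v' ∈ pCoreOf 2 M₁ := hyQ v (vQ N)
  have hiff : ∀ r ∈ pCoreOf 2 M₁, (r * v = v * r ↔ r * v' = v' * r) := by
    intro r hr
    set q := y⁻¹ * r * y with hq
    have hqQ : q ∈ pCoreOf 2 M₁ := by
      have := conj_mem_core (inv_mem hy) (hO.symm ▸ hr)
      rwa [hO, inv_inv] at this
    have hk : Commute (q * r⁻¹) v := by
      have := hcv q hqQ
      rwa [show ⁅q, y⁆ = q * r⁻¹ by simp only [hq, commutatorElement_def]; group] at this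
    constructor
    · intro e
      have h1 : Commute q v := by simpa using hk.mul_left (show Commute r v from e)
      calc r * v' = y * (q * v) * y⁻¹ := by rw [hq, hv']; group
        _ = y * (v * q) * y⁻¹ := by rw [h1.eq]
        _ = v' * r := by rw [hq, hv']; group
    · intro e
      have h1 : Commute q v := by
        show q * v = v * q
        calc q * v = y⁻¹ * (r * v') * y := by rw [hq, hv']; group
          _ = y⁻¹ * (v' * r) * y := by rw [e]
          _ = v * q := by rw [hq, hv']; group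
      simpa using (h1.inv_left.mul_left hk).inv_left.eq
  have hc : v * v' ∈ Subgroup.zpowers z := X.center _ (mul_mem (vQ N) hv'Q) fun r hr => by
    by_cases e : r * v = v * r
    · exact ((show Commute r v from e).mul_right (show Commute r v' from (hiff r hr).mp e)).eq
    · have e1 := (X.move hr (vQ N)).resolve_left e
      have e2 := (X.move hr hv'Q).resolve_left fun h' => e ((hiff r hr).mpr h')
      calc r * (v * v') = (r * v) * v' := by group
        _ = z * v * (r * v') := by rw [e1]; group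
        _ = z * (v * z) * (v' * r) := by rw [e2]; group
        _ = (z * z) * (v * v' * r) := by rw [← N.toMData.zv]; group
        _ = v * v' * r := by rw [X.z_sq, one_mul]
  have hvv : v * (v * v') = v' := by rw [← mul_assoc, N.v_sq, one_mul]
  rcases X.zpow_cases hc with e | e
  · left; rw [← hvv, e, mul_one]
  · right; rw [← hvv, e, N.toMData.zv]

/-- The odd part of `C(z)/Q₁` has order three. -/
theorem oddPre_three_of (h : Hard G) (X : Ex32 (pCoreOf 2 M₁) z)
    (hO : pCoreOf 2 (Subgroup.centralizer ({z} : Set G)) = pCoreOf 2 M₁)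
    (hvfix : ∀ y ∈ Subgroup.centralizer ({z} : Set G), Odd (orderOf y) →
      (y * v * y⁻¹ = v ∨ y * v * y⁻¹ = z * v) → y = 1)
    {E : Subgroup G} (hEQ : E ≤ pCoreOf 2 M₁) (hE8 : Nat.card E = 8) (hEsq : ∀ a ∈ E, a * a = 1) (hzE : z ∈ E)
    (hvE : v ∈ E) (hSE : (S : Subgroup G) ≤ Subgroup.normalizer (E : Set G))
    (hxE : x ∈ Subgroup.normalizer (E : Set G)) {N0 : Subgroup G} (hON : pCoreOf 2 M₁ ≤ N0)
    (hNL : N0 ≤ Subgroup.centralizer ({z} : Set G))
    (hd : (pCoreOf 2 M₁).relIndex N0 ∣ 45) (h3 : 3 ∣ (pCoreOf 2 M₁).relIndex N0) :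
    (pCoreOf 2 M₁).relIndex N0 = 3 := by
  classical
  haveI := Fintype.ofFinite G
  set Q := pCoreOf 2 M₁ with hQ
  have hn : N0 ≤ Subgroup.normalizer (Q : Set G) := hO ▸ hNL.trans (le_normalizer_core _)
  haveI : (Q.subgroupOf N0).Normal := Subgroup.normal_subgroupOf_of_le_normalizer hn
  have hodd : Odd ((Q.subgroupOf N0).index) := Odd.of_dvd_nat (by decide : Odd 45) hd
  obtain ⟨R', hR'⟩ := Subgroup.exists_right_complement'_of_coprime (N := Q.subgroupOf N0) (by
    rw [Nat.card_congr (Subgroup.subgroupOfEquivOfLe hON).toEquiv, X.card, show (32 : ℕ) = 2 ^ 5 by norm_num]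
    exact (Nat.coprime_two_left.mpr hodd).pow_left 5)
  have hcard : Nat.card R' = Q.relIndex N0 := hR'.symm.index_eq_card.symm
  set R := R'.map N0.subtype
  have hRc : Nat.card R = Q.relIndex N0 := by
    rw [← hcard, Nat.card_congr (R'.equivMapOfInjective _ N0.subtype_injective).toEquiv]
  have hRodd : ∀ r ∈ R, Odd (orderOf r) := fun r hr =>
    Odd.of_dvd_nat (hRc ▸ hodd : Odd (Nat.card R)) (Subgroup.orderOf_dvd_natCard R hr)
  have hRL : R ≤ Subgroup.centralizer ({z} : Set G) := (Subgroup.map_subtype_le R').trans hNL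
  set T : Finset G := Finset.univ.filter fun q => q ∈ Q ∧ q * q = 1 with hT
  have hT' : ∀ q, q ∈ T ↔ q ∈ Q ∧ q * q = 1 := fun q => by simp [T]
  have h20 := X.count hEQ hE8 hEsq T hT'
  let T' := T.filter fun a => a ∉ Subgroup.zpowers z
  have c18 : T'.card = 18 := by
    have h1 := Finset.card_filter_add_card_filter_not (s := T) (fun a => a ∈ Subgroup.zpowers z)
    rw [show (T.filter fun a => a ∈ Subgroup.zpowers z) = {1, z} by
      ext a
      simp only [Finset.mem_filter, hT', Finset.mem_insert, Finset.mem_singleton]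
      constructor
      · exact fun h => X.zpow_cases h.2
      · rintro (rfl | rfl)
        · simp
        · exact ⟨⟨X.z_mem, X.z_sq⟩, Subgroup.mem_zpowers _⟩,
      Finset.card_insert_of_notMem (by simp [Ne.symm X.z_ne]), Finset.card_singleton, h20] at h1
    show (T.filter fun a => a ∉ Subgroup.zpowers z).card = 18
    omega
  have hzr : ∀ r ∈ R, r * z * r⁻¹ = z := fun r hr => by
    rw [Subgroup.mem_centralizer_singleton_iff.mp (hRL hr), mul_inv_cancel_right]
  have hvr : ∀ r ∈ R, r * v * r⁻¹ ∈ Q := fun r hr => by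
    have := conj_mem_core (hRL hr) (show v ∈ pCoreOf 2 (Subgroup.centralizer ({z} : Set G)) by rw [hO]; exact vQ N)
    rwa [hO] at this
  let φ : ↥R × ↥(Subgroup.zpowers z) → {a // a ∈ T'} := fun p => ⟨p.2 * ((p.1 : G) * v * (p.1 : G)⁻¹), by
    refine Finset.mem_filter.mpr ⟨(hT' _).mpr ⟨mul_mem (Subgroup.zpowers_le.mpr X.z_mem p.2.2) (hvr _ p.1.2), ?_⟩,
      fun e => v_nz N ?_⟩
    · have hb : (p.1 : G) * v * (p.1 : G)⁻¹ * ((p.1 : G) * v * (p.1 : G)⁻¹) = 1 := by
        rw [show (p.1 : G) * v * (p.1 : G)⁻¹ * ((p.1 : G) * v * (p.1 : G)⁻¹) = p.1 * (v * v) * (p.1 : G)⁻¹ by group,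
          N.v_sq]
        group
      rcases X.zpow_cases p.2.2 with e | e <;> rw [e]
      · rw [one_mul, hb]
      · have hc := X.z_comm _ (hvr _ p.1.2)
        generalize (p.1 : G) * v * (p.1 : G)⁻¹ = B at hb hc ⊢
        rw [mul_assoc z, ← mul_assoc B z, hc, mul_assoc z B B, hb, mul_one, X.z_sq]
    · have h1 : (p.1 : G) * v * (p.1 : G)⁻¹ ∈ Subgroup.zpowers z := by simpa using mul_mem (inv_mem p.2.2) e
      rcases X.zpow_cases h1 with e1 | e1
      · rw [conj_eq_one_iff.mp e1]; exact one_mem _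
      · rw [mul_left_cancel (mul_right_cancel (e1.trans (hzr _ p.1.2).symm))]; exact Subgroup.mem_zpowers z⟩
  have hφ : Function.Injective φ := by
    rintro ⟨b, w⟩ ⟨b', w'⟩ e
    have e' : (w : G) * ((b : G) * v * (b : G)⁻¹) = w' * ((b' : G) * v * (b' : G)⁻¹) := congrArg Subtype.val e
    have hbb : b = b' := by
      have hm : (b' : G)⁻¹ * b ∈ R := mul_mem (inv_mem b'.2) b.2
      refine Subtype.ext (inv_mul_eq_one.mp (hvfix _ (hRL hm) (hRodd _ hm) ?_)).symm
      have e1 : (b : G) * v * (b : G)⁻¹ = ((w : G)⁻¹ * w') * ((b' : G) * v * (b' : G)⁻¹) := by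
        rw [eq_inv_mul_of_mul_eq e', ← mul_assoc]
      have e2 : (b' : G)⁻¹ * b * v * ((b' : G)⁻¹ * b)⁻¹ = ((b' : G)⁻¹ * ((w : G)⁻¹ * w') * b') * v := by
        rw [show (b' : G)⁻¹ * b * v * ((b' : G)⁻¹ * b)⁻¹ = (b' : G)⁻¹ * ((b : G) * v * (b : G)⁻¹) * b' by group, e1]
        group
      rw [e2]
      rcases X.zpow_cases (mul_mem (inv_mem w.2) w'.2) with e3 | e3 <;> rw [e3]
      · left; group
      · right
        have := hzr _ (inv_mem b'.2)
        rw [inv_inv] at this
        rw [this]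
    subst hbb
    exact Prod.ext rfl (Subtype.ext (mul_right_cancel e'))
  have hle := Nat.card_le_card_of_injective φ hφ
  rw [Nat.card_prod, card_zpowers_two X.z_sq X.z_ne, Nat.card_eq_fintype_card (α := {a // a ∈ T'}),
    Fintype.card_coe, c18, hRc] at hle
  have h9 : Q.relIndex N0 ≠ 9 := by
    intro h9
    have hbij : Function.Bijective φ := (Nat.bijective_iff_injective_and_card φ).mpr ⟨hφ, by
      rw [Nat.card_prod, hRc, h9, card_zpowers_two X.z_sq X.z_ne, Nat.card_eq_fintype_card, Fintype.card_coe, c18]⟩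
    have hE2 : IsPGroup 2 ↥E := (core_two M₁).to_le hEQ
    have hne : E ≠ ⊥ := fun e => by rw [e, Subgroup.card_bot] at hE8; omega
    have hfix : ∀ b ∈ R, b ∈ Subgroup.normalizer (E : Set G) → b = 1 := fun b hb hbE =>
      normE_of N h X hO hvfix hE2 hne hSE hxE (hRL hb) (hRodd b hb) hbE
    have hlift : ∀ e ∈ E, e ∉ Subgroup.zpowers z → ∃ b ∈ R, b * v * b⁻¹ ∈ E ∧
        ∃ w ∈ Subgroup.zpowers z, e = w * (b * v * b⁻¹) := by
      intro e he hez
      obtain ⟨⟨b, w⟩, hbw⟩ := hbij.2 ⟨e, Finset.mem_filter.mpr ⟨(hT' e).mpr ⟨hEQ he, hEsq e he⟩, hez⟩⟩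
      have hbw' : (w : G) * ((b : G) * v * (b : G)⁻¹) = e := congrArg Subtype.val hbw
      refine ⟨b, b.2, ?_, w, w.2, hbw'.symm⟩
      rw [eq_inv_mul_of_mul_eq hbw']
      exact mul_mem (inv_mem (Subgroup.zpowers_le.mpr hzE w.2)) he
    obtain ⟨e, heE, heW⟩ : ∃ e ∈ E, ¬ InW z v e := by
      by_contra hh
      push Not at hh
      have h1 : (E : Set G).toFinset ⊆ {1, z, v, z * v} := fun a ha => by
        simpa [InW] using hh a (by simpa using ha)
      have h2 := (Finset.card_le_card h1).trans Finset.card_le_four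
      rw [Set.toFinset_card, ← Nat.card_eq_fintype_card] at h2
      change Nat.card E ≤ 4 at h2
      omega
    simp only [InW, not_or] at heW
    obtain ⟨n1, n2, n3, n4⟩ := heW
    have hez : e ∉ Subgroup.zpowers z := fun h' => (X.zpow_cases h').elim n1 n2
    have hvez : v * e ∉ Subgroup.zpowers z := fun h' => by
      rcases X.zpow_cases h' with h' | h'
      · exact n3 (by rw [eq_inv_of_mul_eq_one_right h', inv_eq_of_mul_eq_one_right N.v_sq])
      · refine n4 ?_
        calc e = v * (v * e) := by rw [← mul_assoc, N.v_sq, one_mul]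
          _ = z * v := by rw [h', N.toMData.zv]
    obtain ⟨b2, hb2, hb2E, w2, hw2, he2⟩ := hlift e heE hez
    obtain ⟨b3, hb3, hb3E, w3, hw3, he3⟩ := hlift (v * e) (mul_mem hvE heE) hvez
    set bs : Fin 3 → G := ![1, b2, b3] with hbs
    have hbR : ∀ i, bs i ∈ R := fun i => by fin_cases i <;> first | exact one_mem _ | assumption
    have hbE : ∀ i, bs i * v * (bs i)⁻¹ ∈ E := fun i => by
      fin_cases i
      · simpa [bs] using hvE
      · exact hb2E
      · exact hb3E
    have hinj : Function.Injective bs := by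
      have h12 : b2 ≠ 1 := fun e1 => by
        rcases X.zpow_cases hw2 with e' | e' <;> rw [e1, e'] at he2
        · exact n3 (by simpa using he2)
        · exact n4 (by simpa using he2)
      have h13 : b3 ≠ 1 := fun e1 => by
        rcases X.zpow_cases hw3 with e' | e' <;> rw [e1, e'] at he3
        · exact n1 (by simpa using he3)
        · refine n2 ?_
          simp only [one_mul, inv_one, mul_one] at he3
          rw [N.toMData.zv] at he3
          exact mul_left_cancel he3
      have h23 : b2 ≠ b3 := fun e1 => by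
        subst e1
        refine v_nz N ?_
        have e5 : v = (v * e) * e⁻¹ := by group
        rw [e5, he3, he2, show w3 * (b2 * v * b2⁻¹) * (w2 * (b2 * v * b2⁻¹))⁻¹ = w3 * w2⁻¹ by group]
        exact mul_mem hw3 (inv_mem hw2)
      intro i j hij
      fin_cases i <;> fin_cases j <;>
        simp [bs, h12, h13, h23, Ne.symm h12, Ne.symm h13, Ne.symm h23] at hij ⊢
    refine X.not_three_eight (vQ N) (v_nz N) (fun i => E.map (MulAut.conj (bs i)⁻¹).toMonoidHom) ?_ ?_ ?_ ?_ ?_ ?_
    · rintro i _ ⟨a, ha, rfl⟩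
      have := conj_mem_core (inv_mem (hRL (hbR i))) (show a ∈ pCoreOf 2 (Subgroup.centralizer ({z} : Set G)) by
        rw [hO]; exact hEQ ha)
      rwa [hO] at this
    · intro i
      rw [← Nat.card_congr (E.equivMapOfInjective _ (MulAut.conj (bs i)⁻¹).injective).toEquiv]
      exact hE8
    · rintro i _ ⟨a, ha, rfl⟩
      rw [← map_mul, hEsq a ha, map_one]
    · exact fun i => ⟨_, hbE i, by simp [mul_assoc]⟩
    · exact fun i => ⟨z, hzE, by simpa using hzr _ (inv_mem (hbR i))⟩
    · intro i j hij e'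
      refine hij (hinj ?_)
      have hn : bs i * (bs j)⁻¹ ∈ Subgroup.normalizer (E : Set G) := by
        refine Subgroup.mem_normalizer_fintype fun a ha => ?_
        obtain ⟨c, hc, hca⟩ := (show MulAut.conj (bs j)⁻¹ a ∈ E.map (MulAut.conj (bs i)⁻¹).toMonoidHom from
          e'.symm ▸ ⟨a, ha, rfl⟩)
        have hca' : (bs i)⁻¹ * c * bs i = (bs j)⁻¹ * a * bs j := by simpa using hca
        rw [show bs i * (bs j)⁻¹ * a * (bs i * (bs j)⁻¹)⁻¹ = bs i * ((bs j)⁻¹ * a * bs j) * (bs i)⁻¹ by group,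
          ← hca', show bs i * ((bs i)⁻¹ * c * bs i) * (bs i)⁻¹ = c by group]
        exact hc
      exact mul_inv_eq_one.mp (hfix _ (mul_mem (hbR i) (inv_mem (hbR j))) hn)
  generalize Q.relIndex N0 = n at hd h3 hle h9
  have : n ≤ 9 := by omega
  interval_cases n <;> first | rfl | omega | (norm_num at hd; done)

end Fpf

end CfsgLib.SRFour
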