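import Mathlib
import Cfsg.Agent.Lib.SRFour.NType

/-!
The two configurations with `|F| = 3` left by the analysis of `U`.

Blueprint: `blueprint/S0517.md`, addendum, E2 and E3.
-/

set_option autoImplicit false
set_option linter.unusedSectionVars false

namespace CfsgLib.SRFour

open Cfsg

universe u

variable {G : Type u} [Group G] {S : Sylow 2 G} {K M₁ F : Subgroup G} {z v x : G}

/-- The outcome for abelian `U`: `F` is fixed point free on the extraspecial `Q₁`. -/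
structure FpfData (N : NData (S : Subgroup G) K M₁ F z v x) : Prop where
  card_Q : Nat.card (pCoreOf 2 M₁) = 32
  sq : ∀ q ∈ pCoreOf 2 M₁, q * q ∈ Subgroup.zpowers z
  cen : ∀ q ∈ pCoreOf 2 M₁, (∀ r ∈ pCoreOf 2 M₁, r * q = q * r) → q ∈ Subgroup.zpowers z
  card_F : Nat.card F = 3
  card_core : Nat.card (pCoreOf 2 K) = 32
  card_U : Nat.card N.toMData.U = 8
  U_comm : ∀ a ∈ N.toMData.U, ∀ b ∈ N.toMData.U, a * b = b * a
  fix : ∀ f ∈ F, f ≠ 1 → ∀ q ∈ pCoreOf 2 M₁, f * q = q * f → q ∈ Subgroup.zpowers z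
  exists_E : ∃ E : Subgroup G, E ≤ pCoreOf 2 M₁ ∧ E ≤ pCoreOf 2 K ∧ Nat.card E = 8 ∧
    (∀ a ∈ E, a * a = 1) ∧ z ∈ E ∧ v ∈ E ∧ (S : Subgroup G) ≤ Subgroup.normalizer (E : Set G) ∧
    x ∈ Subgroup.normalizer (E : Set G)

/-- The outcome for nonabelian `U`: `O₂(K) = Y⟨d⟩` with `Y` homocyclic and inverted by `d`. -/
structure WreathData (N : NData (S : Subgroup G) K M₁ F z v x) (Y : Subgroup G) (c d : G) : Prop where
  card_Q : Nat.card (pCoreOf 2 M₁) = 32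
  sq : ∀ q ∈ pCoreOf 2 M₁, q * q ∈ Subgroup.zpowers z
  cen : ∀ q ∈ pCoreOf 2 M₁, (∀ r ∈ pCoreOf 2 M₁, r * q = q * r) → q ∈ Subgroup.zpowers z
  card_F : Nat.card F = 3
  card_core : Nat.card (pCoreOf 2 K) = 32
  card_U : Nat.card N.toMData.U = 16
  c_U : c ∈ N.toMData.U
  c_sq : c * c = z
  c_U_comm : ∀ a ∈ N.toMData.U, a * c = c * a
  c_F : ∀ f ∈ F, f * c = c * f
  conj_v : ∀ f ∈ F, f ≠ 1 → f * v * f⁻¹ * v ≠ v * (f * v * f⁻¹)
  Y_eq : Y = Subgroup.closure ({z, v, c, x * c * x⁻¹} : Set G)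
  card_Y : Nat.card Y = 16
  Y_comm : ∀ a ∈ Y, ∀ b ∈ Y, a * b = b * a
  Y_le : Y ≤ pCoreOf 2 K
  Y_norm : (S : Subgroup G) ≤ Subgroup.normalizer (Y : Set G)
  Y_x : x ∈ Subgroup.normalizer (Y : Set G)
  Y_fpf : ∀ a ∈ Y, x * a = a * x → a = 1
  d_Q : d ∈ pCoreOf 2 M₁
  d_core : d ∈ pCoreOf 2 K
  d_notMem : d ∉ Y
  d_inv : ∀ a ∈ Y, d * a * d⁻¹ = a⁻¹
  d_x : x * d = d * x
  d_sq : d * d = 1

end CfsgLib.SRFour
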