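import Mathlib
import Cfsg.Prelude.Def_Involutions
import Cfsg.Prelude.Def_CaseTheorems
import Cfsg.Prelude.Def_Spor_Mathieu
import Cfsg.Agent.Lib.SRFour.ExtraCommon
import Cfsg.Agent.Lib.QS3.Zero.M12

/-!
The alternating groups of degrees eight and nine and the Mathieu group of degree twelve have nonsolvable 2-locals.

Blueprint: `blueprint/S0517.md`, addendum "Parcel Extra", E2.
-/

set_option autoImplicit false
set_option linter.unusedSectionVars false
set_option linter.style.haveILetI false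

namespace CfsgLib.SRFour

open Cfsg Equiv

universe u v

/-- Elements of orders dividing `2` and `3` whose product has order dividing `n`, prime to six, generate a perfect
group. -/
theorem not_solvable_triangle {H : Type v} [Group H] {a b : H} {n : ℕ} (ha : a * a = 1) (hb : b * b * b = 1)
    (hab : (a * b) ^ n = 1) (hn : Nat.Coprime n 6) (hb1 : b ≠ 1) :
    ¬ Group.IsSolvable ↥(Subgroup.closure ({a, b} : Set H)) := by
  set A := Subgroup.closure ({a, b} : Set H)
  intro h
  haveI := h
  haveI : Nontrivial ↥A := ⟨⟨b, Subgroup.subset_closure (Or.inr rfl)⟩, 1, fun e => hb1 (congrArg Subtype.val e)⟩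
  refine (Group.IsSolvable.commutator_lt_top_of_nontrivial (G := ↥A)).ne ?_
  set π : ↥A →* Abelianization ↥A := Abelianization.of
  rw [← Abelianization.ker_of, eq_top_iff]
  rintro ⟨g, hg⟩ -
  rw [MonoidHom.mem_ker]
  set a' : ↥A := ⟨a, Subgroup.subset_closure (Or.inl rfl)⟩
  set b' : ↥A := ⟨b, Subgroup.subset_closure (Or.inr rfl)⟩
  have e2 : π a' ^ 2 = 1 := by
    rw [pow_two, ← map_mul, show a' * a' = 1 from Subtype.ext ha, map_one]
  have e3 : π b' ^ 3 = 1 := by
    rw [pow_succ, pow_two, ← map_mul, ← map_mul, show b' * b' * b' = 1 from Subtype.ext hb, map_one]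
  have en : π a' ^ n * π b' ^ n = 1 := by
    rw [← mul_pow, ← map_mul, ← map_pow, show (a' * b') ^ n = 1 from Subtype.ext (by push_cast; exact hab), map_one]
  have hn2 : Nat.Coprime n 2 := Nat.Coprime.coprime_dvd_right (by norm_num) hn
  have hn3 : Nat.Coprime n 3 := Nat.Coprime.coprime_dvd_right (by norm_num) hn
  have hA : π a' = 1 := by
    have h1 : π a' ^ n = 1 := by
      have h2 : (π a' ^ n) ^ 2 = 1 := by rw [← pow_mul, mul_comm, pow_mul, e2, one_pow]
      have h3 : (π a' ^ n) ^ 3 = 1 := by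
        rw [eq_inv_of_mul_eq_one_left en, inv_pow, ← pow_mul, mul_comm, pow_mul, e3, one_pow, inv_one]
      exact orderOf_eq_one_iff.mp (Nat.eq_one_of_dvd_coprimes (by norm_num : Nat.Coprime 2 3)
        (orderOf_dvd_of_pow_eq_one h2) (orderOf_dvd_of_pow_eq_one h3))
    exact orderOf_eq_one_iff.mp (Nat.eq_one_of_dvd_coprimes hn2 (orderOf_dvd_of_pow_eq_one h1)
      (orderOf_dvd_of_pow_eq_one e2))
  have hB : π b' = 1 := by
    rw [hA, one_pow, one_mul] at en
    exact orderOf_eq_one_iff.mp (Nat.eq_one_of_dvd_coprimes hn3 (orderOf_dvd_of_pow_eq_one en)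
      (orderOf_dvd_of_pow_eq_one e3))
  suffices ∀ (g : H) (hg : g ∈ A), π ⟨g, hg⟩ = 1 from this g hg
  intro g hg
  induction hg using Subgroup.closure_induction with
  | mem x hx =>
    rcases hx with rfl | rfl
    · exact hA
    · exact hB
  | one => exact map_one π
  | mul x y hx hy ihx ihy =>
    have : π (⟨x, hx⟩ * ⟨y, hy⟩) = 1 := by rw [map_mul, ihx, ihy, one_mul]
    exact this
  | inv x hx ihx =>
    have : π (⟨x, hx⟩⁻¹) = 1 := by rw [map_inv, ihx, inv_one]
    exact this

variable {G : Type u} [Group G]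

theorem model_false (hsolv : ∀ N : Subgroup G, IsTwoLocal N → Group.IsSolvable N) {H : Type v} [Group H]
    (f : H →* G) (hf : Function.Injective f) {P : Subgroup H} (hP : IsPGroup 2 ↥P) (hne : P ≠ ⊥)
    {a b : H} {n : ℕ} (han : a ∈ Subgroup.normalizer (P : Set H)) (hbn : b ∈ Subgroup.normalizer (P : Set H))
    (ha : a * a = 1) (hb : b * b * b = 1) (hab : (a * b) ^ n = 1) (hn : Nat.Coprime n 6) (hb1 : b ≠ 1) : False := by
  have hloc : IsTwoLocal (Subgroup.normalizer (P.map f : Set G)) :=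
    ⟨P.map f, hP.map f, fun e => hne ((Subgroup.map_eq_bot_iff_of_injective _ hf).mp e), rfl⟩
  haveI := hsolv _ hloc
  refine not_solvable_triangle (a := f a) (b := f b) (n := n) (by rw [← map_mul, ha, map_one])
    (by rw [← map_mul, ← map_mul, hb, map_one]) (by rw [← map_mul, ← map_pow, hab, map_one]) hn
    (fun e => hb1 (hf (e.trans f.map_one.symm))) ?_
  have hle : Subgroup.closure ({f a, f b} : Set G) ≤ Subgroup.normalizer (P.map f : Set G) := by
    rw [Subgroup.closure_le]
    rintro _ (rfl | rfl)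
    · exact Subgroup.le_normalizer_map f ⟨a, han, rfl⟩
    · exact Subgroup.le_normalizer_map f ⟨b, hbn, rfl⟩
  exact Group.isSolvable_of_isSolvable_injective (Subgroup.inclusion_injective hle)

theorem centralises_false [Finite G] (hsolv : ∀ N : Subgroup G, IsTwoLocal N → Group.IsSolvable N) {H : Type v}
    [Group H] [Finite H] (f : H →* G) (hf : Function.Injective f) {t a b : H} (ht : t * t = 1) (ht1 : t ≠ 1)
    (hat : a * t = t * a) (hbt : b * t = t * b) {n : ℕ} (ha : a * a = 1) (hb : b * b * b = 1)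
    (hab : (a * b) ^ n = 1) (hn : Nat.Coprime n 6) (hb1 : b ≠ 1) : False := by
  have hmem : ∀ c : H, c * t = t * c → c ∈ Subgroup.normalizer (Subgroup.zpowers t : Set H) := fun c hc =>
    Subgroup.mem_normalizer_fintype fun e he => by
      rcases mem_two ht he with rfl | rfl
      · simp
      · rw [hc, mul_inv_cancel_right]; exact Subgroup.mem_zpowers _
  refine model_false hsolv f hf (P := Subgroup.zpowers t) ?_ (by simpa using ht1) (hmem a hat) (hmem b hbt) ha hb hab
    hn hb1
  exact IsPGroup.of_card (n := 1) (by rw [card_zpowers_two ht ht1, pow_one])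

/-- Translations of the affine space on eight points. -/
def trEight (k : Fin 3) : alternatingGroup (Fin 8) :=
  ![⟨swap 0 1 * swap 2 3 * swap 4 5 * swap 6 7, Equiv.Perm.mem_alternatingGroup.mpr (by decide)⟩,
    ⟨swap 0 2 * swap 1 3 * swap 4 6 * swap 5 7, Equiv.Perm.mem_alternatingGroup.mpr (by decide)⟩,
    ⟨swap 0 4 * swap 1 5 * swap 2 6 * swap 3 7, Equiv.Perm.mem_alternatingGroup.mpr (by decide)⟩] k

def invEight : alternatingGroup (Fin 8) := ⟨swap 4 5 * swap 6 7, Equiv.Perm.mem_alternatingGroup.mpr (by decide)⟩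

def threeEight : alternatingGroup (Fin 8) := ⟨swap 1 2 * swap 2 4 * (swap 3 6 * swap 6 5), Equiv.Perm.mem_alternatingGroup.mpr (by decide)⟩

theorem eight_facts : (∀ i j, trEight i * trEight j = trEight j * trEight i) ∧ (∀ i, trEight i * trEight i = 1) ∧
    trEight 0 ≠ 1 ∧
    invEight * invEight = 1 ∧ threeEight * threeEight * threeEight = 1 ∧ (invEight * threeEight) ^ 7 = 1 ∧
    threeEight ≠ 1 ∧
    (∀ i, invEight * trEight i * invEight⁻¹ ∈ [trEight 0, trEight 1, trEight 0 * trEight 2]) ∧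
    (∀ i, threeEight * trEight i * threeEight⁻¹ ∈ [trEight 0, trEight 1, trEight 2]) := by
  decide +kernel

theorem not_iso_A8 (hsolv : ∀ N : Subgroup G, IsTwoLocal N → Group.IsSolvable N)
    (e : G ≃* alternatingGroup (Fin 8)) : False := by
  obtain ⟨hc, hs, h0, ha, hb, hab, hb1, hA, hB⟩ := eight_facts
  set T := Subgroup.closure (Set.range trEight)
  have hT : ∀ i, trEight i ∈ T := fun i => Subgroup.subset_closure ⟨i, rfl⟩
  refine model_false hsolv e.symm.toMonoidHom e.symm.injective (P := T) ?_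
    (fun h => h0 (Subgroup.mem_bot.mp (h ▸ hT 0))) (n := 7) (mem_normalizer_closure ?_) (mem_normalizer_closure ?_)
    ha hb hab (by norm_num) hb1
  · intro g
    refine ⟨1, Subtype.ext ?_⟩
    show (g : alternatingGroup (Fin 8)) ^ 2 ^ 1 = 1
    rw [pow_one, pow_two]
    exact Subgroup.mem_bot.mp (sq_mem_closure (X := Set.range trEight) (N := ⊥)
      (fun x _ n hn => by rw [Subgroup.mem_bot] at hn ⊢; rw [hn]; group)
      (fun x _ n hn => by rw [Subgroup.mem_bot] at hn ⊢; rw [hn]; group)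
      (by rintro _ ⟨i, rfl⟩; rw [hs i]; exact one_mem _)
      (by rintro _ ⟨i, rfl⟩ _ ⟨j, rfl⟩; rw [Subgroup.mem_bot, commutatorElement_eq_one_iff_mul_comm]; exact hc i j)
      g g.2)
  · rintro _ ⟨i, rfl⟩
    have h := hA i
    simp only [List.mem_cons, List.not_mem_nil, or_false] at h
    rcases h with h | h | h <;> rw [h]
    exacts [hT 0, hT 1, mul_mem (hT 0) (hT 2)]
  · rintro _ ⟨i, rfl⟩
    have h := hB i
    simp only [List.mem_cons, List.not_mem_nil, or_false] at h
    rcases h with h | h | h <;> rw [h]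
    exacts [hT 0, hT 1, hT 2]

theorem not_iso_A9 [Finite G] (hsolv : ∀ N : Subgroup G, IsTwoLocal N → Group.IsSolvable N)
    (e : G ≃* alternatingGroup (Fin 9)) : False := by
  exact centralises_false hsolv e.symm.toMonoidHom e.symm.injective
    (t := ⟨swap 0 1 * swap 2 3, Equiv.Perm.mem_alternatingGroup.mpr (by decide)⟩) (a := ⟨swap 4 5 * swap 6 7, Equiv.Perm.mem_alternatingGroup.mpr (by decide)⟩)
    (b := ⟨swap 4 6 * swap 6 8, Equiv.Perm.mem_alternatingGroup.mpr (by decide)⟩) (n := 5) (by decide +kernel) (by decide +kernel) (by decide +kernel)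
    (by decide +kernel) (by decide +kernel) (by decide +kernel) (by decide +kernel) (by norm_num) (by decide +kernel)

open CfsgQS3 CfsgQS3.Zero CfsgGolay in
theorem twelve_facts : wordVal p12 [0] * wordVal p12 [0] = 1 ∧ wordVal p12 [0] ≠ 1 ∧
    wordVal p12 [0, 3, 2, 0, 3] * wordVal p12 [0] = wordVal p12 [0] * wordVal p12 [0, 3, 2, 0, 3] ∧
    wordVal p12 [4] * wordVal p12 [0] = wordVal p12 [0] * wordVal p12 [4] ∧
    wordVal p12 [0, 3, 2, 0, 3] * wordVal p12 [0, 3, 2, 0, 3] = 1 ∧
    wordVal p12 [4] * wordVal p12 [4] * wordVal p12 [4] = 1 ∧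
    (wordVal p12 [0, 3, 2, 0, 3] * wordVal p12 [4]) ^ 5 = 1 ∧ wordVal p12 [4] ≠ 1 := by
  decide +kernel

theorem not_iso_M12 [Finite G] (hsolv : ∀ N : Subgroup G, IsTwoLocal N → Group.IsSolvable N)
    (e : G ≃* ↥Spor.M12) : False := by
  obtain ⟨ht, ht1, hat, hbt, ha, hb, hab, hb1⟩ := twelve_facts
  have hw : ∀ l : List ℕ, (∀ i ∈ l, i < 5) → CfsgQS3.wordVal CfsgQS3.Zero.p12 l ∈ Spor.M12 := fun l hl =>
    Subgroup.list_prod_mem _ fun g hg => by
      obtain ⟨i, hi, rfl⟩ := List.mem_map.mp hg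
      exact CfsgQS3.Zero.mem_M12 (hl i hi)
  exact centralises_false hsolv e.symm.toMonoidHom e.symm.injective
    (t := (⟨_, hw [0] (by decide)⟩ : ↥Spor.M12)) (a := ⟨_, hw [0, 3, 2, 0, 3] (by decide)⟩)
    (b := ⟨_, hw [4] (by decide)⟩) (n := 5) (Subtype.ext ht) (fun h => ht1 (congrArg Subtype.val h))
    (Subtype.ext hat) (Subtype.ext hbt) (Subtype.ext ha) (Subtype.ext hb)
    (Subtype.ext (by push_cast; exact hab)) (by norm_num) (fun h => hb1 (congrArg Subtype.val h))

end CfsgLib.SRFour
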