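import Mathlib
import Cfsg.Agent.Lib.SRFour.ExtraCentral
import Cfsg.Agent.Lib.SRFour.ExtraData
import Cfsg.Agent.Lib.SRFour.ExtraModels
import Cfsg.Agent.Lib.LargeExtra.Odd
import Cfsg.Agent.Lib.SpecSix.AmalgamBase
import Cfsg.Agent.S3344

/-!
The fixed point free configuration with abelian `U` does not occur.

Blueprint: `blueprint/S0517.md`, addendum "Parcel Extra", E2.
-/

set_option autoImplicit false
set_option linter.unusedSectionVars false
set_option linter.style.haveILetI false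

namespace CfsgLib.SRFour

open Cfsg
open scoped commutatorElement

universe u

variable {G : Type u} [Group G]

variable [Finite G] {S : Sylow 2 G} {K M₁ F : Subgroup G} {z v x : G}

namespace Fpf

open Five

variable (N : NData (S : Subgroup G) K M₁ F z v x) (D : FpfData N)
include N

include D

theorem ex : Ex32 (pCoreOf 2 M₁) z := N.ex32 D.card_Q D.sq D.cen

/-- `O₂(C(z)) = Q₁`. -/
theorem core_eq (h : Hard G) : pCoreOf 2 (Subgroup.centralizer ({z} : Set G)) = pCoreOf 2 M₁ := by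
  classical
  haveI := Fintype.ofFinite G
  have X := ex N D
  set L := Subgroup.centralizer ({z} : Set G) with hLdef
  have hL := good_cent N h
  refine le_antisymm (le_core (core_two L) ((core_le_sylow S (S_le_L N)).trans N.toMData.S_le)
    ((M_le_L N).trans (le_normalizer_core L))) ?_
  obtain ⟨f, hf, hf1, hfo⟩ := N.toMData.exists_odd
  have hfM := N.ov.F_le hf
  set O := pCoreOf 2 M₁ ⊓ pCoreOf 2 L with hO
  have hzO : z ∈ O := by
    refine ⟨X.z_mem, ?_⟩
    refine le_core (P := Subgroup.zpowers z)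
      (IsPGroup.of_card (n := 1) (by rw [card_zpowers_two X.z_sq X.z_ne, pow_one]))
      (Subgroup.zpowers_le.mpr (S_le_L N N.z_mem.1))
      (fun m hm => Subgroup.mem_normalizer_fintype fun a ha => ?_) (Subgroup.mem_zpowers z)
    rcases mem_two X.z_sq ha with rfl | rfl
    · simp
    · rw [Subgroup.mem_centralizer_singleton_iff.mp hm, mul_inv_cancel_right]; exact Subgroup.mem_zpowers _
  have hcom : ∀ q ∈ pCoreOf 2 M₁, ⁅q, f⁆ ∈ O := fun q hq => ⟨by
    have := mul_mem hq (N.toMData.conj_mem_Q hfM (inv_mem hq))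
    simpa [commutatorElement_def, mul_assoc] using this,
    hL.commutator_mem h.sect (core_two M₁) ((core_le M₁).trans (M_le_L N)) hq (M_le_L N hfM) hfo
      (N.toMData.conj_mem_Q hfM (inv_mem hq))⟩
  set Qf := (pCoreOf 2 M₁ : Set G).toFinset
  set I := Qf.image fun q => ⁅q, f⁆ with hI
  have hQf : ∀ {q}, q ∈ Qf ↔ q ∈ pCoreOf 2 M₁ := by simp [Qf]
  have hfib : ∀ a ∈ pCoreOf 2 M₁, ∀ b ∈ pCoreOf 2 M₁, ⁅a, f⁆ = ⁅b, f⁆ → b⁻¹ * a ∈ Subgroup.zpowers z := by
    intro a ha b hb e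
    refine D.fix f hf hf1 _ (mul_mem (inv_mem hb) ha) ?_
    have e' : a * f * a⁻¹ = b * f * b⁻¹ := by
      simpa [commutatorElement_def] using e
    calc f * (b⁻¹ * a) = b⁻¹ * (b * f * b⁻¹) * a := by group
      _ = b⁻¹ * a * f := by rw [← e']; group
  have h16 : 32 ≤ 2 * I.card := by
    have h1 := Finset.card_le_mul_card_image Qf 2 (f := fun q => ⁅q, f⁆) fun w hw => by
      obtain ⟨b, hb, rfl⟩ := Finset.mem_image.mp hw
      refine le_trans (Finset.card_le_card (t := {b, b * z}) fun a ha => ?_) Finset.card_le_two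
      rw [Finset.mem_filter, hQf] at ha
      rw [Finset.mem_insert, Finset.mem_singleton]
      rcases X.zpow_cases (hfib a ha.1 b (hQf.mp hb) ha.2) with e | e
      · exact Or.inl (inv_mul_eq_one.mp e).symm
      · exact Or.inr (inv_mul_eq_iff_eq_mul.mp e)
    rwa [show Qf.card = 32 by rw [Set.toFinset_card, ← Nat.card_eq_fintype_card]; exact X.card] at h1
  have hdis : Disjoint I (I.image fun a => z * a) := by
    rw [Finset.disjoint_left]
    intro w hw hw'
    obtain ⟨a, ha, rfl⟩ := Finset.mem_image.mp hw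
    obtain ⟨w', hw'', e⟩ := Finset.mem_image.mp hw'
    obtain ⟨b, hb, rfl⟩ := Finset.mem_image.mp hw''
    rw [hQf] at ha hb
    set c := b⁻¹ * a
    have hbz : Commute b⁻¹ z := X.z_comm _ (inv_mem hb)
    have e1 : c * f * c⁻¹ = z * f := by
      simp only [commutatorElement_def] at e
      calc c * f * c⁻¹ = b⁻¹ * (a * f * a⁻¹ * f⁻¹) * f * b := by simp only [c]; group
        _ = b⁻¹ * z * (b * f * b⁻¹ * f⁻¹) * f * b := by rw [← e]; group
        _ = z * f := by rw [hbz.eq]; group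
    refine X.z_ne (eq_one_of_shift_odd hfo (k := 1) (by rw [pow_one, pow_two, X.z_sq]) (N.toMData.comm_z hfM)
      (a := c) ?_)
    have hcz := X.z_comm c (mul_mem (inv_mem hb) ha)
    have e2 : c * f = z * f * c := mul_inv_eq_iff_eq_mul.mp e1
    calc f * c * f⁻¹ = (z * z) * (f * c) * f⁻¹ := by rw [X.z_sq, one_mul]
      _ = z * (z * f * c) * f⁻¹ := by group
      _ = z * c := by rw [← e2]; group
      _ = c * z := hcz.symm
  have hsub : I ∪ (I.image fun a => z * a) ⊆ (O : Set G).toFinset := by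
    intro w hw
    rw [Set.mem_toFinset, SetLike.mem_coe]
    rcases Finset.mem_union.mp hw with hw | hw
    · obtain ⟨q, hq, rfl⟩ := Finset.mem_image.mp hw
      exact hcom q (hQf.mp hq)
    · obtain ⟨w', hw', rfl⟩ := Finset.mem_image.mp hw
      obtain ⟨q, hq, rfl⟩ := Finset.mem_image.mp hw'
      exact mul_mem hzO (hcom q (hQf.mp hq))
  have h2 := Finset.card_le_card hsub
  rw [Finset.card_union_of_disjoint hdis, Finset.card_image_of_injective _ (fun a b e => mul_left_cancel e),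
    Set.toFinset_card, ← Nat.card_eq_fintype_card] at h2
  have e : O = pCoreOf 2 M₁ := Subgroup.eq_of_le_of_card_ge inf_le_left (by
    rw [X.card]
    change 32 ≤ Nat.card O
    change I.card + I.card ≤ Nat.card O at h2
    omega)
  exact e ▸ inf_le_right

/-- `S` is not `Q₁`. -/
theorem exists_out : ∃ s ∈ (S : Subgroup G), s ∉ pCoreOf 2 M₁ := by
  by_contra hh
  push Not at hh
  obtain ⟨t, ht, htv⟩ := N.toMData.exists_t
  have e : pCoreOf 2 K = pCoreOf 2 M₁ := Subgroup.eq_of_le_of_card_ge (fun q hq => hh q (N.core_le_S hq))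
    (by rw [D.card_Q, D.card_core])
  rw [N.core_v t (e.symm ▸ ht), mul_inv_cancel_right] at htv
  exact N.z_ne (mul_eq_right.mp htv.symm)

theorem U_facts : (∀ a ∈ N.toMData.U, a * a = 1) ∧
    ∀ u₀ ∈ N.toMData.U, ¬ InW z v u₀ → ∀ a ∈ N.toMData.U, InW z v a ∨ InW z v (a * u₀⁻¹) := by
  classical
  haveI := Fintype.ofFinite G
  refine ⟨fun a ha => ?_, fun u₀ hu₀ hu₀W a ha => ?_⟩
  · induction ha using Subgroup.closure_induction with
    | mem c hc =>
      rcases hc with rfl | ⟨m, -, rfl⟩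
      · exact N.z_mem.2.1
      · rw [show m * v * m⁻¹ * (m * v * m⁻¹) = m * (v * v) * m⁻¹ by group, N.v_sq]; group
    | one => exact one_mul 1
    | mul p q hp hq ihp ihq =>
      rw [(show Commute p q from D.U_comm p hp q hq).symm.mul_mul_mul_comm, ihp, ihq, one_mul]
    | inv p _ ihp => rw [← mul_inv_rev, ihp, inv_one]
  set W4 : Finset G := {1, z, v, z * v}
  have hW : ∀ {b}, b ∈ W4 ↔ InW z v b := fun {b} => by simp [W4, InW]
  have hWU : ∀ {b}, InW z v b → b ∈ N.toMData.U := fun {b} hb => by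
    rcases hb with rfl | rfl | rfl | rfl
    exacts [one_mem _, N.toMData.z_U, N.toMData.v_U, mul_mem N.toMData.z_U N.toMData.v_U]
  have hzv : z * v ≠ 1 := fun e => v_nz N ((eq_inv_of_mul_eq_one_right e) ▸ inv_mem (Subgroup.mem_zpowers z))
  have c4 : W4.card = 4 := by
    simp [W4, Ne.symm N.z_ne, Ne.symm N.v_ne, Ne.symm N.v_ne_z, Ne.symm hzv, N.z_ne, N.v_ne]
  have hWmul : ∀ {b c}, InW z v b → InW z v c → InW z v (b * c) := by
    intro b c hb hc
    have h1 : z * z = 1 := N.z_mem.2.1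
    have h2 : v * v = 1 := N.v_sq
    have h3 : v * z = z * v := N.toMData.zv.symm
    have h4 : z * (z * v) = v := by rw [← mul_assoc, h1, one_mul]
    have h5 : v * (z * v) = z := by rw [← mul_assoc, h3, mul_assoc, h2, mul_one]
    have h6 : z * v * z = v := by rw [mul_assoc, h3, h4]
    have h7 : z * v * v = z := by rw [mul_assoc, h2, mul_one]
    have h8 : z * v * (z * v) = 1 := by rw [mul_assoc, h5, h1]
    rcases hb with e | e | e | e <;> rcases hc with e' | e' | e' | e' <;> rw [e, e'] <;>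
      simp only [InW, one_mul, mul_one, h1, h2, h3, h4, h5, h6, h7, h8, true_or, or_true]
  have hWinv : ∀ {b}, InW z v b → b⁻¹ = b := fun {b} hb => by
    refine inv_eq_of_mul_eq_one_right ?_
    rcases hb with rfl | rfl | rfl | rfl
    · exact one_mul 1
    · exact N.z_mem.2.1
    · exact N.v_sq
    · rw [(show Commute z v from N.toMData.zv).symm.mul_mul_mul_comm, N.z_mem.2.1, N.v_sq, one_mul]
  have hdis : Disjoint W4 (W4.image (· * u₀)) := by
    rw [Finset.disjoint_left]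
    intro b hb hb'
    obtain ⟨c, hc, rfl⟩ := Finset.mem_image.mp hb'
    refine hu₀W ?_
    have := hWmul (b := c⁻¹) (c := c * u₀) (by rw [hWinv (hW.mp hc)]; exact hW.mp hc) (hW.mp hb)
    rwa [inv_mul_cancel_left] at this
  have hsub : W4 ∪ W4.image (· * u₀) ⊆ (N.toMData.U : Set G).toFinset := by
    intro b hb
    rw [Set.mem_toFinset, SetLike.mem_coe]
    rcases Finset.mem_union.mp hb with hb | hb
    · exact hWU (hW.mp hb)
    · obtain ⟨c, hc, rfl⟩ := Finset.mem_image.mp hb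
      exact mul_mem (hWU (hW.mp hc)) hu₀
  have heq := Finset.eq_of_subset_of_card_le hsub (by
    rw [Finset.card_union_of_disjoint hdis, Finset.card_image_of_injective _ (fun a b e => mul_right_cancel e), c4,
      Set.toFinset_card, ← Nat.card_eq_fintype_card]
    change Nat.card N.toMData.U ≤ 4 + 4
    rw [D.card_U])
  have : a ∈ W4 ∪ W4.image (· * u₀) := by rw [heq]; simpa using ha
  rcases Finset.mem_union.mp this with h' | h'
  · exact Or.inl (hW.mp h')
  · obtain ⟨c, hc, rfl⟩ := Finset.mem_image.mp h'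
    exact Or.inr (by rw [mul_inv_cancel_right]; exact hW.mp hc)

/-- An odd element of `C(z)` fixing the coset of `v` is trivial. -/
theorem eq_one_of_vfix (h : Hard G) {y : G} (hy : y ∈ Subgroup.centralizer ({z} : Set G)) (hyo : Odd (orderOf y))
    (hv : y * v * y⁻¹ = v ∨ y * v * y⁻¹ = z * v) : y = 1 := by
  have X := ex N D
  have hL := good_cent N h
  set L := Subgroup.centralizer ({z} : Set G) with hLdef
  have hO := core_eq N D h
  have hyz : y * z = z * y := Subgroup.mem_centralizer_singleton_iff.mp hy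
  have hzc : ∀ w ∈ Subgroup.zpowers z, y * w = w * y := fun w hw => by
    rcases X.zpow_cases hw with rfl | rfl
    · simp
    · exact hyz
  obtain ⟨s₀, hs₀, hs₀Q⟩ := exists_out N D
  obtain ⟨N0, hON, -, -, hNy, -, -, -, heven⟩ := hL.exists_oddPre h.sect
  obtain ⟨-, hcomm, -⟩ := heven ⟨s₀, S_le_L N hs₀, hO.symm ▸ hs₀Q, by
    obtain ⟨k, hk⟩ := S.isPGroup' ⟨s₀, hs₀⟩
    exact ⟨k, by rw [show s₀ ^ 2 ^ k = 1 from congrArg Subtype.val hk]; exact one_mem _⟩⟩
  have hvy : y * v = v * y := by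
    rcases hv with e | e
    · exact mul_inv_eq_iff_eq_mul.mp e
    · have := eq_one_of_shift_odd hyo (k := 1) (c := z) (a := v) (by rw [pow_one, pow_two, X.z_sq]) hyz
        (e.trans N.toMData.zv)
      exact absurd this X.z_ne
  have hconj : ∀ a ∈ N.toMData.U, y * a * y⁻¹ ∈ N.toMData.U := by
    intro a ha
    induction ha using Subgroup.closure_induction with
    | mem c hc =>
      rcases hc with rfl | ⟨m, hm, rfl⟩
      · rw [hyz, mul_inv_cancel_right]; exact N.toMData.z_U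
      · obtain ⟨q, hq, g, hg, n, hn, -, rfl⟩ := N.ov.decomp m hm
        have hgo := N.ov.odd_order hg
        have hc' := hcomm y (hNy y hy hyo) g (hNy g (M_le_L N (N.ov.F_le hg)) hgo)
        rw [hO, commutatorElement_def] at hc'
        have e1 : y * (g * v * g⁻¹) * y⁻¹ ∈ N.toMData.U := by
          rw [show y * (g * v * g⁻¹) * y⁻¹ = ((y * g * y⁻¹ * g⁻¹) * g) * (y * v * y⁻¹) *
            ((y * g * y⁻¹ * g⁻¹) * g)⁻¹ by group, hvy, mul_inv_cancel_right]
          exact N.toMData.conj_v_U (M₁.mul_mem (core_le M₁ hc') (N.ov.F_le hg))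
        have hgQ : g * v * g⁻¹ ∈ pCoreOf 2 M₁ := N.toMData.conj_mem_Q (N.ov.F_le hg) (vQ N)
        have e2 : ∃ w ∈ Subgroup.zpowers z, q * g * n * v * (q * g * n)⁻¹ = w * (g * v * g⁻¹) := by
          obtain ⟨w1, hw1, ew1⟩ : ∃ w1 ∈ Subgroup.zpowers z, q * (g * v * g⁻¹) * q⁻¹ = w1 * (g * v * g⁻¹) := by
            refine ⟨⁅q, g * v * g⁻¹⁆, X.comm_mem hq hgQ, ?_⟩
            simp only [commutatorElement_def]; group
          rcases N.sv n hn with e | e
          · exact ⟨w1, hw1, by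
              rw [show q * g * n * v * (q * g * n)⁻¹ = q * (g * (n * v * n⁻¹) * g⁻¹) * q⁻¹ by group, e, ew1]⟩
          · refine ⟨z * w1, mul_mem (Subgroup.mem_zpowers z) hw1, ?_⟩
            rw [show q * g * n * v * (q * g * n)⁻¹ = q * (g * (n * v * n⁻¹) * g⁻¹) * q⁻¹ by group, e,
              show q * (g * (z * v) * g⁻¹) * q⁻¹ = (q * (g * z * g⁻¹) * q⁻¹) * (q * (g * v * g⁻¹) * q⁻¹) by group,
              N.toMData.conj_z (N.ov.F_le hg), X.z_comm q hq, mul_inv_cancel_right, ew1]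
            simp only [mul_assoc]
        obtain ⟨w, hw, e2⟩ := e2
        rw [e2, show y * (w * (g * v * g⁻¹)) * y⁻¹ = (y * w * y⁻¹) * (y * (g * v * g⁻¹) * y⁻¹) by group,
          hzc w hw, mul_inv_cancel_right]
        exact mul_mem (Subgroup.zpowers_le.mpr N.toMData.z_U hw) e1
    | one => simp
    | mul p q _ _ ihp ihq =>
      rw [show y * (p * q) * y⁻¹ = (y * p * y⁻¹) * (y * q * y⁻¹) by group]
      exact mul_mem ihp ihq
    | inv p _ ihp =>
      rw [show y * p⁻¹ * y⁻¹ = (y * p * y⁻¹)⁻¹ by group]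
      exact inv_mem ihp
  obtain ⟨hUsq, hUdec⟩ := U_facts N D
  have hWy : ∀ {b}, InW z v b → y * b = b * y := fun {b} hb => by
    rcases hb with rfl | rfl | rfl | rfl
    · simp
    · exact hyz
    · exact hvy
    · exact ((show Commute y z from hyz).mul_right (show Commute y v from hvy)).eq
  have hU : ∀ a ∈ N.toMData.U, y * a = a * y := by
    intro a ha
    by_cases haW : InW z v a
    · exact hWy haW
    have hb := hconj a ha
    rcases hUdec a ha haW _ hb with hb' | hb'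
    · refine absurd ?_ haW
      have := hWy hb'
      have e : y * a * y⁻¹ = a := by
        calc y * a * y⁻¹ = y⁻¹ * (y * (y * a * y⁻¹)) := by group
          _ = y⁻¹ * (y * a * y⁻¹ * y) := by rw [this]
          _ = a := by group
      rwa [e] at hb'
    · have hc := eq_one_of_shift_odd hyo (k := 1) (a := a) (c := a⁻¹ * (y * a * y⁻¹))
        (by rw [pow_one, pow_two]; exact hUsq _ (mul_mem (inv_mem ha) hb)) (by
          rw [show a⁻¹ * (y * a * y⁻¹) = y * a * y⁻¹ * a⁻¹ from D.U_comm _ (inv_mem ha) _ hb]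
          exact hWy hb') (by group)
      exact mul_inv_eq_iff_eq_mul.mp (inv_mul_eq_one.mp hc).symm
  have hyQ : ∀ q ∈ pCoreOf 2 M₁, y * q * y⁻¹ ∈ pCoreOf 2 M₁ := fun q hq => by
    rw [← hO] at hq ⊢; exact conj_mem_core hy hq
  refine eq_one_of_odd_mem (core_two L) hyo (hL.charTwo y hy fun q hq => ?_)
  rw [hO] at hq
  set c := q⁻¹ * (y * q * y⁻¹) with hc
  have hcQ : c ∈ pCoreOf 2 M₁ := mul_mem (inv_mem hq) (hyQ q hq)
  have hcU : c ∈ N.toMData.U := by
    refine X.cent_eight N.toMData.U_le D.U_comm D.card_U hcQ fun a ha => ?_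
    have haQ := N.toMData.U_le ha
    have e1 : ⁅y * q * y⁻¹, a⁆ = ⁅q, a⁆ := by
      calc ⁅y * q * y⁻¹, a⁆ = y * ⁅q, y⁻¹ * a * y⁆ * y⁻¹ := by simp only [commutatorElement_def]; group
        _ = y * ⁅q, a⁆ * y⁻¹ := by rw [show y⁻¹ * a * y = a by rw [mul_assoc, ← hU a ha, inv_mul_cancel_left]]
        _ = ⁅q, a⁆ := by rw [hzc _ (X.comm_mem hq haQ), mul_inv_cancel_right]
    refine commutatorElement_eq_one_iff_mul_comm.mp ?_
    calc ⁅c, a⁆ = q⁻¹ * (⁅y * q * y⁻¹, a⁆ * ⁅q, a⁆⁻¹) * q := by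
          simp only [hc, commutatorElement_def]; group
      _ = 1 := by rw [e1, mul_inv_cancel, mul_one, inv_mul_cancel]
  have h1 := eq_one_of_shift_odd hyo (a := q) (k := 1) (c := c)
    (by rw [pow_one, pow_two]; exact hUsq c hcU) (hU c hcU) (by rw [hc]; group)
  exact (mul_inv_eq_iff_eq_mul.mp (inv_mul_eq_one.mp h1).symm).symm

/-- An odd element of `C(z)` normalising `E` is trivial, and the odd part of `C(z)/Q₁` has order three. -/
theorem oddPre_three (h : Hard G) {N0 : Subgroup G} (hON : pCoreOf 2 M₁ ≤ N0)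
    (hNL : N0 ≤ Subgroup.centralizer ({z} : Set G))
    (hd : (pCoreOf 2 M₁).relIndex N0 ∣ 45) (h3 : 3 ∣ (pCoreOf 2 M₁).relIndex N0) :
    (pCoreOf 2 M₁).relIndex N0 = 3 := by
  obtain ⟨E, hEQ, -, hE8, hEsq, hzE, hvE, hSE, hxE⟩ := D.exists_E
  exact oddPre_three_of N h (ex N D) (core_eq N D h) (fun y => eq_one_of_vfix N D h) hEQ hE8 hEsq hzE hvE hSE hxE
    hON hNL hd h3

end Fpf

/-- E2: the fixed point free configuration is impossible. -/
theorem extraFpf (h : Hard G) (N : NData (S : Subgroup G) K M₁ F z v x) (D : FpfData N) : False := by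
  classical
  haveI := Fintype.ofFinite G
  haveI : Fact (Nat.Prime 3) := ⟨Nat.prime_three⟩
  have X := Fpf.ex N D
  have hO := Fpf.core_eq N D h
  set L := Subgroup.centralizer ({z} : Set G) with hLdef
  have hgood := Fpf.good_cent N h
  obtain ⟨f, hf, hf1, hfo⟩ := N.toMData.exists_odd
  have hfM := N.ov.F_le hf
  have hfL : f ∈ L := Fpf.M_le_L N hfM
  have hof : orderOf f = 3 := orderOf_eq_prime (by
    have := pow_card_eq_one' (x := (⟨f, hf⟩ : ↥F))
    rw [D.card_F] at this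
    exact congrArg Subtype.val this) hf1
  have hgen : ∀ g ∈ F, g = 1 ∨ g = f ∨ g = f⁻¹ := by
    intro g hg
    have e : Subgroup.zpowers f = F := Subgroup.eq_of_le_of_card_ge (Subgroup.zpowers_le.mpr hf)
      (by rw [D.card_F, Nat.card_zpowers, hof])
    obtain ⟨j, hj⟩ := mem_powers_iff_mem_zpowers.mpr (e.symm ▸ hg)
    have h3 := pow_mod_orderOf f j
    rw [hof] at h3
    have hlt : j % 3 < 3 := Nat.mod_lt _ (by norm_num)
    generalize j % 3 = r at h3 hlt
    interval_cases r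
    · exact Or.inl (hj.symm.trans (by simpa using h3.symm))
    · exact Or.inr (Or.inl (hj.symm.trans (by simpa using h3.symm)))
    · refine Or.inr (Or.inr (hj.symm.trans (h3.symm.trans ?_)))
      rw [eq_inv_iff_mul_eq_one, ← pow_succ]
      show f ^ 3 = 1
      rw [← hof]; exact pow_orderOf_eq_one f
  obtain ⟨s₀, hs₀, hs₀Q⟩ := Fpf.exists_out N D
  obtain ⟨N0, hON, hNL, hNn, hNy, htwo, -, -, heven⟩ := hgood.exists_oddPre h.sect
  obtain ⟨h45, -, -⟩ := heven ⟨s₀, Fpf.S_le_L N hs₀, hO.symm ▸ hs₀Q, by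
    obtain ⟨k, hk⟩ := S.isPGroup' ⟨s₀, hs₀⟩
    exact ⟨k, by rw [show s₀ ^ 2 ^ k = 1 from congrArg Subtype.val hk]; exact one_mem _⟩⟩
  rw [hO] at hON h45
  have hftriv : ∀ k : ℕ, f ^ k ∈ pCoreOf 2 M₁ → f ^ k = 1 := fun k hk =>
    N.ov.core_inter (F.pow_mem hf k) hk
  have hnQ : N0 ≤ Subgroup.normalizer (pCoreOf 2 M₁ : Set G) := hO ▸ hNL.trans (le_normalizer_core L)
  have h3 : 3 ∣ (pCoreOf 2 M₁).relIndex N0 := hof ▸ orderOf_dvd_relIndex hnQ (hNy f hfL hfo) hftriv
  have hn3 := Fpf.oddPre_three N D h hON hNL h45 h3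
  -- the quotient
  obtain ⟨n, hnS, hnN, hnf⟩ := N.ov.moved ⟨s₀, hs₀, hs₀Q⟩ f hf hf1
  have hnfF : n * f * n⁻¹ ∈ F := (Subgroup.mem_normalizer_iff.mp hnN f).mp hf
  have hninv : n * f * n⁻¹ = f⁻¹ := by
    rcases hgen _ hnfF with e | e | e
    · exact absurd (conj_eq_one_iff.mp e) hf1
    · exact absurd (mul_inv_eq_iff_eq_mul.mp e) hnf
    · exact e
  have hnQ1 : n ∉ pCoreOf 2 M₁ := fun e => hnf (mul_inv_eq_iff_eq_mul.mp (mul_inv_eq_one.mp
    (N.ov.core_inter (F.mul_mem hnfF (F.inv_mem hf)) (by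
      have := mul_mem e (N.toMData.conj_mem_Q hfM (inv_mem e))
      simpa [mul_assoc] using this))))
  set π := QuotientGroup.mk' (pCore 2 ↥L)
  have hπ : ∀ {l : G} (hl : l ∈ L), π ⟨l, hl⟩ = 1 ↔ l ∈ pCoreOf 2 M₁ := fun hl => by
    rw [← hO]
    exact (QuotientGroup.eq_one_iff _).trans (mem_core hl).symm
  set α := π ⟨f, hfL⟩ with hα
  set τ := π ⟨n, Fpf.S_le_L N hnS⟩ with hτ
  have hα1 : α ≠ 1 := fun e => hf1 (N.ov.core_inter hf ((hπ _).mp e))
  have hα3 : α ^ 3 = 1 := by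
    rw [hα, ← map_pow, show (⟨f, hfL⟩ : ↥L) ^ 3 = 1 from Subtype.ext (by
      rw [SubmonoidClass.coe_pow, ← hof]; exact pow_orderOf_eq_one f), map_one]
  have hτ1 : τ ≠ 1 := fun e => hnQ1 ((hπ _).mp e)
  have hτ2 : τ * τ = 1 := by
    rw [hτ, ← map_mul]
    exact (hπ (mul_mem (Fpf.S_le_L N hnS) (Fpf.S_le_L N hnS))).mpr
      (N.toMData.mul_mem_Q D.card_F hnS hnS hnQ1 hnQ1)
  have hτα : τ * α * τ⁻¹ = α⁻¹ := by
    rw [hτ, hα, ← map_inv, ← map_mul, ← map_mul, ← map_inv]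
    exact congrArg π (Subtype.ext hninv)
  have hcov : ∀ m ∈ N0, ∃ i : Fin 3, m * (f ^ (i : ℕ))⁻¹ ∈ pCoreOf 2 M₁ := by
    intro m hm
    haveI : ((pCoreOf 2 M₁).subgroupOf N0).Normal := Subgroup.normal_subgroupOf_of_le_normalizer hnQ
    set ρ := QuotientGroup.mk' ((pCoreOf 2 M₁).subgroupOf N0)
    set a := ρ ⟨f, hNy f hfL hfo⟩
    have ha1 : a ≠ 1 := fun e => hf1 (N.ov.core_inter hf ((QuotientGroup.eq_one_iff (⟨f, hNy f hfL hfo⟩ : ↥N0)).mp e))
    have htop := zpowers_eq_top_of_prime_card (p := 3) ((Subgroup.index_eq_card _).symm.trans hn3) ha1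
    obtain ⟨j, hj⟩ := mem_powers_iff_mem_zpowers.mpr (htop.symm ▸ Subgroup.mem_top (ρ ⟨m, hm⟩))
    refine ⟨⟨j % 3, Nat.mod_lt _ (by norm_num)⟩, ?_⟩
    have e : ρ ⟨m, hm⟩ = a ^ (j % 3) := by
      rw [← hj]
      show a ^ j = a ^ (j % 3)
      have h3' : a ^ 3 = 1 := by
        rw [← map_pow, show (⟨f, hNy f hfL hfo⟩ : ↥N0) ^ 3 = 1 from Subtype.ext (by
          rw [SubmonoidClass.coe_pow, ← hof]; exact pow_orderOf_eq_one f), map_one]
      exact pow_eq_pow_mod j h3'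
    have e2 : ρ (⟨m, hm⟩ * (⟨f, hNy f hfL hfo⟩ ^ (j % 3))⁻¹) = 1 := by
      rw [map_mul, map_inv, map_pow, e, mul_inv_cancel]
    exact (QuotientGroup.eq_one_iff ((⟨m, hm⟩ : ↥N0) * ((⟨f, hNy f hfL hfo⟩ : ↥N0) ^ (j % 3))⁻¹)).mp e2
  have hfac := factor_of_odd (Fpf.S_le_L N) hNL hNn hNy
  let ψ : Fin 3 × Fin 2 → ↥L ⧸ pCore 2 ↥L := fun p => α ^ (p.1 : ℕ) * τ ^ (p.2 : ℕ)
  have hψ : Function.Surjective ψ := by
    intro c
    obtain ⟨⟨l, hl⟩, rfl⟩ := QuotientGroup.mk'_surjective (pCore 2 ↥L) c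
    obtain ⟨m, hm, s, hs, rfl⟩ := hfac l hl
    obtain ⟨i, hi⟩ := hcov m hm
    have em : π ⟨m, hNL hm⟩ = α ^ (i : ℕ) := by
      have h1 := (hπ (mul_mem (hNL hm) (inv_mem (pow_mem hfL _)))).mpr hi
      rw [show (⟨m * (f ^ (i : ℕ))⁻¹, mul_mem (hNL hm) (inv_mem (pow_mem hfL _))⟩ : ↥L) =
        ⟨m, hNL hm⟩ * (⟨f, hfL⟩ ^ (i : ℕ))⁻¹ from rfl, map_mul, map_inv, map_pow] at h1
      exact mul_inv_eq_one.mp h1
    have es : ∃ j : Fin 2, π ⟨s, Fpf.S_le_L N hs⟩ = τ ^ (j : ℕ) := by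
      by_cases hsQ : s ∈ pCoreOf 2 M₁
      · exact ⟨0, by rw [(hπ _).mpr hsQ]; simp⟩
      · refine ⟨1, ?_⟩
        have h1 := (hπ (mul_mem (Fpf.S_le_L N hs) (Fpf.S_le_L N hnS))).mpr
          (N.toMData.mul_mem_Q D.card_F hs hnS hsQ hnQ1)
        rw [show (⟨s * n, mul_mem (Fpf.S_le_L N hs) (Fpf.S_le_L N hnS)⟩ : ↥L) =
          ⟨s, Fpf.S_le_L N hs⟩ * ⟨n, Fpf.S_le_L N hnS⟩ from rfl, map_mul] at h1
        rw [eq_inv_of_mul_eq_one_left h1, ← hτ, inv_eq_of_mul_eq_one_right hτ2]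
        simp
    obtain ⟨j, ej⟩ := es
    refine ⟨(i, j), ?_⟩
    show α ^ (i : ℕ) * τ ^ (j : ℕ) = _
    rw [← em, ← ej, ← map_mul]
    rfl
  have hle : Nat.card (↥L ⧸ pCore 2 ↥L) ≤ 6 := by
    have := Nat.card_le_card_of_surjective ψ hψ
    simpa using this
  have hoα : orderOf α = 3 := orderOf_eq_prime hα3 hα1
  have hoτ : orderOf τ = 2 := by
    haveI : Fact (Nat.Prime 2) := ⟨Nat.prime_two⟩
    exact orderOf_eq_prime (by rw [pow_two, hτ2]) hτ1
  have h6 : Nat.card (↥L ⧸ pCore 2 ↥L) = 6 := by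
    have d3 := orderOf_dvd_natCard α
    have d2 := orderOf_dvd_natCard τ
    rw [hoα] at d3
    rw [hoτ] at d2
    have hpos : 0 < Nat.card (↥L ⧸ pCore 2 ↥L) := Nat.card_pos
    omega
  obtain ⟨e6⟩ := CfsgLib.SpecSix.perm_three_of_card_six h6 hoα hτ2 hτ1 hτα
  -- the Sylow 3-subgroup
  set Z3 := Subgroup.zpowers (⟨f, hfL⟩ : ↥L)
  have hcardL : Nat.card ↥L = 192 := by
    rw [Subgroup.card_eq_card_quotient_mul_card_subgroup (pCore 2 ↥L), h6]
    have h32 : Nat.card ↥(pCore 2 ↥L) = 32 := by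
      rw [Nat.card_congr ((pCore 2 ↥L).equivMapOfInjective _ L.subtype_injective).toEquiv]
      show Nat.card ↥(pCoreOf 2 L) = 32
      rw [hO, X.card]
    rw [h32]
  have hZ3 : Nat.card Z3 = 3 := by
    rw [Nat.card_zpowers, ← Subgroup.orderOf_coe]; exact hof
  have hidx : ¬ 3 ∣ Z3.index := by
    have := Z3.card_mul_index
    rw [hZ3, hcardL] at this
    intro hd
    omega
  set X3 : Sylow 3 ↥L := (IsPGroup.of_card (n := 1) (by rw [hZ3, pow_one]) : IsPGroup 3 ↥Z3).toSylow hidx with hX3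
  have hX3map : ((X3 : Subgroup ↥L).map L.subtype : Subgroup G) = Subgroup.zpowers f := by
    rw [hX3, IsPGroup.toSylow_coe, MonoidHom.map_zpowers]
    rfl
  have hCQX : pCoreOf 2 M₁ ⊓ Subgroup.centralizer (((X3 : Subgroup ↥L).map L.subtype : Subgroup G) : Set G) =
      Subgroup.zpowers z := by
    rw [hX3map]
    refine le_antisymm (fun q hq => ?_) (Subgroup.zpowers_le.mpr ⟨X.z_mem, ?_⟩)
    · exact D.fix f hf hf1 q hq.1 (Subgroup.mem_centralizer_iff.mp hq.2 f (Subgroup.mem_zpowers f))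
    · refine Subgroup.mem_centralizer_iff.mpr fun g hg => ?_
      exact N.toMData.comm_z (Subgroup.zpowers_le.mpr hfM hg)
  obtain ⟨t, ht, htv⟩ := N.toMData.exists_t
  have htne : t * v ≠ v * t := fun e => by
    rw [e, mul_inv_cancel_right] at htv
    exact N.z_ne (mul_eq_right.mp htv.symm)
  have hex : IsExtraspecial 2 ↥(pCoreOf 2 M₁) := by
    refine CfsgLargeExtra.isExtraspecial_of_ext2 (z := ⟨z, X.z_mem⟩)
      ⟨fun e => X.z_ne (congrArg Subtype.val e), fun g => ⟨fun hg => ?_, ?_⟩, fun g => ?_⟩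
      (a := ⟨t, ht⟩) (b := ⟨v, Five.vQ N⟩) fun e => htne (congrArg Subtype.val e)
    · rcases X.zpow_cases (X.center g g.2 fun q hq =>
        congrArg Subtype.val (Subgroup.mem_center_iff.mp hg ⟨q, hq⟩)) with e | e
      · exact Or.inl (Subtype.ext e)
      · exact Or.inr (Subtype.ext e)
    · rintro (rfl | rfl)
      · exact one_mem _
      · exact Subgroup.mem_center_iff.mpr fun r => Subtype.ext (X.z_comm r r.2)
    · rcases X.zpow_cases (X.sq g g.2) with e | e
      · exact Or.inl (Subtype.ext e)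
      · exact Or.inr (Subtype.ext e)
  have hz2 : orderOf z = 2 := by
    haveI : Fact (Nat.Prime 2) := ⟨Nat.prime_two⟩
    exact orderOf_eq_prime (by rw [pow_two, X.z_sq]) X.z_ne
  rcases Cfsg.Agent.S3344.result z hz2 L rfl (pCoreOf 2 M₁) hO.symm hex X.card e6 X3 hCQX
      ⟨x, by rw [N.xz]; exact Five.vQ N, by rw [N.xz]; exact N.v_ne_z⟩ with ⟨N8, hN8, -, -, h8, -⟩ | e | e | e
  · haveI := h.simple
    rcases hN8.eq_bot_or_eq_top with e | e
    · rw [e, Subgroup.card_bot] at h8; omega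
    · rw [e, Subgroup.card_top] at h8
      have := Nat.le_of_dvd (by omega) (h8 ▸ Subgroup.card_subgroup_dvd_card (pCoreOf 2 M₁))
      rw [X.card] at this
      omega
  · exact e.elim (not_iso_A8 h.solv)
  · exact e.elim (not_iso_A9 h.solv)
  · exact e.elim (not_iso_M12 h.solv)

end CfsgLib.SRFour
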