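import Mathlib
import Cfsg.Agent.Lib.SRFour.NEightComm

/-!
`|U| = 8`: the structure of `O₂(K)`.

Blueprint: `blueprint/S0517.md`, §3.
-/

set_option autoImplicit false
set_option linter.unusedSectionVars false
set_option linter.style.haveILetI false

namespace CfsgLib.SRFour

open Cfsg
open scoped commutatorElement

universe u

variable {G : Type u} [Group G] [Finite G]

theorem two_mul_card_le_of_lt {A B : Subgroup G} (h : A < B) : 2 * Nat.card A ≤ Nat.card B := by
  obtain ⟨k, hk⟩ := Subgroup.card_dvd_of_le h.le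
  have hne : Nat.card B ≠ Nat.card A := fun e => h.ne (Subgroup.eq_of_le_of_card_ge h.le e.le)
  have hB := Nat.card_pos (α := ↥B)
  rcases k with _ | _ | k
  · omega
  · omega
  · rw [hk, mul_comm 2]
    exact Nat.mul_le_mul_left _ (by omega)

/-- Two elements outside a subgroup of index two multiply into it. -/
theorem mul_mem_of_double {A B : Subgroup G} (hAB : A ≤ B) (hc : Nat.card B ≤ 2 * Nat.card A) {a b : G}
    (ha : a ∈ B) (hb : b ∈ B) (ha' : a ∉ A) (hb' : b ∉ A) : a * b ∈ A := by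
  have hi : (A.subgroupOf B).index = 2 := by
    have h := (A.subgroupOf B).card_mul_index
    rw [Nat.card_congr (Subgroup.subgroupOfEquivOfLe hAB).toEquiv] at h
    have h1 : (A.subgroupOf B).index ≠ 1 := fun e => ha' (by
      rw [Subgroup.index_eq_one, Subgroup.subgroupOf_eq_top] at e
      exact e ha)
    have h0 : (A.subgroupOf B).index ≠ 0 := Subgroup.index_ne_zero_of_finite
    have hA := Nat.card_pos (α := ↥A)
    have hle : (A.subgroupOf B).index ≤ 2 := by
      by_contra h3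
      have := Nat.mul_le_mul_left (Nat.card A) (show 3 ≤ (A.subgroupOf B).index by omega)
      omega
    omega
  have := (Subgroup.mul_mem_iff_of_index_two hi (a := (⟨a, ha⟩ : ↥B)) (b := ⟨b, hb⟩)).mpr
    (iff_of_false ha' hb')
  exact this

namespace NData.Eight

variable {S : Sylow 2 G} {K M₁ F : Subgroup G} {z v x t w : G}
variable {N : NData (S : Subgroup G) K M₁ F z v x}

theorem inv_t (E : Eight N t w) : Eight N t⁻¹ w :=
  ⟨E.comm, E.card, E.three, inv_mem E.t_Q, by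
    have hz := N.z_mem.2.2 _ (inv_mem E.t_S)
    have h := congrArg (fun a => t⁻¹ * a * t) E.tv
    simp only [show t⁻¹ * (t * v * t⁻¹) * t = v by group] at h
    rw [inv_inv]
    calc t⁻¹ * v * t = z * (t⁻¹ * (z * v) * t) := by
          rw [show t⁻¹ * (z * v) * t = (t⁻¹ * z) * v * t by group, hz]
          rw [show z * (z * t⁻¹ * v * t) = (z * z) * (t⁻¹ * v * t) by group, N.z_mem.2.1, one_mul]
      _ = z * v := by rw [← h], E.w_U, E.w_W⟩

/-- `x² w x⁻² = u₃`. -/
theorem x_u3 (_E : Eight N t w) : x * (x * (x * w * x⁻¹) * x⁻¹) * x⁻¹ = w := by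
  calc x * (x * (x * w * x⁻¹) * x⁻¹) * x⁻¹ = x ^ 3 * w * (x ^ 3)⁻¹ := by
        simp only [pow_succ, pow_zero, one_mul]; group
    _ = w := by rw [N.x_cube]; group

theorem w2_sq (E : Eight N t w) : (x * w * x⁻¹) * (x * w * x⁻¹) = 1 := by
  rw [show x * w * x⁻¹ * (x * w * x⁻¹) = x * (w * w) * x⁻¹ by group, E.w_sq]; group

theorem w3_sq (E : Eight N t w) : (x * (x * w * x⁻¹) * x⁻¹) * (x * (x * w * x⁻¹) * x⁻¹) = 1 := by
  rw [show x * (x * w * x⁻¹) * x⁻¹ * (x * (x * w * x⁻¹) * x⁻¹) = x * (x * (w * w) * x⁻¹) * x⁻¹ by group, E.w_sq]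
  group

/-- Conjugation by `O₂(K)` moves `x w x⁻¹` inside its `W`-coset. -/
theorem core_w2 (E : Eight N t w) {q : G} (hq : q ∈ pCoreOf 2 K) :
    q * (x * w * x⁻¹) * q⁻¹ * (x * w * x⁻¹) ∈ Subgroup.closure ({z, v} : Set G) := by
  have hr : x⁻¹ * q * x ∈ pCoreOf 2 K := by
    have := conj_mem_core (K.inv_mem N.x_mem) hq
    rwa [inv_inv] at this
  rw [show q * (x * w * x⁻¹) * q⁻¹ * (x * w * x⁻¹) = x * (x⁻¹ * q * x * w * (x⁻¹ * q * x)⁻¹ * w) * x⁻¹ by group]
  exact E.W_x (E.core_w hr)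

theorem core_w3 (E : Eight N t w) {q : G} (hq : q ∈ pCoreOf 2 K) :
    q * (x * (x * w * x⁻¹) * x⁻¹) * q⁻¹ * (x * (x * w * x⁻¹) * x⁻¹) ∈ Subgroup.closure ({z, v} : Set G) := by
  have hr : x⁻¹ * q * x ∈ pCoreOf 2 K := by
    have := conj_mem_core (K.inv_mem N.x_mem) hq
    rwa [inv_inv] at this
  set b := x * w * x⁻¹
  rw [show q * (x * b * x⁻¹) * q⁻¹ * (x * b * x⁻¹) = x * (x⁻¹ * q * x * b * (x⁻¹ * q * x)⁻¹ * b) * x⁻¹ by group]
  exact E.W_x (E.core_w2 hr)

/-- The commutator of `w` and `x w x⁻¹` is `zv`. -/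
theorem comm_value (h : Hard G) (E : Eight N t w) : ⁅w, x * w * x⁻¹⁆ = z * v := by
  set b := x * w * x⁻¹ with hb
  have he : ⁅w, b⁆ ∈ Subgroup.closure ({z, v} : Set G) := by
    rw [commutatorElement_def, inv_eq_of_mul_eq_one_right E.w2_sq]
    exact E.core_w2 E.w_core
  obtain ⟨-, hgz, hgv, -⟩ := N.swap E.t_S E.tv
  set W := Subgroup.closure ({z, v} : Set G)
  obtain ⟨a, ha, hta⟩ : ∃ a ∈ W, t * w * t⁻¹ = a * w := by
    rcases E.U_cases' (N.U_conj E.t_S E.w_U) with e | e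
    · exfalso
      refine E.w_W ?_
      have h1 := e
      rcases N.mem_four e with e' | e' | e' | e'
      all_goals
        have h2 : w = t⁻¹ * (t * w * t⁻¹) * t := by group
        rw [e'] at h2
        rw [h2]
      · simp
      · rw [N.z_mem.2.2 _ (inv_mem E.t_S), inv_mul_cancel_right]; exact Subgroup.subset_closure (Or.inl rfl)
      · have := E.inv_t.tv
        rw [inv_inv] at this
        rw [this]
        exact mul_mem (Subgroup.subset_closure (Or.inl rfl)) (Subgroup.subset_closure (Or.inr rfl))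
      · have := E.inv_t.tv
        rw [inv_inv] at this
        rw [show t⁻¹ * (z * v) * t = (t⁻¹ * z) * t * (t⁻¹ * v * t) by group, N.z_mem.2.2 _ (inv_mem E.t_S),
          inv_mul_cancel_right, this, ← mul_assoc, N.z_mem.2.1, one_mul]
        exact Subgroup.subset_closure (Or.inr rfl)
    · exact ⟨_, e, by rw [mul_assoc (t * w * t⁻¹), E.w_sq, mul_one]⟩
  obtain ⟨a', ha', htb⟩ : ∃ a' ∈ W, t * b * t⁻¹ = a' * (x * b * x⁻¹) :=
    ⟨_, E.t_w2, by
      have h3 : (x * b * x⁻¹) * (x * b * x⁻¹) = 1 := E.w3_sq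
      rw [mul_assoc _ (x * b * x⁻¹), h3, mul_one]⟩
  have hg1 : x * t * w * (x * t)⁻¹ = (x * a * x⁻¹) * b := by
    rw [show x * t * w * (x * t)⁻¹ = x * (t * w * t⁻¹) * x⁻¹ by group, hta, hb]; group
  have hg2 : x * t * b * (x * t)⁻¹ = (x * a' * x⁻¹) * w := by
    rw [show x * t * b * (x * t)⁻¹ = x * (t * b * t⁻¹) * x⁻¹ by group, htb,
      show x * (a' * (x * b * x⁻¹)) * x⁻¹ = (x * a' * x⁻¹) * (x * (x * b * x⁻¹) * x⁻¹) by group, hb, E.x_u3]
  have cW : ∀ {q c : G}, q ∈ pCoreOf 2 K → c ∈ W → Commute q c := fun hq hc => E.core_W hq hc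
  have hfixed : x * t * ⁅w, b⁆ * (x * t)⁻¹ = ⁅w, b⁆ := by
    set c₁ := x * a * x⁻¹
    set c₂ := x * a' * x⁻¹
    have hc1 : c₁ ∈ W := E.W_x ha
    have hc2 : c₂ ∈ W := E.W_x ha'
    have k1 : Commute c₁ w := (cW E.w_core hc1).symm
    have k2 : Commute c₂ b := (cW E.w2_core hc2).symm
    have k3 : Commute c₁ c₂ := E.comm _ (E.W_U hc1) _ (E.W_U hc2)
    have h1 : ⁅c₁ * b, c₂ * w⁆ = ⁅b, w⁆ := by
      have e1 : c₁ * b * (c₂ * w) = c₁ * c₂ * (b * w) := by
        calc c₁ * b * (c₂ * w) = c₁ * (b * c₂) * w := by group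
          _ = c₁ * c₂ * (b * w) := by rw [← k2.eq]; group
      have e2 : c₂ * w * (c₁ * b) = c₁ * c₂ * (w * b) := by
        calc c₂ * w * (c₁ * b) = c₂ * (w * c₁) * b := by group
          _ = c₂ * c₁ * (w * b) := by rw [← k1.eq]; group
          _ = c₁ * c₂ * (w * b) := by rw [k3.eq]
      calc ⁅c₁ * b, c₂ * w⁆ = (c₁ * b * (c₂ * w)) * (c₂ * w * (c₁ * b))⁻¹ := by
            simp only [commutatorElement_def]; group
        _ = c₁ * c₂ * ⁅b, w⁆ * (c₁ * c₂)⁻¹ := by rw [e1, e2]; simp only [commutatorElement_def]; group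
        _ = ⁅b, w⁆ := by
          have hm : ⁅b, w⁆ ∈ W := by rw [← commutatorElement_inv]; exact inv_mem he
          rw [E.comm _ (mul_mem (E.W_U hc1) (E.W_U hc2)) _ (E.W_U hm), mul_inv_cancel_right]
    calc x * t * ⁅w, b⁆ * (x * t)⁻¹ = ⁅x * t * w * (x * t)⁻¹, x * t * b * (x * t)⁻¹⁆ := by
          simp only [commutatorElement_def]; group
      _ = ⁅b, w⁆ := by rw [hg1, hg2, h1]
      _ = ⁅w, b⁆ := by rw [← commutatorElement_inv]; exact inv_eq_of_mul_eq_one_right (E.W_sq he)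
  rcases N.mem_four he with e | e | e | e
  · exact absurd (commutatorElement_eq_one_iff_mul_comm.mp e) (E.noncomm h)
  · exfalso
    rw [e, hgz] at hfixed
    exact N.v_ne_z hfixed
  · exfalso
    rw [e, hgv] at hfixed
    exact N.v_ne_z hfixed.symm
  · exact e

/-- The three commutators. -/
theorem comm_values (h : Hard G) (E : Eight N t w) :
    ⁅w, x * w * x⁻¹⁆ = z * v ∧ ⁅x * w * x⁻¹, x * (x * w * x⁻¹) * x⁻¹⁆ = z ∧
      ⁅x * (x * w * x⁻¹) * x⁻¹, w⁆ = v := by
  have h1 := E.comm_value h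
  have hx : ∀ a b : G, ⁅x * a * x⁻¹, x * b * x⁻¹⁆ = x * ⁅a, b⁆ * x⁻¹ := fun a b => by
    simp only [commutatorElement_def]; group
  have h2 : ⁅x * w * x⁻¹, x * (x * w * x⁻¹) * x⁻¹⁆ = z := by rw [hx, h1, N.xzv]
  refine ⟨h1, h2, ?_⟩
  conv_lhs => arg 2; rw [← E.x_u3]
  rw [hx, h2, N.xz]

theorem w2_notQ (h : Hard G) (E : Eight N t w) : x * w * x⁻¹ ∉ pCoreOf 2 M₁ := fun hm => by
  have h1 := N.toMData.comm_U hm E.w_U
  rw [← commutatorElement_inv, (E.comm_values h).1] at h1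
  have := inv_mem h1
  rw [inv_inv] at this
  refine N.toMData.conj_v_ne F.one_mem ?_
  have h2 := mul_mem (Subgroup.mem_zpowers z) this
  rw [← mul_assoc, N.z_mem.2.1, one_mul] at h2
  simpa using h2

theorem w3_notQ (h : Hard G) (E : Eight N t w) : x * (x * w * x⁻¹) * x⁻¹ ∉ pCoreOf 2 M₁ := fun hm => by
  have h1 := N.toMData.comm_U hm E.w_U
  rw [(E.comm_values h).2.2] at h1
  exact N.toMData.conj_v_ne F.one_mem (by simpa using h1)

theorem c_props (h : Hard G) (E : Eight N t w) :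
    let c := (x * w * x⁻¹) * (x * (x * w * x⁻¹) * x⁻¹)
    c ∈ pCoreOf 2 M₁ ∧ c ∈ pCoreOf 2 K ∧ c * w * c⁻¹ = z * w ∧ c * c = z := by
  intro c
  obtain ⟨h12, h23, h31⟩ := E.comm_values h
  set b := x * w * x⁻¹
  set d := x * b * x⁻¹
  have hb2 : b * b = 1 := E.w2_sq
  have hd2 : d * d = 1 := E.w3_sq
  refine ⟨N.toMData.mul_mem_Q E.three (N.core_le_S E.w2_core) (N.core_le_S E.w3_core) (E.w2_notQ h) (E.w3_notQ h),
    mul_mem E.w2_core E.w3_core, ?_, ?_⟩
  · have e1 : d * w * d⁻¹ = v * w := by rw [← h31]; simp only [commutatorElement_def]; group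
    have e2 : b * w * b⁻¹ = z * v * w := by
      have h0 : ⁅b, w⁆ = z * v := by
        rw [← commutatorElement_inv, h12]
        exact inv_eq_of_mul_eq_one_right (N.U_exp_two E.comm (mul_mem N.toMData.z_U N.toMData.v_U))
      rw [← h0]; simp only [commutatorElement_def]; group
    calc c * w * c⁻¹ = b * (d * w * d⁻¹) * b⁻¹ := by simp only [c, b, d]; group
      _ = (b * v * b⁻¹) * (b * w * b⁻¹) := by rw [e1]; group
      _ = v * (z * v * w) := by
        rw [show b * v = v * b from N.core_v b E.w2_core, mul_inv_cancel_right, e2]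
      _ = (v * z) * v * w := by group
      _ = z * (v * v) * w := by rw [← N.toMData.zv]; group
      _ = z * w := by rw [N.v_sq, mul_one]
  · calc c * c = ⁅b, d⁆ * (d * (b * b) * d) := by simp only [c, b, d, commutatorElement_def]; group
      _ = z := by rw [h23, hb2, mul_one, hd2, mul_one]

/-- Elementary `W`-layers centralising `Y` are small. -/
theorem chain (h : Hard G) (E : Eight N t w) {R : Subgroup G} (hWR : Subgroup.closure ({z, v} : Set G) ≤ R)
    (hR : R ≤ pCoreOf 2 K) (h1 : ∀ r ∈ R, r * w = w * r)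
    (h2 : ∀ r ∈ R, r * (x * w * x⁻¹) = x * w * x⁻¹ * r) :
    8 * Nat.card R ≤
      Nat.card ↥(Subgroup.closure ((R : Set G) ∪ {w, x * w * x⁻¹, x * (x * w * x⁻¹) * x⁻¹})) := by
  classical
  obtain ⟨h12, h23, h31⟩ := E.comm_values h
  set b := x * w * x⁻¹
  set d := x * b * x⁻¹
  set W := Subgroup.closure ({z, v} : Set G)
  set H := Subgroup.closure ((R : Set G) ∪ {w, b, d})
  have hH : H ≤ pCoreOf 2 K := (Subgroup.closure_le _).mpr (by
    rintro a (ha | rfl | rfl | rfl)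
    · exact hR ha
    · exact E.w_core
    · exact E.w2_core
    · exact E.w3_core)
  have hcomm : ∀ a ∈ H, ⁅a, w⁆ ∈ W := fun a ha => by
    rw [commutatorElement_def, inv_eq_of_mul_eq_one_right E.w_sq]
    exact E.core_w (hH ha)
  have hmul : ∀ a ∈ H, ∀ a' ∈ H, ⁅a * a', w⁆ = ⁅a, w⁆ * ⁅a', w⁆ := fun a ha a' ha' => by
    rw [show ⁅a * a', w⁆ = (a * ⁅a', w⁆ * a⁻¹) * ⁅a, w⁆ by simp only [commutatorElement_def]; group,
      E.core_W (hH ha) (hcomm a' ha'), mul_inv_cancel_right]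
    exact E.comm _ (E.W_U (hcomm a' ha')) _ (E.W_U (hcomm a ha))
  have hinv : ∀ a ∈ H, ⁅a⁻¹, w⁆ = ⁅a, w⁆⁻¹ := fun a ha => by
    refine eq_inv_of_mul_eq_one_left ?_
    rw [← hmul a⁻¹ (inv_mem ha) a ha, inv_mul_cancel]
    simp
  let K1 : Subgroup G :=
    { carrier := {a | a ∈ H ∧ ⁅a, w⁆ = 1}
      one_mem' := ⟨one_mem _, by simp⟩
      mul_mem' := fun {a a'} ha ha' => ⟨mul_mem ha.1 ha'.1, by rw [hmul a ha.1 a' ha'.1, ha.2, ha'.2, one_mul]⟩
      inv_mem' := fun {a} ha => ⟨inv_mem ha.1, by rw [hinv a ha.1, ha.2, inv_one]⟩ }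
  let K2 : Subgroup G :=
    { carrier := {a | a ∈ H ∧ ⁅a, w⁆ ∈ Subgroup.zpowers (z * v)}
      one_mem' := ⟨one_mem _, by simp⟩
      mul_mem' := fun {a a'} ha ha' => ⟨mul_mem ha.1 ha'.1, by rw [hmul a ha.1 a' ha'.1]; exact mul_mem ha.2 ha'.2⟩
      inv_mem' := fun {a} ha => ⟨inv_mem ha.1, by rw [hinv a ha.1]; exact inv_mem ha.2⟩ }
  have hwH : w ∈ H := Subgroup.subset_closure (Or.inr (Or.inl rfl))
  have hbH : b ∈ H := Subgroup.subset_closure (Or.inr (Or.inr (Or.inl rfl)))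
  have hdH : d ∈ H := Subgroup.subset_closure (Or.inr (Or.inr (Or.inr rfl)))
  set R1 := R ⊔ Subgroup.zpowers w
  have l1 : R < R1 := lt_of_le_of_ne le_sup_left fun e => by
    have hwR : w ∈ R := e.ge (Subgroup.mem_sup_right (Subgroup.mem_zpowers w))
    exact E.noncomm h (h2 w hwR)
  have l2 : R1 ≤ K1 := sup_le
    (fun r hr => ⟨Subgroup.subset_closure (Or.inl hr), commutatorElement_eq_one_iff_mul_comm.mpr (h1 r hr)⟩)
    (Subgroup.zpowers_le.mpr ⟨hwH, commutatorElement_self w⟩)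
  have hzv1 : z * v ≠ 1 := fun e => N.v_ne_z (by
    rw [eq_inv_of_mul_eq_one_right e]; exact inv_eq_of_mul_eq_one_right N.z_mem.2.1)
  have hzv2 : z * v * (z * v) = 1 := E.W_sq (mul_mem (Subgroup.subset_closure (Or.inl rfl))
    (Subgroup.subset_closure (Or.inr rfl)))
  have hbw : ⁅b, w⁆ = z * v := by rw [← commutatorElement_inv, h12, inv_eq_of_mul_eq_one_right hzv2]
  have l3 : K1 < K2 := lt_of_le_of_ne (fun a ha => ⟨ha.1, by rw [ha.2]; exact one_mem _⟩) fun e => by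
    have hb1 : b ∈ K1 := e.ge ⟨hbH, by rw [hbw]; exact Subgroup.mem_zpowers _⟩
    exact hzv1 (hbw ▸ hb1.2)
  have l4 : K2 < H := lt_of_le_of_ne (fun a ha => ha.1) fun e => by
    have hd2 : d ∈ K2 := e.ge hdH
    have hv : ⁅d, w⁆ ∈ Subgroup.zpowers (z * v) := hd2.2
    rw [h31] at hv
    rcases mem_two hzv2 hv with e' | e'
    · exact N.v_ne e'
    · exact N.z_ne (right_eq_mul.mp e')
  have c1 := two_mul_card_le_of_lt l1
  have c2 := Subgroup.card_le_of_le l2
  have c3 := two_mul_card_le_of_lt l3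
  have c4 := two_mul_card_le_of_lt l4
  omega

theorem card_W' (E : Eight N t w) : Nat.card (Subgroup.closure ({z, v} : Set G)) ≤ 4 := by
  classical
  let φ : ↥(Subgroup.closure ({z, v} : Set G)) → Fin 4 := fun a =>
    if (a : G) = 1 then 0 else if (a : G) = z then 1 else if (a : G) = v then 2 else 3
  have hφ : Function.Injective φ := by
    rintro ⟨a, ha⟩ ⟨a', ha'⟩ e
    refine Subtype.ext ?_
    have hzv1 : z * v ≠ 1 := fun e => N.v_ne_z (by
      rw [eq_inv_of_mul_eq_one_right e]; exact inv_eq_of_mul_eq_one_right N.z_mem.2.1)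
    have hzv2 : z * v ≠ z := fun e => N.v_ne (mul_eq_left.mp e)
    have hzv3 : z * v ≠ v := fun e => N.z_ne (mul_eq_right.mp e)
    rcases N.mem_four ha with rfl | rfl | rfl | rfl <;> rcases N.mem_four ha' with rfl | rfl | rfl | rfl <;>
      first
      | rfl
      | (exfalso; simp [φ, N.z_ne, N.v_ne, N.v_ne_z, hzv1, hzv2, hzv3] at e)
  simpa using Nat.card_le_card_of_injective φ hφ

/-- Only `W` centralises `w`, `x w x⁻¹` and `x² w x⁻²` in `O₂(K)`. -/
theorem cent_Y (h : Hard G) (E : Eight N t w) {b : G} (hb : b ∈ pCoreOf 2 K) (h1 : b * w = w * b)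
    (h2 : b * (x * w * x⁻¹) = x * w * x⁻¹ * b)
    (h3 : b * (x * (x * w * x⁻¹) * x⁻¹) = x * (x * w * x⁻¹) * x⁻¹ * b) :
    b ∈ Subgroup.closure ({z, v} : Set G) := by
  classical
  haveI : Fact (Nat.Prime 2) := ⟨Nat.prime_two⟩
  obtain ⟨h12, h23, h31⟩ := E.comm_values h
  obtain ⟨hcQ, hcK, hcw, -⟩ := E.c_props h
  set u2 := x * w * x⁻¹ with hu2
  set u3 := x * u2 * x⁻¹ with hu3
  set W := Subgroup.closure ({z, v} : Set G) with hW
  let B : Subgroup G := pCoreOf 2 K ⊓ Subgroup.centralizer ({w, u2, u3} : Set G)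
  have hB : ∀ a ∈ B, a * w = w * a ∧ a * u2 = u2 * a ∧ a * u3 = u3 * a := fun a ha =>
    ⟨(Subgroup.mem_centralizer_iff.mp ha.2 w (Or.inl rfl)).symm,
      (Subgroup.mem_centralizer_iff.mp ha.2 u2 (Or.inr (Or.inl rfl))).symm,
      (Subgroup.mem_centralizer_iff.mp ha.2 u3 (Or.inr (Or.inr rfl))).symm⟩
  have hBi : ∀ a, a ∈ pCoreOf 2 K → a * w = w * a → a * u2 = u2 * a → a * u3 = u3 * a → a ∈ B :=
    fun a ha e1 e2 e3 => ⟨ha, Subgroup.mem_centralizer_iff.mpr (by
      rintro _ (rfl | rfl | rfl)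
      · exact e1.symm
      · exact e2.symm
      · exact e3.symm)⟩
  by_contra hbW
  have hWB : W ≤ B := fun a ha => by
    have hc : ∀ q ∈ pCoreOf 2 K, a * q = q * a := fun q hq => (E.core_W hq ha).symm
    refine hBi a ((Subgroup.closure_le _).mpr ?_ ha) (hc w E.w_core) (hc u2 E.w2_core) (hc u3 E.w3_core)
    rintro _ (rfl | rfl)
    · exact N.z_core
    · exact N.v_core
  -- the subgroup of elements of `B` which are central involutions modulo `W`
  have cW : ∀ {q a : G}, q ∈ pCoreOf 2 K → a ∈ W → q * a = a * q := fun hq ha => E.core_W hq ha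
  let R : Subgroup G :=
    { carrier := {a | a ∈ B ∧ a * a ∈ W ∧ ∀ a' ∈ B, ⁅a, a'⁆ ∈ W}
      one_mem' := ⟨one_mem _, by simp, fun a' _ => by simp⟩
      mul_mem' := fun {a a'} ha ha' => by
        refine ⟨mul_mem ha.1 ha'.1, ?_, fun d hd => ?_⟩
        · have hm : ⁅a', a⁆ ∈ W := ha'.2.2 a ha.1
          rw [show a * a' * (a * a') = a * ⁅a', a⁆ * a * (a' * a') by simp only [commutatorElement_def]; group,
            cW ha.1.1 hm, mul_assoc ⁅a', a⁆ a a]
          exact mul_mem (mul_mem hm ha.2.1) ha'.2.1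
        · rw [show ⁅a * a', d⁆ = (a * ⁅a', d⁆ * a⁻¹) * ⁅a, d⁆ by simp only [commutatorElement_def]; group,
            cW ha.1.1 (ha'.2.2 d hd), mul_inv_cancel_right]
          exact mul_mem (ha'.2.2 d hd) (ha.2.2 d hd)
      inv_mem' := fun {a} ha => by
        refine ⟨inv_mem ha.1, ?_, fun d hd => ?_⟩
        · rw [← mul_inv_rev]; exact inv_mem ha.2.1
        · rw [show ⁅a⁻¹, d⁆ = a⁻¹ * ⁅a, d⁆⁻¹ * a by simp only [commutatorElement_def]; group,
            cW (inv_mem ha.1.1) (inv_mem (ha.2.2 d hd)), inv_mul_cancel_right]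
          exact inv_mem (ha.2.2 d hd) }
  obtain ⟨k, hkR, hkW⟩ : ∃ k ∈ R, k ∉ W := by
    haveI : (W.subgroupOf B).Normal := ⟨fun a ha g => by
      show ((g * a * g⁻¹ : ↥B) : G) ∈ W
      have ha' : (a : G) ∈ W := ha
      rw [Subgroup.coe_mul, Subgroup.coe_mul, Subgroup.coe_inv, cW g.2.1 ha', mul_inv_cancel_right]
      exact ha'⟩
    set π := QuotientGroup.mk' (W.subgroupOf B)
    have hP : IsPGroup 2 (↥B ⧸ W.subgroupOf B) := ((core_two K).to_le inf_le_left).to_quotient _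
    haveI : Nontrivial (↥B ⧸ W.subgroupOf B) := ⟨⟨π ⟨b, hBi b hb h1 h2 h3⟩, 1, fun e =>
      hbW ((QuotientGroup.eq_one_iff _).mp e : (⟨b, hBi b hb h1 h2 h3⟩ : ↥B) ∈ W.subgroupOf B)⟩⟩
    haveI := hP.center_nontrivial
    have h2c : 2 ∣ Nat.card (Subgroup.center (↥B ⧸ W.subgroupOf B)) := by
      obtain ⟨n, hn⟩ := IsPGroup.iff_card.mp (hP.to_subgroup (Subgroup.center (↥B ⧸ W.subgroupOf B)))
      rw [hn]
      refine dvd_pow_self 2 ?_
      rintro rfl
      have := Finite.one_lt_card (α := ↥(Subgroup.center (↥B ⧸ W.subgroupOf B)))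
      rw [hn] at this
      simp at this
    obtain ⟨⟨c, hc⟩, ho⟩ := exists_prime_orderOf_dvd_card' 2 h2c
    rw [Subgroup.orderOf_mk] at ho
    obtain ⟨k, rfl⟩ := QuotientGroup.mk'_surjective _ c
    refine ⟨k, ⟨k.2, ?_, fun d hd => ?_⟩, fun hk => ?_⟩
    · have h' : π k * π k = 1 := by rw [← pow_two, ← ho, pow_orderOf_eq_one]
      rw [← map_mul] at h'
      exact (QuotientGroup.eq_one_iff (k * k : ↥B)).mp h'
    · have h' : π ⁅k, ⟨d, hd⟩⁆ = 1 := by
        rw [map_commutatorElement, commutatorElement_eq_one_iff_mul_comm]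
        exact (Subgroup.mem_center_iff.mp hc _).symm
      exact (QuotientGroup.eq_one_iff (⁅k, ⟨d, hd⟩⁆ : ↥B)).mp h'
    · have h' : π k = 1 := (QuotientGroup.eq_one_iff _).mpr hk
      rw [h', orderOf_one] at ho
      omega
  have hWR : W ≤ R := fun a ha => ⟨hWB ha, by rw [E.W_sq ha]; exact one_mem _, fun d hd => by
    rw [commutatorElement_eq_one_iff_mul_comm.mpr (cW hd.1 ha).symm]; exact one_mem _⟩
  have hR8 : Nat.card R ≤ 2 * Nat.card W := by
    have hch := E.chain h hWR (fun a ha => ha.1.1) (fun a ha => (hB a ha.1).1) (fun a ha => (hB a ha.1).2.1)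
    set X : Set G := (R : Set G) ∪ {w, u2, u3}
    have hX : ∀ a ∈ X, a ∈ pCoreOf 2 K := by
      rintro a (ha | rfl | rfl | rfl)
      · exact ha.1.1
      · exact E.w_core
      · exact E.w2_core
      · exact E.w3_core
    have hn : ∀ a ∈ pCoreOf 2 K, ∀ n ∈ W, a * n * a⁻¹ ∈ W := fun a ha n hn => by
      rw [cW ha hn, mul_inv_cancel_right]; exact hn
    have hn' : ∀ a ∈ X, ∀ n ∈ W, a⁻¹ * n * a ∈ W := fun a ha n hn => by
      rw [cW (inv_mem (hX a ha)) hn, inv_mul_cancel_right]; exact hn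
    have one : ∀ {p r : G}, p * r = r * p → ⁅p, r⁆ ∈ W := fun e => by
      rw [commutatorElement_eq_one_iff_mul_comm.mpr e]; exact one_mem _
    have hz : z ∈ W := Subgroup.subset_closure (Or.inl rfl)
    have hv : v ∈ W := Subgroup.subset_closure (Or.inr rfl)
    have hsq := sq_mem_closure (fun a ha => hn a (hX a ha)) hn' (by
      rintro a (ha | rfl | rfl | rfl)
      · exact ha.2.1
      · rw [E.w_sq]; exact one_mem _
      · rw [E.w2_sq]; exact one_mem _
      · rw [E.w3_sq]; exact one_mem _) (by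
      rintro p (hp | rfl | rfl | rfl) r (hr | rfl | rfl | rfl)
      · exact hp.2.2 r hr.1
      · exact one (hB p hp.1).1
      · exact one (hB p hp.1).2.1
      · exact one (hB p hp.1).2.2
      · exact one (hB r hr.1).1.symm
      · exact one rfl
      · rw [h12]; exact mul_mem hz hv
      · rw [← commutatorElement_inv, h31]; exact inv_mem hv
      · exact one (hB r hr.1).2.1.symm
      · rw [← commutatorElement_inv, h12]; exact inv_mem (mul_mem hz hv)
      · exact one rfl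
      · rw [h23]; exact hz
      · exact one (hB r hr.1).2.2.symm
      · rw [h31]; exact hv
      · rw [← commutatorElement_inv, h23]; exact inv_mem hz
      · exact one rfl)
    have hb' := card_le_of_sq h.sect (N := W) (H := Subgroup.closure X)
      (hWR.trans (fun a ha => Subgroup.subset_closure (Or.inl ha)))
      (fun a ha => Subgroup.mem_normalizer_fintype (hn a ((Subgroup.closure_le _).mpr hX ha))) hsq
    omega
  have hRconj : ∀ {a : G}, a ∈ R → ∀ {q : G}, q ∈ pCoreOf 2 K → q * a * q⁻¹ ∈ R := by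
    intro a ha q hq
    have hBq : ∀ d ∈ B, ∀ r ∈ pCoreOf 2 K, r * d * r⁻¹ ∈ B := by
      intro d hd r hr
      obtain ⟨e1, e2, e3⟩ := hB d hd
      have gen : ∀ p : G, r⁻¹ * p * r * p ∈ W → p * p = 1 → d * p = p * d →
          r * d * r⁻¹ * p = p * (r * d * r⁻¹) := by
        intro p hp hp2 e
        have hc : Commute d (r⁻¹ * p * r) := by
          rw [show r⁻¹ * p * r = (r⁻¹ * p * r * p) * p by rw [mul_assoc _ p p, hp2, mul_one]]
          exact Commute.mul_right (cW hd.1 hp) e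
        calc r * d * r⁻¹ * p = r * (d * (r⁻¹ * p * r)) * r⁻¹ := by group
          _ = p * (r * d * r⁻¹) := by rw [hc.eq]; group
      refine hBi _ (mul_mem (mul_mem hr hd.1) (inv_mem hr)) (gen w ?_ E.w_sq e1) (gen u2 ?_ E.w2_sq e2)
        (gen u3 ?_ E.w3_sq e3)
      · simpa using E.core_w (inv_mem hr)
      · simpa using E.core_w2 (inv_mem hr)
      · simpa using E.core_w3 (inv_mem hr)
    refine ⟨hBq a ha.1 q hq, ?_, fun d hd => ?_⟩
    · rw [show q * a * q⁻¹ * (q * a * q⁻¹) = q * (a * a) * q⁻¹ by group, cW hq ha.2.1, mul_inv_cancel_right]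
      exact ha.2.1
    · have hd' : q⁻¹ * d * q ∈ B := by simpa using hBq d hd q⁻¹ (inv_mem hq)
      rw [show ⁅q * a * q⁻¹, d⁆ = q * ⁅a, q⁻¹ * d * q⁆ * q⁻¹ by simp only [commutatorElement_def]; group,
        cW hq (ha.2.2 _ hd'), mul_inv_cancel_right]
      exact ha.2.2 _ hd'
  have hRW : ∀ {a d : G}, a ∈ R → d ∈ R → a ∉ W → d ∉ W → a * d⁻¹ ∈ W := fun ha hd ha' hd' =>
    mul_mem_of_double hWR hR8 ha (inv_mem hd) ha' fun e => hd' (by simpa using inv_mem e)
  -- an `x`-fixed element of `R` outside `W`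
  have hxk : x * k * x⁻¹ * k⁻¹ ∈ W := by
    refine hRW ?_ hkR ?_ hkW
    · have hBx : ∀ d ∈ B, x * d * x⁻¹ ∈ B := by
        intro d hd
        obtain ⟨e1, e2, e3⟩ := hB d hd
        have gen : ∀ p : G, d * p = p * d → x * d * x⁻¹ * (x * p * x⁻¹) = x * p * x⁻¹ * (x * d * x⁻¹) :=
          fun p e => by
            calc x * d * x⁻¹ * (x * p * x⁻¹) = x * (d * p) * x⁻¹ := by group
              _ = _ := by rw [e]; group
        refine hBi _ (conj_mem_core N.x_mem hd.1) ?_ ?_ ?_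
        · have := gen u3 e3
          rwa [show x * u3 * x⁻¹ = w from E.x_u3] at this
        · exact gen w e1
        · exact gen u2 e2
      refine ⟨hBx k hkR.1, ?_, fun d hd => ?_⟩
      · rw [show x * k * x⁻¹ * (x * k * x⁻¹) = x * (k * k) * x⁻¹ by group]
        exact E.W_x hkR.2.1
      · have hd' : x * (x * d * x⁻¹) * x⁻¹ ∈ B := hBx _ (hBx d hd)
        have e : x * (x * (x * d * x⁻¹) * x⁻¹) * x⁻¹ = d := by
          calc x * (x * (x * d * x⁻¹) * x⁻¹) * x⁻¹ = x ^ 3 * d * (x ^ 3)⁻¹ := by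
                simp only [pow_succ, pow_zero, one_mul]; group
            _ = d := by rw [N.x_cube]; group
        rw [← e, show ⁅x * k * x⁻¹, x * (x * (x * d * x⁻¹) * x⁻¹) * x⁻¹⁆
          = x * ⁅k, x * (x * d * x⁻¹) * x⁻¹⁆ * x⁻¹ by simp only [commutatorElement_def]; group]
        exact E.W_x (hkR.2.2 _ hd')
    · intro e
      refine hkW ?_
      have h' := E.W_x (E.W_x e)
      rwa [show x * (x * (x * k * x⁻¹) * x⁻¹) * x⁻¹ = x ^ 3 * k * (x ^ 3)⁻¹ by
        simp only [pow_succ, pow_zero, one_mul]; group, N.x_cube, one_mul, inv_one, mul_one] at h'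
  obtain ⟨a, ha, hfix⟩ : ∃ a ∈ W, x * (a * k) * x⁻¹ = a * k := by
    have hz : z ∈ W := Subgroup.subset_closure (Or.inl rfl)
    have hv : v ∈ W := Subgroup.subset_closure (Or.inr rfl)
    have key : ∀ a : G, x * (a * k) * x⁻¹ = (x * a * x⁻¹) * (x * k * x⁻¹ * k⁻¹) * k := fun a => by group
    have hzv := N.toMData.zv
    rcases N.mem_four hxk with e | e | e | e
    · exact ⟨1, one_mem _, by rw [key, e]; group⟩
    · refine ⟨v, hv, ?_⟩
      rw [key, e, N.xv, mul_assoc z v z, ← hzv, ← mul_assoc z z v, N.z_mem.2.1, one_mul]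
    · refine ⟨z * v, mul_mem hz hv, ?_⟩
      rw [key, e, N.xzv]
    · refine ⟨z, hz, ?_⟩
      rw [key, e, N.xz, ← mul_assoc v z v, ← hzv, mul_assoc z v v, N.v_sq, mul_one]
  set k0 := a * k
  have hk0R : k0 ∈ R := mul_mem (hWR ha) hkR
  have hk0W : k0 ∉ W := fun e => hkW (by simpa [k0] using mul_mem (inv_mem ha) e)
  obtain ⟨e1, e2, e3⟩ := hB k0 hk0R.1
  have hk0Q : k0 ∈ pCoreOf 2 M₁ := by
    by_contra hh
    have hm := N.toMData.comm_U
      (N.toMData.mul_mem_Q E.three (N.core_le_S hk0R.1.1) (N.core_le_S E.w2_core) hh (E.w2_notQ h)) E.w_U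
    rw [show ⁅k0 * u2, w⁆ = (k0 * ⁅u2, w⁆ * k0⁻¹) * ⁅k0, w⁆ by simp only [commutatorElement_def]; group,
      commutatorElement_eq_one_iff_mul_comm.mpr e1, mul_one, ← commutatorElement_inv, h12,
      cW hk0R.1.1 (inv_mem (mul_mem (Subgroup.subset_closure (Or.inl rfl)) (Subgroup.subset_closure (Or.inr rfl)))),
      mul_inv_cancel_right] at hm
    refine N.toMData.conj_v_ne F.one_mem ?_
    have h' := mul_mem (Subgroup.mem_zpowers z) (inv_mem hm)
    rw [inv_inv, ← mul_assoc, N.z_mem.2.1, one_mul] at h'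
    simpa using h'
  have hphi : ∀ {q : G}, q ∈ pCoreOf 2 K → ⁅k0, q⁆ ∈ W := by
    intro q hq
    have hm := hRconj hk0R hq
    have h' := hRW hk0R hm hk0W (fun e => hk0W ?_)
    · rw [show ⁅k0, q⁆ = k0 * (q * k0 * q⁻¹)⁻¹ by simp only [commutatorElement_def]; group]
      exact h'
    · have := cW (inv_mem hq) e
      rw [show k0 = q⁻¹ * (q * k0 * q⁻¹) * q by group, this, inv_mul_cancel_right]
      exact e
  have hsplit : ∀ {q r : G}, q ∈ pCoreOf 2 K → r * k0 = k0 * r → ⁅k0, q * r⁆ = ⁅k0, q⁆ := by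
    intro q r _ hr
    rw [show ⁅k0, q * r⁆ = ⁅k0, q⁆ * (q * ⁅k0, r⁆ * q⁻¹) by simp only [commutatorElement_def]; group,
      commutatorElement_eq_one_iff_mul_comm.mpr hr.symm]
    group
  -- an odd element acting trivially on `C_{Q₁}(U)/U`
  let C : Subgroup G := pCoreOf 2 M₁ ⊓ Subgroup.centralizer (N.toMData.U : Set G)
  have hCn : ∀ m ∈ M₁, ∀ d ∈ C, m * d * m⁻¹ ∈ C := by
    intro m hm d hd
    refine ⟨N.toMData.conj_mem_Q hm hd.1, Subgroup.mem_centralizer_iff.mpr fun p hp => ?_⟩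
    have hp' : m⁻¹ * p * m ∈ N.toMData.U := by
      have := (Subgroup.mem_normalizer_iff.mp (N.toMData.U_norm (M₁.inv_mem hm)) p).mp hp
      rwa [inv_inv] at this
    calc p * (m * d * m⁻¹) = m * ((m⁻¹ * p * m) * d) * m⁻¹ := by group
      _ = m * d * m⁻¹ * p := by rw [Subgroup.mem_centralizer_iff.mp hd.2 _ hp']; group
  have hUn : ∀ m ∈ M₁, ∀ p ∈ N.toMData.U, m * p * m⁻¹ ∈ N.toMData.U := fun m hm p hp =>
    (Subgroup.mem_normalizer_iff.mp (N.toMData.U_norm hm) p).mp hp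
  let A : Subgroup G :=
    { carrier := {m | m ∈ M₁ ∧ ∀ d ∈ C, ⁅d, m⁆ ∈ N.toMData.U}
      one_mem' := ⟨M₁.one_mem, fun d _ => by simp⟩
      mul_mem' := fun {p r} hp hr => ⟨M₁.mul_mem hp.1 hr.1, fun d hd => by
        rw [show ⁅d, p * r⁆ = ⁅d, p⁆ * (p * ⁅d, r⁆ * p⁻¹) by simp only [commutatorElement_def]; group]
        exact mul_mem (hp.2 d hd) (hUn p hp.1 _ (hr.2 d hd))⟩
      inv_mem' := fun {p} hp => ⟨M₁.inv_mem hp.1, fun d hd => by
        rw [show ⁅d, p⁻¹⁆ = (p⁻¹ * ⁅d, p⁆ * p⁻¹⁻¹)⁻¹ by simp only [commutatorElement_def]; group]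
        exact inv_mem (hUn p⁻¹ (M₁.inv_mem hp.1) _ (hp.2 d hd))⟩ }
  have hu2A : u2 ∈ A := by
    refine ⟨N.toMData.S_le (N.core_le_S E.w2_core), fun d hd => ?_⟩
    have hdK : d ∈ pCoreOf 2 K := (N.mem_core_iff (N.toMData.Q_le_S hd.1)).mpr
      (Subgroup.mem_centralizer_iff.mp hd.2 v N.toMData.v_U).symm
    rw [commutatorElement_def, inv_eq_of_mul_eq_one_right E.w2_sq]
    exact E.W_U (E.core_w2 hdK)
  obtain ⟨y, hyA, hyo, hy1⟩ : ∃ y ∈ A, Odd (orderOf y) ∧ y ≠ 1 := by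
    by_contra hh
    push Not at hh
    refine E.w2_notQ h (N.toMData.le_Q (A := A) (fun m hm => hm.1)
      (Subgroup.le_normalizer_iff.mpr fun g hg m hm => ⟨M₁.mul_mem (M₁.mul_mem hg hm.1) (M₁.inv_mem hg), fun d hd => ?_⟩)
      hh hu2A)
    have hd' : g⁻¹ * d * g ∈ C := by
      have := hCn g⁻¹ (M₁.inv_mem hg) d hd
      rwa [inv_inv] at this
    rw [show ⁅d, g * m * g⁻¹⁆ = g * ⁅g⁻¹ * d * g, m⁆ * g⁻¹ by simp only [commutatorElement_def]; group]
    exact hUn g hg _ (hm.2 _ hd')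
  have hk0C : k0 ∈ C := by
    refine ⟨hk0Q, Subgroup.mem_centralizer_iff.mpr fun p hp => ?_⟩
    rcases E.U_cases' hp with e | e
    · exact (cW hk0R.1.1 e).symm
    · have e' : p = p * w * w := by rw [mul_assoc, E.w_sq, mul_one]
      have hc1 : Commute k0 (p * w) := cW hk0R.1.1 e
      rw [e']
      exact (hc1.mul_right (e1 : Commute k0 w)).symm.eq
  have hCval : ∀ {q : G}, q ∈ C → q ∈ pCoreOf 2 K → ⁅k0, q⁆ ∈ Subgroup.zpowers z := by
    intro q hq hqK
    have shift : ∀ d ∈ C, ∃ p ∈ N.toMData.U, y * d * y⁻¹ = d * p := fun d hd =>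
      ⟨⁅d⁻¹, y⁆, hyA.2 d⁻¹ (inv_mem hd), by simp only [commutatorElement_def]; group⟩
    obtain ⟨p1, hp1, f1⟩ := shift k0 hk0C
    obtain ⟨p2, hp2, f2⟩ := shift q hq
    have cU : ∀ {d p : G}, d ∈ C → p ∈ N.toMData.U → Commute p d := fun hd hp =>
      Subgroup.mem_centralizer_iff.mp hd.2 _ hp
    have hy' : y * ⁅k0, q⁆ * y⁻¹ = ⁅k0, q⁆ := by
      have a1 : Commute p1 k0 := cU hk0C hp1
      have a2 : Commute p1 q := cU hq hp1
      have a3 : Commute p2 k0 := cU hk0C hp2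
      have a4 : Commute p2 q := cU hq hp2
      have a5 : Commute p1 p2 := E.comm _ hp1 _ hp2
      have i1 : k0 * p1 * (q * p2) = k0 * q * (p1 * p2) := by
        calc k0 * p1 * (q * p2) = k0 * (p1 * q) * p2 := by group
          _ = k0 * q * (p1 * p2) := by rw [a2.eq]; group
      have i2 : q * p2 * (k0 * p1) = q * k0 * (p1 * p2) := by
        calc q * p2 * (k0 * p1) = q * (p2 * k0) * p1 := by group
          _ = q * k0 * (p2 * p1) := by rw [a3.eq]; group
          _ = q * k0 * (p1 * p2) := by rw [a5.eq]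
      calc y * ⁅k0, q⁆ * y⁻¹ = ⁅y * k0 * y⁻¹, y * q * y⁻¹⁆ := by simp only [commutatorElement_def]; group
        _ = (k0 * p1 * (q * p2)) * (q * p2 * (k0 * p1))⁻¹ := by
          rw [f1, f2]; simp only [commutatorElement_def]; group
        _ = ⁅k0, q⁆ := by rw [i1, i2]; simp only [commutatorElement_def]; group
    rcases N.mem_four (hphi hqK) with e | e | e | e <;> rw [e] at hy' ⊢
    · exact one_mem _
    · exact Subgroup.mem_zpowers z
    · exact absurd (N.toMData.eq_one_of_fix hyA.1 hyo (Or.inl hy')) hy1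
    · refine absurd (N.toMData.eq_one_of_fix hyA.1 hyo (Or.inl ?_)) hy1
      rwa [show y * (z * v) * y⁻¹ = (y * z * y⁻¹) * (y * v * y⁻¹) by group, N.toMData.conj_z hyA.1,
        mul_left_cancel_iff] at hy'
  have hQval : ∀ {q : G}, q ∈ pCoreOf 2 K → q ∈ pCoreOf 2 M₁ → ⁅k0, q⁆ ∈ Subgroup.zpowers z := by
    intro q hqK hqQ
    have mkC : ∀ {d : G}, d ∈ pCoreOf 2 K → d ∈ pCoreOf 2 M₁ → d * w = w * d → d ∈ C := by
      intro d hdK hdQ hdw
      refine ⟨hdQ, Subgroup.mem_centralizer_iff.mpr fun p hp => ?_⟩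
      rcases E.U_cases' hp with e | e
      · exact (cW hdK e).symm
      · have e' : p = p * w * w := by rw [mul_assoc, E.w_sq, mul_one]
        have hc1 : Commute d (p * w) := cW hdK e
        rw [e']
        exact (hc1.mul_right (hdw : Commute d w)).symm.eq
    rcases mem_two N.z_mem.2.1 (N.toMData.comm_U hqQ E.w_U) with e | e
    · exact hCval (mkC hqK hqQ (commutatorElement_eq_one_iff_mul_comm.mp e)) hqK
    · set c := u2 * u3
      rw [← hsplit hqK (r := c) ?_]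
      · refine hCval (mkC (mul_mem hqK hcK) (mul_mem hqQ hcQ) (mul_inv_eq_iff_eq_mul.mp ?_)) (mul_mem hqK hcK)
        have hqw : q * w * q⁻¹ = z * w := by rw [← e]; simp only [commutatorElement_def]; group
        calc q * c * w * (q * c)⁻¹ = q * (c * w * c⁻¹) * q⁻¹ := by group
          _ = q * (z * w) * q⁻¹ := by rw [show c * w * c⁻¹ = z * w from hcw]
          _ = (q * z * q⁻¹) * (q * w * q⁻¹) := by group
          _ = z * (z * w) := by rw [N.core_z hqK, mul_inv_cancel_right, hqw]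
          _ = w := by rw [← mul_assoc, N.z_mem.2.1, one_mul]
      · exact (Commute.mul_left (e2 : Commute k0 u2).symm (e3 : Commute k0 u3).symm).eq
  have hall : ∀ {q : G}, q ∈ pCoreOf 2 K → ⁅k0, q⁆ ∈ Subgroup.zpowers z := by
    intro q hq
    by_cases hqQ : q ∈ pCoreOf 2 M₁
    · exact hQval hq hqQ
    · rw [← hsplit hq (r := u2) e2.symm]
      exact hQval (mul_mem hq E.w2_core)
        (N.toMData.mul_mem_Q E.three (N.core_le_S hq) (N.core_le_S E.w2_core) hqQ (E.w2_notQ h))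
  have hxk0 : x * k0 = k0 * x := mul_inv_eq_iff_eq_mul.mp hfix
  have hcent : ∀ q ∈ pCoreOf 2 K, q * k0 = k0 * q := by
    intro q hq
    rcases mem_two N.z_mem.2.1 (hall hq) with e | e
    · exact (commutatorElement_eq_one_iff_mul_comm.mp e).symm
    · exfalso
      have h' := hall (conj_mem_core N.x_mem hq)
      rw [show ⁅k0, x * q * x⁻¹⁆ = x * ⁅k0, q⁆ * x⁻¹ by
        calc ⁅k0, x * q * x⁻¹⁆ = ⁅x * k0 * x⁻¹, x * q * x⁻¹⁆ := by rw [hfix]
          _ = _ := by simp only [commutatorElement_def]; group, e, N.xz] at h'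
      exact N.toMData.conj_v_ne F.one_mem (by simpa using h')
  exact hk0W ((N.fpf h hk0R.1.1 hcent hxk0).symm ▸ one_mem W)

/-- All squares of `O₂(K)` lie in `W`, and `32 ≤ |O₂(K)| ≤ 64`. -/
theorem core_shape (h : Hard G) (E : Eight N t w) :
    (∀ q ∈ pCoreOf 2 K, q * q ∈ Subgroup.closure ({z, v} : Set G)) ∧
      32 ≤ Nat.card (pCoreOf 2 K) ∧ Nat.card (pCoreOf 2 K) ≤ 64 := by
  set W := Subgroup.closure ({z, v} : Set G)
  have cW : ∀ {q a : G}, q ∈ pCoreOf 2 K → a ∈ W → q * a = a * q := fun hq ha => E.core_W hq ha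
  have hWK : W ≤ pCoreOf 2 K := (Subgroup.closure_le _).mpr (by
    rintro _ (rfl | rfl)
    · exact N.z_core
    · exact N.v_core)
  have hsq : ∀ q ∈ pCoreOf 2 K, q * q ∈ W := by
    intro q hq
    have gen : ∀ p : G, q * p * q⁻¹ * p ∈ W → p * p = 1 → q * q * p = p * (q * q) := by
      intro p hp hp2
      obtain ⟨a, ha⟩ : ∃ a, a = q * p * q⁻¹ * p := ⟨_, rfl⟩
      rw [← ha] at hp
      have e : q * p * q⁻¹ = a * p := by rw [ha, mul_assoc (q * p * q⁻¹) p p, hp2, mul_one]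
      refine mul_inv_eq_iff_eq_mul.mp ?_
      calc q * q * p * (q * q)⁻¹ = (q * a * q⁻¹) * (q * p * q⁻¹) := by
            rw [show q * q * p * (q * q)⁻¹ = q * (q * p * q⁻¹) * q⁻¹ by group]
            nth_rewrite 1 [e]
            group
        _ = (a * a) * p := by rw [cW hq hp, mul_inv_cancel_right, e, mul_assoc]
        _ = p := by rw [E.W_sq hp, one_mul]
    exact E.cent_Y h (mul_mem hq hq) (gen w (E.core_w hq) E.w_sq) (gen _ (E.core_w2 hq) E.w2_sq)
      (gen _ (E.core_w3 hq) E.w3_sq)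
  refine ⟨hsq, ?_, ?_⟩
  · have hch := E.chain h (R := W) le_rfl hWK (fun a ha => (cW E.w_core ha).symm)
      (fun a ha => (cW E.w2_core ha).symm)
    have hle : Subgroup.closure ((W : Set G) ∪ {w, x * w * x⁻¹, x * (x * w * x⁻¹) * x⁻¹}) ≤ pCoreOf 2 K :=
      (Subgroup.closure_le _).mpr (by
        rintro a (ha | rfl | rfl | rfl)
        · exact hWK ha
        · exact E.w_core
        · exact E.w2_core
        · exact E.w3_core)
    have := Subgroup.card_le_of_le hle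
    have : 4 ≤ Nat.card W := E.card_W
    omega
  · have := card_le_of_sq h.sect hWK (fun q hq => Subgroup.mem_normalizer_fintype fun a ha => by
      rw [cW hq ha, mul_inv_cancel_right]; exact ha) hsq
    have : Nat.card W ≤ 4 := E.card_W'
    omega

end NData.Eight

end CfsgLib.SRFour
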