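import Mathlib
import Cfsg.Agent.Lib.SRFour.NEightCore
import Cfsg.Agent.Lib.SRFour.ExtraData

/-!
`|U| = 8`: the shape of `Q₁`, and the extraspecial case.

Blueprint: `blueprint/S0517.md`, §3.
-/

set_option autoImplicit false
set_option linter.unusedSectionVars false
set_option linter.style.haveILetI false

namespace CfsgLib.SRFour

open Cfsg
open scoped commutatorElement

universe u

variable {G : Type u} [Group G] [Finite G]

/-- A subgroup covered by two cosets of `A` has at most twice as many elements. -/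
theorem card_le_two_mul {A B : Subgroup G} (a : G) (h : ∀ b ∈ B, b ∈ A ∨ b * a ∈ A) :
    Nat.card B ≤ 2 * Nat.card A := by
  classical
  let φ : ↥B → Bool × ↥A := fun b =>
    if hb : (b : G) ∈ A then (true, ⟨b, hb⟩) else (false, ⟨b * a, (h b b.2).resolve_left hb⟩)
  have hφ : Function.Injective φ := by
    rintro ⟨b, hb⟩ ⟨b', hb'⟩ e
    refine Subtype.ext ?_
    simp only [φ] at e
    split_ifs at e <;> simp at e <;> exact e
  have := Nat.card_le_card_of_injective φ hφ
  rwa [Nat.card_prod, Nat.card_eq_fintype_card (α := Bool), Fintype.card_bool] at this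

namespace NData.Eight

variable {S : Sylow 2 G} {K M₁ F : Subgroup G} {z v x t w : G}
variable {N : NData (S : Subgroup G) K M₁ F z v x}

theorem card_S (h : Hard G) (E : Eight N t w) :
    Nat.card ↥(S : Subgroup G) = 2 * Nat.card (pCoreOf 2 K) ∧
      Nat.card (pCoreOf 2 M₁) = Nat.card (pCoreOf 2 K) := by
  have hu : x * w * x⁻¹ ∈ (S : Subgroup G) := N.core_le_S E.w2_core
  have l1 : pCoreOf 2 K < (S : Subgroup G) := lt_of_le_of_ne N.core_le_S fun e => by
    have := N.core_v t (e.ge E.t_S)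
    have h' := E.tv
    rw [this, mul_inv_cancel_right] at h'
    exact N.z_ne (right_eq_mul.mp h')
  have l2 : pCoreOf 2 M₁ < (S : Subgroup G) := lt_of_le_of_ne N.toMData.Q_le_S fun e =>
    E.w2_notQ h (e.ge hu)
  have a1 := two_mul_card_le_of_lt l1
  have a2 := two_mul_card_le_of_lt l2
  have b1 := card_le_two_mul (A := pCoreOf 2 K) t⁻¹ fun s hs => N.core_cover E.t_S E.tv hs
  have b2 : Nat.card ↥(S : Subgroup G) ≤ 2 * Nat.card (pCoreOf 2 M₁) :=
    card_le_two_mul (A := pCoreOf 2 M₁) (x * w * x⁻¹) fun s hs => by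
      by_cases hQ : s ∈ pCoreOf 2 M₁
      · exact Or.inl hQ
      · exact Or.inr (N.toMData.mul_mem_Q E.three hs hu hQ (E.w2_notQ h))
  omega

theorem W_S (_E : Eight N t w) {s a : G} (hs : s ∈ (S : Subgroup G))
    (ha : a ∈ Subgroup.closure ({z, v} : Set G)) : s * a * s⁻¹ ∈ Subgroup.closure ({z, v} : Set G) := by
  have hz : z ∈ Subgroup.closure ({z, v} : Set G) := Subgroup.subset_closure (Or.inl rfl)
  have hv : v ∈ Subgroup.closure ({z, v} : Set G) := Subgroup.subset_closure (Or.inr rfl)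
  have hsz : s * z * s⁻¹ = z := by rw [N.z_mem.2.2 s hs, mul_inv_cancel_right]
  have hsv : s * v * s⁻¹ ∈ Subgroup.closure ({z, v} : Set G) := by
    rcases N.sv s hs with e | e <;> rw [e]
    · exact hv
    · exact mul_mem hz hv
  rcases N.mem_four ha with rfl | rfl | rfl | rfl
  · simp
  · rw [hsz]; exact hz
  · exact hsv
  · rw [show s * (z * v) * s⁻¹ = (s * z * s⁻¹) * (s * v * s⁻¹) by group, hsz]; exact mul_mem hz hsv

/-- `C = C_{Q₁}(U)`. -/
def cU (_E : Eight N t w) : Subgroup G := pCoreOf 2 M₁ ⊓ Subgroup.centralizer (N.toMData.U : Set G)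

theorem cU_comm (E : Eight N t w) {a p : G} (ha : a ∈ E.cU) (hp : p ∈ N.toMData.U) : a * p = p * a :=
  (Subgroup.mem_centralizer_iff.mp ha.2 p hp).symm

theorem cU_core (E : Eight N t w) : E.cU ≤ pCoreOf 2 K := fun a ha =>
  (N.mem_core_iff (N.toMData.Q_le_S ha.1)).mpr (E.cU_comm ha N.toMData.v_U)

theorem U_le_cU (E : Eight N t w) : N.toMData.U ≤ E.cU := fun a ha =>
  ⟨N.toMData.U_le ha, Subgroup.mem_centralizer_iff.mpr fun p hp => E.comm p hp a ha⟩

theorem mem_cU (E : Eight N t w) {a : G} (ha : a ∈ pCoreOf 2 K) (hQ : a ∈ pCoreOf 2 M₁) (hw : a * w = w * a) :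
    a ∈ E.cU := by
  refine ⟨hQ, Subgroup.mem_centralizer_iff.mpr fun p hp => ?_⟩
  rcases E.U_cases' hp with e | e
  · exact (E.core_W ha e).symm
  · have e' : p = p * w * w := by rw [mul_assoc, E.w_sq, mul_one]
    have hc : Commute a (p * w) := E.core_W ha e
    rw [e']
    exact (hc.mul_right (hw : Commute a w)).symm.eq

theorem cU_conj (E : Eight N t w) {m a : G} (hm : m ∈ M₁) (ha : a ∈ E.cU) : m * a * m⁻¹ ∈ E.cU := by
  refine ⟨N.toMData.conj_mem_Q hm ha.1, Subgroup.mem_centralizer_iff.mpr fun p hp => ?_⟩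
  have hp' : m⁻¹ * p * m ∈ N.toMData.U := by
    have := (Subgroup.mem_normalizer_iff.mp (N.toMData.U_norm (M₁.inv_mem hm)) p).mp hp
    rwa [inv_inv] at this
  calc p * (m * a * m⁻¹) = m * ((m⁻¹ * p * m) * a) * m⁻¹ := by group
    _ = m * a * m⁻¹ * p := by rw [← E.cU_comm ha hp']; group

/-- `Q₁ ∩ O₂(K) = C ∪ C c`. -/
theorem D_cases (h : Hard G) (E : Eight N t w) {a : G} (ha : a ∈ pCoreOf 2 K) (hQ : a ∈ pCoreOf 2 M₁) :
    a ∈ E.cU ∨ a * ((x * w * x⁻¹) * (x * (x * w * x⁻¹) * x⁻¹)) ∈ E.cU := by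
  obtain ⟨hcQ, hcK, hcw, -⟩ := E.c_props h
  set c := (x * w * x⁻¹) * (x * (x * w * x⁻¹) * x⁻¹)
  rcases mem_two N.z_mem.2.1 (N.toMData.comm_U hQ E.w_U) with e | e
  · exact Or.inl (E.mem_cU ha hQ (commutatorElement_eq_one_iff_mul_comm.mp e))
  · refine Or.inr (E.mem_cU (mul_mem ha hcK) (mul_mem hQ hcQ) (mul_inv_eq_iff_eq_mul.mp ?_))
    have e' : a * w * a⁻¹ = z * w := by rw [← e]; simp only [commutatorElement_def]; group
    calc a * c * w * (a * c)⁻¹ = a * (c * w * c⁻¹) * a⁻¹ := by group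
      _ = (a * z * a⁻¹) * (a * w * a⁻¹) := by rw [hcw]; group
      _ = z * (z * w) := by rw [N.core_z ha, mul_inv_cancel_right, e']
      _ = w := by rw [← mul_assoc, N.z_mem.2.1, one_mul]

theorem c_not_cU (h : Hard G) (E : Eight N t w) :
    (x * w * x⁻¹) * (x * (x * w * x⁻¹) * x⁻¹) ∉ E.cU := fun e => by
  have h1 := E.cU_comm e E.w_U
  have h2 := (E.c_props h).2.2.1
  rw [h1, mul_inv_cancel_right] at h2
  exact N.z_ne (right_eq_mul.mp h2)

/-- The conjugates of `c` under `F` leave `O₂(K)`. -/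
theorem c_moves (h : Hard G) (E : Eight N t w) {f : G} (hf : f ∈ F) (hf1 : f ≠ 1) :
    f * ((x * w * x⁻¹) * (x * (x * w * x⁻¹) * x⁻¹)) * f⁻¹ ∉ pCoreOf 2 K := by
  obtain ⟨hcQ, hcK, hcw, -⟩ := E.c_props h
  set c := (x * w * x⁻¹) * (x * (x * w * x⁻¹) * x⁻¹)
  intro hm
  have hfM := N.ov.F_le hf
  set v' := f⁻¹ * v * f
  have hv'U : v' ∈ N.toMData.U := by
    have := N.toMData.conj_v_U (M₁.inv_mem hfM)
    rwa [inv_inv] at this
  have hcv' : c * v' = v' * c := by
    have h1 := N.core_v _ hm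
    calc c * v' = f⁻¹ * (f * c * f⁻¹ * v) * f := by simp only [v']; group
      _ = v' * c := by rw [h1]; simp only [v']; group
  have hcW : ∀ a ∈ Subgroup.closure ({z, v} : Set G), Commute c a := fun a ha => E.core_W hcK ha
  rcases E.U_cases' hv'U with e | e
  · refine hf1 (inv_eq_one.mp (N.toMData.eq_one_of_fix (M₁.inv_mem hfM) ?_ ?_))
    · rw [orderOf_inv]; exact N.ov.odd_order hf
    · rw [inv_inv]
      rcases N.mem_four e with e' | e' | e' | e'
      · refine absurd ?_ (N.toMData.conj_v_ne (F.inv_mem hf))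
        rw [inv_inv]; show v' ∈ Subgroup.zpowers z; rw [e']; exact one_mem _
      · exact absurd (by
          rw [inv_inv]; show v' ∈ Subgroup.zpowers z; rw [e']; exact Subgroup.mem_zpowers z)
          (N.toMData.conj_v_ne (F.inv_mem hf))
      · exact Or.inl e'
      · exact Or.inr e'
  · refine E.c_not_cU h (E.mem_cU hcK hcQ ?_)
    have h2 : Commute c (v'⁻¹ * (v' * w)) := (Commute.inv_right (hcv' : Commute c v')).mul_right (hcW _ e)
    rwa [show v'⁻¹ * (v' * w) = w by group] at h2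

/-- With `c'' = f c' f⁻¹`, the product `c'' c'⁻¹` lies in `C c`. -/
theorem c_orbit (h : Hard G) (E : Eight N t w) {f : G} (hf : f ∈ F) (hf1 : f ≠ 1) :
    let c := (x * w * x⁻¹) * (x * (x * w * x⁻¹) * x⁻¹)
    f * (f * c * f⁻¹) * f⁻¹ * (f * c * f⁻¹)⁻¹ * c ∈ E.cU := by
  intro c
  obtain ⟨hcQ, hcK, -, -⟩ := E.c_props h
  have hfM := N.ov.F_le hf
  set c1 := f * c * f⁻¹
  set c2 := f * c1 * f⁻¹
  have hc1Q : c1 ∈ pCoreOf 2 M₁ := N.toMData.conj_mem_Q hfM hcQ
  have hc2Q : c2 ∈ pCoreOf 2 M₁ := N.toMData.conj_mem_Q hfM hc1Q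
  have hc1K : c1 ∉ pCoreOf 2 K := E.c_moves h hf hf1
  have hf2 : f * f ≠ 1 := fun e => hf1 (by
    have h3 : f ^ 3 = 1 := by
      rw [← E.three]
      exact congrArg Subtype.val (pow_card_eq_one' (x := (⟨f, hf⟩ : ↥F)))
    rwa [pow_succ, pow_two, e, one_mul] at h3)
  have hc2K : c2 ∉ pCoreOf 2 K := by
    have := E.c_moves h (F.mul_mem hf hf) hf2
    rwa [show f * f * c * (f * f)⁻¹ = c2 by simp only [c2, c1]; group] at this
  have hS : ∀ {a : G}, a ∈ pCoreOf 2 M₁ → a ∈ (S : Subgroup G) := fun ha => N.toMData.Q_le_S ha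
  have hb : Nat.card ↥(S : Subgroup G) ≤ 2 * Nat.card (pCoreOf 2 K) := (E.card_S h).1.le
  have hD : c2 * c1⁻¹ ∈ pCoreOf 2 K :=
    mul_mem_of_double N.core_le_S hb (hS hc2Q) (inv_mem (hS hc1Q)) hc2K fun e => hc1K (by simpa using inv_mem e)
  rcases E.D_cases h hD (mul_mem hc2Q (inv_mem hc1Q)) with e | e
  · exfalso
    refine hc1K ?_
    -- then `c₁ c⁻¹ ∈ C`
    have h1 := E.cU_conj (M₁.inv_mem hfM) e
    rw [inv_inv, show f⁻¹ * (c2 * c1⁻¹) * f = c1 * c⁻¹ by simp only [c2, c1]; group] at h1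
    have := mul_mem (E.cU_core h1) hcK
    rwa [inv_mul_cancel_right] at this
  · exact e

/-- `Q₁ = (C ∪ C c) ∪ (C ∪ C c) c'`. -/
theorem Q_cases (h : Hard G) (E : Eight N t w) {f : G} (hf : f ∈ F) (hf1 : f ≠ 1) {q : G}
    (hq : q ∈ pCoreOf 2 M₁) :
    q ∈ pCoreOf 2 K ∨ q * (f * ((x * w * x⁻¹) * (x * (x * w * x⁻¹) * x⁻¹)) * f⁻¹) ∈ pCoreOf 2 K := by
  obtain ⟨hcQ, -, -, -⟩ := E.c_props h
  by_cases hK : q ∈ pCoreOf 2 K
  · exact Or.inl hK
  · exact Or.inr (mul_mem_of_double N.core_le_S (E.card_S h).1.le (N.toMData.Q_le_S hq)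
      (N.toMData.Q_le_S (N.toMData.conj_mem_Q (N.ov.F_le hf) hcQ)) hK (E.c_moves h hf hf1))

/-- The extraspecial case. -/
theorem fpfData (h : Hard G) (E : Eight N t w) (h32 : Nat.card (pCoreOf 2 K) = 32) : FpfData N := by
  classical
  obtain ⟨hcQ, hcK, hcw, hcc⟩ := E.c_props h
  obtain ⟨h12, h23, h31⟩ := E.comm_values h
  set b := x * w * x⁻¹ with hb
  set d := x * b * x⁻¹ with hd
  set c := b * d with hc
  set U := N.toMData.U with hU
  obtain ⟨hcS, hQK⟩ := E.card_S h
  set D := pCoreOf 2 M₁ ⊓ pCoreOf 2 K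
  have hD16 : Nat.card D ≤ 16 := by
    have hlt : D < pCoreOf 2 K := lt_of_le_of_ne inf_le_right fun e => E.w2_notQ h (e.ge E.w2_core).1
    have := two_mul_card_le_of_lt hlt
    omega
  have hcD : c ∈ D := ⟨hcQ, hcK⟩
  have hCU : E.cU = U := by
    refine (Subgroup.eq_of_le_of_card_ge E.U_le_cU ?_).symm
    have hlt : E.cU < D := lt_of_le_of_ne (fun a ha => ⟨ha.1, E.cU_core ha⟩) fun e => E.c_not_cU h (e.ge hcD)
    have := two_mul_card_le_of_lt hlt
    rw [E.card]
    omega
  have hDcases : ∀ a ∈ D, a ∈ U ∨ a * c ∈ U := fun a ha => hCU ▸ E.D_cases h ha.2 ha.1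
  obtain ⟨f, hf, hf1, -⟩ := N.toMData.exists_odd
  set c1 := f * c * f⁻¹ with hc1
  have hfM := N.ov.F_le hf
  have hc1Q : c1 ∈ pCoreOf 2 M₁ := N.toMData.conj_mem_Q hfM hcQ
  have hc1sq : c1 * c1 = z := by
    rw [hc1, show f * c * f⁻¹ * (f * c * f⁻¹) = f * (c * c) * f⁻¹ by group, hcc, N.toMData.conj_z hfM]
  have hfU : ∀ a ∈ U, f * a * f⁻¹ ∈ U := fun a ha =>
    (Subgroup.mem_normalizer_iff.mp (N.toMData.U_norm hfM) a).mp ha
  have horb : f * c1 * f⁻¹ * c1⁻¹ * c ∈ U := hCU ▸ E.c_orbit h hf hf1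
  have hone : ∀ {p r : G}, p * r = r * p → ⁅p, r⁆ ∈ Subgroup.zpowers z := fun e => by
    rw [commutatorElement_eq_one_iff_mul_comm.mpr e]; exact one_mem _
  have hzz := N.z_mem.2.1
  -- `[c, c₁] ∈ ⟨z⟩`
  have hcc1 : ⁅c, c1⁆ ∈ Subgroup.zpowers z := by
    obtain ⟨u', hu', hc2⟩ : ∃ u' ∈ U, f * c1 * f⁻¹ = u' * (c⁻¹ * c1) :=
      ⟨_, horb, by group⟩
    set p := c⁻¹ * c1
    have hpQ : p ∈ pCoreOf 2 M₁ := mul_mem (inv_mem hcQ) hc1Q
    have hc2sq : f * c1 * f⁻¹ * (f * c1 * f⁻¹) = z := by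
      rw [show f * c1 * f⁻¹ * (f * c1 * f⁻¹) = f * (c1 * c1) * f⁻¹ by group, hc1sq, N.toMData.conj_z hfM]
    have hpu : ⁅p, u'⁆ ∈ Subgroup.zpowers z := N.toMData.comm_U hpQ hu'
    have hzcomm : ∀ a ∈ pCoreOf 2 M₁, Commute a z := fun a ha => N.toMData.comm_z (core_le M₁ ha)
    have hpp : p * p ∈ Subgroup.zpowers z := by
      have e1 : (u' * p) * (u' * p) = ⁅p, u'⁆ * (p * p) := by
        rcases mem_two hzz hpu with e | e
        · rw [e, one_mul]
          have hc' : p * u' = u' * p := commutatorElement_eq_one_iff_mul_comm.mp e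
          calc u' * p * (u' * p) = u' * (p * u') * p := by group
            _ = (u' * u') * (p * p) := by rw [hc']; group
            _ = p * p := by rw [N.U_exp_two E.comm hu', one_mul]
        · rw [e]
          have hc' : p * u' = z * (u' * p) := by rw [← e]; simp only [commutatorElement_def]; group
          calc u' * p * (u' * p) = u' * (p * u') * p := by group
            _ = (u' * z) * u' * (p * p) := by rw [hc']; group
            _ = z * (u' * u') * (p * p) := by rw [E.comm u' hu' z N.toMData.z_U]; group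
            _ = z * (p * p) := by rw [N.U_exp_two E.comm hu', mul_one]
      rw [hc2, e1] at hc2sq
      have := mul_mem (inv_mem hpu) (hc2sq ▸ Subgroup.mem_zpowers z : ⁅p, u'⁆ * (p * p) ∈ Subgroup.zpowers z)
      rwa [inv_mul_cancel_left] at this
    -- `c⁻¹ = z c`, so `[c, c₁]` is `p²` up to `z`
    have hcinv : c⁻¹ = z * c := inv_eq_of_mul_eq_one_right (by
      rw [← mul_assoc, show c * z = z * c from hzcomm c hcQ, mul_assoc, hcc, hzz])
    have hc1inv : c1⁻¹ = z * c1 := inv_eq_of_mul_eq_one_right (by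
      rw [← mul_assoc, show c1 * z = z * c1 from hzcomm c1 hc1Q, mul_assoc, hc1sq, hzz])
    have hp2 : p * p = ⁅c, c1⁆ := by
      have hz1 : c1 * z = z * c1 := hzcomm c1 hc1Q
      have hzc : c * z = z * c := hzcomm c hcQ
      simp only [p, commutatorElement_def]
      rw [hcinv, hc1inv]
      calc z * c * c1 * (z * c * c1) = z * c * (c1 * z) * (c * c1) := by group
        _ = z * (c * z) * c1 * (c * c1) := by rw [hz1]; group
        _ = (z * z) * (c * c1) * (c * c1) := by rw [hzc]; group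
        _ = c * c1 * c * ((z * z) * c1) := by rw [hzz]; group
        _ = c * c1 * (c * z) * (z * c1) := by group
        _ = c * c1 * (z * c) * (z * c1) := by rw [hzc]
    rwa [hp2] at hpp
  set X : Set G := (U : Set G) ∪ {c, c1}
  have hXQ : ∀ a ∈ X, a ∈ pCoreOf 2 M₁ := by
    rintro a (ha | rfl | rfl)
    · exact N.toMData.U_le ha
    · exact hcQ
    · exact hc1Q
  have hzn : ∀ a ∈ X, ∀ n ∈ Subgroup.zpowers z,
      a * n * a⁻¹ ∈ Subgroup.zpowers z ∧ a⁻¹ * n * a ∈ Subgroup.zpowers z := by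
    intro a ha n hn
    obtain ⟨i, rfl⟩ := Subgroup.mem_zpowers_iff.mp hn
    have h1 : Commute a (z ^ i) := Commute.zpow_right (N.toMData.comm_z (core_le M₁ (hXQ a ha))) i
    rw [h1.eq, mul_inv_cancel_right, h1.inv_left.eq, inv_mul_cancel_right]
    exact ⟨hn, hn⟩
  have hgen : pCoreOf 2 M₁ ≤ Subgroup.closure X := by
    intro q hq
    have hcX : c ∈ Subgroup.closure X := Subgroup.subset_closure (Or.inr (Or.inl rfl))
    have hc1X : c1 ∈ Subgroup.closure X := Subgroup.subset_closure (Or.inr (Or.inr rfl))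
    have hDX : ∀ a ∈ D, a ∈ Subgroup.closure X := by
      intro a ha
      rcases hDcases a ha with e | e
      · exact Subgroup.subset_closure (Or.inl e)
      · have := mul_mem (Subgroup.subset_closure (Or.inl e) : a * c ∈ Subgroup.closure X) (inv_mem hcX)
        rwa [mul_inv_cancel_right] at this
    rcases E.Q_cases h hf hf1 hq with e | e
    · exact hDX q ⟨hq, e⟩
    · have := mul_mem (hDX _ ⟨mul_mem hq hc1Q, e⟩) (inv_mem hc1X)
      rwa [mul_inv_cancel_right] at this
  have hsq := sq_mem_closure (fun a ha n hn => (hzn a ha n hn).1) (fun a ha n hn => (hzn a ha n hn).2) (by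
    rintro a (ha | rfl | rfl)
    · rw [N.U_exp_two E.comm ha]; exact one_mem _
    · rw [hcc]; exact Subgroup.mem_zpowers z
    · rw [hc1sq]; exact Subgroup.mem_zpowers z) (by
    have sym : ∀ {p r : G}, ⁅p, r⁆ ∈ Subgroup.zpowers z → ⁅r, p⁆ ∈ Subgroup.zpowers z := fun e => by
      rw [← commutatorElement_inv]; exact inv_mem e
    rintro p (hp | rfl | rfl) r (hr | rfl | rfl)
    · exact hone (E.comm p hp r hr)
    · exact sym (N.toMData.comm_U hcQ hp)
    · exact sym (N.toMData.comm_U hc1Q hp)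
    · exact N.toMData.comm_U hcQ hr
    · exact hone rfl
    · exact hcc1
    · exact N.toMData.comm_U hc1Q hr
    · exact sym hcc1
    · exact hone rfl)
  have hfix : ∀ g ∈ F, g ≠ 1 → ∀ q ∈ pCoreOf 2 M₁, g * q = q * g → q ∈ Subgroup.zpowers z := by
    intro g hg hg1 q hq hgq
    have hgM := N.ov.F_le hg
    have hgU : ∀ a ∈ U, g * a * g⁻¹ ∈ U := fun a ha =>
      (Subgroup.mem_normalizer_iff.mp (N.toMData.U_norm hgM) a).mp ha
    have hgfix : g * q * g⁻¹ = q := by rw [hgq, mul_inv_cancel_right]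
    set e1 := g * c * g⁻¹
    have horb' : g * e1 * g⁻¹ * e1⁻¹ * c ∈ U := hCU ▸ E.c_orbit h hg hg1
    by_cases hqK : q ∈ pCoreOf 2 K
    · rcases hDcases q ⟨hq, hqK⟩ with e | e
      · exact N.U_fix E.card E.three e hg hg1 hgq
      · exfalso
        refine E.c_moves h hg hg1 ?_
        have h1 := hgU _ e
        rw [show g * (q * c) * g⁻¹ = (g * q * g⁻¹) * e1 by simp only [e1]; group, hgfix] at h1
        have h2 := mul_mem (inv_mem hqK) (N.U_le_core E.comm h1)
        rwa [inv_mul_cancel_left] at h2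
    · exfalso
      rcases E.Q_cases h hg hg1 hq with e | e
      · exact hqK e
      have hm : q * e1 ∈ D := ⟨mul_mem hq (N.toMData.conj_mem_Q hgM hcQ), e⟩
      set e2 := g * e1 * g⁻¹
      have he1Q : e1 ∈ pCoreOf 2 M₁ := N.toMData.conj_mem_Q hgM hcQ
      rcases hDcases _ hm with e' | e'
      · have h1 := hgU _ e'
        rw [show g * (q * e1) * g⁻¹ = (g * q * g⁻¹) * e2 by simp only [e2]; group, hgfix] at h1
        have h2 := mul_mem (inv_mem e') h1
        have h3 := (Subgroup.mem_normalizer_iff.mp (N.toMData.U_norm (M₁.inv_mem hgM)) _).mp h2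
        rw [inv_inv, show g⁻¹ * ((q * e1)⁻¹ * (q * e2)) * g = c⁻¹ * e1 by simp only [e2, e1]; group] at h3
        refine E.c_moves h hg hg1 ?_
        have h4 := mul_mem hcK (N.U_le_core E.comm h3)
        rwa [mul_inv_cancel_left] at h4
      · have h1 := hgU _ e'
        rw [show g * (q * e1 * c) * g⁻¹ = (g * q * g⁻¹) * e2 * e1 by simp only [e2, e1]; group, hgfix] at h1
        set u1 := e2 * e1⁻¹ * c with hu1
        have he1sq : e1 * e1 = z := by
          simp only [e1]
          rw [show g * c * g⁻¹ * (g * c * g⁻¹) = g * (c * c) * g⁻¹ by group, hcc, N.toMData.conj_z hgM]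
        have h2 : q * e2 * e1 = (q * u1 * q⁻¹) * (q * c⁻¹) * z := by
          rw [← he1sq, hu1]; group
        rw [h2] at h1
        have h5 : q * u1 * q⁻¹ ∈ U :=
          (Subgroup.mem_normalizer_iff.mp (N.toMData.U_norm (core_le M₁ hq)) u1).mp horb'
        have h6 := mul_mem (mul_mem (inv_mem h5) h1) (inv_mem N.toMData.z_U)
        refine hqK ?_
        have h7 := mul_mem (N.U_le_core E.comm h6) hcK
        rwa [show (q * u1 * q⁻¹)⁻¹ * (q * u1 * q⁻¹ * (q * c⁻¹) * z) * z⁻¹ * c = q by group] at h7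
  refine ⟨hQK.trans h32, fun q hq => hsq q (hgen hq), ?_, E.three, h32, E.card, E.comm, hfix, ?_⟩
  · intro q hq hcent
    have hqK : q ∈ pCoreOf 2 K := (N.mem_core_iff (N.toMData.Q_le_S hq)).mpr (hcent v N.toMData.v_Q).symm
    have hqU : q ∈ U := hCU ▸ E.mem_cU hqK hq (hcent w (N.toMData.U_le E.w_U)).symm
    exact N.U_fix E.card E.three hqU hf hf1 (N.toMData.fix_U₀ hqU hcent hfM (N.ov.odd_order hf))
  · set W := Subgroup.closure ({z, v} : Set G)
    set e := w * c with he
    have hwc : c * w = z * w * c := mul_inv_eq_iff_eq_mul.mp hcw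
    have hesq : e * e = 1 := by
      calc e * e = w * (c * w) * c := by simp only [e]; group
        _ = (w * z) * w * (c * c) := by rw [hwc]; group
        _ = z * (w * w) * z := by rw [hcc, E.comm w E.w_U z N.toMData.z_U]; group
        _ = 1 := by rw [E.w_sq, mul_one, hzz]
    have heK : e ∈ pCoreOf 2 K := mul_mem E.w_core hcK
    set X' : Set G := (W : Set G) ∪ {e}
    set E0 := Subgroup.closure X'
    have hWE : W ≤ E0 := fun a ha => Subgroup.subset_closure (Or.inl ha)
    have heE : e ∈ E0 := Subgroup.subset_closure (Or.inr rfl)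
    have hE2 := sq_one_closure (X := X') (by
      rintro a (ha | rfl)
      · exact E.W_sq ha
      · exact hesq) (by
      rintro a (ha | rfl) a' (ha' | rfl)
      · exact E.comm _ (E.W_U ha) _ (E.W_U ha')
      · exact (E.core_W heK ha).symm
      · exact E.core_W heK ha'
      · rfl)
    have heW : e ∉ W := fun hm => by
      refine E.c_not_cU h ?_
      have h1 := E.U_le_cU (mul_mem E.w_U (E.W_U hm))
      rwa [he, ← mul_assoc, E.w_sq, one_mul] at h1
    have hE8 : Nat.card E0 = 8 := by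
      have h1 : Nat.card E0 ≤ 2 * Nat.card W := card_le_two_mul e fun a ha => by
        induction ha using Subgroup.closure_induction with
        | mem y hy =>
          rcases hy with hy | rfl
          · exact Or.inl hy
          · exact Or.inr (by rw [hesq]; exact one_mem _)
        | one => exact Or.inl (one_mem _)
        | mul p r hp hr ihp ihr =>
          have hre : r * e = e * r := comm_of_exp_two hE2 r hr e heE
          rcases ihp with i | i <;> rcases ihr with j | j
          · exact Or.inl (mul_mem i j)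
          · exact Or.inr (by rw [mul_assoc]; exact mul_mem i j)
          · exact Or.inr (by rw [mul_assoc, hre, ← mul_assoc]; exact mul_mem i j)
          · refine Or.inl ?_
            have hm := mul_mem i j
            rwa [show p * e * (r * e) = p * (e * r) * e by group, ← hre,
              show p * (r * e) * e = p * r * (e * e) by group, hesq, mul_one] at hm
        | inv p hp ihp => rw [inv_eq_of_mul_eq_one_right (hE2 p hp)]; exact ihp
      have h2 := two_mul_card_le_of_lt (lt_of_le_of_ne hWE fun eq => heW (eq.ge heE))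
      have h3 : Nat.card W ≤ 4 := E.card_W'
      have h4 : 4 ≤ Nat.card W := E.card_W
      omega
    have hce : ∀ {a1 a2 a3 : G}, a1 ∈ W → a2 ∈ W → a3 ∈ W → a1 * w * (a2 * b * (a3 * d)) ∈ E0 := by
      intro a1 a2 a3 h1 h2 h3
      have k2 : Commute w a2 := E.core_W E.w_core h2
      have k3 : Commute b a3 := E.core_W E.w2_core h3
      have k4 : Commute w a3 := E.core_W E.w_core h3
      rw [show a1 * w * (a2 * b * (a3 * d)) = a1 * (w * a2) * (b * a3) * d by group, k2.eq, k3.eq,
        show a1 * (a2 * w) * (a3 * b) * d = a1 * a2 * (w * a3) * (b * d) by group, k4.eq,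
        show a1 * a2 * (a3 * w) * (b * d) = a1 * a2 * a3 * (w * (b * d)) by group, ← hc, ← he]
      exact mul_mem (mul_mem (mul_mem (hWE h1) (hWE h2)) (hWE h3)) heE
    have hco : ∀ {p : G}, p * p = 1 → ∀ {r : G}, r * p * r⁻¹ = (r * p * r⁻¹ * p) * p := fun {p} hp {r} => by
      rw [mul_assoc (r * p * r⁻¹) p p, hp, mul_one]
    have hd2 : d * d = 1 := E.w3_sq
    have hb2 : b * b = 1 := E.w2_sq
    have hcoreE : pCoreOf 2 K ≤ Subgroup.normalizer (E0 : Set G) := fun q hq => mem_normalizer_closure (by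
      rintro a (ha | rfl)
      · rw [E.core_W hq ha, mul_inv_cancel_right]; exact hWE ha
      · rw [show q * e * q⁻¹ = (q * w * q⁻¹) * ((q * b * q⁻¹) * (q * d * q⁻¹)) by simp only [e, c]; group,
          hco E.w_sq, hco hb2 (r := q), hco hd2 (r := q)]
        exact hce (E.core_w hq) (E.core_w2 hq) (E.core_w3 hq))
    have htE : t ∈ Subgroup.normalizer (E0 : Set G) := mem_normalizer_closure (by
      rintro a (ha | rfl)
      · exact hWE (E.W_S E.t_S ha)
      · have ht1 : t * w * t⁻¹ * w ∈ W := by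
          rcases E.U_cases' (N.U_conj E.t_S E.w_U) with i | i
          · exfalso
            refine E.w_W ?_
            have := E.W_S (inv_mem E.t_S) i
            rwa [show t⁻¹ * (t * w * t⁻¹) * t⁻¹⁻¹ = w by group] at this
          · exact i
        have ht2 : t * b * t⁻¹ * d ∈ W := E.t_w2
        have ht3 : t * d * t⁻¹ * b ∈ W := by
          have h0 := E.W_S E.t_S E.inv_t.t_w2
          rw [← hd] at h0
          rw [show t * (t⁻¹ * b * t⁻¹⁻¹ * d) * t⁻¹ = b * (t * d * t⁻¹) by group] at h0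
          have h1 := E.core_W E.w2_core h0
          rwa [show t * d * t⁻¹ * b = b⁻¹ * (b * (t * d * t⁻¹)) * b by group,
            show b⁻¹ * (b * (t * d * t⁻¹)) * b = b⁻¹ * ((b * (t * d * t⁻¹)) * b) by group, ← h1, inv_mul_cancel_left]
        have e1 : t * w * t⁻¹ = (t * w * t⁻¹ * w) * w := hco E.w_sq
        have e2 : t * b * t⁻¹ = (t * b * t⁻¹ * d) * d := by rw [mul_assoc _ d d, hd2, mul_one]
        have e3 : t * d * t⁻¹ = (t * d * t⁻¹ * b) * b := by rw [mul_assoc _ b b, hb2, mul_one]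
        rw [show t * e * t⁻¹ = (t * w * t⁻¹) * ((t * b * t⁻¹) * (t * d * t⁻¹)) by simp only [e, c]; group, e1, e2, e3]
        set a1 := t * w * t⁻¹ * w
        set a2 := t * b * t⁻¹ * d
        set a3 := t * d * t⁻¹ * b
        have k3 : Commute d a3 := E.core_W E.w3_core ht3
        have k2 : Commute w a2 := E.core_W E.w_core ht2
        have k4 : Commute w a3 := E.core_W E.w_core ht3
        have hdb : d * b = z * c := by
          have hdbz : ⁅d, b⁆ = z := by
            rw [← commutatorElement_inv, h23]; exact inv_eq_of_mul_eq_one_right hzz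
          rw [← hdbz, hc]; simp only [commutatorElement_def]; group
        rw [show a1 * w * (a2 * d * (a3 * b)) = a1 * (w * a2) * (d * a3) * b by group, k2.eq, k3.eq,
          show a1 * (a2 * w) * (a3 * d) * b = a1 * a2 * (w * a3) * (d * b) by group, k4.eq, hdb,
          show a1 * a2 * (a3 * w) * (z * c) = a1 * a2 * a3 * ((w * z) * c) by group,
          E.comm w E.w_U z N.toMData.z_U, show z * w * c = z * (w * c) by group, ← he]
        exact mul_mem (mul_mem (mul_mem (hWE ht1) (hWE ht2)) (hWE ht3))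
          (mul_mem (hWE (Subgroup.subset_closure (Or.inl rfl))) heE))
    refine ⟨E0, ?_, ?_, hE8, hE2, hWE (Subgroup.subset_closure (Or.inl rfl)),
      hWE (Subgroup.subset_closure (Or.inr rfl)), fun s hs => ?_, mem_normalizer_closure ?_⟩
    · refine (Subgroup.closure_le _).mpr ?_
      rintro a (ha | rfl)
      · exact N.toMData.U_le (E.W_U ha)
      · exact mul_mem (N.toMData.U_le E.w_U) hcQ
    · refine (Subgroup.closure_le _).mpr ?_
      rintro a (ha | rfl)
      · exact N.U_le_core E.comm (E.W_U ha)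
      · exact heK
    · rcases N.core_cover E.t_S E.tv hs with i | i
      · exact hcoreE i
      · simpa using mul_mem (hcoreE i) htE
    · rintro a (ha | rfl)
      · exact hWE (E.W_x ha)
      · rw [show x * e * x⁻¹ = b * (d * (x * d * x⁻¹)) by simp only [e, c, d, b]; group,
          show x * d * x⁻¹ = w from E.x_u3, ← mul_assoc b d w, ← hc, hwc, mul_assoc z w c, ← he]
        exact mul_mem (hWE (Subgroup.subset_closure (Or.inl rfl))) heE

end NData.Eight

end CfsgLib.SRFour
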