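import Mathlib
import Cfsg.Agent.Lib.SRFour.NEightEnd
import Cfsg.Agent.Lib.TransferExtremal

/-!
`|U| = 8` and `|O₂(K)| = 64` is impossible.

Blueprint: `blueprint/S0517.md`, §3.
-/

set_option autoImplicit false
set_option linter.unusedSectionVars false
set_option linter.style.haveILetI false

namespace CfsgLib.SRFour

open Cfsg
open scoped commutatorElement

universe u

variable {G : Type u} [Group G] [Finite G]

/-- Fusion in an abelian subgroup which is weakly closed in a Sylow subgroup is controlled by its normaliser. -/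
theorem exists_normalizer_conj (S : Sylow 2 G) {C : Subgroup G} (hCS : C ≤ (S : Subgroup G))
    (hab : ∀ a ∈ C, ∀ b ∈ C, a * b = b * a)
    (hw : ∀ g : G, (∀ a ∈ C, g * a * g⁻¹ ∈ (S : Subgroup G)) → ∀ a ∈ C, g * a * g⁻¹ ∈ C) {a g : G}
    (ha : a ∈ C) (hga : g * a * g⁻¹ ∈ C) :
    ∃ l ∈ Subgroup.normalizer (C : Set G), l * a * l⁻¹ = g * a * g⁻¹ := by
  classical
  haveI : Fact (Nat.Prime 2) := ⟨Nat.prime_two⟩
  set k := g * a * g⁻¹ with hk
  set H := Subgroup.centralizer ({k} : Set G)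
  set C' := C.map (MulAut.conj g).toMonoidHom
  have hCH : C ≤ H := fun c hc => Subgroup.mem_centralizer_singleton_iff.mpr (hab c hc k hga)
  have hCH' : C' ≤ H := by
    rintro _ ⟨c, hc, rfl⟩
    refine Subgroup.mem_centralizer_singleton_iff.mpr ?_
    show g * c * g⁻¹ * k = k * (g * c * g⁻¹)
    calc g * c * g⁻¹ * k = g * (c * a) * g⁻¹ := by rw [hk]; group
      _ = g * (a * c) * g⁻¹ := by rw [hab c hc a ha]
      _ = k * (g * c * g⁻¹) := by rw [hk]; group
  have hC2 : IsPGroup 2 ↥C := S.isPGroup'.to_le hCS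
  obtain ⟨R₁, hR₁⟩ := (hC2.comap_of_injective H.subtype H.subtype_injective).exists_le_sylow (P := C.subgroupOf H)
  obtain ⟨R₂, hR₂⟩ := ((hC2.map _).comap_of_injective H.subtype H.subtype_injective).exists_le_sylow
    (P := C'.subgroupOf H)
  obtain ⟨c, hc⟩ := MulAction.exists_smul_eq (↥H) R₂ R₁
  obtain ⟨S', hS'⟩ := (R₁.isPGroup'.map H.subtype).exists_le_sylow
  obtain ⟨y, hy⟩ := MulAction.exists_smul_eq G S' S
  have hto : ∀ r ∈ (R₁ : Subgroup ↥H), y * (r : G) * y⁻¹ ∈ (S : Subgroup G) := fun r hr => by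
    rw [← hy, Sylow.coe_subgroup_smul]
    exact ⟨r, hS' ⟨r, hr, rfl⟩, rfl⟩
  have h1 := hw y fun c' hc' => hto ⟨c', hCH hc'⟩ (hR₁ hc')
  have h2 := hw (y * (c : G) * g) fun c' hc' => by
    have hm : g * c' * g⁻¹ ∈ C' := ⟨c', hc', rfl⟩
    have hr : c * ⟨g * c' * g⁻¹, hCH' hm⟩ * c⁻¹ ∈ (R₁ : Subgroup ↥H) := by
      rw [← hc, Sylow.coe_subgroup_smul]
      exact ⟨⟨g * c' * g⁻¹, hCH' hm⟩, hR₂ hm, rfl⟩
    have := hto _ hr
    simpa [mul_assoc] using this
  have hy1 : y ∈ Subgroup.normalizer (C : Set G) := Subgroup.mem_normalizer_fintype h1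
  have hy2 : y * (c : G) * g ∈ Subgroup.normalizer (C : Set G) := Subgroup.mem_normalizer_fintype h2
  refine ⟨y⁻¹ * (y * (c : G) * g), mul_mem (inv_mem hy1) hy2, ?_⟩
  have hck : (c : G) * k = k * c := Subgroup.mem_centralizer_singleton_iff.mp c.2
  calc y⁻¹ * (y * (c : G) * g) * a * (y⁻¹ * (y * (c : G) * g))⁻¹ = (c : G) * k * (c : G)⁻¹ := by rw [hk]; group
    _ = k := by rw [hck, mul_inv_cancel_right]

namespace NData.Eight

variable {S : Sylow 2 G} {K M₁ F : Subgroup G} {z v x t w : G}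
variable {N : NData (S : Subgroup G) K M₁ F z v x}

theorem core_comm (h : Hard G) (E : Eight N t w) {p q : G} (hp : p ∈ pCoreOf 2 K) (hq : q ∈ pCoreOf 2 K) :
    ⁅p, q⁆ ∈ Subgroup.closure ({z, v} : Set G) := by
  obtain ⟨hsq, -, -⟩ := E.core_shape h
  set W := Subgroup.closure ({z, v} : Set G)
  have hc : Commute (p * q) (p * p)⁻¹ := Commute.inv_right (E.core_W (mul_mem hp hq) (hsq p hp))
  have hc2 : Commute (p * q * p) (q * q)⁻¹ := Commute.inv_right (E.core_W (mul_mem (mul_mem hp hq) hp) (hsq q hq))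
  have e : ⁅p, q⁆ = (p * p)⁻¹ * ((q * q)⁻¹ * (p * q * (p * q))) := by
    calc ⁅p, q⁆ = p * q * (p * p)⁻¹ * p * (q * q)⁻¹ * q := by simp only [commutatorElement_def]; group
      _ = (p * p)⁻¹ * (p * q * p * (q * q)⁻¹) * q := by rw [hc.eq]; group
      _ = (p * p)⁻¹ * ((q * q)⁻¹ * (p * q * (p * q))) := by rw [hc2.eq]; group
  rw [e]
  exact mul_mem (inv_mem (hsq p hp)) (mul_mem (inv_mem (hsq q hq)) (hsq _ (mul_mem hp hq)))

theorem core_comm_mul (h : Hard G) (E : Eight N t w) {p q r : G} (hp : p ∈ pCoreOf 2 K) (hq : q ∈ pCoreOf 2 K)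
    (hr : r ∈ pCoreOf 2 K) : ⁅p, q * r⁆ = ⁅p, q⁆ * ⁅p, r⁆ ∧ ⁅q * r, p⁆ = ⁅q, p⁆ * ⁅r, p⁆ := by
  constructor
  · rw [show ⁅p, q * r⁆ = ⁅p, q⁆ * (q * ⁅p, r⁆ * q⁻¹) by simp only [commutatorElement_def]; group,
      E.core_W hq (E.core_comm h hp hr), mul_inv_cancel_right]
  · rw [show ⁅q * r, p⁆ = q * ⁅r, p⁆ * q⁻¹ * ⁅q, p⁆ by simp only [commutatorElement_def]; group,
      E.core_W hq (E.core_comm h hr hp), mul_inv_cancel_right]
    exact E.comm _ (E.W_U (E.core_comm h hr hp)) _ (E.W_U (E.core_comm h hq hp))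

theorem core_comm_symm (h : Hard G) (E : Eight N t w) {p q : G} (hp : p ∈ pCoreOf 2 K) (hq : q ∈ pCoreOf 2 K) :
    ⁅q, p⁆ = ⁅p, q⁆ := by
  rw [← commutatorElement_inv]
  exact inv_eq_of_mul_eq_one_right (E.W_sq (E.core_comm h hp hq))

theorem W_core (E : Eight N t w) {a : G} (ha : a ∈ Subgroup.closure ({z, v} : Set G)) : a ∈ pCoreOf 2 K :=
  N.U_le_core E.comm (E.W_U ha)

theorem core_comm_W (h : Hard G) (E : Eight N t w) {p q a a' : G} (hp : p ∈ pCoreOf 2 K) (hq : q ∈ pCoreOf 2 K)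
    (ha : a ∈ Subgroup.closure ({z, v} : Set G)) (ha' : a' ∈ Subgroup.closure ({z, v} : Set G)) :
    ⁅a * p, a' * q⁆ = ⁅p, q⁆ := by
  have haK := E.W_core ha
  have haK' := E.W_core ha'
  have h1 : ⁅a, a' * q⁆ = 1 :=
    commutatorElement_eq_one_iff_mul_comm.mpr (E.core_W (mul_mem haK' hq) ha).symm
  have h2 : ⁅p, a'⁆ = 1 := commutatorElement_eq_one_iff_mul_comm.mpr (E.core_W hp ha')
  rw [(E.core_comm_mul h (mul_mem haK' hq) haK hp).2, h1, one_mul, (E.core_comm_mul h hp haK' hq).1, h2, one_mul]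

/-- Properties of `e = w c`. -/
theorem e_props (h : Hard G) (E : Eight N t w) :
    let b := x * w * x⁻¹
    let d := x * b * x⁻¹
    let e := w * (b * d)
    e ∈ pCoreOf 2 K ∧ e ∈ pCoreOf 2 M₁ ∧ e * e = 1 ∧ ⁅e, w⁆ = z ∧ ⁅e, b⁆ = v ∧ ⁅e, d⁆ = z * v ∧
      x * e * x⁻¹ = z * e := by
  intro b d e
  obtain ⟨hcQ, hcK, hcw, hcc⟩ := E.c_props h
  have hzz := N.z_mem.2.1
  have hwc : b * d * w = z * w * (b * d) := mul_inv_eq_iff_eq_mul.mp hcw
  have heK : e ∈ pCoreOf 2 K := mul_mem E.w_core hcK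
  have hzW : z ∈ Subgroup.closure ({z, v} : Set G) := Subgroup.subset_closure (Or.inl rfl)
  have hesq : e * e = 1 := by
    calc e * e = w * (b * d * w) * (b * d) := by simp only [e]; group
      _ = (w * z) * w * (b * d * (b * d)) := by rw [hwc]; group
      _ = z * (w * w) * z := by rw [show b * d * (b * d) = z from hcc, E.comm w E.w_U z N.toMData.z_U]; group
      _ = 1 := by rw [E.w_sq, mul_one, hzz]
  have hew : ⁅e, w⁆ = z := by
    rw [(E.core_comm_mul h E.w_core E.w_core hcK).2, commutatorElement_self, one_mul]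
    calc ⁅b * d, w⁆ = (b * d * w * (b * d)⁻¹) * w⁻¹ := by simp only [commutatorElement_def]
      _ = z := by rw [hcw, mul_inv_cancel_right]
  have hxe : x * e * x⁻¹ = z * e := by
    calc x * e * x⁻¹ = b * (d * (x * d * x⁻¹)) := by simp only [e, d, b]; group
      _ = b * d * w := by rw [show x * d * x⁻¹ = w from E.x_u3, ← mul_assoc]
      _ = z * e := by rw [hwc, mul_assoc]
  have htr : ∀ {q : G}, q ∈ pCoreOf 2 K → ⁅e, x * q * x⁻¹⁆ = x * ⁅e, q⁆ * x⁻¹ := fun {q} hq => by
    rw [← E.core_comm_W h heK (conj_mem_core N.x_mem hq) hzW (one_mem _), ← hxe, one_mul]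
    simp only [commutatorElement_def]; group
  have heb : ⁅e, b⁆ = v := by
    show ⁅e, x * w * x⁻¹⁆ = v
    rw [htr E.w_core, hew, N.xz]
  refine ⟨heK, mul_mem (N.toMData.U_le E.w_U) hcQ, hesq, hew, heb, ?_, hxe⟩
  show ⁅e, x * b * x⁻¹⁆ = z * v
  rw [htr E.w2_core, heb, N.xv]

/-- `C = C_{O₂(K)}(e)`. -/
def cE (_E : Eight N t w) : Subgroup G :=
  pCoreOf 2 K ⊓ Subgroup.centralizer {w * ((x * w * x⁻¹) * (x * (x * w * x⁻¹) * x⁻¹))}

theorem W_cE (E : Eight N t w) {a : G} (ha : a ∈ Subgroup.closure ({z, v} : Set G)) : a ∈ E.cE :=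
  ⟨E.W_core ha, Subgroup.mem_centralizer_singleton_iff.mpr
    (E.core_W (mul_mem E.w_core (mul_mem E.w2_core E.w3_core)) ha).symm⟩

/-- `O₂(K) = C ∪ C w ∪ C b ∪ C d`. -/
theorem cE_cosets (h : Hard G) (E : Eight N t w) {q : G} (hq : q ∈ pCoreOf 2 K) :
    q ∈ E.cE ∨ q * w ∈ E.cE ∨ q * (x * w * x⁻¹) ∈ E.cE ∨ q * (x * (x * w * x⁻¹) * x⁻¹) ∈ E.cE := by
  obtain ⟨heK, -, -, hew, heb, hed, -⟩ := E.e_props h
  set e := w * ((x * w * x⁻¹) * (x * (x * w * x⁻¹) * x⁻¹))
  have key : ∀ r ∈ pCoreOf 2 K, ⁅e, r⁆ = ⁅e, q⁆ → q * r ∈ E.cE := fun r hr he => by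
    refine ⟨mul_mem hq hr, Subgroup.mem_centralizer_singleton_iff.mpr
      (commutatorElement_eq_one_iff_mul_comm.mp ?_).symm⟩
    rw [(E.core_comm_mul h heK hq hr).1, he, E.W_sq (E.core_comm h heK hq)]
  rcases N.mem_four (E.core_comm h heK hq) with i | i | i | i
  · exact Or.inl ⟨hq, Subgroup.mem_centralizer_singleton_iff.mpr (commutatorElement_eq_one_iff_mul_comm.mp i).symm⟩
  · exact Or.inr (Or.inl (key _ E.w_core (hew.trans i.symm)))
  · exact Or.inr (Or.inr (Or.inl (key _ E.w2_core (heb.trans i.symm))))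
  · exact Or.inr (Or.inr (Or.inr (key _ E.w3_core (hed.trans i.symm))))

/-- The structure of `C` when `|O₂(K)| = 64`. -/
theorem cE_props (h : Hard G) (E : Eight N t w) (h64 : Nat.card (pCoreOf 2 K) = 64) :
    Nat.card E.cE = 16 ∧ (∀ q ∈ E.cE, q * q = 1) ∧ (∀ q ∈ E.cE, x * q * x⁻¹ ∈ E.cE) ∧
      (∀ q ∈ E.cE, x * q * x⁻¹ * q⁻¹ ∈ Subgroup.closure ({z, v} : Set G)) ∧
      (∀ q ∈ E.cE, q * w = w * q → q ∈ Subgroup.closure ({z, v} : Set G)) ∧
      ∃ k ∈ E.cE, ⁅k, w⁆ = v := by
  classical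
  obtain ⟨heK, -, hesq, hew, heb, hed, hxe⟩ := E.e_props h
  obtain ⟨hsq, -, -⟩ := E.core_shape h
  set b := x * w * x⁻¹
  set d := x * b * x⁻¹
  set e := w * (b * d)
  set W := Subgroup.closure ({z, v} : Set G)
  have hW4 : Nat.card ↥W = 4 := le_antisymm E.card_W' E.card_W
  have hzW : z ∈ W := Subgroup.subset_closure (Or.inl rfl)
  have hvW : v ∈ W := Subgroup.subset_closure (Or.inr rfl)
  have hcard : Nat.card E.cE = 16 := by
    let ψ : ↥(pCoreOf 2 K) →* ↥W := MonoidHom.mk' (fun q => ⟨⁅e, (q : G)⁆, E.core_comm h heK q.2⟩)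
      fun p q => Subtype.ext (E.core_comm_mul h heK p.2 q.2).1
    have hr : ψ.range = ⊤ := by
      refine eq_top_iff.mpr fun a _ => ?_
      rcases N.mem_four a.2 with i | i | i | i
      · exact ⟨1, Subtype.ext ((commutatorElement_one_right e).trans i.symm)⟩
      · exact ⟨⟨w, E.w_core⟩, Subtype.ext (hew.trans i.symm)⟩
      · exact ⟨⟨b, E.w2_core⟩, Subtype.ext (heb.trans i.symm)⟩
      · exact ⟨⟨d, E.w3_core⟩, Subtype.ext (hed.trans i.symm)⟩
    have hk : ψ.ker.map (pCoreOf 2 K).subtype = E.cE := by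
      ext q
      constructor
      · rintro ⟨p, hp, rfl⟩
        exact ⟨p.2, Subgroup.mem_centralizer_singleton_iff.mpr
          (commutatorElement_eq_one_iff_mul_comm.mp (congrArg Subtype.val hp)).symm⟩
      · rintro ⟨hqK, hqe⟩
        exact ⟨⟨q, hqK⟩, Subtype.ext (commutatorElement_eq_one_iff_mul_comm.mpr
          (Subgroup.mem_centralizer_singleton_iff.mp hqe).symm), rfl⟩
    have h1 := Subgroup.index_mul_card ψ.ker
    rw [Subgroup.index_ker, hr, Subgroup.card_top, hW4, h64,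
      ← Subgroup.card_map_of_injective (pCoreOf 2 K).subtype_injective, hk] at h1
    omega
  have hxC : ∀ q ∈ E.cE, x * q * x⁻¹ ∈ E.cE := by
    rintro q ⟨hqK, hqe⟩
    refine ⟨conj_mem_core N.x_mem hqK, Subgroup.mem_centralizer_singleton_iff.mpr ?_⟩
    have h1 : x * q * x⁻¹ * (z * e) = z * e * (x * q * x⁻¹) := by
      rw [← hxe]
      have hqe' : q * e = e * q := Subgroup.mem_centralizer_singleton_iff.mp hqe
      calc x * q * x⁻¹ * (x * e * x⁻¹) = x * (q * e) * x⁻¹ := by group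
        _ = x * e * x⁻¹ * (x * q * x⁻¹) := by rw [hqe']; group
    have hc := E.core_W (conj_mem_core N.x_mem hqK) hzW
    rw [← mul_assoc, hc, mul_assoc, mul_assoc z e] at h1
    exact mul_left_cancel h1
  let A : Subgroup G :=
    { carrier := {a | a ∈ pCoreOf 2 K ∧ (a ∈ W ∨ a * e ∈ W)}
      one_mem' := ⟨one_mem _, Or.inl (one_mem _)⟩
      mul_mem' := fun {p r} hp hr => ⟨mul_mem hp.1 hr.1, by
        rcases hp.2 with i | i <;> rcases hr.2 with j | j
        · exact Or.inl (mul_mem i j)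
        · exact Or.inr (by rw [mul_assoc]; exact mul_mem i j)
        · refine Or.inr ?_
          rw [mul_assoc, ← E.core_W heK j, ← mul_assoc]
          exact mul_mem i j
        · refine Or.inl ?_
          have hm := mul_mem i j
          rwa [mul_assoc p e, E.core_W heK j, mul_assoc r e e, hesq, mul_one] at hm⟩
      inv_mem' := fun {p} hp => ⟨inv_mem hp.1, by
        rcases hp.2 with i | i
        · exact Or.inl (inv_mem i)
        · refine Or.inr ?_
          have hm := inv_mem i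
          rw [mul_inv_rev, inv_eq_of_mul_eq_one_right hesq] at hm
          have hc := E.core_W heK hm
          rw [← mul_assoc, hesq, one_mul] at hc
          rw [hc, mul_assoc, mul_assoc, hesq, mul_one]
          exact (by simpa [mul_assoc] using hm)⟩ }
  have heW : e ∉ W := fun hm => by
    have := commutatorElement_eq_one_iff_mul_comm.mpr (E.core_W E.w_core hm).symm
    exact N.z_ne (hew.symm.trans this)
  have hA8 : 8 ≤ Nat.card A := by
    have hlt : W < A := lt_of_le_of_ne (fun a ha => ⟨E.W_core ha, Or.inl ha⟩) fun eq =>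
      heW (eq.ge ⟨heK, Or.inr (by rw [hesq]; exact one_mem _)⟩)
    have := two_mul_card_le_of_lt hlt
    omega
  have hAC : A ≤ E.cE := by
    rintro a ⟨haK, i | i⟩
    · exact E.W_cE i
    · have heC : e ∈ E.cE := ⟨heK, Subgroup.mem_centralizer_singleton_iff.mpr rfl⟩
      have := mul_mem (E.W_cE i) (inv_mem heC)
      rwa [mul_inv_cancel_right] at this
  have hxA : ∀ {a : G}, a ∈ A → x * a * x⁻¹ ∈ A ∧ x * a * x⁻¹ * a⁻¹ ∈ W := by
    rintro a ⟨haK, ha⟩
    have hm : x * a * x⁻¹ * a⁻¹ ∈ W := by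
      rcases ha with i | i
      · exact mul_mem (E.W_x i) (inv_mem i)
      · have h1 := E.W_x i
        rw [show x * (a * e) * x⁻¹ = x * a * x⁻¹ * (x * e * x⁻¹) by group, hxe] at h1
        have h2 : x * a * x⁻¹ * a⁻¹ = x * a * x⁻¹ * (z * e) * (a * e)⁻¹ * z := by
          have hc : Commute z (a * e)⁻¹ := Commute.inv_right (E.core_W (mul_mem haK heK) hzW).symm
          calc x * a * x⁻¹ * a⁻¹ = x * a * x⁻¹ * e * (a * e)⁻¹ := by group
            _ = x * a * x⁻¹ * (z * e) * ((a * e)⁻¹ * z) := by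
              rw [← hc.eq, show x * a * x⁻¹ * (z * e) * (z * (a * e)⁻¹)
                = x * a * x⁻¹ * z * (e * z) * (a * e)⁻¹ by group, E.core_W heK hzW,
                show x * a * x⁻¹ * z * (z * e) * (a * e)⁻¹ = x * a * x⁻¹ * (z * z) * e * (a * e)⁻¹ by group,
                N.z_mem.2.1, mul_one]
            _ = _ := by group
        rw [h2]
        exact mul_mem (mul_mem h1 (inv_mem i)) hzW
    refine ⟨?_, hm⟩
    have h1 : x * a * x⁻¹ * a⁻¹ ∈ A := ⟨E.W_core hm, Or.inl hm⟩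
    have := mul_mem h1 (show a ∈ A from ⟨haK, ha⟩)
    rwa [inv_mul_cancel_right] at this
  have hfix : ∀ q ∈ E.cE, x * q * x⁻¹ * q⁻¹ ∈ W := by
    intro q hq
    by_cases hqA : q ∈ A
    · exact (hxA hqA).2
    have hq' : x * q * x⁻¹ ∉ A := fun hm => hqA (by
      have h1 := (hxA (hxA hm).1).1
      rwa [show x * (x * (x * q * x⁻¹) * x⁻¹) * x⁻¹ = x ^ 3 * q * (x ^ 3)⁻¹ by
        simp only [pow_succ, pow_zero, one_mul]; group, N.x_cube, one_mul, inv_one, mul_one] at h1)
    have hm : x * q * x⁻¹ * q⁻¹ ∈ A :=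
      mul_mem_of_double hAC (by omega) (hxC q hq) (inv_mem hq) hq' fun i => hqA (by simpa using inv_mem i)
    set m := x * q * x⁻¹ * q⁻¹ with hmdef
    rcases hm.2 with i | i
    · exact i
    exfalso
    obtain ⟨hm1, hm1W⟩ := hxA hm
    obtain ⟨hm2, hm2W⟩ := hxA hm1
    have hone : x * (x * m * x⁻¹) * x⁻¹ * (x * m * x⁻¹) * m = 1 := by
      have e3 : x ^ 3 * q * (x ^ 3)⁻¹ = q := by rw [N.x_cube]; group
      calc x * (x * m * x⁻¹) * x⁻¹ * (x * m * x⁻¹) * m = (x ^ 3 * q * (x ^ 3)⁻¹) * q⁻¹ := by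
            simp only [hmdef, pow_succ, pow_zero, one_mul]; group
        _ = 1 := by rw [e3, mul_inv_cancel]
    set m1 := x * m * x⁻¹
    set m2 := x * m1 * x⁻¹
    have hmm : m * m ∈ W := hsq m hm.1
    have hmW : m ∈ W := by
      have hm1m : m1 * m ∈ W := by
        rw [show m1 * m = m1 * m⁻¹ * (m * m) by group]; exact mul_mem hm1W hmm
      have hm2m : m2 * (m1 * m) ∈ W := by rw [← mul_assoc, hone]; exact one_mem _
      have hm2W' : m2 ∈ W := by
        have := mul_mem hm2m (inv_mem hm1m)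
        rwa [mul_inv_cancel_right] at this
      have h3 := mul_mem (inv_mem hm2W) hm2W'
      rw [show (m2 * m1⁻¹)⁻¹ * m2 = m1 by group] at h3
      have h4 := mul_mem (inv_mem hm1W) h3
      rwa [show (m1 * m⁻¹)⁻¹ * m1 = m by group] at h4
    exact heW (by simpa using mul_mem (inv_mem hmW) i)
  have hexp : ∀ q ∈ E.cE, q * q = 1 := by
    intro q hq
    have hqK : q ∈ pCoreOf 2 K := hq.1
    have hm := hfix q hq
    set m := x * q * x⁻¹ * q⁻¹
    have hqq := hsq q hqK
    have h1 : x * (q * q) * x⁻¹ = q * q := by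
      calc x * (q * q) * x⁻¹ = m * q * (m * q) := by simp only [m]; group
        _ = m * (q * m) * q := by group
        _ = (m * m) * (q * q) := by rw [E.core_W hqK hm]; group
        _ = q * q := by rw [E.W_sq hm, one_mul]
    rcases N.mem_four hqq with i | i | i | i <;> rw [i] at h1
    · exact i
    · exact absurd (h1.symm.trans N.xz).symm N.v_ne_z
    · exfalso; rw [N.xv] at h1; exact N.z_ne (mul_eq_right.mp h1)
    · exfalso; rw [N.xzv] at h1; exact N.v_ne (left_eq_mul.mp h1)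
  have hker : ∀ q ∈ E.cE, q * w = w * q → q ∈ W := by
    intro q hq hqw
    have gen : ∀ p ∈ pCoreOf 2 K, q * p = p * q → q * (x * p * x⁻¹) = x * p * x⁻¹ * q := by
      intro p hp hqp
      have hm := hfix q hq
      have h1 : Commute (x * q * x⁻¹) (x * p * x⁻¹) := by
        show x * q * x⁻¹ * (x * p * x⁻¹) = x * p * x⁻¹ * (x * q * x⁻¹)
        calc x * q * x⁻¹ * (x * p * x⁻¹) = x * (q * p) * x⁻¹ := by group
          _ = _ := by rw [hqp]; group
      have h2 : Commute (x * q * x⁻¹ * q⁻¹) (x * p * x⁻¹) := (E.core_W (conj_mem_core N.x_mem hp) hm).symm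
      have h3 := h2.inv_left.mul_left h1
      rwa [show (x * q * x⁻¹ * q⁻¹)⁻¹ * (x * q * x⁻¹) = q by group] at h3
    have h2 := gen w E.w_core hqw
    exact E.cent_Y h hq.1 hqw h2 (gen b E.w2_core h2)
  refine ⟨hcard, hexp, hxC, hfix, hker, ?_⟩
  let φ : ↥E.cE →* ↥W := MonoidHom.mk' (fun q => ⟨⁅(q : G), w⁆, E.core_comm h q.2.1 E.w_core⟩)
    fun p q => Subtype.ext (E.core_comm_mul h E.w_core p.2.1 q.2.1).2
  have hk : φ.ker.map E.cE.subtype = W := by
    ext q
    constructor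
    · rintro ⟨p, hp, rfl⟩
      exact hker p p.2 (commutatorElement_eq_one_iff_mul_comm.mp (congrArg Subtype.val hp))
    · intro hq
      exact ⟨⟨q, E.W_cE hq⟩, Subtype.ext (commutatorElement_eq_one_iff_mul_comm.mpr
        (E.core_W E.w_core hq).symm), rfl⟩
  have h1 := Subgroup.index_mul_card φ.ker
  rw [Subgroup.index_ker, hcard, ← Subgroup.card_map_of_injective E.cE.subtype_injective, hk, hW4] at h1
  have htop : φ.range = ⊤ := Subgroup.eq_top_of_card_eq _ (by rw [hW4]; omega)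
  obtain ⟨k, hk'⟩ : (⟨v, hvW⟩ : ↥W) ∈ φ.range := htop ▸ Subgroup.mem_top _
  exact ⟨k, k.2, congrArg Subtype.val hk'⟩

/-- Involutions of `O₂(K)` outside `C`. -/
theorem inv_cases (h : Hard G) (E : Eight N t w) (h64 : Nat.card (pCoreOf 2 K) = 64) {q : G}
    (hq : q ∈ pCoreOf 2 K) (hq2 : q * q = 1) :
    q ∈ E.cE ∨ q * w ∈ Subgroup.closure ({z, v} : Set G) ∨
      q * (x * w * x⁻¹) ∈ Subgroup.closure ({z, v} : Set G) ∨
      q * (x * (x * w * x⁻¹) * x⁻¹) ∈ Subgroup.closure ({z, v} : Set G) := by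
  obtain ⟨-, hexp, hxC, hfix, hker, -⟩ := E.cE_props h h64
  set W := Subgroup.closure ({z, v} : Set G)
  have comm : ∀ {r : G}, r * r = 1 → q * r ∈ E.cE → q * r * r = r * (q * r) := fun {r} hr hm => by
    have hi := inv_eq_of_mul_eq_one_right (hexp _ hm)
    rw [mul_inv_rev, inv_eq_of_mul_eq_one_right hq2, inv_eq_of_mul_eq_one_right hr] at hi
    rw [mul_assoc q r r, hr, mul_one, ← hi, ← mul_assoc, hr, one_mul]
  have back : ∀ {p r : G}, p ∈ E.cE → r ∈ pCoreOf 2 K → p * (x * r * x⁻¹) = x * r * x⁻¹ * p → p * r = r * p := by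
    intro p r hp hr e
    have hm := hfix p hp
    have h2 : Commute (x * p * x⁻¹ * p⁻¹) (x * r * x⁻¹) := (E.core_W (conj_mem_core N.x_mem hr) hm).symm
    have h3 := h2.mul_left (e : Commute p (x * r * x⁻¹))
    rw [inv_mul_cancel_right] at h3
    refine mul_left_cancel (a := x) (mul_right_cancel (b := x⁻¹) ?_)
    calc x * (p * r) * x⁻¹ = (x * p * x⁻¹) * (x * r * x⁻¹) := by group
      _ = x * r * x⁻¹ * (x * p * x⁻¹) := h3.eq
      _ = x * (r * p) * x⁻¹ := by group
  rcases E.cE_cosets h hq with i | i | i | i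
  · exact Or.inl i
  · exact Or.inr (Or.inl (hker _ i (comm E.w_sq i)))
  · exact Or.inr (Or.inr (Or.inl (hker _ i (back i E.w_core (comm E.w2_sq i)))))
  · exact Or.inr (Or.inr (Or.inr (hker _ i (back i E.w_core (back i E.w2_core (comm E.w3_sq i))))))

/-- `C` is weakly closed in `S`. -/
theorem cE_weak (h : Hard G) (E : Eight N t w) (h64 : Nat.card (pCoreOf 2 K) = 64) (g : G)
    (hg : ∀ a ∈ E.cE, g * a * g⁻¹ ∈ (S : Subgroup G)) : ∀ a ∈ E.cE, g * a * g⁻¹ ∈ E.cE := by
  classical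
  obtain ⟨hcard, hexp, -, hfix, hker, -⟩ := E.cE_props h h64
  obtain ⟨h12, h23, h31⟩ := E.comm_values h
  set b := x * w * x⁻¹
  set d := x * b * x⁻¹
  set W := Subgroup.closure ({z, v} : Set G)
  set B := E.cE.map (MulAut.conj g).toMonoidHom with hB
  have hB16 : Nat.card B = 16 := by rw [hB, Subgroup.card_map_of_injective (MulEquiv.injective _), hcard]
  have hBS : B ≤ (S : Subgroup G) := by rintro _ ⟨a, ha, rfl⟩; exact hg a ha
  have hB2 : ∀ a ∈ B, a * a = 1 := by
    rintro _ ⟨a, ha, rfl⟩; rw [← map_mul, hexp a ha, map_one]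
  have hBc : ∀ a ∈ B, ∀ a' ∈ B, a * a' = a' * a := comm_of_exp_two hB2
  set D := B ⊓ pCoreOf 2 K
  have hU16 : Nat.card N.toMData.U = 8 := E.card
  -- elements of `D` lie in `C`
  have hDC : ∀ a ∈ D, a ∈ E.cE := by
    by_contra hh
    push Not at hh
    obtain ⟨q, hqD, hqC⟩ := hh
    have gen : ∀ r ∈ pCoreOf 2 K, r * r = 1 → r ∉ E.cE → q * r ∈ W →
        (∀ p ∈ E.cE, p * r = r * p → p ∈ W) →
        (∀ r' ∈ pCoreOf 2 K, (r' = w ∨ r' = b ∨ r' = d) → r' ≠ r → r * r' ≠ r' * r) → False := by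
      intro r hrK hr2 hrC hqr hk hdist
      have hcr : ∀ a ∈ D, a * r = r * a := by
        intro a ha
        have h1 : Commute a q := hBc a ha.1 q hqD.1
        have h2 := h1.inv_right.mul_right (E.core_W ha.2 hqr : Commute a (q * r))
        rwa [inv_mul_cancel_left] at h2
      have hsub : ∀ a ∈ D, a ∈ W ∨ a * r ∈ W := by
        intro a ha
        rcases E.inv_cases h h64 ha.2 (hB2 a ha.1) with i | i | i | i
        · exact Or.inl (hk a i (hcr a ha))
        all_goals
          refine Or.inr ?_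
          by_contra hne
          have hc1 := hcr a ha
        · refine hdist w E.w_core (Or.inl rfl) (fun e => hne (e ▸ i)) ?_
          have h2 : Commute r (a * w) := E.core_W hrK i
          have h3 := (Commute.inv_right (hc1.symm : Commute r a)).mul_right h2
          rwa [inv_mul_cancel_left] at h3
        · refine hdist b E.w2_core (Or.inr (Or.inl rfl)) (fun e => hne (e ▸ i)) ?_
          have h2 : Commute r (a * b) := E.core_W hrK i
          have h3 := (Commute.inv_right (hc1.symm : Commute r a)).mul_right h2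
          rwa [inv_mul_cancel_left] at h3
        · refine hdist d E.w3_core (Or.inr (Or.inr rfl)) (fun e => hne (e ▸ i)) ?_
          have h2 : Commute r (a * d) := E.core_W hrK i
          have h3 := (Commute.inv_right (hc1.symm : Commute r a)).mul_right h2
          rwa [inv_mul_cancel_left] at h3
      have hDle : Nat.card D ≤ 8 := by
        have h1 := card_le_two_mul (A := W) r hsub
        have : Nat.card ↥W ≤ 4 := E.card_W'
        omega
      -- hence `B ⊄ O₂(K)` and `v ∉ B`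
      have hBD : Nat.card B ≤ 2 * Nat.card D := by
        obtain ⟨s, hs, hsK⟩ : ∃ s ∈ B, s ∉ pCoreOf 2 K := by
          by_contra hh
          push Not at hh
          have : D = B := inf_eq_left.mpr hh
          rw [this, hB16] at hDle
          omega
        refine card_le_two_mul s fun a ha => ?_
        by_cases haK : a ∈ pCoreOf 2 K
        · exact Or.inl ⟨ha, haK⟩
        · exact Or.inr ⟨mul_mem ha hs,
            mul_mem_of_double N.core_le_S (E.card_S h).1.le (hBS ha) (hBS hs) haK hsK⟩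
      have hvD : v ∈ B := by
        by_contra hvB
        have hlt : D ⊓ W < W := lt_of_le_of_ne inf_le_right fun e =>
          hvB (e.ge (Subgroup.subset_closure (Or.inr rfl))).1.1
        have hW4 : Nat.card ↥W = 4 := le_antisymm E.card_W' E.card_W
        have h1 := two_mul_card_le_of_lt hlt
        have h2 : Nat.card D ≤ 2 * Nat.card ↥(D ⊓ W) := card_le_two_mul q fun a ha => by
          rcases hsub a ha with i | i
          · exact Or.inl ⟨ha, i⟩
          · refine Or.inr ⟨mul_mem ha hqD, ?_⟩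
            have h0 : r * q = q * r := (hcr q hqD).symm
            have hm := mul_mem i hqr
            rwa [show a * r * (q * r) = a * (r * q) * r by group, h0,
              show a * (q * r) * r = a * q * (r * r) by group, hr2, mul_one] at hm
        omega
      have hle : B ≤ pCoreOf 2 K := fun a ha =>
        (N.mem_core_iff (hBS ha)).mpr (hBc a ha v hvD)
      rw [show D = B from inf_eq_left.mpr hle, hB16] at hDle
      omega
    have hwC : w ∉ E.cE := fun hm => by
      obtain ⟨-, -, -, hew, -, -, -⟩ := E.e_props h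
      exact N.z_ne (hew.symm.trans (commutatorElement_eq_one_iff_mul_comm.mpr
        (Subgroup.mem_centralizer_singleton_iff.mp hm.2).symm))
    have hne : ∀ {a : G}, ⁅(a : G), a⁆ = 1 := fun {a} => commutatorElement_self a
    have nc : ∀ {p r a : G}, ⁅p, r⁆ = a → a ≠ 1 → p * r ≠ r * p ∧ r * p ≠ p * r := fun {p r a} e ha =>
      ⟨fun c => ha (e.symm.trans (commutatorElement_eq_one_iff_mul_comm.mpr c)),
        fun c => ha (e.symm.trans (commutatorElement_eq_one_iff_mul_comm.mpr c.symm))⟩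
    have hzv1 : z * v ≠ 1 := fun e => N.v_ne_z (by
      rw [← inv_eq_of_mul_eq_one_right e, inv_eq_of_mul_eq_one_right N.z_mem.2.1])
    have n12 := nc h12 hzv1
    have n23 := nc h23 N.z_ne
    have n31 := nc h31 N.v_ne
    have trans1 : ∀ {r : G}, r ∈ pCoreOf 2 K → (∀ p ∈ E.cE, p * r = r * p → p ∈ W) →
        ∀ p ∈ E.cE, p * (x * r * x⁻¹) = x * r * x⁻¹ * p → p ∈ W := by
      intro r hr hk p hp e
      refine hk p hp ?_
      have h2 : Commute (x * p * x⁻¹ * p⁻¹) (x * r * x⁻¹) :=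
        (E.core_W (conj_mem_core N.x_mem hr) (hfix p hp)).symm
      have h3 := h2.mul_left (e : Commute p (x * r * x⁻¹))
      rw [inv_mul_cancel_right] at h3
      refine mul_left_cancel (a := x) (mul_right_cancel (b := x⁻¹) ?_)
      calc x * (p * r) * x⁻¹ = (x * p * x⁻¹) * (x * r * x⁻¹) := by group
        _ = x * r * x⁻¹ * (x * p * x⁻¹) := h3.eq
        _ = x * (r * p) * x⁻¹ := by group
    have kb := trans1 E.w_core hker
    have kd := trans1 E.w2_core kb
    have hbC : b ∉ E.cE := fun hm => by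
      obtain ⟨-, -, -, -, heb, -, -⟩ := E.e_props h
      exact N.v_ne (heb.symm.trans (commutatorElement_eq_one_iff_mul_comm.mpr
        (Subgroup.mem_centralizer_singleton_iff.mp hm.2).symm))
    have hdC : d ∉ E.cE := fun hm => by
      obtain ⟨-, -, -, -, -, hed, -⟩ := E.e_props h
      exact hzv1 (hed.symm.trans (commutatorElement_eq_one_iff_mul_comm.mpr
        (Subgroup.mem_centralizer_singleton_iff.mp hm.2).symm))
    rcases E.inv_cases h h64 hqD.2 (hB2 q hqD.1) with i | i | i | i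
    · exact hqC i
    · refine gen w E.w_core E.w_sq hwC i hker ?_
      rintro r' - (rfl | rfl | rfl) hr
      · exact absurd rfl hr
      · exact n12.1
      · exact n31.2
    · refine gen b E.w2_core E.w2_sq hbC i kb ?_
      rintro r' - (rfl | rfl | rfl) hr
      · exact n12.2
      · exact absurd rfl hr
      · exact n23.1
    · refine gen d E.w3_core E.w3_sq hdC i kd ?_
      rintro r' - (rfl | rfl | rfl) hr
      · exact n31.1
      · exact n23.2
      · exact absurd rfl hr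
  -- `B ≤ O₂(K)`
  have hle : B ≤ pCoreOf 2 K := by
    intro s hs
    by_contra hsK
    have hBD : Nat.card B ≤ 2 * Nat.card D := card_le_two_mul s fun a ha => by
      by_cases haK : a ∈ pCoreOf 2 K
      · exact Or.inl ⟨ha, haK⟩
      · exact Or.inr ⟨mul_mem ha hs, mul_mem_of_double N.core_le_S (E.card_S h).1.le (hBS ha) (hBS hs) haK hsK⟩
    have hvB : v ∉ B := fun hv => hsK ((N.mem_core_iff (hBS hs)).mpr (hBc s hs v hv))
    obtain ⟨p, hp, hpQ⟩ : ∃ p ∈ D, p ∉ pCoreOf 2 M₁ := by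
      by_contra hh
      push Not at hh
      obtain ⟨heK, -, hesq, hew, -, -, -⟩ := E.e_props h
      set e := w * (b * d)
      have hsub : ∀ a ∈ D, a ∈ W ∨ a * e ∈ W := by
        intro a ha
        rcases mem_two N.z_mem.2.1 (N.toMData.comm_U (hh a ha) E.w_U) with i | i
        · exact Or.inl (hker a (hDC a ha) (commutatorElement_eq_one_iff_mul_comm.mp i))
        · refine Or.inr (hker _ (mul_mem (hDC a ha) ⟨heK, Subgroup.mem_centralizer_singleton_iff.mpr rfl⟩)
            (commutatorElement_eq_one_iff_mul_comm.mp ?_))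
          rw [(E.core_comm_mul h E.w_core ha.2 heK).2, i, hew, N.z_mem.2.1]
      have hlt : D ⊓ W < W := lt_of_le_of_ne inf_le_right fun e' =>
        hvB (e'.ge (Subgroup.subset_closure (Or.inr rfl))).1.1
      have hW4 : Nat.card ↥W ≤ 4 := E.card_W'
      have h1 := two_mul_card_le_of_lt hlt
      by_cases hq : ∀ a ∈ D, a ∈ W
      · have : D ⊓ W = D := inf_eq_left.mpr hq
        rw [this] at h1
        omega
      · push Not at hq
        obtain ⟨q, hqD, hqW⟩ := hq
        have hqe := (hsub q hqD).resolve_left hqW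
        have h2 : Nat.card D ≤ 2 * Nat.card ↥(D ⊓ W) := card_le_two_mul q fun a ha => by
          rcases hsub a ha with i | i
          · exact Or.inl ⟨ha, i⟩
          · refine Or.inr ⟨mul_mem ha hqD, ?_⟩
            have h0 : e * q = q * e :=
              (Subgroup.mem_centralizer_singleton_iff.mp (hDC q hqD).2).symm
            have hm := mul_mem i hqe
            rwa [show a * e * (q * e) = a * (e * q) * e by group, h0,
              show a * (q * e) * e = a * q * (e * e) by group, hesq, mul_one] at hm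
        omega
    have hpw : ⁅p, w⁆ ∉ Subgroup.zpowers z := fun i => hpQ (by
      obtain ⟨heK, heQ, -, hew, -, -, -⟩ := E.e_props h
      set e := w * (b * d)
      rcases mem_two N.z_mem.2.1 i with j | j
      · exact N.toMData.U_le (E.W_U (hker p (hDC p hp) (commutatorElement_eq_one_iff_mul_comm.mp j)))
      · have hm := hker _ (mul_mem (hDC p hp) ⟨heK, Subgroup.mem_centralizer_singleton_iff.mpr rfl⟩)
          (commutatorElement_eq_one_iff_mul_comm.mp (by
            rw [(E.core_comm_mul h E.w_core hp.2 heK).2, j, hew, N.z_mem.2.1]))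
        have := mul_mem (N.toMData.U_le (E.W_U hm)) (inv_mem heQ)
        rwa [mul_inv_cancel_right] at this)
    have hsW : s * w * s⁻¹ * w ∈ W := by
      rcases E.U_cases' (N.U_conj (hBS hs) E.w_U) with i | i
      · exfalso
        refine E.w_W ?_
        have := E.W_S (inv_mem (hBS hs)) i
        rwa [show s⁻¹ * (s * w * s⁻¹) * s⁻¹⁻¹ = w by group] at this
      · exact i
    have hsp : s * p * s⁻¹ = p := by rw [hBc s hs p hp.1, mul_inv_cancel_right]
    have hfixv : s * ⁅p, w⁆ * s⁻¹ = ⁅p, w⁆ := by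
      calc s * ⁅p, w⁆ * s⁻¹ = ⁅s * p * s⁻¹, s * w * s⁻¹⁆ := by simp only [commutatorElement_def]; group
        _ = ⁅1 * p, (s * w * s⁻¹ * w) * w⁆ := by
          rw [hsp, one_mul, mul_assoc _ w w, E.w_sq, mul_one]
        _ = ⁅p, w⁆ := E.core_comm_W h hp.2 E.w_core (one_mem _) hsW
    have hsv : s * v * s⁻¹ = v := by
      rcases N.mem_four (E.core_comm h hp.2 E.w_core) with i | i | i | i <;> rw [i] at hpw hfixv
      · exact absurd (one_mem _) hpw
      · exact absurd (Subgroup.mem_zpowers z) hpw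
      · exact hfixv
      · rw [show s * (z * v) * s⁻¹ = (s * z * s⁻¹) * (s * v * s⁻¹) by group, N.z_mem.2.2 s (hBS hs),
          mul_inv_cancel_right] at hfixv
        exact mul_left_cancel hfixv
    exact hsK ((N.mem_core_iff (hBS hs)).mpr (mul_inv_eq_iff_eq_mul.mp hsv))
  exact fun a ha => hDC _ ⟨⟨a, ha, rfl⟩, hle ⟨a, ha, rfl⟩⟩

/-- `|O₂(K)| ≠ 64`. -/
theorem core_ne_big (h : Hard G) (E : Eight N t w) : Nat.card (pCoreOf 2 K) ≠ 64 := by
  intro h64
  classical
  obtain ⟨hcard, hexp, hxC, hfix, hker, k, hkC, hkw⟩ := E.cE_props h h64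
  obtain ⟨heK, heQ, hesq, hew, heb, hed, hxe⟩ := E.e_props h
  obtain ⟨h12, h23, h31⟩ := E.comm_values h
  set b := x * w * x⁻¹ with hb
  set d := x * b * x⁻¹ with hd
  set e := w * (b * d) with he
  set W := Subgroup.closure ({z, v} : Set G)
  set L := Subgroup.normalizer (E.cE : Set G)
  have hC2 : IsPGroup 2 ↥E.cE := (core_two K).to_le inf_le_left
  have hCS : E.cE ≤ (S : Subgroup G) := fun a ha => N.core_le_S ha.1
  have hweak := E.cE_weak h h64
  have hSL : (S : Subgroup G) ≤ L := fun s hs => Subgroup.mem_normalizer_fintype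
    (hweak s fun a ha => mul_mem (mul_mem hs (hCS ha)) (inv_mem hs))
  have hxL : x ∈ L := Subgroup.mem_normalizer_fintype fun a ha => hxC a ha
  have hCne : E.cE ≠ ⊥ := fun i => N.z_ne (Subgroup.mem_bot.mp (i ▸ E.W_cE (Subgroup.subset_closure (Or.inl rfl))))
  have hL := h.good_normalizer hC2 hCne
  have hCO : E.cE ≤ pCoreOf 2 L := le_core hC2 Subgroup.le_normalizer le_rfl
  -- `O₂(L) = O₂(K)`
  have hOK : pCoreOf 2 L ≤ pCoreOf 2 K := fun a ha => by
    have haS := core_le_sylow S hSL ha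
    have h1 := core_le_conj S hSL (inv_mem hxL) ha
    rw [inv_inv] at h1
    have h2 := N.z_mem.2.2 _ h1
    refine (N.mem_core_iff haS).mpr ?_
    calc a * v = x * (x⁻¹ * a * x * z) * x⁻¹ := by rw [← N.xz]; group
      _ = x * (z * (x⁻¹ * a * x)) * x⁻¹ := by rw [h2]
      _ = v * a := by rw [← N.xz]; group
  have hwb : ⁅w, x⁆ ∈ pCoreOf 2 L :=
    hL.commutator_mem h.sect (core_two K) (N.core_le_S.trans hSL) E.w_core hxL N.x_odd
      (conj_mem_core N.x_mem (inv_mem E.w_core))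
  have hwbd : w ∈ pCoreOf 2 L ∧ b ∈ pCoreOf 2 L ∧ d ∈ pCoreOf 2 L := by
    have hwb' : w * b ∈ pCoreOf 2 L := by
      rwa [show ⁅w, x⁆ = w * b by
        rw [commutatorElement_def, inv_eq_of_mul_eq_one_right E.w_sq, hb]; group] at hwb
    have hbd : b * d ∈ pCoreOf 2 L := by
      have := conj_mem_core hxL hwb'
      rwa [show x * (w * b) * x⁻¹ = b * d by rw [hd, hb]; group] at this
    have heO : e ∈ pCoreOf 2 L := hCO ⟨heK, Subgroup.mem_centralizer_singleton_iff.mpr rfl⟩
    have hw : w ∈ pCoreOf 2 L := by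
      have := mul_mem heO (inv_mem hbd)
      rwa [he, mul_inv_cancel_right] at this
    have hbm := conj_mem_core hxL hw
    exact ⟨hw, hbm, conj_mem_core hxL hbm⟩
  have hKO : pCoreOf 2 K ≤ pCoreOf 2 L := fun q hq => by
    rcases E.cE_cosets h hq with i | i | i | i
    · exact hCO i
    · simpa using mul_mem (hCO i) (inv_mem hwbd.1)
    · have := mul_mem (hCO i) (inv_mem hwbd.2.1)
      rwa [hb, mul_inv_cancel_right] at this
    · have := mul_mem (hCO i) (inv_mem hwbd.2.2)
      rwa [hd, hb, mul_inv_cancel_right] at this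
  have hgK : ∀ g ∈ L, ∀ q ∈ pCoreOf 2 K, g * q * g⁻¹ ∈ pCoreOf 2 K := fun g hg q hq =>
    hOK (conj_mem_core hg (hKO hq))
  have hgC : ∀ g ∈ L, ∀ q, q ∈ E.cE ↔ g * q * g⁻¹ ∈ E.cE := fun g hg => Subgroup.mem_normalizer_iff.mp hg
  -- `L` normalises `W` and `W ∪ W e`
  have hgW : ∀ g ∈ L, ∀ a ∈ W, g * a * g⁻¹ ∈ W := by
    intro g hg a ha
    have hle : W ≤ W.comap (MulAut.conj g).toMonoidHom := (Subgroup.closure_le _).mpr (by
      have hc : ∀ {p r : G}, p ∈ pCoreOf 2 K → r ∈ pCoreOf 2 K → g * ⁅p, r⁆ * g⁻¹ ∈ W := fun {p r} hp hr => by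
        rw [show g * ⁅p, r⁆ * g⁻¹ = ⁅g * p * g⁻¹, g * r * g⁻¹⁆ by simp only [commutatorElement_def]; group]
        exact E.core_comm h (hgK g hg p hp) (hgK g hg r hr)
      rintro y (rfl | rfl)
      · show g * y * g⁻¹ ∈ W
        rw [← h23]; exact hc E.w2_core E.w3_core
      · show g * y * g⁻¹ ∈ W
        rw [← h31]; exact hc E.w3_core E.w_core)
    exact hle ha
  have hgA : ∀ g ∈ L, g * e * g⁻¹ * e ∈ W := by
    intro g hg
    have heC : e ∈ E.cE := ⟨heK, Subgroup.mem_centralizer_singleton_iff.mpr rfl⟩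
    set p := g * e * g⁻¹ with hp
    have hpC : p ∈ E.cE := (hgC g hg e).mp heC
    have img : ∀ {r : G}, r ∈ pCoreOf 2 K → r * r = 1 → r ∉ E.cE →
        ∃ r', (r' = w ∨ r' = b ∨ r' = d) ∧ g * r * g⁻¹ * r' ∈ W := by
      intro r hr hr2 hrC
      rcases E.inv_cases h h64 (hgK g hg r hr)
        (by rw [show g * r * g⁻¹ * (g * r * g⁻¹) = g * (r * r) * g⁻¹ by group, hr2]; group) with i | i | i | i
      · exact absurd ((hgC g hg r).mpr i) hrC
      · exact ⟨w, Or.inl rfl, i⟩
      · exact ⟨b, Or.inr (Or.inl rfl), i⟩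
      · exact ⟨d, Or.inr (Or.inr rfl), i⟩
    have notC : ∀ {r a : G}, ⁅e, r⁆ = a → a ≠ 1 → r ∉ E.cE := fun {r a} i ha hm =>
      ha (i.symm.trans (commutatorElement_eq_one_iff_mul_comm.mpr
        (Subgroup.mem_centralizer_singleton_iff.mp hm.2).symm))
    have hzv1 : z * v ≠ 1 := fun i => N.v_ne_z (by
      rw [← inv_eq_of_mul_eq_one_right i, inv_eq_of_mul_eq_one_right N.z_mem.2.1])
    obtain ⟨r1, c1, i1⟩ := img E.w_core E.w_sq (notC hew N.z_ne)
    obtain ⟨r2, c2, i2⟩ := img E.w2_core E.w2_sq (notC heb N.v_ne)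
    obtain ⟨r3, c3, i3⟩ := img E.w3_core E.w3_sq (notC hed hzv1)
    have hrK : ∀ {r : G}, (r = w ∨ r = b ∨ r = d) → r ∈ pCoreOf 2 K ∧ r * r = 1 := by
      rintro r (rfl | rfl | rfl)
      · exact ⟨E.w_core, E.w_sq⟩
      · exact ⟨E.w2_core, E.w2_sq⟩
      · exact ⟨E.w3_core, E.w3_sq⟩
    have val : ∀ {p1 p2 q1 q2 : G}, g * q1 * g⁻¹ * p1 ∈ W → g * q2 * g⁻¹ * p2 ∈ W →
        p1 ∈ pCoreOf 2 K → p2 ∈ pCoreOf 2 K → p1 * p1 = 1 → p2 * p2 = 1 →
        ⁅p1, p2⁆ = g * ⁅q1, q2⁆ * g⁻¹ := by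
      intro p1 p2 q1 q2 j1 j2 k1 k2 s1 s2
      rw [show g * ⁅q1, q2⁆ * g⁻¹ = ⁅g * q1 * g⁻¹, g * q2 * g⁻¹⁆ by simp only [commutatorElement_def]; group,
        show g * q1 * g⁻¹ = g * q1 * g⁻¹ * p1 * p1 by rw [mul_assoc _ p1 p1, s1, mul_one],
        show g * q2 * g⁻¹ = g * q2 * g⁻¹ * p2 * p2 by rw [mul_assoc _ p2 p2, s2, mul_one],
        E.core_comm_W h k1 k2 j1 j2]
    obtain ⟨k1, s1⟩ := hrK c1
    obtain ⟨k2, s2⟩ := hrK c2
    obtain ⟨k3, s3⟩ := hrK c3
    have gne : ∀ {a : G}, a ≠ 1 → g * a * g⁻¹ ≠ 1 := fun {a} ha i => ha (conj_eq_one_iff.mp i)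
    have ne12 : r1 ≠ r2 := fun i => by
      have := val i1 i2 k1 k2 s1 s2
      rw [i, commutatorElement_self, h12] at this
      exact gne hzv1 this.symm
    have ne23 : r2 ≠ r3 := fun i => by
      have := val i2 i3 k2 k3 s2 s3
      rw [i, commutatorElement_self, h23] at this
      exact gne N.z_ne this.symm
    have ne31 : r3 ≠ r1 := fun i => by
      have := val i3 i1 k3 k1 s3 s1
      rw [i, commutatorElement_self, h31] at this
      exact gne N.v_ne this.symm
    have hmain : ⁅p, r1⁆ = ⁅r2, r3⁆ := by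
      rw [val i2 i3 k2 k3 s2 s3, h23, ← hew,
        show g * ⁅e, w⁆ * g⁻¹ = ⁅1 * p, g * w * g⁻¹ * r1 * r1⁆ by
          rw [mul_assoc _ r1 r1, s1, mul_one, hp]; simp only [commutatorElement_def]; group,
        E.core_comm_W h hpC.1 k1 (one_mem _) i1]
    have htr : ∀ {r : G}, r ∈ pCoreOf 2 K → ⁅p, x * r * x⁻¹⁆ = x * ⁅p, r⁆ * x⁻¹ := fun {r} hr => by
      rw [← E.core_comm_W h hpC.1 (conj_mem_core N.x_mem hr) (hfix p hpC) (one_mem _), inv_mul_cancel_right,
        one_mul]
      simp only [commutatorElement_def]; group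
    have hxi : ∀ {a a' : G}, x * a * x⁻¹ = x * a' * x⁻¹ → a = a' := fun i =>
      mul_left_cancel (mul_right_cancel i)
    have hp2 : ⁅p, w⁆ = z := by
      have s12 := E.core_comm_symm h E.w_core E.w2_core
      have s23 := E.core_comm_symm h E.w2_core E.w3_core
      have s31 := E.core_comm_symm h E.w3_core E.w_core
      rcases c1 with rfl | rfl | rfl
      · rcases c2 with rfl | rfl | rfl <;> rcases c3 with rfl | rfl | rfl <;>
          first | exact absurd rfl ne12 | exact absurd rfl ne23 | exact absurd rfl ne31 |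
            exact hmain.trans h23 | exact hmain.trans (s23.trans h23)
      · have hv : ⁅p, b⁆ = v := by
          rcases c2 with rfl | rfl | rfl <;> rcases c3 with rfl | rfl | rfl <;>
            first | exact absurd rfl ne12 | exact absurd rfl ne23 | exact absurd rfl ne31 |
              exact hmain.trans h31 | exact hmain.trans (s31.trans h31)
        rw [hb, htr E.w_core] at hv
        exact hxi (hv.trans N.xz.symm)
      · have hzv : ⁅p, d⁆ = z * v := by
          rcases c2 with rfl | rfl | rfl <;> rcases c3 with rfl | rfl | rfl <;>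
            first | exact absurd rfl ne12 | exact absurd rfl ne23 | exact absurd rfl ne31 |
              exact hmain.trans h12 | exact hmain.trans (s12.trans h12)
        rw [hd, htr E.w2_core] at hzv
        have hv : ⁅p, b⁆ = v := hxi (hzv.trans N.xv.symm)
        rw [hb, htr E.w_core] at hv
        exact hxi (hv.trans N.xz.symm)
    refine hker _ (mul_mem hpC heC) (commutatorElement_eq_one_iff_mul_comm.mp ?_)
    rw [(E.core_comm_mul h E.w_core hpC.1 heK).2, hp2, hew, N.z_mem.2.1]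
  -- no conjugate of `k` lies in `W ∪ W e`
  have hkQ : k ∉ pCoreOf 2 M₁ := fun i => by
    have h1 := N.toMData.comm_U i E.w_U
    rw [hkw] at h1
    exact N.toMData.conj_v_ne F.one_mem (by simpa using h1)
  have hfus : ∀ {g a : G}, (a ∈ W ∨ a * e ∈ W) → g * a * g⁻¹ = k → False := by
    intro g a ha hga
    have heC : e ∈ E.cE := ⟨heK, Subgroup.mem_centralizer_singleton_iff.mpr rfl⟩
    have haC : a ∈ E.cE := by
      rcases ha with i | i
      · exact E.W_cE i
      · simpa using mul_mem (E.W_cE i) (inv_mem heC)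
    obtain ⟨l, hl, hla⟩ := exists_normalizer_conj S hCS (comm_of_exp_two hexp) hweak haC (hga ▸ hkC)
    rw [hga] at hla
    refine hkQ ?_
    rw [← hla]
    have hWQ : ∀ {r : G}, r ∈ W → r ∈ pCoreOf 2 M₁ := fun hr => N.toMData.U_le (E.W_U hr)
    rcases ha with i | i
    · exact hWQ (hgW l hl a i)
    · have h2 := mul_mem (hWQ (hgW l hl _ i)) (mul_mem heQ (inv_mem (hWQ (hgA l hl))))
      rwa [show l * (a * e) * l⁻¹ * (e * (l * e * l⁻¹ * e)⁻¹) = l * a * l⁻¹ by group] at h2
  -- transfer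
  haveI := h.simple
  have hnoTwo : ∀ A : Subgroup G, A.Normal → A.index ≠ 2 := by
    intro A hA hi
    rcases hA.eq_bot_or_eq_top with i | i
    · rw [i, Subgroup.index_bot] at hi
      haveI : Fact (Nat.Prime 2) := ⟨Nat.prime_two⟩
      haveI := isCyclic_of_prime_card hi
      exact h.nonComm ⟨⟨mul_comm'⟩⟩
    · rw [i, Subgroup.index_top] at hi
      exact absurd hi (by norm_num)
  have hrel : (pCoreOf 2 M₁).relIndex (S : Subgroup G) = 2 := by
    obtain ⟨e1, e2⟩ := E.card_S h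
    have hm := Subgroup.relIndex_mul_relIndex (⊥ : Subgroup G) (pCoreOf 2 M₁) (S : Subgroup G) bot_le
      N.toMData.Q_le_S
    rw [Subgroup.relIndex_bot_left, Subgroup.relIndex_bot_left, e1, e2, h64] at hm
    omega
  obtain ⟨g, hgQ, -⟩ := CfsgLib.TransferExtremal.exists_conj hnoTwo S (pCoreOf 2 M₁) N.toMData.Q_le_S hrel k
    (by rw [pow_two]; exact hexp k hkC)
  set q := g * k * g⁻¹ with hq
  obtain ⟨f, hf, hf1, -⟩ := N.toMData.exists_odd
  obtain ⟨f', hf', hfK⟩ : ∃ f' ∈ F, f' * q * f'⁻¹ ∈ pCoreOf 2 K := by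
    by_cases hqK : q ∈ pCoreOf 2 K
    · exact ⟨1, F.one_mem, by simpa using hqK⟩
    obtain ⟨hcQ, hcK, -, -⟩ := E.c_props h
    set c := b * d
    have hfM := N.ov.F_le hf
    have h1 := (E.Q_cases h hf hf1 hgQ).resolve_left hqK
    rcases E.D_cases h h1 (mul_mem hgQ (N.toMData.conj_mem_Q hfM hcQ)) with i | i
    · refine ⟨f⁻¹, F.inv_mem hf, ?_⟩
      have j := E.cU_core (E.cU_conj (M₁.inv_mem hfM) i)
      have := mul_mem j (inv_mem hcK)
      rwa [show f⁻¹ * (q * (f * c * f⁻¹)) * f⁻¹⁻¹ * c⁻¹ = f⁻¹ * q * f⁻¹⁻¹ by group] at this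
    · refine ⟨f, hf, ?_⟩
      have j := E.cU_core (E.cU_conj hfM i)
      set c1 := f * c * f⁻¹
      have hf2 : f * f ≠ 1 := fun i' => hf1 (by
        have h3 : f ^ 3 = 1 := by
          rw [← E.three]
          exact congrArg Subtype.val (pow_card_eq_one' (x := (⟨f, hf⟩ : ↥F)))
        rwa [pow_succ, pow_two, i', one_mul] at h3)
      have hc1K : c1 ∉ pCoreOf 2 K := E.c_moves h hf hf1
      have hc2K : f * c1 * f⁻¹ ∉ pCoreOf 2 K := by
        have := E.c_moves h (F.mul_mem hf hf) hf2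
        rwa [show f * f * c * (f * f)⁻¹ = f * c1 * f⁻¹ by simp only [c1]; group] at this
      have hcc : f * c1 * f⁻¹ * c1 ∈ pCoreOf 2 K :=
        mul_mem_of_double N.core_le_S (E.card_S h).1.le
          (N.toMData.Q_le_S (N.toMData.conj_mem_Q hfM (N.toMData.conj_mem_Q hfM hcQ)))
          (N.toMData.Q_le_S (N.toMData.conj_mem_Q hfM hcQ)) hc2K hc1K
      have := mul_mem j (inv_mem hcc)
      rwa [show f * (q * c1 * c) * f⁻¹ * (f * c1 * f⁻¹ * c1)⁻¹ = f * q * f⁻¹ * ((f * c1 * f⁻¹) * (f * c * f⁻¹)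
        * (f * c * f⁻¹)⁻¹ * (f * c1 * f⁻¹)⁻¹) by simp only [c1]; group, mul_inv_cancel_right,
        mul_inv_cancel, mul_one] at this
  set r := f' * q * f'⁻¹ with hr
  have hrQ : r ∈ pCoreOf 2 M₁ := N.toMData.conj_mem_Q (N.ov.F_le hf') hgQ
  have hr2 : r * r = 1 := by
    calc r * r = f' * g * (k * k) * (f' * g)⁻¹ := by rw [hr, hq]; group
      _ = 1 := by rw [hexp k hkC]; group
  have hback : (f' * g)⁻¹ * r * (f' * g)⁻¹⁻¹ = k := by rw [hr, hq]; group
  have hWQ : ∀ {y : G}, r * y ∈ W → y ∈ pCoreOf 2 M₁ := fun {y} i => by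
    simpa using mul_mem (inv_mem hrQ) (N.toMData.U_le (E.W_U i))
  rcases E.inv_cases h h64 hfK hr2 with i | i | i | i
  · refine hfus ?_ hback
    rcases mem_two N.z_mem.2.1 (N.toMData.comm_U hrQ E.w_U) with j | j
    · exact Or.inl (hker r i (commutatorElement_eq_one_iff_mul_comm.mp j))
    · refine Or.inr (hker _ (mul_mem i ⟨heK, Subgroup.mem_centralizer_singleton_iff.mpr rfl⟩)
        (commutatorElement_eq_one_iff_mul_comm.mp ?_))
      rw [(E.core_comm_mul h E.w_core i.1 heK).2, j, hew, N.z_mem.2.1]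
  · have hrU : r ∈ N.toMData.U := by simpa using mul_mem (E.W_U i) (inv_mem E.w_U)
    rcases N.U_cases E.card E.three hrU with j | ⟨g', hg', j⟩
    · have hzW : Subgroup.zpowers z ≤ W := Subgroup.zpowers_le.mpr (Subgroup.subset_closure (Or.inl rfl))
      exact hfus (a := r) (Or.inl (hzW j)) hback
    · have hz' : g' * z * g'⁻¹ = z := N.toMData.conj_z (N.ov.F_le hg')
      rcases j with j | j
      · exact hfus (g := (f' * g)⁻¹ * g') (a := v) (Or.inl (Subgroup.subset_closure (Or.inr rfl)))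
          (by rw [← hback, j]; group)
      · refine hfus (g := (f' * g)⁻¹ * g') (a := z * v)
          (Or.inl (mul_mem (Subgroup.subset_closure (Or.inl rfl)) (Subgroup.subset_closure (Or.inr rfl)))) ?_
        rw [← hback, j]
        calc (f' * g)⁻¹ * g' * (z * v) * ((f' * g)⁻¹ * g')⁻¹
            = (f' * g)⁻¹ * ((g' * z * g'⁻¹) * (g' * v * g'⁻¹)) * (f' * g)⁻¹⁻¹ := by group
          _ = _ := by rw [hz']
  · exact E.w2_notQ h (hWQ i)
  · exact E.w3_notQ h (hWQ i)

end NData.Eight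

end CfsgLib.SRFour

namespace CfsgLib.SRFour.NData

open Cfsg

universe u

variable {G : Type u} [Group G] [Finite G]
variable {S : Sylow 2 G} {K M₁ F : Subgroup G} {z v x : G}

/-- The abelian case ends in `FpfData`. -/
theorem fpfData_of_abelian (h : Hard G) (N : NData (S : Subgroup G) K M₁ F z v x)
    (hab : ∀ a ∈ N.toMData.U, ∀ b ∈ N.toMData.U, a * b = b * a) : FpfData N := by
  obtain ⟨hU, hF⟩ := N.card_U_of_abelian h hab
  obtain ⟨t, ht, htv⟩ := N.toMData.exists_t
  obtain ⟨w, hw, hwW⟩ : ∃ w ∈ N.toMData.U, w ∉ Subgroup.closure ({z, v} : Set G) := by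
    classical
    by_contra hh
    push Not at hh
    let φ : ↥N.toMData.U → Bool × Bool := fun a => (decide ((a : G) = 1 ∨ (a : G) = z), decide ((a : G) = 1 ∨ (a : G) = v))
    have hφ : Function.Injective φ := by
      rintro ⟨a, ha⟩ ⟨b, hb⟩ e
      refine Subtype.ext ?_
      simp only [φ, Prod.mk.injEq, decide_eq_decide] at e
      have hvz := N.v_ne_z
      have h1 : z * v ≠ 1 := fun e => hvz (by
        rw [← inv_eq_of_mul_eq_one_right e, inv_eq_of_mul_eq_one_right N.z_mem.2.1])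
      have h2 : z * v ≠ z := fun e => N.v_ne (mul_eq_left.mp e)
      have h3 : z * v ≠ v := fun e => N.z_ne (mul_eq_right.mp e)
      rcases N.mem_four (hh a ha) with rfl | rfl | rfl | rfl <;>
        rcases N.mem_four (hh b hb) with rfl | rfl | rfl | rfl <;>
        simp [N.z_ne, N.v_ne, hvz, hvz.symm, h1, h1.symm, h2, h2.symm, h3, h3.symm, N.z_ne.symm, N.v_ne.symm] at e ⊢
    have := Nat.card_le_card_of_injective φ hφ
    rw [hU, Nat.card_prod, Nat.card_eq_fintype_card (α := Bool), Fintype.card_bool] at this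
    omega
  have E : Eight N t w := ⟨hab, hU, hF, ht, htv, hw, hwW⟩
  obtain ⟨-, h1, h2⟩ := E.core_shape h
  have hne := E.core_ne_big h
  obtain ⟨k, hk⟩ := IsPGroup.iff_card.mp (core_two K)
  refine E.fpfData h ?_
  rw [hk] at h1 h2 hne ⊢
  rcases Nat.lt_or_ge k 5 with i | i
  · have := Nat.pow_le_pow_right (show 0 < 2 by norm_num) (show k ≤ 4 by omega)
    omega
  · rcases Nat.lt_or_ge k 7 with j | j
    · interval_cases k <;> omega
    · have := Nat.pow_le_pow_right (show 0 < 2 by norm_num) j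
      omega

end CfsgLib.SRFour.NData
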