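import Mathlib
import Cfsg.Agent.Lib.SRFour.NEightEnd
import Cfsg.Agent.Lib.SRFour.ExtraCommon

/-!
A nonabelian `U`: either extraspecial of order 32 equal to `Q₁`, or of order 16 with cyclic centre.

Blueprint: `blueprint/S0517.md`, §3.
-/

set_option autoImplicit false
set_option linter.unusedSectionVars false
set_option linter.style.haveILetI false

namespace CfsgLib.SRFour

open Cfsg
open scoped commutatorElement

universe u

variable {G : Type u} [Group G] [Finite G]

/-- Adjoining an element normalising `A` with square in `A` at most doubles `A`. -/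
theorem card_closure_insert_le {A : Subgroup G} {a : G} (hA : ∀ b ∈ A, a * b * a⁻¹ ∈ A) (ha : a * a ∈ A) :
    Nat.card (Subgroup.closure (insert a (A : Set G))) ≤ 2 * Nat.card A := by
  have hA' : ∀ b ∈ A, a⁻¹ * b * a ∈ A := fun b hb => by
    rw [show a⁻¹ * b * a = (a * a)⁻¹ * (a * b * a⁻¹) * (a * a) by group]
    exact mul_mem (mul_mem (inv_mem ha) (hA b hb)) ha
  refine card_le_two_mul a fun g hg => ?_
  induction hg using Subgroup.closure_induction with
  | mem y hy =>
    rcases hy with rfl | hy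
    · exact Or.inr ha
    · exact Or.inl hy
  | one => exact Or.inl (one_mem _)
  | mul p r _ _ ihp ihr =>
    rcases ihp with i | i <;> rcases ihr with j | j
    · exact Or.inl (mul_mem i j)
    · exact Or.inr (by rw [mul_assoc]; exact mul_mem i j)
    · refine Or.inr ?_
      rw [show p * r * a = p * a * (a⁻¹ * r * a) by group]
      exact mul_mem i (hA' r j)
    · refine Or.inl ?_
      rw [show p * r = p * a * (a⁻¹ * (r * a) * a) * (a * a)⁻¹ by group]
      exact mul_mem (mul_mem i (hA' _ j)) (inv_mem ha)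
  | inv p _ ihp =>
    rcases ihp with i | i
    · exact Or.inl (inv_mem i)
    · refine Or.inr ?_
      rw [show p⁻¹ * a = a * (p * a)⁻¹ * a⁻¹ * (a * a) by group]
      exact mul_mem (hA _ (inv_mem i)) ha

/-- Outside a proper subgroup of a 2-group some element has its square inside. -/
theorem exists_sq_mem {A P : Subgroup G} (hP : IsPGroup 2 ↥P) {p : G} (hp : p ∈ P) (hpA : p ∉ A) :
    ∃ q ∈ P, q ∉ A ∧ q * q ∈ A := by
  classical
  obtain ⟨k, hk⟩ := hP ⟨p, hp⟩
  have hex : ∃ i, p ^ 2 ^ i ∈ A :=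
    ⟨k, (show p ^ 2 ^ k = 1 from congrArg Subtype.val hk) ▸ A.one_mem⟩
  have hne : Nat.find hex ≠ 0 := fun e => hpA (by simpa [e] using Nat.find_spec hex)
  refine ⟨p ^ 2 ^ (Nat.find hex - 1), P.pow_mem hp _, Nat.find_min hex (by omega), ?_⟩
  rw [← pow_add, ← two_mul, ← pow_succ', Nat.sub_add_cancel (Nat.pos_of_ne_zero hne)]
  exact Nat.find_spec hex

namespace MData

variable {S : Sylow 2 G} {M₁ F : Subgroup G} {z v : G}

/-- The centre of `U`. -/
def Zu (h : MData (S : Subgroup G) M₁ F z v) : Subgroup G := h.U ⊓ Subgroup.centralizer (h.U : Set G)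

theorem Zu_comm (h : MData (S : Subgroup G) M₁ F z v) {a b : G} (ha : a ∈ h.Zu) (hb : b ∈ h.U) : a * b = b * a :=
  (Subgroup.mem_centralizer_iff.mp ha.2 b hb).symm

theorem mem_Zu (h : MData (S : Subgroup G) M₁ F z v) {a : G} (ha : a ∈ h.U) (hc : ∀ b ∈ h.U, a * b = b * a) :
    a ∈ h.Zu :=
  ⟨ha, Subgroup.mem_centralizer_iff.mpr fun b hb => (hc b hb).symm⟩

theorem z_Zu (h : MData (S : Subgroup G) M₁ F z v) : z ∈ h.Zu :=
  h.mem_Zu h.z_U fun _ hb => (h.comm_z (core_le M₁ (h.U_le hb))).symm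

theorem Zu_conj (h : MData (S : Subgroup G) M₁ F z v) {m a : G} (hm : m ∈ M₁) (ha : a ∈ h.Zu) :
    m * a * m⁻¹ ∈ h.Zu := by
  refine h.mem_Zu ((Subgroup.mem_normalizer_iff.mp (h.U_norm hm) a).mp ha.1) fun b hb => ?_
  have hb' : m⁻¹ * b * m ∈ h.U := by
    have := (Subgroup.mem_normalizer_iff.mp (h.U_norm (M₁.inv_mem hm)) b).mp hb
    rwa [inv_inv] at this
  calc m * a * m⁻¹ * b = m * (a * (m⁻¹ * b * m)) * m⁻¹ := by group
    _ = b * (m * a * m⁻¹) := by rw [h.Zu_comm ha hb']; group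

/-- Conjugates of `v` under `M₁` are conjugates under `F`, up to `z`. -/
theorem conj_v_F (h : MData (S : Subgroup G) M₁ F z v) {m : G} (hm : m ∈ M₁) :
    ∃ f ∈ F, m * v * m⁻¹ = f * v * f⁻¹ ∨ m * v * m⁻¹ = z * (f * v * f⁻¹) := by
  obtain ⟨q, hq, f, hf, n, hn, -, rfl⟩ := h.ov.decomp m hm
  refine ⟨f, hf, ?_⟩
  have hzc : ∀ {g : G}, g ∈ M₁ → ∀ a : G, g * (z * a) * g⁻¹ = z * (g * a * g⁻¹) := fun {g} hg a => by
    rw [show g * (z * a) * g⁻¹ = (g * z * g⁻¹) * (g * a * g⁻¹) by group, h.conj_z hg]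
  have hfM := h.ov.F_le hf
  have hfv : f * v * f⁻¹ ∈ h.U := h.conj_v_U hfM
  have hq' : q * (f * v * f⁻¹) * q⁻¹ = f * v * f⁻¹ ∨ q * (f * v * f⁻¹) * q⁻¹ = z * (f * v * f⁻¹) := by
    rcases mem_two h.z_mem.2.1 (h.comm_U hq hfv) with e | e
    · exact Or.inl (mul_inv_eq_iff_eq_mul.mpr (commutatorElement_eq_one_iff_mul_comm.mp e))
    · right; rw [← e]; simp only [commutatorElement_def]; group
  rw [show q * f * n * v * (q * f * n)⁻¹ = q * (f * (n * v * n⁻¹) * f⁻¹) * q⁻¹ by group]
  rcases h.sv n hn with e | e <;> rw [e]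
  · exact hq'
  · rw [hzc hfM, hzc (core_le M₁ hq)]
    rcases hq' with e' | e' <;> rw [e']
    · exact Or.inr rfl
    · left; rw [← mul_assoc, h.z_mem.2.1, one_mul]

/-- An element commuting with all `F`-conjugates of `v` centralises `U`. -/
theorem comm_of_orbit (h : MData (S : Subgroup G) M₁ F z v) {a : G} (hz : a * z = z * a)
    (hc : ∀ f ∈ F, a * (f * v * f⁻¹) = f * v * f⁻¹ * a) : ∀ u ∈ h.U, a * u = u * a := by
  intro u hu
  induction hu using Subgroup.closure_induction with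
  | mem y hy =>
    rcases hy with rfl | ⟨m, hm, rfl⟩
    · exact hz
    · obtain ⟨f, hf, e | e⟩ := h.conj_v_F hm <;> rw [e]
      · exact hc f hf
      · exact (Commute.mul_right (hz : Commute a z) (hc f hf)).eq
  | one => simp
  | mul p r _ _ ihp ihr => exact (Commute.mul_right (ihp : Commute a p) ihr).eq
  | inv p _ ihp => exact (Commute.inv_right (ihp : Commute a p)).eq

theorem comm_mul (h : MData (S : Subgroup G) M₁ F z v) {p q r : G} (hp : p ∈ M₁)
    (hqr : ⁅q, r⁆ ∈ Subgroup.zpowers z) : ⁅p * q, r⁆ = ⁅q, r⁆ * ⁅p, r⁆ := by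
  rw [show ⁅p * q, r⁆ = p * ⁅q, r⁆ * p⁻¹ * ⁅p, r⁆ by simp only [commutatorElement_def]; group]
  rcases mem_two h.z_mem.2.1 hqr with e | e <;> rw [e]
  · simp
  · rw [h.conj_z hp]

theorem comm_symm (h : MData (S : Subgroup G) M₁ F z v) {a b : G} (hab : ⁅a, b⁆ = z) : ⁅b, a⁆ = z := by
  rw [← commutatorElement_inv, hab, inv_eq_of_mul_eq_one_right h.z_mem.2.1]

/-- Adjust `q` by a product of `a` and `b` into the centraliser of both. -/
theorem adjust (h : MData (S : Subgroup G) M₁ F z v) {a b q : G} (ha : a ∈ M₁) (hb : b ∈ M₁) (hq : q ∈ M₁)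
    (hab : ⁅a, b⁆ = z) (hqa : ⁅q, a⁆ ∈ Subgroup.zpowers z) (hqb : ⁅q, b⁆ ∈ Subgroup.zpowers z) :
    ∃ e : G, (e = 1 ∨ e = a ∨ e = b ∨ e = a * b) ∧ q * e * a = a * (q * e) ∧ q * e * b = b * (q * e) := by
  have hba := h.comm_symm hab
  have hz : z ∈ Subgroup.zpowers z := Subgroup.mem_zpowers z
  have h1 : (1 : G) ∈ Subgroup.zpowers z := one_mem _
  have hzz := h.z_mem.2.1
  have key : ∀ e : G, ⁅e, a⁆ = ⁅q, a⁆ → ⁅e, b⁆ = ⁅q, b⁆ →
      q * e * a = a * (q * e) ∧ q * e * b = b * (q * e) := by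
    intro e e1 e2
    constructor <;> refine commutatorElement_eq_one_iff_mul_comm.mp ?_
    · rw [h.comm_mul hq (e1 ▸ hqa), e1]
      rcases mem_two hzz hqa with i | i <;> rw [i] <;> simp [hzz]
    · rw [h.comm_mul hq (e2 ▸ hqb), e2]
      rcases mem_two hzz hqb with i | i <;> rw [i] <;> simp [hzz]
  rcases mem_two hzz hqa with i | i <;> rcases mem_two hzz hqb with j | j
  · exact ⟨1, Or.inl rfl, key 1 (by rw [i]; simp) (by rw [j]; simp)⟩
  · exact ⟨a, Or.inr (Or.inl rfl), key a (by rw [i]; simp) (hab.trans j.symm)⟩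
  · exact ⟨b, Or.inr (Or.inr (Or.inl rfl)), key b (hba.trans i.symm) (by rw [j]; simp)⟩
  · refine ⟨a * b, Or.inr (Or.inr (Or.inr rfl)), key _ ?_ ?_⟩
    · rw [h.comm_mul ha (hba ▸ hz), hba, i, commutatorElement_self, mul_one]
    · rw [h.comm_mul ha ((commutatorElement_self b).symm ▸ h1), commutatorElement_self, hab, j, one_mul]

/-- A noncommuting pair splits off four cosets. -/
theorem card_four_mul (h : MData (S : Subgroup G) M₁ F z v) {A : Subgroup G} (hA : A ≤ M₁)
    (hAc : ∀ p ∈ A, ∀ q ∈ A, ⁅p, q⁆ ∈ Subgroup.zpowers z) {a b : G} (ha : a ∈ A) (hb : b ∈ A) (hab : ⁅a, b⁆ = z) :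
    Nat.card A = 4 * Nat.card ↥(A ⊓ Subgroup.centralizer ({a, b} : Set G) : Subgroup G) := by
  classical
  set A1 := A ⊓ Subgroup.centralizer ({a, b} : Set G)
  have hzz := h.z_mem.2.1
  let r : Bool × Bool → G := fun i => (if i.1 then a else 1) * (if i.2 then b else 1)
  have hrA : ∀ i, r i ∈ A := fun i => by
    obtain ⟨i, j⟩ := i
    cases i <;> cases j <;> simp [r, ha, hb, mul_mem, one_mem]
  have hval : ∀ (u : ↥A1) i, ⁅(u : G) * r i, a⁆ = (if i.2 then z else 1) ∧
      ⁅(u : G) * r i, b⁆ = (if i.1 then z else 1) := by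
    intro u i
    have hu := Subgroup.mem_centralizer_iff.mp u.2.2
    rw [h.comm_mul (hA u.2.1) (hAc _ (hrA i) _ ha), h.comm_mul (hA u.2.1) (hAc _ (hrA i) _ hb),
      commutatorElement_eq_one_iff_mul_comm.mpr (hu a (by simp)).symm,
      commutatorElement_eq_one_iff_mul_comm.mpr (hu b (by simp)).symm, mul_one, mul_one]
    obtain ⟨i, j⟩ := i
    have hba := h.comm_symm hab
    cases i <;> cases j <;> simp [r, hba, hab,
      h.comm_mul (hA ha) (hba ▸ Subgroup.mem_zpowers z : ⁅b, a⁆ ∈ Subgroup.zpowers z),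
      h.comm_mul (hA ha) ((commutatorElement_self b).symm ▸ one_mem _ : ⁅b, b⁆ ∈ Subgroup.zpowers z)]
  let φ : ↥A1 × (Bool × Bool) → ↥A := fun p => ⟨p.1 * r p.2, mul_mem p.1.2.1 (hrA p.2)⟩
  have hφ : Function.Bijective φ := by
    constructor
    · rintro ⟨u, i⟩ ⟨u', i'⟩ e
      have e' : (u : G) * r i = u' * r i' := congrArg Subtype.val e
      obtain ⟨v1, v2⟩ := hval u i
      obtain ⟨w1, w2⟩ := hval u' i'
      rw [e', w1] at v1
      rw [e', w2] at v2
      have hi : i = i' := by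
        obtain ⟨i, j⟩ := i
        obtain ⟨i', j'⟩ := i'
        cases i <;> cases j <;> cases i' <;> cases j' <;> simp [h.z_ne, h.z_ne.symm] at v1 v2 ⊢
      subst hi
      exact Prod.ext (Subtype.ext (mul_right_cancel e')) rfl
    · rintro ⟨p, hp⟩
      obtain ⟨e, he, e1, e2⟩ := h.adjust (hA ha) (hA hb) (hA hp) hab (hAc p hp a ha) (hAc p hp b hb)
      have heA : e ∈ A := by rcases he with rfl | rfl | rfl | rfl <;> simp [ha, hb, mul_mem, one_mem]
      have hm : p * e ∈ A1 := ⟨mul_mem hp heA, Subgroup.mem_centralizer_iff.mpr (by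
        rintro y (rfl | rfl)
        · exact e1.symm
        · exact e2.symm)⟩
      -- `e⁻¹` is again one of the representatives, up to an element commuting with both
      obtain ⟨i, hi⟩ : ∃ i, e * r i ∈ A1 := by
        have hi : ∀ i, e * r i * a = a * (e * r i) ∧ e * r i * b = b * (e * r i) → e * r i ∈ A1 := fun i hh =>
          ⟨mul_mem heA (hrA i), Subgroup.mem_centralizer_iff.mpr (by
            rintro y (rfl | rfl)
            · exact hh.1.symm
            · exact hh.2.symm)⟩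
        obtain ⟨e', he', f1, f2⟩ := h.adjust (hA ha) (hA hb) (hA heA) hab (hAc e heA a ha) (hAc e heA b hb)
        rcases he' with rfl | rfl | rfl | rfl
        · exact ⟨(false, false), hi _ (by simpa [r] using And.intro f1 f2)⟩
        · exact ⟨(true, false), hi _ (by simpa [r] using And.intro f1 f2)⟩
        · exact ⟨(false, true), hi _ (by simpa [r] using And.intro f1 f2)⟩
        · exact ⟨(true, true), hi _ (by simpa [r] using And.intro f1 f2)⟩
      have hri : p * (r i)⁻¹ ∈ A1 := by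
        have := mul_mem hm (inv_mem hi)
        rw [show p * e * (e * r i)⁻¹ = p * e * (r i)⁻¹ * e⁻¹ by group,
          show p * e * (r i)⁻¹ * e⁻¹ = p * (e * (r i)⁻¹ * e⁻¹ * r i) * (r i)⁻¹ by group,
          show e * (r i)⁻¹ * e⁻¹ * r i = ⁅e, (r i)⁻¹⁆ by simp only [commutatorElement_def]; group] at this
        rcases mem_two hzz (hAc e heA _ (inv_mem (hrA i))) with j | j <;> rw [j] at this
        · rwa [mul_one] at this
        · have hzA0 : z ∈ A := by
            rw [← hab, commutatorElement_def]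
            exact mul_mem (mul_mem (mul_mem ha hb) (inv_mem ha)) (inv_mem hb)
          have hzA : z ∈ A1 := ⟨hzA0,
            Subgroup.mem_centralizer_iff.mpr (by
              rintro y (rfl | rfl)
              · exact h.comm_z (hA ha)
              · exact h.comm_z (hA hb))⟩
          have hc : p * z = z * p := h.comm_z (hA hp)
          rw [hc, mul_assoc] at this
          have := mul_mem hzA this
          rwa [← mul_assoc, hzz, one_mul] at this
      exact ⟨(⟨_, hri⟩, i), Subtype.ext (by simp [φ])⟩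
  have := Nat.card_congr (Equiv.ofBijective φ hφ)
  rw [Nat.card_prod, Nat.card_prod, Nat.card_eq_fintype_card (α := Bool), Fintype.card_bool] at this
  omega

theorem U_comm_mem (h : MData (S : Subgroup G) M₁ F z v) {a b : G} (ha : a ∈ h.U) (hb : b ∈ h.U) :
    ⁅a, b⁆ ∈ Subgroup.zpowers z := h.comm_U (h.U_le ha) hb

theorem v_not_Zu (h : MData (S : Subgroup G) M₁ F z v) (hna : ¬ ∀ a ∈ h.U, ∀ b ∈ h.U, a * b = b * a) :
    v ∉ h.Zu := fun hv => hna fun a ha b hb => by
  refine h.comm_of_orbit (h.comm_z (core_le M₁ (h.U_le ha))) (fun f hf => ?_) b hb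
  exact (h.Zu_comm (h.Zu_conj (h.ov.F_le hf) hv) ha).symm

/-- Two conjugates of `v` not commuting. -/
theorem exists_pair (h : MData (S : Subgroup G) M₁ F z v) (hna : ¬ ∀ a ∈ h.U, ∀ b ∈ h.U, a * b = b * a) :
    ∃ g ∈ F, g ≠ 1 ∧ ⁅v, g * v * g⁻¹⁆ = z := by
  by_contra hh
  push Not at hh
  refine h.v_not_Zu hna (h.mem_Zu h.v_U (h.comm_of_orbit h.zv.symm fun f hf => ?_))
  by_cases hf1 : f = 1
  · subst hf1; simp
  · exact commutatorElement_eq_one_iff_mul_comm.mp
      ((mem_two h.z_mem.2.1 (h.U_comm_mem h.v_U (h.conj_v_U (h.ov.F_le hf)))).resolve_right (hh f hf hf1))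

theorem conj_v_sq (h : MData (S : Subgroup G) M₁ F z v) (m : G) : m * v * m⁻¹ * (m * v * m⁻¹) = 1 := by
  rw [show m * v * m⁻¹ * (m * v * m⁻¹) = m * (v * v) * m⁻¹ by group, h.v_sq]; group

theorem mul_conj_sq (h : MData (S : Subgroup G) M₁ F z v) {b : G} (hb : b * b = 1) (hvb : ⁅v, b⁆ = z) :
    v * b * (v * b) = z := by
  rw [← hvb, commutatorElement_def, inv_eq_of_mul_eq_one_right h.v_sq, inv_eq_of_mul_eq_one_right hb]
  group

theorem F_le_three_U (h : MData (S : Subgroup G) M₁ F z v) {g : G} (hg : g ∈ F) (hg1 : g ≠ 1)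
    (h3 : Nat.card F = 3) : Nat.card h.U ≤ 16 := by
  haveI : Fact (Nat.Prime 3) := ⟨Nat.prime_three⟩
  have hgen : ∀ f ∈ F, f = 1 ∨ f = g ∨ f = g * g := by
    intro f hf
    have hz : Subgroup.zpowers (⟨g, hg⟩ : ↥F) = ⊤ :=
      zpowers_eq_top_of_prime_card h3 (fun e => hg1 (congrArg Subtype.val e))
    obtain ⟨i, hi⟩ := Subgroup.mem_zpowers_iff.mp (hz ▸ Subgroup.mem_top (⟨f, hf⟩ : ↥F))
    have hi' : g ^ i = f := congrArg Subtype.val hi
    have hc : g ^ 3 = 1 := by
      rw [← h3]; exact congrArg Subtype.val (pow_card_eq_one' (x := (⟨g, hg⟩ : ↥F)))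
    rw [zpow_eq_zpow_emod' i hc] at hi'
    have h0 : (0 : ℤ) ≤ i % ((3 : ℕ) : ℤ) := Int.emod_nonneg _ (by norm_num)
    have h1 : i % ((3 : ℕ) : ℤ) < 3 := Int.emod_lt_of_pos _ (by norm_num)
    generalize i % ((3 : ℕ) : ℤ) = r at hi' h0 h1
    interval_cases r
    · exact Or.inl (by rw [← hi', zpow_zero])
    · exact Or.inr (Or.inl (by rw [← hi', zpow_one]))
    · exact Or.inr (Or.inr (by rw [← hi', zpow_two]))
  have hU : ∀ {f : G}, f ∈ F → f * v * f⁻¹ ∈ h.U := fun hf => h.conj_v_U (h.ov.F_le hf)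
  have step : ∀ {A : Subgroup G}, Subgroup.zpowers z ≤ A → A ≤ h.U → ∀ {f : G}, f ∈ F →
      Nat.card (Subgroup.closure (insert (f * v * f⁻¹) (A : Set G))) ≤ 2 * Nat.card A := by
    intro A hzA hAU f hf
    refine card_closure_insert_le (fun b hb => ?_) (by rw [h.conj_v_sq]; exact one_mem _)
    have hm := mul_mem (hzA (h.U_comm_mem (hU hf) (hAU hb))) hb
    rwa [show ⁅f * v * f⁻¹, b⁆ * b = f * v * f⁻¹ * b * (f * v * f⁻¹)⁻¹ by
      simp only [commutatorElement_def]; group] at hm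
  have sub : ∀ {A : Subgroup G} {f : G}, A ≤ h.U → f ∈ F →
      Subgroup.closure (insert (f * v * f⁻¹) (A : Set G)) ≤ h.U := fun hA hf =>
    (Subgroup.closure_le _).mpr (Set.insert_subset (hU hf) hA)
  set T0 := Subgroup.zpowers z
  set T1 := Subgroup.closure (insert ((1 : G) * v * 1⁻¹) (T0 : Set G))
  set T2 := Subgroup.closure (insert (g * v * g⁻¹) (T1 : Set G))
  set T3 := Subgroup.closure (insert (g * g * v * (g * g)⁻¹) (T2 : Set G))
  have h0U : T0 ≤ h.U := Subgroup.zpowers_le.mpr h.z_U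
  have h1U : T1 ≤ h.U := sub h0U F.one_mem
  have h2U : T2 ≤ h.U := sub h1U hg
  have l1 : T0 ≤ T1 := fun a ha => Subgroup.subset_closure (Or.inr ha)
  have l2 : T1 ≤ T2 := fun a ha => Subgroup.subset_closure (Or.inr ha)
  have l3 : T2 ≤ T3 := fun a ha => Subgroup.subset_closure (Or.inr ha)
  have c1 : Nat.card T1 ≤ 2 * Nat.card T0 := step le_rfl h0U F.one_mem
  have c2 : Nat.card T2 ≤ 2 * Nat.card T1 := step l1 h1U hg
  have c3 : Nat.card T3 ≤ 2 * Nat.card T2 := step (l1.trans l2) h2U (F.mul_mem hg hg)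
  have horb : ∀ f ∈ F, f * v * f⁻¹ ∈ T3 := by
    intro f hf
    rcases hgen f hf with rfl | rfl | rfl
    · exact l3 (l2 (Subgroup.subset_closure (Or.inl rfl)))
    · exact l3 (Subgroup.subset_closure (Or.inl rfl))
    · exact Subgroup.subset_closure (Or.inl rfl)
  have hzT : z ∈ T3 := l3 (l2 (l1 (Subgroup.mem_zpowers z)))
  have hle : h.U ≤ T3 := (Subgroup.closure_le _).mpr (by
    rintro y (rfl | ⟨m, hm, rfl⟩)
    · exact hzT
    · obtain ⟨f, hf, e | e⟩ := h.conj_v_F hm <;> rw [e]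
      · exact horb f hf
      · exact mul_mem hzT (horb f hf))
  have := Subgroup.card_le_of_le hle
  have hc0 : Nat.card T0 = 2 := card_zpowers_two h.z_mem.2.1 h.z_ne
  omega

/-- `U/Z(U)` has order four or `U` is extraspecial of order 32. -/
theorem U_split (h : MData (S : Subgroup G) M₁ F z v) (h4 : SectionalPRankLE 2 4 G) {g : G} (hg : g ∈ F)
    (hvb : ⁅v, g * v * g⁻¹⁆ = z) :
    (Nat.card h.U = 4 * Nat.card h.Zu ∧
      ∀ u ∈ h.U, ∃ e, (e = 1 ∨ e = v ∨ e = g * v * g⁻¹ ∨ e = v * (g * v * g⁻¹)) ∧ u * e ∈ h.Zu) ∨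
    (Nat.card h.U = 32 ∧ h.Zu = Subgroup.zpowers z ∧
      ∀ q ∈ pCoreOf 2 M₁, ∃ e ∈ h.U, ∀ u ∈ h.U, q * e * u = u * (q * e)) := by
  classical
  set b := g * v * g⁻¹
  have hbU : b ∈ h.U := h.conj_v_U (h.ov.F_le hg)
  have hUM : h.U ≤ M₁ := h.U_le.trans (core_le M₁)
  have hUc : ∀ p ∈ h.U, ∀ q ∈ h.U, ⁅p, q⁆ ∈ Subgroup.zpowers z := fun p hp q hq => h.U_comm_mem hp hq
  set U1 := h.U ⊓ Subgroup.centralizer ({v, b} : Set G)
  have hc : Nat.card h.U = 4 * Nat.card U1 := h.card_four_mul hUM hUc h.v_U hbU hvb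
  have hsplit : ∀ u ∈ h.U, ∃ e, (e = 1 ∨ e = v ∨ e = b ∨ e = v * b) ∧ u * e ∈ U1 := by
    intro u hu
    obtain ⟨e, he, e1, e2⟩ := h.adjust (hUM h.v_U) (hUM hbU) (hUM hu) hvb (hUc u hu v h.v_U) (hUc u hu b hbU)
    have heU : e ∈ h.U := by
      rcases he with rfl | rfl | rfl | rfl
      · exact one_mem _
      · exact h.v_U
      · exact hbU
      · exact mul_mem h.v_U hbU
    exact ⟨e, he, mul_mem hu heU, Subgroup.mem_centralizer_iff.mpr (by
      rintro y (rfl | rfl)
      · exact e1.symm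
      · exact e2.symm)⟩
  by_cases hab : ∀ p ∈ U1, ∀ q ∈ U1, p * q = q * p
  · left
    have heq : U1 = h.Zu := by
      refine le_antisymm (fun p hp => h.mem_Zu hp.1 fun u hu => ?_) (fun p hp => ⟨hp.1,
        Subgroup.mem_centralizer_iff.mpr fun y hy => (h.Zu_comm hp (by rcases hy with rfl | rfl; exacts [h.v_U, hbU])).symm⟩)
      obtain ⟨e, he, hue⟩ := hsplit u hu
      have hpv : Commute p v := (Subgroup.mem_centralizer_iff.mp hp.2 v (Or.inl rfl)).symm
      have hpb : Commute p b := (Subgroup.mem_centralizer_iff.mp hp.2 b (Or.inr rfl)).symm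
      have hpe : Commute p e := by
        rcases he with rfl | rfl | rfl | rfl
        exacts [Commute.one_right p, hpv, hpb, hpv.mul_right hpb]
      have := Commute.mul_right (hab p hp _ hue : Commute p (u * e)) hpe.inv_right
      rwa [mul_inv_cancel_right] at this
    exact ⟨heq ▸ hc, fun u hu => heq ▸ hsplit u hu⟩
  · right
    push Not at hab
    obtain ⟨p, hp, r, hr, hpr⟩ := hab
    have hpr' : ⁅p, r⁆ = z := (mem_two h.z_mem.2.1 (hUc p hp.1 r hr.1)).resolve_left fun e =>
      hpr (commutatorElement_eq_one_iff_mul_comm.mp e)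
    have hU1M : U1 ≤ M₁ := inf_le_left.trans hUM
    set U2 := U1 ⊓ Subgroup.centralizer ({p, r} : Set G)
    have hc' : Nat.card U1 = 4 * Nat.card U2 := h.card_four_mul hU1M (fun a ha b hb => hUc a ha.1 b hb.1) hp hr hpr'
    have hz2 : Subgroup.zpowers z ≤ U2 := Subgroup.zpowers_le.mpr ⟨⟨h.z_U, Subgroup.mem_centralizer_iff.mpr (by
        rintro y (rfl | rfl)
        · exact h.zv.symm
        · exact h.comm_z (hUM hbU))⟩, Subgroup.mem_centralizer_iff.mpr (by
        rintro y (rfl | rfl)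
        · exact h.comm_z (hUM hp.1)
        · exact h.comm_z (hUM hr.1))⟩
    have h2 := Subgroup.card_le_of_le hz2
    rw [card_zpowers_two h.z_mem.2.1 h.z_ne] at h2
    have h32 := h.card_U_le h4
    have hU2 : U2 = Subgroup.zpowers z := (Subgroup.eq_of_le_of_card_ge hz2 (by
      rw [card_zpowers_two h.z_mem.2.1 h.z_ne]; omega)).symm
    refine ⟨by omega, le_antisymm (fun a ha => ?_) (Subgroup.zpowers_le.mpr h.z_Zu), fun q hq => ?_⟩
    · rw [← hU2]
      refine ⟨⟨ha.1, Subgroup.mem_centralizer_iff.mpr fun y hy => (h.Zu_comm ha ?_).symm⟩,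
        Subgroup.mem_centralizer_iff.mpr fun y hy => (h.Zu_comm ha ?_).symm⟩
      · rcases hy with rfl | rfl
        exacts [h.v_U, hbU]
      · rcases hy with rfl | rfl
        exacts [hp.1, hr.1]
    · have hqM := core_le M₁ hq
      have hqU : ∀ {u}, u ∈ h.U → ⁅q, u⁆ ∈ Subgroup.zpowers z := fun hu => h.comm_U hq hu
      obtain ⟨e1, he1, a1, a2⟩ := h.adjust (hUM h.v_U) (hUM hbU) hqM hvb (hqU h.v_U) (hqU hbU)
      have he1U : e1 ∈ h.U := by
        rcases he1 with rfl | rfl | rfl | rfl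
        exacts [one_mem _, h.v_U, hbU, mul_mem h.v_U hbU]
      have hq1 : q * e1 ∈ pCoreOf 2 M₁ := mul_mem hq (h.U_le he1U)
      obtain ⟨e2, he2, a3, a4⟩ := h.adjust (hUM hp.1) (hUM hr.1) (core_le M₁ hq1) hpr'
        (h.comm_U hq1 hp.1) (h.comm_U hq1 hr.1)
      have he2U1 : e2 ∈ U1 := by
        rcases he2 with rfl | rfl | rfl | rfl
        exacts [one_mem _, hp, hr, mul_mem hp hr]
      refine ⟨e1 * e2, mul_mem he1U he2U1.1, fun u hu => ?_⟩
      rw [← mul_assoc q e1 e2]
      set s := q * e1 * e2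
      have sv : Commute s v :=
        Commute.mul_left (a1 : Commute (q * e1) v) (Subgroup.mem_centralizer_iff.mp he2U1.2 v (Or.inl rfl)).symm
      have sb : Commute s b :=
        Commute.mul_left (a2 : Commute (q * e1) b) (Subgroup.mem_centralizer_iff.mp he2U1.2 b (Or.inr rfl)).symm
      obtain ⟨k, hk, huk⟩ := hsplit u hu
      obtain ⟨l, hl, l1, l2⟩ := h.adjust (hUM hp.1) (hUM hr.1) (hU1M huk) hpr' (hUc _ huk.1 p hp.1)
        (hUc _ huk.1 r hr.1)
      have hlU : l ∈ U1 := by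
        rcases hl with rfl | rfl | rfl | rfl
        exacts [one_mem _, hp, hr, mul_mem hp hr]
      have hm : u * k * l ∈ U2 := ⟨mul_mem huk hlU, Subgroup.mem_centralizer_iff.mpr (by
        rintro y (rfl | rfl)
        · exact l1.symm
        · exact l2.symm)⟩
      rw [hU2] at hm
      have sk : Commute s k := by
        rcases hk with rfl | rfl | rfl | rfl
        exacts [Commute.one_right s, sv, sb, sv.mul_right sb]
      have sl : Commute s l := by
        rcases hl with rfl | rfl | rfl | rfl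
        exacts [Commute.one_right s, a3, a4, Commute.mul_right a3 a4]
      have sz : Commute s z := h.comm_z (core_le M₁ (mul_mem hq1 (h.U_le he2U1.1)))
      obtain ⟨i, hi⟩ := Subgroup.mem_zpowers_iff.mp hm
      have := ((sz.zpow_right i).mul_right sl.inv_right).mul_right sk.inv_right
      rwa [hi, mul_inv_cancel_right, mul_inv_cancel_right] at this

/-- If `U/Z(U)` has order four then `Z(U)` has a root of `z`. -/
theorem exists_root (h : MData (S : Subgroup G) M₁ F z v) {g : G} (hg : g ∈ F) (hvb : ⁅v, g * v * g⁻¹⁆ = z)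
    (hcase : ∀ u ∈ h.U, ∃ e, (e = 1 ∨ e = v ∨ e = g * v * g⁻¹ ∨ e = v * (g * v * g⁻¹)) ∧ u * e ∈ h.Zu) :
    ∃ c ∈ h.Zu, c * c = z := by
  by_contra hh
  push Not at hh
  set b := g * v * g⁻¹ with hb
  have hgM := h.ov.F_le hg
  have hbU : b ∈ h.U := h.conj_v_U hgM
  have hb2 : b * b = 1 := h.conj_v_sq g
  have hZ2 : ∀ a ∈ h.Zu, a * a = 1 := fun a ha =>
    (mem_two h.z_mem.2.1 (h.U_sq ha.1)).resolve_right (hh a ha)
  have hbZ : b ∉ h.Zu := fun i => h.z_ne
    (hvb.symm.trans (commutatorElement_eq_one_iff_mul_comm.mpr (h.Zu_comm i h.v_U).symm))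
  set w := g * b * g⁻¹ with hw
  have hwU : w ∈ h.U := (Subgroup.mem_normalizer_iff.mp (h.U_norm hgM) b).mp hbU
  have hw2 : w * w = 1 := by rw [hw, show g * b * g⁻¹ * (g * b * g⁻¹) = g * (b * b) * g⁻¹ by group, hb2]; group
  obtain ⟨e, he, hwe⟩ := hcase w hwU
  rcases he with he | he | he | he <;> rw [he] at hwe
  · rw [mul_one] at hwe
    refine hbZ ?_
    have := h.Zu_conj (M₁.inv_mem hgM) hwe
    rwa [hw, show g⁻¹ * (g * b * g⁻¹) * g⁻¹⁻¹ = b by group] at this
  · -- `w ∈ vZ`: then `g²`, hence `g`, fixes the coset of `v`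
    have hc1 : ∀ n : ℕ, (g * g) ^ n * v * ((g * g) ^ n)⁻¹ * v ∈ h.Zu := by
      intro n
      induction n with
      | zero => simpa [h.v_sq] using one_mem h.Zu
      | succ n ih =>
        have h1 := h.Zu_conj (M₁.mul_mem hgM hgM) ih
        have h2 := mul_mem h1 hwe
        rw [show g * g * ((g * g) ^ n * v * ((g * g) ^ n)⁻¹ * v) * (g * g)⁻¹ * (w * v)
          = (g * g) ^ (n + 1) * v * ((g * g) ^ (n + 1))⁻¹ * ((g * g * v * (g * g)⁻¹) * w) * v by
            generalize g * g = k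
            rw [pow_succ']; group] at h2
        have h3 : g * g * v * (g * g)⁻¹ = w := by rw [hw, hb]; group
        rwa [h3, hw2, mul_one] at h2
    have ho : Odd (orderOf g) := h.ov.odd_order hg
    obtain ⟨j, hj⟩ := ho
    have hgj : (g * g) ^ (j + 1) = g := by
      rw [← pow_two, ← pow_mul, show 2 * (j + 1) = orderOf g + 1 by omega, pow_succ, pow_orderOf_eq_one, one_mul]
    have h4 := hc1 (j + 1)
    rw [hgj] at h4
    refine h.z_ne (hvb.symm.trans (commutatorElement_eq_one_iff_mul_comm.mpr ?_))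
    have h5 : Commute v (b * v) := (h.Zu_comm h4 h.v_U).symm
    have h6 := h5.mul_right (Commute.refl v).inv_right
    rwa [mul_inv_cancel_right] at h6
  · -- `w ∈ bZ`
    refine h.z_ne (hvb.symm.trans (commutatorElement_eq_one_iff_mul_comm.mpr ?_))
    have h4 := h.Zu_conj (M₁.inv_mem hgM) hwe
    rw [hw, hb, show g⁻¹ * (g * (g * v * g⁻¹) * g⁻¹ * (g * v * g⁻¹)) * g⁻¹⁻¹ = g * v * g⁻¹ * v by group,
      ← hb] at h4
    have h5 : Commute v (b * v) := (h.Zu_comm h4 h.v_U).symm
    have h6 := h5.mul_right (Commute.refl v).inv_right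
    rwa [mul_inv_cancel_right] at h6
  · -- `w ∈ vbZ` squares to `z`
    have h7 : w * (v * b) * (w * (v * b)) = 1 := hZ2 _ hwe
    have hc : Commute (w * (v * b)) (v * b) := h.Zu_comm hwe (mul_mem h.v_U hbU)
    have h8 : Commute w (v * b) := by
      have := hc.mul_left (Commute.refl (v * b)).inv_left
      rwa [mul_inv_cancel_right] at this
    rw [show w * (v * b) * (w * (v * b)) = w * ((v * b) * w) * (v * b) by group, ← h8.eq,
      show w * (w * (v * b)) * (v * b) = (w * w) * (v * b * (v * b)) by group, hw2, one_mul,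
      h.mul_conj_sq hb2 hvb] at h7
    exact h.z_ne h7

/-- The data of the case `|U| = 16`. -/
structure Sixteen (h : MData (S : Subgroup G) M₁ F z v) (g c : G) : Prop where
  card : Nat.card h.U = 16
  three : Nat.card F = 3
  g_mem : g ∈ F
  g_ne : g ≠ 1
  comm : ⁅v, g * v * g⁻¹⁆ = z
  c_Zu : c ∈ h.Zu
  c_sq : c * c = z
  Zu_le : ∀ a ∈ h.Zu, a ∈ Subgroup.zpowers c
  cases : ∀ u ∈ h.U, ∃ e, (e = 1 ∨ e = v ∨ e = g * v * g⁻¹ ∨ e = v * (g * v * g⁻¹)) ∧ u * e ∈ h.Zu
  no_shift : ∀ f ∈ F, f ≠ 1 → v * (f * v * f⁻¹) ∉ h.Zu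

/-- `U/Z(U)` of order four gives `|U| = 16` and `|F| = 3`. -/
theorem sixteen_of_four (h : MData (S : Subgroup G) M₁ F z v) (h4 : SectionalPRankLE 2 4 G) {g : G}
    (hg : g ∈ F) (hg1 : g ≠ 1) (hvb : ⁅v, g * v * g⁻¹⁆ = z) (hcard : Nat.card h.U = 4 * Nat.card h.Zu)
    (hcase : ∀ u ∈ h.U, ∃ e, (e = 1 ∨ e = v ∨ e = g * v * g⁻¹ ∨ e = v * (g * v * g⁻¹)) ∧ u * e ∈ h.Zu) :
    ∃ c, h.Sixteen g c := by
  classical
  obtain ⟨c, hc, hc2⟩ := h.exists_root hg hvb hcase
  have h32 := h.card_U_le h4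
  have hcz : c ∉ Subgroup.zpowers z := fun i => by
    rcases mem_two h.z_mem.2.1 i with e | e <;> rw [e] at hc2
    · exact h.z_ne (by simpa using hc2.symm)
    · exact h.z_ne (hc2.symm.trans h.z_mem.2.1)
  have hzlt : Subgroup.zpowers z < h.Zu :=
    lt_of_le_of_ne (Subgroup.zpowers_le.mpr h.z_Zu) fun e => hcz (e.ge hc)
  have hZ4 := two_mul_card_le_of_lt hzlt
  rw [card_zpowers_two h.z_mem.2.1 h.z_ne] at hZ4
  -- no `F`-conjugate of `v` lies in `v Z(U)`
  have hshift : ∀ f ∈ F, f ≠ 1 → v * (f * v * f⁻¹) ∉ h.Zu := by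
    intro f hf hf1 hm
    set u := v * (f * v * f⁻¹) with hu
    have hfM := h.ov.F_le hf
    have hvinv : v⁻¹ = v := inv_eq_of_mul_eq_one_right h.v_sq
    have hu2 : u * u = 1 := by
      have e := h.Zu_comm hm h.v_U
      calc u * u = v * (f * v * f⁻¹) * v * (f * v * f⁻¹) := by simp only [hu]; group
        _ = v * u * (f * v * f⁻¹) := by rw [show v * (f * v * f⁻¹) * v = u * v from rfl, e]
        _ = v * v * ((f * v * f⁻¹) * (f * v * f⁻¹)) := by simp only [hu]; group
        _ = 1 := by rw [h.v_sq, h.conj_v_sq, one_mul]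
    have huz : u ∉ Subgroup.zpowers z := fun i => hf1 (h.orbit_inj hf F.one_mem (by
      rcases mem_two h.z_mem.2.1 i with e | e
      · left
        simpa [hvinv] using eq_inv_of_mul_eq_one_right e
      · right
        rw [show f * v * f⁻¹ = v⁻¹ * u by rw [hu]; group, e, hvinv, ← h.zv]
        simp))
    set u' := f * u * f⁻¹ with hu'
    have hu'Z : u' ∈ h.Zu := h.Zu_conj hfM hm
    have hu'2 : u' * u' = 1 := by
      rw [hu', show f * u * f⁻¹ * (f * u * f⁻¹) = f * (u * u) * f⁻¹ by group, hu2]; group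
    set T1 := Subgroup.closure ({z, u} : Set G) with hT1
    have hff : f * f ≠ 1 := fun e => hf1 (orderOf_eq_one_iff.mp (by
      have hd : orderOf f ∣ 2 := orderOf_dvd_of_pow_eq_one (by rw [pow_two]; exact e)
      have hle := Nat.le_of_dvd (by norm_num) hd
      obtain ⟨j, hj⟩ := h.ov.odd_order hf
      omega))
    have hu'1 : u' ∉ T1 := by
      intro i
      have hcases : ∀ a ∈ T1, a ∈ Subgroup.zpowers z ∨ a * u ∈ Subgroup.zpowers z := by
        intro a ha
        have hcu : ∀ b ∈ Subgroup.zpowers z, Commute u b := fun b hb => by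
          obtain ⟨i, rfl⟩ := Subgroup.mem_zpowers_iff.mp hb
          exact Commute.zpow_right (h.Zu_comm hm h.z_U) i
        induction ha using Subgroup.closure_induction with
        | mem y hy =>
          rcases hy with rfl | rfl
          · exact Or.inl (Subgroup.mem_zpowers y)
          · exact Or.inr (by rw [hu2]; exact one_mem _)
        | one => exact Or.inl (one_mem _)
        | mul p r _ _ ihp ihr =>
          rcases ihp with i | i <;> rcases ihr with j | j
          · exact Or.inl (mul_mem i j)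
          · exact Or.inr (by rw [mul_assoc]; exact mul_mem i j)
          · refine Or.inr ?_
            rw [mul_assoc, ← (hcu r j).eq, ← mul_assoc]
            exact mul_mem i j
          · refine Or.inl ?_
            have hm' := mul_mem i j
            rwa [mul_assoc p u, (hcu _ j).eq, mul_assoc r u u, hu2, mul_one] at hm'
        | inv p _ ihp =>
          rcases ihp with i | i
          · exact Or.inl (inv_mem i)
          · refine Or.inr ?_
            have hm' := inv_mem i
            rw [mul_inv_rev, inv_eq_of_mul_eq_one_right hu2] at hm'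
            have hcomm := hcu _ hm'
            have e0 : p⁻¹ * u = u * (u * p⁻¹) * u := by
              calc p⁻¹ * u = (u * u) * (p⁻¹ * u) := by rw [hu2, one_mul]
                _ = u * (u * p⁻¹) * u := by group
            rw [e0, hcomm.eq, mul_assoc (u * p⁻¹) u u, hu2, mul_one]
            exact hm'
      rcases hcases u' i with j | j
      · refine huz ?_
        have hj : f⁻¹ * u' * f⁻¹⁻¹ ∈ Subgroup.zpowers z := by
          obtain ⟨k, hk⟩ := Subgroup.mem_zpowers_iff.mp j
          rw [← hk, ← conj_zpow, h.conj_z (M₁.inv_mem hfM)]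
          exact Subgroup.zpow_mem _ (Subgroup.mem_zpowers z) k
        rwa [hu', show f⁻¹ * (f * u * f⁻¹) * f⁻¹⁻¹ = u by group] at hj
      · -- then `f²` fixes `v` up to `z`
        refine hff (h.orbit_inj (F.mul_mem hf hf) F.one_mem ?_)
        have e1 : f * f * v * (f * f)⁻¹ = v * (u * u') := by
          calc f * f * v * (f * f)⁻¹ = f * (f * v * f⁻¹) * f⁻¹ := by group
            _ = f * (v * u) * f⁻¹ := by rw [hu, ← mul_assoc v v, h.v_sq, one_mul]
            _ = (f * v * f⁻¹) * u' := by rw [hu']; group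
            _ = v * (u * u') := by rw [show f * v * f⁻¹ = v * u by rw [hu, ← mul_assoc, h.v_sq, one_mul]]; group
        have e2 : u * u' = u' * u := h.Zu_comm hm hu'Z.1
        rw [e2] at e1
        rcases mem_two h.z_mem.2.1 j with e | e <;> rw [e] at e1
        · left; rw [e1]; simp
        · right; rw [e1, ← h.zv]; simp
    have hT1Z : T1 ≤ h.Zu := (Subgroup.closure_le _).mpr (by rintro y (rfl | rfl); exacts [h.z_Zu, hm])
    set T2 := Subgroup.closure (insert u' ({z, u} : Set G)) with hT2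
    have hT2Z : T2 ≤ h.Zu := (Subgroup.closure_le _).mpr (Set.insert_subset hu'Z (by
      rintro y (rfl | rfl); exacts [h.z_Zu, hm]))
    have hT2sq : ∀ a ∈ T2, a * a = 1 := sq_one_closure (X := insert u' ({z, u} : Set G)) (by
      rintro a (rfl | rfl | rfl); exacts [hu'2, h.z_mem.2.1, hu2]) (fun a ha b hb =>
        h.Zu_comm (hT2Z (Subgroup.subset_closure ha)) (hT2Z (Subgroup.subset_closure hb)).1)
    have hlt1 : Subgroup.zpowers z < T1 := lt_of_le_of_ne
      (Subgroup.zpowers_le.mpr (Subgroup.subset_closure (Or.inl rfl))) fun e =>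
        huz (e.ge (Subgroup.subset_closure (Or.inr rfl)))
    have hlt2 : T1 < T2 := lt_of_le_of_ne (Subgroup.closure_mono (Set.subset_insert _ _)) fun e =>
      hu'1 (e.ge (Subgroup.subset_closure (Or.inl rfl)))
    have a1 := two_mul_card_le_of_lt hlt1
    have a2 := two_mul_card_le_of_lt hlt2
    rw [card_zpowers_two h.z_mem.2.1 h.z_ne] at a1
    have hEq : T2 = h.Zu := Subgroup.eq_of_le_of_card_ge hT2Z (by omega)
    exact h.z_ne ((hc2.symm.trans (hT2sq c (hEq.ge hc))))
  -- hence `|F| ≤ 3`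
  set b := g * v * g⁻¹ with hb
  have hbU : b ∈ h.U := h.conj_v_U (h.ov.F_le hg)
  have hcls : ∀ f ∈ F, ∃ i : Fin 3, f * v * f⁻¹ * (![v, b, v * b] i) ∈ h.Zu := by
    intro f hf
    have hfM := h.ov.F_le hf
    obtain ⟨e, he, hm⟩ := hcase _ (h.conj_v_U hfM)
    rcases he with rfl | rfl | rfl | rfl
    · exfalso
      rw [mul_one] at hm
      refine h.z_ne (hvb.symm.trans (commutatorElement_eq_one_iff_mul_comm.mpr (Eq.symm ?_)))
      have hv : v ∈ h.Zu := by
        have := h.Zu_conj (M₁.inv_mem hfM) hm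
        rwa [show f⁻¹ * (f * v * f⁻¹) * f⁻¹⁻¹ = v by group] at this
      exact (h.Zu_comm hv hbU).symm
    · exact ⟨0, hm⟩
    · exact ⟨1, hm⟩
    · exact ⟨2, hm⟩
  choose! φ hφ using hcls
  have hF3 : Nat.card F ≤ 3 := by
    have hinj : Function.Injective (fun f : ↥F => φ f) := by
      rintro ⟨f1, hf1⟩ ⟨f2, hf2⟩ e
      refine Subtype.ext ?_
      by_contra hne
      have e' : φ f1 = φ f2 := e
      have h1 := hφ f1 hf1
      rw [e'] at h1
      have h2 := mul_mem h1 (inv_mem (hφ f2 hf2))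
      rw [show f1 * v * f1⁻¹ * ![v, b, v * b] (φ f2) * (f2 * v * f2⁻¹ * ![v, b, v * b] (φ f2))⁻¹
        = f1 * v * f1⁻¹ * (f2 * v * f2⁻¹)⁻¹ by group] at h2
      have h3 := h.Zu_conj (M₁.inv_mem (h.ov.F_le hf1)) h2
      rw [show f1⁻¹ * (f1 * v * f1⁻¹ * (f2 * v * f2⁻¹)⁻¹) * f1⁻¹⁻¹
        = v * ((f1⁻¹ * f2) * v⁻¹ * (f1⁻¹ * f2)⁻¹) by group, inv_eq_of_mul_eq_one_right h.v_sq] at h3
      exact hshift _ (F.mul_mem (F.inv_mem hf1) hf2) (fun e => hne (inv_mul_eq_one.mp e)) h3
    have := Nat.card_le_card_of_injective _ hinj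
    rwa [Nat.card_fin] at this
  have h3 : Nat.card F = 3 := by rcases h.ov.card with e | e | e | e <;> omega
  have h16 := h.F_le_three_U hg hg1 h3
  have hZc : Subgroup.zpowers c = h.Zu := by
    refine Subgroup.eq_of_le_of_card_ge (Subgroup.zpowers_le.mpr hc) ?_
    have hlt : Subgroup.zpowers z < Subgroup.zpowers c := lt_of_le_of_ne
      (Subgroup.zpowers_le.mpr (hc2 ▸ mul_mem (Subgroup.mem_zpowers c) (Subgroup.mem_zpowers c))) fun e =>
        hcz (e.ge (Subgroup.mem_zpowers c))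
    have := two_mul_card_le_of_lt hlt
    rw [card_zpowers_two h.z_mem.2.1 h.z_ne] at this
    omega
  exact ⟨c, ⟨by omega, h3, hg, hg1, hvb, hc, hc2, fun a ha => hZc.ge ha, hcase, hshift⟩⟩

/-- An extraspecial `U` equals `Q₁`, and `|F|` is five or nine. -/
theorem extraspecial (h : MData (S : Subgroup G) M₁ F z v) (h4 : SectionalPRankLE 2 4 G) {g : G} (hg : g ∈ F)
    (hg1 : g ≠ 1) (hU : Nat.card h.U = 32) (hZ : h.Zu = Subgroup.zpowers z)
    (hQ : ∀ q ∈ pCoreOf 2 M₁, ∃ e ∈ h.U, ∀ u ∈ h.U, q * e * u = u * (q * e)) :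
    pCoreOf 2 M₁ = h.U ∧ (Nat.card F = 5 ∨ Nat.card F = 9) := by
  classical
  have hzz := h.z_mem.2.1
  constructor
  · refine le_antisymm (fun q hq => ?_) h.U_le
    obtain ⟨e, he, hqe⟩ := hQ q hq
    by_contra hqU
    set C := pCoreOf 2 M₁ ⊓ Subgroup.centralizer (h.U : Set G)
    have hC : q * e ∈ C :=
      ⟨mul_mem hq (h.U_le he), Subgroup.mem_centralizer_iff.mpr fun u hu => (hqe u hu).symm⟩
    have hnot : q * e ∉ Subgroup.zpowers z := fun i => hqU (by
      simpa using mul_mem (Subgroup.zpowers_le.mpr h.z_U i) (inv_mem he))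
    obtain ⟨c, hc, hcz, hcc⟩ := exists_sq_mem ((core_two M₁).to_le inf_le_left) hC hnot
    have hcU : ∀ u ∈ h.U, c * u = u * c := fun u hu => (Subgroup.mem_centralizer_iff.mp hc.2 u hu).symm
    have hcnU : c ∉ h.U := fun i => hcz (hZ ▸ h.mem_Zu i hcU)
    set X : Set G := insert c (h.U : Set G)
    have hXM : ∀ a ∈ X, a ∈ M₁ := by
      rintro a (rfl | ha)
      exacts [core_le M₁ hc.1, core_le M₁ (h.U_le ha)]
    have hzn : ∀ a ∈ M₁, ∀ n ∈ Subgroup.zpowers z, a * n * a⁻¹ ∈ Subgroup.zpowers z := by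
      intro a ha n hn
      obtain ⟨i, rfl⟩ := Subgroup.mem_zpowers_iff.mp hn
      rw [← conj_zpow, h.conj_z ha]
      exact Subgroup.zpow_mem _ (Subgroup.mem_zpowers z) i
    have hsq := sq_mem_closure (X := X) (N := Subgroup.zpowers z) (fun a ha => hzn a (hXM a ha))
      (fun a ha n hn => by simpa using hzn a⁻¹ (M₁.inv_mem (hXM a ha)) n hn) (by
        rintro a (rfl | ha)
        exacts [hcc, h.U_sq ha]) (by
        rintro a (rfl | ha) b (rfl | hb)
        · rw [commutatorElement_self]; exact one_mem _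
        · rw [commutatorElement_eq_one_iff_mul_comm.mpr (hcU b hb)]; exact one_mem _
        · rw [commutatorElement_eq_one_iff_mul_comm.mpr (hcU a ha).symm]; exact one_mem _
        · exact h.U_comm_mem ha hb)
    have hle : Subgroup.zpowers z ≤ Subgroup.closure X :=
      Subgroup.zpowers_le.mpr (Subgroup.subset_closure (Or.inr h.z_U))
    have h1 := card_le_of_sq h4 hle (fun a ha => Subgroup.mem_normalizer_fintype (hzn a
      (((Subgroup.closure_le M₁).mpr hXM) ha))) hsq
    have hlt : h.U < Subgroup.closure X := lt_of_le_of_ne (fun a ha => Subgroup.subset_closure (Or.inr ha)) fun e =>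
      hcnU (e.ge (Subgroup.subset_closure (Or.inl rfl)))
    have := two_mul_card_le_of_lt hlt
    rw [card_zpowers_two hzz h.z_ne] at h1
    omega
  · rcases h.ov.card with e | e | e | e
    · exfalso
      have := h.F_le_three_U hg hg1 e
      omega
    · exact Or.inl e
    · exfalso
      -- an element of order seven has two independent fixed points in `U/⟨z⟩`
      haveI := Fintype.ofFinite G
      haveI : Fact (Nat.Prime 7) := ⟨by norm_num⟩
      have hgM := h.ov.F_le hg
      have hg7 : g ^ 7 = 1 := by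
        rw [← e]; exact congrArg Subtype.val (pow_card_eq_one' (x := (⟨g, hg⟩ : ↥F)))
      have hgen : ∀ f ∈ F, ∃ i : ℤ, g ^ i = f := fun f hf => by
        have hz : Subgroup.zpowers (⟨g, hg⟩ : ↥F) = ⊤ :=
          zpowers_eq_top_of_prime_card e (fun i => hg1 (congrArg Subtype.val i))
        obtain ⟨i, hi⟩ := Subgroup.mem_zpowers_iff.mp (hz ▸ Subgroup.mem_top (⟨f, hf⟩ : ↥F))
        exact ⟨i, congrArg Subtype.val hi⟩
      -- fixed elements are central or move every generator
      have hfix : ∀ a ∈ h.U, g * a = a * g → a ∉ Subgroup.zpowers z → ∀ f ∈ F, ⁅a, f * v * f⁻¹⁆ = z := by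
        intro a ha hga haz
        have hval : ∀ f ∈ F, ⁅a, f * v * f⁻¹⁆ = ⁅a, v⁆ := by
          intro f hf
          obtain ⟨i, rfl⟩ := hgen f hf
          have hc : Commute (g ^ i) a := Commute.zpow_left hga i
          calc ⁅a, g ^ i * v * (g ^ i)⁻¹⁆ = ⁅g ^ i * a * (g ^ i)⁻¹, g ^ i * v * (g ^ i)⁻¹⁆ := by
                rw [hc.eq, mul_inv_cancel_right]
            _ = g ^ i * ⁅a, v⁆ * (g ^ i)⁻¹ := by simp only [commutatorElement_def]; group
            _ = ⁅a, v⁆ := by
              rcases mem_two hzz (h.U_comm_mem ha h.v_U) with j | j <;> rw [j]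
              · simp
              · exact h.conj_z (M₁.zpow_mem hgM i)
        intro f hf
        rw [hval f hf]
        refine (mem_two hzz (h.U_comm_mem ha h.v_U)).resolve_left fun j => haz (hZ ▸ h.mem_Zu ha ?_)
        exact h.comm_of_orbit (h.comm_z (core_le M₁ (h.U_le ha))) fun f' hf' =>
          commutatorElement_eq_one_iff_mul_comm.mp ((hval f' hf').trans j)
      have hUf : ∀ a ∈ h.U, g * a * g⁻¹ ∈ h.U := fun a ha => (Subgroup.mem_normalizer_iff.mp (h.U_norm hgM) a).mp ha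
      have cU : ((h.U : Set G).toFinset).card = 32 := by
        rw [Set.toFinset_card, ← Nat.card_eq_fintype_card]; exact hU
      have findFix : ∀ H : Subgroup G, H ≤ h.U → (∀ a ∈ H, g * a * g⁻¹ ∈ H) →
          (Nat.card H = 2 ∨ Nat.card H = 16) → ∃ a ∈ h.U, a ∉ H ∧ g * a = a * g := by
        intro H hHU hHg hcardH
        have hback : ∀ a, g * a * g⁻¹ ∈ H → a ∈ H := fun a ha => by
          have hn : ∀ n : ℕ, g ^ n * (g * a * g⁻¹) * (g ^ n)⁻¹ ∈ H := by
            intro n
            induction n with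
            | zero => simpa using ha
            | succ n ih =>
              rw [show g ^ (n + 1) * (g * a * g⁻¹) * (g ^ (n + 1))⁻¹ = g * (g ^ n * (g * a * g⁻¹) * (g ^ n)⁻¹) * g⁻¹ by
                rw [pow_succ']; group]
              exact hHg _ ih
          have := hn 6
          rwa [show g ^ 6 * (g * a * g⁻¹) * (g ^ 6)⁻¹ = g ^ 7 * a * (g ^ 7)⁻¹ by
            simp only [pow_succ, pow_zero, one_mul]; group, hg7, one_mul, inv_one, mul_one] at this
        set T := (h.U : Set G).toFinset.filter fun a => a ∉ H with hT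
        have h1 := card_modEq_fixed (p := 7) (by norm_num) hg7 T (fun a ha => by
          simp only [hT, Finset.mem_filter, Set.mem_toFinset, SetLike.mem_coe] at ha ⊢
          exact ⟨hUf a ha.1, fun i => ha.2 (hback a i)⟩)
        have hH : ((h.U : Set G).toFinset.filter fun a => a ∈ H).card = Nat.card H := by
          rw [show ((h.U : Set G).toFinset.filter fun a => a ∈ H) = (H : Set G).toFinset by
            ext a
            simp only [Finset.mem_filter, Set.mem_toFinset, SetLike.mem_coe]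
            exact ⟨fun i => i.2, fun i => ⟨hHU i, i⟩⟩, Set.toFinset_card, ← Nat.card_eq_fintype_card]
          rfl
        have h2 := Finset.card_filter_add_card_filter_not (s := (h.U : Set G).toFinset) (fun a => a ∈ H)
        rw [hH, cU] at h2
        obtain ⟨a, ha⟩ : (T.filter fun a => g * a = a * g).Nonempty := by
          rw [← Finset.card_pos]
          by_contra h0
          push Not at h0
          rw [Nat.le_zero.mp h0, Nat.modEq_zero_iff_dvd] at h1
          change 7 ∣ T.card at h1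
          have hTc : T.card = 32 - Nat.card H := by
            change ((h.U : Set G).toFinset.filter fun a => ¬ a ∈ H).card = _
            omega
          rcases hcardH with i | i <;> rw [hTc, i] at h1 <;> norm_num at h1
        simp only [hT, Finset.mem_filter, Set.mem_toFinset, SetLike.mem_coe] at ha
        exact ⟨a, ha.1.1, ha.1.2, ha.2⟩
      obtain ⟨a, haU, haz, hga⟩ := findFix (Subgroup.zpowers z) (Subgroup.zpowers_le.mpr h.z_U)
        (fun a ha => by
          obtain ⟨i, rfl⟩ := Subgroup.mem_zpowers_iff.mp ha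
          rw [← conj_zpow, h.conj_z hgM]
          exact Subgroup.zpow_mem _ (Subgroup.mem_zpowers z) i)
        (Or.inl (card_zpowers_two hzz h.z_ne))
      set H := h.U ⊓ Subgroup.centralizer ({a} : Set G)
      have hva : ⁅v, a⁆ = z := h.comm_symm (by simpa using hfix a haU hga haz 1 F.one_mem)
      have hvH : v ∉ H := fun i => h.z_ne (hva.symm.trans
        (commutatorElement_eq_one_iff_mul_comm.mpr (Subgroup.mem_centralizer_singleton_iff.mp i.2)))
      have hH16 : Nat.card H = 16 := by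
        have l1 : 2 * Nat.card H ≤ Nat.card h.U :=
          two_mul_card_le_of_lt (lt_of_le_of_ne (inf_le_left : H ≤ h.U) fun i => hvH (i.ge h.v_U))
        have l2 : Nat.card h.U ≤ 2 * Nat.card H := card_le_two_mul v fun u hu => by
          rcases mem_two hzz (h.U_comm_mem hu haU) with i | i
          · exact Or.inl ⟨hu, Subgroup.mem_centralizer_singleton_iff.mpr (commutatorElement_eq_one_iff_mul_comm.mp i)⟩
          · refine Or.inr ⟨mul_mem hu h.v_U, Subgroup.mem_centralizer_singleton_iff.mpr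
              (commutatorElement_eq_one_iff_mul_comm.mp ?_)⟩
            rw [h.comm_mul (core_le M₁ (h.U_le hu)) (hva ▸ Subgroup.mem_zpowers z), hva, i, hzz]
        omega
      have hHg : ∀ u ∈ H, g * u * g⁻¹ ∈ H := fun u hu => ⟨hUf u hu.1, Subgroup.mem_centralizer_singleton_iff.mpr (by
        have hua : u * a = a * u := Subgroup.mem_centralizer_singleton_iff.mp hu.2
        calc g * u * g⁻¹ * a = g * (u * (g⁻¹ * (a * g))) * g⁻¹ := by group
          _ = g * (u * a) * g⁻¹ := by rw [← hga]; group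
          _ = g * (a * u) * g⁻¹ := by rw [hua]
          _ = (g * a) * u * g⁻¹ := by group
          _ = a * (g * u * g⁻¹) := by rw [hga]; group)⟩
      obtain ⟨b, hbU, hbH, hgb⟩ := findFix H inf_le_left hHg (Or.inr hH16)
      have hbz : b ∉ Subgroup.zpowers z := fun i => hbH ⟨hbU, Subgroup.mem_centralizer_singleton_iff.mpr (by
        rcases mem_two hzz i with j | j <;> rw [j]
        · simp
        · exact (h.comm_z (core_le M₁ (h.U_le haU))).symm)⟩
      have hab : b * a ∈ Subgroup.zpowers z := hZ ▸ h.mem_Zu (mul_mem hbU haU)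
        (h.comm_of_orbit (h.comm_z (core_le M₁ (h.U_le (mul_mem hbU haU)))) fun f hf => by
          refine commutatorElement_eq_one_iff_mul_comm.mp ?_
          rw [h.comm_mul (core_le M₁ (h.U_le hbU)) (h.U_comm_mem haU (h.conj_v_U (h.ov.F_le hf))),
            hfix a haU hga haz f hf, hfix b hbU hgb hbz f hf, hzz])
      refine hbH ⟨hbU, Subgroup.mem_centralizer_singleton_iff.mpr ?_⟩
      obtain ⟨i, hi⟩ := Subgroup.mem_zpowers_iff.mp hab
      have hc : Commute a (b * a) := by
        rw [← hi]; exact Commute.zpow_right (h.comm_z (core_le M₁ (h.U_le haU))) i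
      have := hc.mul_right (Commute.refl a).inv_right
      rw [mul_inv_cancel_right] at this
      exact this.symm.eq
    · exact Or.inr e

/-- The two cases of a nonabelian `U`. -/
theorem nonab_cases (h : MData (S : Subgroup G) M₁ F z v) (h4 : SectionalPRankLE 2 4 G)
    (hna : ¬ ∀ a ∈ h.U, ∀ b ∈ h.U, a * b = b * a) :
    (Nat.card (pCoreOf 2 M₁) = 32 ∧ (∀ q ∈ pCoreOf 2 M₁, q * q ∈ Subgroup.zpowers z) ∧
      (∀ c ∈ pCoreOf 2 M₁, (∀ q ∈ pCoreOf 2 M₁, q * c = c * q) → c ∈ Subgroup.zpowers z) ∧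
      (Nat.card F = 5 ∨ Nat.card F = 9)) ∨ ∃ g c, h.Sixteen g c := by
  obtain ⟨g, hg, hg1, hvb⟩ := h.exists_pair hna
  rcases h.U_split h4 hg hvb with ⟨hc, hcase⟩ | ⟨hU, hZ, hQ⟩
  · obtain ⟨c, hc⟩ := h.sixteen_of_four h4 hg hg1 hvb hc hcase
    exact Or.inr ⟨g, c, hc⟩
  · obtain ⟨hQU, hF⟩ := h.extraspecial h4 hg hg1 hU hZ hQ
    refine Or.inl ⟨hQU ▸ hU, fun q hq => h.U_sq (hQU ▸ hq), fun c hc hcc => ?_, hF⟩
    exact hZ ▸ h.mem_Zu (hQU ▸ hc) fun b hb => (hcc b (h.U_le hb)).symm

end MData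

end CfsgLib.SRFour
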