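import Mathlib
import Cfsg.Agent.Lib.SRFour.NNonab
import Cfsg.Agent.Lib.SRFour.NEight
import Cfsg.Agent.Lib.SRFour.ExtraData

/-!
`U` of order 16: `O₂(K)` is `Z₄ × Z₄` extended by an inverting involution.

Blueprint: `blueprint/S0517.md`, §3.
-/

set_option autoImplicit false
set_option linter.unusedSectionVars false
set_option linter.style.haveILetI false

namespace CfsgLib.SRFour

open Cfsg
open scoped commutatorElement

universe u

variable {G : Type u} [Group G] [Finite G]

namespace MData.Sixteen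

variable {S : Sylow 2 G} {M₁ F : Subgroup G} {z v g c : G} {h : MData (S : Subgroup G) M₁ F z v}

theorem c_U (X : h.Sixteen g c) : c ∈ h.U := X.c_Zu.1

theorem c_ne_z (X : h.Sixteen g c) : c ≠ z := fun e => h.z_ne (by
  have := X.c_sq
  rw [e, h.z_mem.2.1] at this
  exact this.symm)

theorem c_ne_one (X : h.Sixteen g c) : c ≠ 1 := fun e => h.z_ne (by
  have := X.c_sq
  rw [e, mul_one] at this
  exact this.symm)

theorem c_inv (X : h.Sixteen g c) : c⁻¹ = z * c := by
  refine inv_eq_of_mul_eq_one_right ?_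
  rw [← mul_assoc, show c * z = z * c from h.comm_z (core_le M₁ (h.U_le X.c_U)), mul_assoc, X.c_sq, h.z_mem.2.1]

theorem Zu_cases (X : h.Sixteen g c) {a : G} (ha : a ∈ h.Zu) : a = 1 ∨ a = z ∨ a = c ∨ a = c⁻¹ := by
  obtain ⟨i, rfl⟩ := Subgroup.mem_zpowers_iff.mp (X.Zu_le a ha)
  have h4 : c ^ 4 = 1 := by
    simp only [pow_succ, pow_zero, one_mul]
    rw [X.c_sq, mul_assoc, X.c_sq, h.z_mem.2.1]
  rw [zpow_eq_zpow_emod' i h4]
  have h0 : (0 : ℤ) ≤ i % ((4 : ℕ) : ℤ) := Int.emod_nonneg _ (by norm_num)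
  have h1 : i % ((4 : ℕ) : ℤ) < 4 := Int.emod_lt_of_pos _ (by norm_num)
  generalize i % ((4 : ℕ) : ℤ) = r at h0 h1
  interval_cases r
  · exact Or.inl (zpow_zero c)
  · exact Or.inr (Or.inr (Or.inl (zpow_one c)))
  · exact Or.inr (Or.inl (by rw [zpow_two, X.c_sq]))
  · refine Or.inr (Or.inr (Or.inr ?_))
    rw [eq_inv_iff_mul_eq_one, ← h4, show (3 : ℤ) = ((3 : ℕ) : ℤ) from rfl, zpow_natCast, ← pow_succ]

theorem conj_c (X : h.Sixteen g c) {m : G} (hm : m ∈ M₁) : m * c * m⁻¹ = c ∨ m * c * m⁻¹ = c⁻¹ := by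
  have h2 : m * c * m⁻¹ * (m * c * m⁻¹) = z := by
    rw [show m * c * m⁻¹ * (m * c * m⁻¹) = m * (c * c) * m⁻¹ by group, X.c_sq, h.conj_z hm]
  rcases X.Zu_cases (h.Zu_conj hm X.c_Zu) with e | e | e | e
  · exfalso; rw [e, mul_one] at h2; exact h.z_ne h2.symm
  · exfalso; rw [e, h.z_mem.2.1] at h2; exact h.z_ne h2.symm
  · exact Or.inl e
  · exact Or.inr e

/-- `F` centralises `c`. -/
theorem F_c (X : h.Sixteen g c) {f : G} (hf : f ∈ F) : f * c = c * f := by
  have hfM := h.ov.F_le hf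
  rcases X.conj_c hfM with e | e
  · exact mul_inv_eq_iff_eq_mul.mp e
  have h2 : Commute (f * f) c := by
    refine mul_inv_eq_iff_eq_mul.mp ?_
    calc f * f * c * (f * f)⁻¹ = f * (f * c * f⁻¹) * f⁻¹ := by group
      _ = (f * c * f⁻¹)⁻¹ := by
        conv_lhs => rw [e]
        group
      _ = c := by rw [e, inv_inv]
  obtain ⟨j, hj⟩ := h.ov.odd_order hf
  have := h2.pow_left (j + 1)
  rw [← pow_two, ← pow_mul, show 2 * (j + 1) = orderOf f + 1 by omega, pow_succ, pow_orderOf_eq_one,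
    one_mul] at this
  exact this.eq

theorem not_comm (X : h.Sixteen g c) : ¬ ∀ a ∈ h.U, ∀ b ∈ h.U, a * b = b * a := fun hc =>
  h.z_ne (X.comm.symm.trans (commutatorElement_eq_one_iff_mul_comm.mpr
    (hc v h.v_U _ (h.conj_v_U (h.ov.F_le X.g_mem)))))

end MData.Sixteen

namespace NData

variable {S : Sylow 2 G} {K M₁ F : Subgroup G} {z v x g c : G}
variable (N : NData (S : Subgroup G) K M₁ F z v x)

/-- Facts on `c` and its images under `x`. -/
theorem cycle_facts (X : N.toMData.Sixteen g c) :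
    let c2 := x * c * x⁻¹
    let c3 := x * c2 * x⁻¹
    c ∈ pCoreOf 2 K ∧ c2 ∈ pCoreOf 2 K ∧ c3 ∈ pCoreOf 2 K ∧ c2 * c2 = v ∧ c3 * c3 = z * v ∧
      x * c3 * x⁻¹ = c ∧ c * c2 = c2 * c ∧ c2 * c3 = c3 * c2 ∧ c3 * c = c * c3 ∧
      c2 ∉ pCoreOf 2 M₁ ∧ c3 ∉ pCoreOf 2 M₁ := by
  intro c2 c3
  have hcS : c ∈ (S : Subgroup G) := N.toMData.Q_le_S (N.toMData.U_le X.c_U)
  have hcK : c ∈ pCoreOf 2 K := (N.mem_core_iff hcS).mpr (N.toMData.Zu_comm X.c_Zu N.toMData.v_U)
  have hc2K : c2 ∈ pCoreOf 2 K := conj_mem_core N.x_mem hcK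
  have hc3K : c3 ∈ pCoreOf 2 K := conj_mem_core N.x_mem hc2K
  have h22 : c2 * c2 = v := by
    rw [show c2 * c2 = x * (c * c) * x⁻¹ by simp only [c2]; group, X.c_sq, N.xz]
  have h33 : c3 * c3 = z * v := by
    rw [show c3 * c3 = x * (c2 * c2) * x⁻¹ by simp only [c3]; group, h22, N.xv]
  have hx3 : x * c3 * x⁻¹ = c := by
    rw [show x * c3 * x⁻¹ = x ^ 3 * c * (x ^ 3)⁻¹ by simp only [c3, c2, pow_succ, pow_zero, one_mul]; group,
      N.x_cube, one_mul, inv_one, mul_one]
  have hval : ∀ {q : G}, q ∈ pCoreOf 2 K → ⁅q, c⁆ = 1 ∨ ⁅q, c⁆ = z := by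
    intro q hq
    rcases X.conj_c (N.toMData.S_le (N.core_le_S hq)) with e | e <;> rw [commutatorElement_def, e]
    · exact Or.inl (mul_inv_cancel c)
    · refine Or.inr ?_
      rw [X.c_inv, mul_assoc, show c * (z * c) = z * (c * c) by
        rw [← mul_assoc, show c * z = z * c from N.core_z hcK, mul_assoc], X.c_sq, N.z_mem.2.1, mul_one]
  have htr : ∀ a b : G, ⁅x * a * x⁻¹, x * b * x⁻¹⁆ = x * ⁅a, b⁆ * x⁻¹ := fun a b => by
    simp only [commutatorElement_def]; group
  have hzv : z * v ≠ 1 := fun e => N.v_ne_z (by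
    rw [← inv_eq_of_mul_eq_one_right e, inv_eq_of_mul_eq_one_right N.z_mem.2.1])
  have h21 : ⁅c2, c⁆ = 1 := by
    refine (hval hc2K).resolve_right fun e => ?_
    have e32 : ⁅c3, c2⁆ = v := by rw [htr c2 c, e, N.xz]
    have e13 : ⁅c, c3⁆ = z * v := by rw [← hx3, htr c3 c2, e32, N.xv]
    rcases hval hc3K with i | i <;> rw [← commutatorElement_inv, e13] at i
    · exact hzv (inv_eq_one.mp i)
    · rw [inv_eq_iff_eq_inv, inv_eq_of_mul_eq_one_right N.z_mem.2.1] at i
      exact N.v_ne (mul_eq_left.mp i)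
  have a1 : c2 * c = c * c2 := commutatorElement_eq_one_iff_mul_comm.mp h21
  have a2 : c3 * c2 = c2 * c3 := commutatorElement_eq_one_iff_mul_comm.mp (by rw [htr c2 c, h21]; group)
  have a3 : c * c3 = c3 * c := commutatorElement_eq_one_iff_mul_comm.mp (by
    rw [← hx3, htr c3 c2, commutatorElement_eq_one_iff_mul_comm.mpr a2]; group)
  refine ⟨hcK, hc2K, hc3K, h22, h33, hx3, a1.symm, a2.symm, a3.symm, ?_, ?_⟩
  all_goals intro hm
  · refine N.toMData.v_not_Zu X.not_comm (N.toMData.mem_Zu N.toMData.v_U fun b hb =>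
      commutatorElement_eq_one_iff_mul_comm.mp ?_)
    rw [← h22, N.toMData.comm_mul (core_le M₁ hm) (N.toMData.comm_U hm hb)]
    rcases mem_two N.z_mem.2.1 (N.toMData.comm_U hm hb) with i | i <;> rw [i] <;> simp [N.z_mem.2.1]
  · have hzvU : z * v ∈ N.toMData.U := mul_mem N.toMData.z_U N.toMData.v_U
    refine N.toMData.v_not_Zu X.not_comm (N.toMData.mem_Zu N.toMData.v_U fun b hb => ?_)
    have hzb : Commute z b := (N.toMData.comm_z (core_le M₁ (N.toMData.U_le hb))).symm
    have hzvb : Commute (z * v) b := commutatorElement_eq_one_iff_mul_comm.mp (by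
      rw [← h33, N.toMData.comm_mul (core_le M₁ hm) (N.toMData.comm_U hm hb)]
      rcases mem_two N.z_mem.2.1 (N.toMData.comm_U hm hb) with i | i <;> rw [i] <;> simp [N.z_mem.2.1])
    have := hzb.inv_left.mul_left hzvb
    rwa [inv_mul_cancel_left] at this

/-- `O₂(K)` normalises `⟨c⟩` and its two images. -/
theorem core_conj (X : N.toMData.Sixteen g c) {q : G} (hq : q ∈ pCoreOf 2 K) :
    (q * c * q⁻¹ = c ∨ q * c * q⁻¹ = c⁻¹) ∧
      (q * (x * c * x⁻¹) * q⁻¹ = x * c * x⁻¹ ∨ q * (x * c * x⁻¹) * q⁻¹ = (x * c * x⁻¹)⁻¹) ∧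
      (q * (x * (x * c * x⁻¹) * x⁻¹) * q⁻¹ = x * (x * c * x⁻¹) * x⁻¹ ∨
        q * (x * (x * c * x⁻¹) * x⁻¹) * q⁻¹ = (x * (x * c * x⁻¹) * x⁻¹)⁻¹) := by
  have base : ∀ {q : G}, q ∈ pCoreOf 2 K → q * c * q⁻¹ = c ∨ q * c * q⁻¹ = c⁻¹ := fun hq =>
    X.conj_c (N.toMData.S_le (N.core_le_S hq))
  have step : ∀ {a : G}, (∀ {r : G}, r ∈ pCoreOf 2 K → r * a * r⁻¹ = a ∨ r * a * r⁻¹ = a⁻¹) →
      ∀ {r : G}, r ∈ pCoreOf 2 K → r * (x * a * x⁻¹) * r⁻¹ = x * a * x⁻¹ ∨
        r * (x * a * x⁻¹) * r⁻¹ = (x * a * x⁻¹)⁻¹ := by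
    intro a ha r hr
    have hr' : x⁻¹ * r * x ∈ pCoreOf 2 K := by
      have := conj_mem_core (K.inv_mem N.x_mem) hr
      rwa [inv_inv] at this
    have e0 : r * (x * a * x⁻¹) * r⁻¹ = x * (x⁻¹ * r * x * a * (x⁻¹ * r * x)⁻¹) * x⁻¹ := by group
    rcases ha hr' with e | e <;> rw [e0, e]
    · exact Or.inl rfl
    · exact Or.inr (by group)
  exact ⟨base hq, step base hq, step (step base) hq⟩

theorem W_fix (N : NData (S : Subgroup G) K M₁ F z v x) {a : G} (ha : a ∈ Subgroup.closure ({z, v} : Set G))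
    (hx : x * a * x⁻¹ = a) : a = 1 := by
  rcases N.mem_four ha with rfl | rfl | rfl | rfl
  · rfl
  · rw [N.xz] at hx; exact absurd hx N.v_ne_z
  · rw [N.xv] at hx; exact absurd (mul_eq_right.mp hx) N.z_ne
  · rw [N.xzv] at hx; exact absurd (left_eq_mul.mp hx) N.v_ne

theorem W_conj_x (N : NData (S : Subgroup G) K M₁ F z v x) {a : G}
    (ha : a ∈ Subgroup.closure ({z, v} : Set G)) : x * a * x⁻¹ ∈ Subgroup.closure ({z, v} : Set G) := by
  rcases N.mem_four ha with rfl | rfl | rfl | rfl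
  · simp
  · rw [N.xz]; exact Subgroup.subset_closure (Or.inr rfl)
  · rw [N.xv]; exact mul_mem (Subgroup.subset_closure (Or.inl rfl)) (Subgroup.subset_closure (Or.inr rfl))
  · rw [N.xzv]; exact Subgroup.subset_closure (Or.inl rfl)

theorem W_invol (N : NData (S : Subgroup G) K M₁ F z v x) {a : G}
    (ha : a ∈ Subgroup.closure ({z, v} : Set G)) : a * a = 1 :=
  sq_one_closure (X := ({z, v} : Set G)) (by rintro y (rfl | rfl); exacts [N.z_mem.2.1, N.v_sq])
    (by
      rintro a (rfl | rfl) b (rfl | rfl)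
      exacts [rfl, N.toMData.zv, N.toMData.zv.symm, rfl]) a ha

theorem core_cent_W (N : NData (S : Subgroup G) K M₁ F z v x) {q a : G} (hq : q ∈ pCoreOf 2 K)
    (ha : a ∈ Subgroup.closure ({z, v} : Set G)) : q * a = a * q := by
  rcases N.mem_four ha with rfl | rfl | rfl | rfl
  · simp
  · exact N.core_z hq
  · exact N.core_v q hq
  · exact Commute.mul_right (N.core_z hq : Commute q z) (N.core_v q hq : Commute q v)

/-- The three images of `c` multiply to one. -/
theorem prod_one (X : N.toMData.Sixteen g c) :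
    c * (x * c * x⁻¹) * (x * (x * c * x⁻¹) * x⁻¹) = 1 := by
  obtain ⟨hcK, hc2K, hc3K, h22, h33, hx3, a12, a23, a31, -, -⟩ := cycle_facts N X
  set c2 := x * c * x⁻¹ with hc2
  set c3 := x * c2 * x⁻¹ with hc3
  set b := g * v * g⁻¹
  set W := Subgroup.closure ({z, v} : Set G)
  have hzW : z ∈ W := Subgroup.subset_closure (Or.inl rfl)
  have hvW : v ∈ W := Subgroup.subset_closure (Or.inr rfl)
  have hbU : b ∈ N.toMData.U := N.toMData.conj_v_U (N.ov.F_le X.g_mem)
  have hbS : b ∈ (S : Subgroup G) := N.toMData.Q_le_S (N.toMData.U_le hbU)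
  have hbv : b * v * b⁻¹ = z * v := by
    have := N.toMData.comm_symm X.comm
    rw [commutatorElement_def] at this
    exact mul_inv_eq_iff_eq_mul.mp this
  obtain ⟨q, hq, htx⟩ := N.t_x hbS hbv
  have hbc : b * c * b⁻¹ = c := mul_inv_eq_iff_eq_mul.mpr (N.toMData.Zu_comm X.c_Zu hbU).symm
  have hd : b * c2 * b⁻¹ = q * c3 * q⁻¹ := by
    calc b * c2 * b⁻¹ = (b * x * b⁻¹) * (b * c * b⁻¹) * (b * x * b⁻¹)⁻¹ := by simp only [c2]; group
      _ = q * c3 * q⁻¹ := by rw [htx, hbc]; simp only [c3, c2]; group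
  have hc3inv : c3⁻¹ = c3 * (z * v) := inv_eq_of_mul_eq_one_right (by
    rw [← mul_assoc, h33]; exact N.W_invol (mul_mem hzW hvW))
  have hzvU : z * v ∈ N.toMData.U := mul_mem N.toMData.z_U N.toMData.v_U
  have ha0U : c2⁻¹ * c3 ∈ N.toMData.U := by
    have h1 : c2⁻¹ * (b * c2 * b⁻¹) ∈ N.toMData.U := by
      rw [show c2⁻¹ * (b * c2 * b⁻¹) = (c2⁻¹ * b * c2⁻¹⁻¹) * b⁻¹ by group]
      exact mul_mem (N.U_conj (inv_mem (N.core_le_S hc2K)) hbU) (inv_mem hbU)
    rw [hd] at h1
    rcases (core_conj N X hq).2.2 with e | e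
    · rwa [show q * c3 * q⁻¹ = c3 from e] at h1
    · rw [show q * c3 * q⁻¹ = c3⁻¹ from e, hc3inv, ← mul_assoc] at h1
      have := mul_mem h1 (inv_mem hzvU)
      rwa [mul_inv_cancel_right] at this
  set a0 := c2⁻¹ * c3 with ha0
  have ha0K : a0 ∈ pCoreOf 2 K := mul_mem (inv_mem hc2K) hc3K
  have ha0sq : a0 * a0 = z := by
    have hc : Commute c2⁻¹ c3 := Commute.inv_left (a23 : Commute c2 c3)
    calc a0 * a0 = c2⁻¹ * (c3 * c2⁻¹) * c3 := by simp only [a0]; group
      _ = (c2 * c2)⁻¹ * (c3 * c3) := by rw [← hc.eq]; group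
      _ = z := by rw [h22, h33, inv_eq_of_mul_eq_one_right N.v_sq, ← mul_assoc, ← N.toMData.zv, mul_assoc,
        N.v_sq, mul_one]
  have hy0 : c * c2 * c3 = c * v * a0 := by rw [ha0, ← h22]; group
  have hvc : v * c = c * v := (N.toMData.Zu_comm X.c_Zu N.toMData.v_U).symm
  have hy : c * c2 * c3 ∈ W := by
    rw [hy0]
    obtain ⟨e, he, hm⟩ := X.cases a0 ha0U
    have hbad : e = b ∨ e = v * b → False := by
      intro he'
      have hve : Commute v e := by
        have h1 : Commute v (a0 * e) := (N.toMData.Zu_comm hm N.toMData.v_U).symm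
        have h2 : Commute v a0⁻¹ := Commute.inv_right (N.core_v a0 ha0K : Commute a0 v).symm
        have := h2.mul_right h1
        rwa [inv_mul_cancel_left] at this
      have hvb : Commute v b := by
        rcases he' with rfl | rfl
        · exact hve
        · have := (Commute.refl v).inv_right.mul_right hve
          rwa [inv_mul_cancel_left] at this
      exact N.z_ne (X.comm.symm.trans (commutatorElement_eq_one_iff_mul_comm.mpr hvb.eq))
    rcases he with he | he | he | he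
    rotate_left 2
    · exact (hbad (Or.inl he)).elim
    · exact (hbad (Or.inr he)).elim
    all_goals rw [he] at hm
    · rw [mul_one] at hm
      rcases X.Zu_cases hm with i | i | i | i <;> rw [i] at ha0sq ⊢
      · exact absurd ha0sq (by simpa using N.z_ne.symm)
      · exact absurd (ha0sq.symm.trans N.z_mem.2.1) N.z_ne
      · rw [mul_assoc, hvc, ← mul_assoc, X.c_sq]
        exact mul_mem hzW hvW
      · rw [← hvc, mul_inv_cancel_right]; exact hvW
    · have ha0e : a0 = a0 * v * v := by rw [mul_assoc, N.v_sq, mul_one]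
      have hcomm : Commute v (a0 * v) := (N.toMData.Zu_comm hm N.toMData.v_U).symm
      have hsq' : a0 * v * (a0 * v) = z := by
        calc a0 * v * (a0 * v) = a0 * (v * (a0 * v)) := by group
          _ = a0 * (a0 * v * v) := by rw [hcomm.eq]
          _ = z := by rw [← ha0e, ha0sq]
      have e0 : c * v * a0 = c * (v * (a0 * v)) * v := by
        calc c * v * a0 = c * v * a0 * (v * v) := by rw [N.v_sq, mul_one]
          _ = c * (v * (a0 * v)) * v := by group
      rw [e0, hcomm.eq, mul_assoc c, mul_assoc (a0 * v) v v, N.v_sq, mul_one]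
      rcases X.Zu_cases hm with i | i | i | i <;> rw [i] at hsq' ⊢
      · exact absurd hsq' (by simpa using N.z_ne.symm)
      · exact absurd (hsq'.symm.trans N.z_mem.2.1) N.z_ne
      · rw [X.c_sq]; exact hzW
      · rw [mul_inv_cancel]; exact one_mem _
  refine N.W_fix hy ?_
  calc x * (c * c2 * c3) * x⁻¹ = c2 * c3 * (x * c3 * x⁻¹) := by simp only [c3, c2]; group
    _ = c2 * c3 * c := by rw [hx3]
    _ = c * c2 * c3 := by rw [mul_assoc, a31, ← mul_assoc, ← a12]

/-- The properties of `Y = ⟨z, v, c, x c x⁻¹⟩`. -/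
structure Homocyclic (N : NData (S : Subgroup G) K M₁ F z v x) (Y : Subgroup G) : Prop where
  card : Nat.card Y = 16
  comm : ∀ a ∈ Y, ∀ b ∈ Y, a * b = b * a
  le : Y ≤ pCoreOf 2 K
  norm : (S : Subgroup G) ≤ Subgroup.normalizer (Y : Set G)
  x_norm : x ∈ Subgroup.normalizer (Y : Set G)
  omega : ∀ a ∈ Y, a * a = 1 → a ∈ Subgroup.closure ({z, v} : Set G)
  sq : ∀ a ∈ Y, a * a ∈ Subgroup.closure ({z, v} : Set G)
  fpf : ∀ a ∈ Y, x * a = a * x → a = 1

theorem homocyclic (X : N.toMData.Sixteen g c) :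
    N.Homocyclic (Subgroup.closure ({z, v, c, x * c * x⁻¹} : Set G)) := by
  classical
  obtain ⟨hcK, hc2K, hc3K, h22, h33, hx3, a12, a23, a31, hc2Q, -⟩ := cycle_facts N X
  have hprod := prod_one N X
  set c2 := x * c * x⁻¹
  set c3 := x * c2 * x⁻¹ with hc3
  set W := Subgroup.closure ({z, v} : Set G)
  set Y := Subgroup.closure ({z, v, c, c2} : Set G)
  have hzY : z ∈ Y := Subgroup.subset_closure (by simp)
  have hvY : v ∈ Y := Subgroup.subset_closure (by simp)
  have hcY : c ∈ Y := Subgroup.subset_closure (by simp)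
  have hc2Y : c2 ∈ Y := Subgroup.subset_closure (by simp)
  have hWY : W ≤ Y := (Subgroup.closure_le _).mpr (by rintro y (rfl | rfl); exacts [hzY, hvY])
  have hzW : z ∈ W := Subgroup.subset_closure (Or.inl rfl)
  have hvW : v ∈ W := Subgroup.subset_closure (Or.inr rfl)
  have hle : Y ≤ pCoreOf 2 K := (Subgroup.closure_le _).mpr (by
    rintro y (rfl | rfl | rfl | rfl)
    exacts [N.z_core, N.v_core, hcK, hc2K])
  have hcomm : ∀ a ∈ Y, ∀ b ∈ Y, a * b = b * a := comm_closure (by
    rintro a (rfl | rfl | rfl | rfl) b (rfl | rfl | rfl | rfl)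
    exacts [rfl, N.toMData.zv, (N.core_z hcK).symm, (N.core_z hc2K).symm,
      N.toMData.zv.symm, rfl, (N.core_v _ hcK).symm, (N.core_v _ hc2K).symm,
      N.core_z hcK, N.core_v _ hcK, rfl, a12,
      N.core_z hc2K, N.core_v _ hc2K, a12.symm, rfl])
  have hc3Y : c3 ∈ Y := by
    rw [eq_inv_of_mul_eq_one_right hprod]
    exact inv_mem (mul_mem hcY hc2Y)
  have hx : x ∈ Subgroup.normalizer (Y : Set G) := mem_normalizer_closure (by
    rintro a (rfl | rfl | rfl | rfl)
    · rw [N.xz]; exact hvY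
    · rw [N.xv]; exact mul_mem hzY hvY
    · exact hc2Y
    · exact hc3Y)
  have hcore : ∀ q ∈ pCoreOf 2 K, q ∈ Subgroup.normalizer (Y : Set G) := fun q hq => mem_normalizer_closure (by
    obtain ⟨e1, e2, -⟩ := core_conj N X hq
    rintro a (rfl | rfl | rfl | rfl)
    · rw [N.core_z hq, mul_inv_cancel_right]; exact hzY
    · rw [N.core_v q hq, mul_inv_cancel_right]; exact hvY
    · rcases e1 with e | e <;> rw [e]
      exacts [hcY, inv_mem hcY]
    · rcases e2 with e | e <;> rw [e]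
      exacts [hc2Y, inv_mem hc2Y])
  have hnorm : (S : Subgroup G) ≤ Subgroup.normalizer (Y : Set G) := fun s hs => mem_normalizer_closure (by
    have hsc : s * c * s⁻¹ ∈ Y := by
      rcases X.conj_c (N.toMData.S_le hs) with e | e <;> rw [e]
      exacts [hcY, inv_mem hcY]
    rintro a (rfl | rfl | rfl | rfl)
    · rw [N.z_mem.2.2 s hs, mul_inv_cancel_right]; exact hzY
    · rcases N.sv s hs with e | e <;> rw [e]
      exacts [hvY, mul_mem hzY hvY]
    · exact hsc
    · obtain ⟨q, hq, i, hi⟩ := N.x_norm s hs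
      rw [show s * c2 * s⁻¹ = (s * x * s⁻¹) * (s * c * s⁻¹) * (s * x * s⁻¹)⁻¹ by simp only [c2]; group, hi]
      exact (Subgroup.mem_normalizer_iff.mp (mul_mem (hcore q hq) (zpow_mem hx i)) _).mp hsc)
  have hW4 : Nat.card ↥W = 4 := by
    have hge : 2 * Nat.card (Subgroup.zpowers z) ≤ Nat.card ↥W := two_mul_card_le_of_lt
      (lt_of_le_of_ne (Subgroup.zpowers_le.mpr hzW) fun e =>
        N.toMData.conj_v_ne F.one_mem (by simpa using e.ge hvW))
    have hW : W = Subgroup.closure (insert v (Subgroup.zpowers z : Set G)) := le_antisymm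
      ((Subgroup.closure_le _).mpr (by
        rintro y (rfl | rfl)
        exacts [Subgroup.subset_closure (Or.inr (Subgroup.mem_zpowers y)), Subgroup.subset_closure (Or.inl rfl)]))
      ((Subgroup.closure_le _).mpr (Set.insert_subset hvW (Subgroup.zpowers_le.mpr hzW)))
    have hle2 : Nat.card ↥W ≤ 2 * Nat.card (Subgroup.zpowers z) := by
      rw [hW]
      refine card_closure_insert_le (fun b hb => ?_) (by rw [N.v_sq]; exact one_mem _)
      obtain ⟨i, rfl⟩ := Subgroup.mem_zpowers_iff.mp hb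
      rw [← conj_zpow, ← N.toMData.zv, mul_inv_cancel_right]
      exact Subgroup.zpow_mem _ (Subgroup.mem_zpowers z) i
    rw [card_zpowers_two N.z_mem.2.1 N.z_ne] at hge hle2
    omega
  set T1 := Subgroup.closure (insert c (W : Set G))
  have hT1Y : T1 ≤ Y := (Subgroup.closure_le _).mpr (Set.insert_subset hcY hWY)
  have hT1 : Nat.card T1 ≤ 2 * Nat.card ↥W := card_closure_insert_le
    (fun b hb => by rw [hcomm c hcY b (hWY hb), mul_inv_cancel_right]; exact hb) (by rw [X.c_sq]; exact hzW)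
  set T2 := Subgroup.closure (insert c2 (T1 : Set G))
  have hT2Y : T2 ≤ Y := (Subgroup.closure_le _).mpr (Set.insert_subset hc2Y hT1Y)
  have hT2 : Nat.card T2 ≤ 2 * Nat.card T1 := card_closure_insert_le
    (fun b hb => by rw [hcomm c2 hc2Y b (hT1Y hb), mul_inv_cancel_right]; exact hb)
    (by rw [h22]; exact Subgroup.subset_closure (Or.inr hvW))
  have hl1 : W < T1 := lt_of_le_of_ne (fun a ha => Subgroup.subset_closure (Or.inr ha)) fun e =>
    N.z_ne (X.c_sq.symm.trans (N.W_invol (e.ge (Subgroup.subset_closure (Or.inl rfl)))))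
  have hT1Q : T1 ≤ pCoreOf 2 M₁ := (Subgroup.closure_le _).mpr (Set.insert_subset (N.toMData.U_le X.c_U)
    ((Subgroup.closure_le _).mpr (by rintro y (rfl | rfl); exacts [N.toMData.z_Q, N.toMData.v_Q])))
  have hl2 : T1 < T2 := lt_of_le_of_ne (fun a ha => Subgroup.subset_closure (Or.inr ha)) fun e =>
    hc2Q (hT1Q (e.ge (Subgroup.subset_closure (Or.inl rfl))))
  have b1 := two_mul_card_le_of_lt hl1
  have b2 := two_mul_card_le_of_lt hl2
  have hYT : Y = T2 := le_antisymm ((Subgroup.closure_le _).mpr (by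
    rintro y (rfl | rfl | rfl | rfl)
    · exact Subgroup.subset_closure (Or.inr (Subgroup.subset_closure (Or.inr hzW)))
    · exact Subgroup.subset_closure (Or.inr (Subgroup.subset_closure (Or.inr hvW)))
    · exact Subgroup.subset_closure (Or.inr (Subgroup.subset_closure (Or.inl rfl)))
    · exact Subgroup.subset_closure (Or.inl rfl))) hT2Y
  have hcard : Nat.card Y = 16 := by rw [hYT]; omega
  have hsq : ∀ a ∈ Y, a * a ∈ W := by
    intro a ha
    induction ha using Subgroup.closure_induction with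
    | mem y hy =>
      rcases hy with rfl | rfl | rfl | rfl
      · rw [N.z_mem.2.1]; exact one_mem _
      · rw [N.v_sq]; exact one_mem _
      · rw [X.c_sq]; exact hzW
      · rw [h22]; exact hvW
    | one => simpa using one_mem W
    | mul p r hp hr ihp ihr =>
      rw [show p * r * (p * r) = p * (r * p) * r by group, hcomm r hr p hp,
        show p * (p * r) * r = (p * p) * (r * r) by group]
      exact mul_mem ihp ihr
    | inv p _ ihp =>
      rw [← mul_inv_rev]; exact inv_mem ihp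
  have homega : ∀ a ∈ Y, a * a = 1 → a ∈ W := by
    let φ : ↥Y →* ↥W := MonoidHom.mk' (fun a => ⟨(a : G) * a, hsq a a.2⟩) fun p r => Subtype.ext (by
      show (p : G) * r * (p * r) = p * p * (r * r)
      rw [show (p : G) * r * (p * r) = p * (r * p) * r by group, hcomm _ r.2 _ p.2]
      group)
    have htop : φ.range = ⊤ := eq_top_iff.mpr fun a _ => by
      rcases N.mem_four a.2 with i | i | i | i
      · exact ⟨1, Subtype.ext ((one_mul (1 : G)).trans i.symm)⟩
      · exact ⟨⟨c, hcY⟩, Subtype.ext (X.c_sq.trans i.symm)⟩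
      · exact ⟨⟨c2, hc2Y⟩, Subtype.ext (h22.trans i.symm)⟩
      · exact ⟨⟨c3, hc3Y⟩, Subtype.ext (h33.trans i.symm)⟩
    have h1 := Subgroup.index_mul_card φ.ker
    rw [Subgroup.index_ker, htop, Subgroup.card_top, hW4, hcard,
      ← Subgroup.card_map_of_injective Y.subtype_injective] at h1
    have hWk : W ≤ φ.ker.map Y.subtype := fun a ha => ⟨⟨a, hWY ha⟩, Subtype.ext (N.W_invol ha), rfl⟩
    have heq := Subgroup.eq_of_le_of_card_ge hWk (by omega)
    intro a ha ha2
    exact heq.ge ⟨⟨a, ha⟩, Subtype.ext ha2, rfl⟩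
  refine ⟨hcard, hcomm, hle, hnorm, hx, homega, hsq, fun a ha hxa => ?_⟩
  have h2 : a * a = 1 := N.W_fix (hsq a ha) (by
    rw [← mul_assoc, hxa, mul_assoc a x a, hxa, ← mul_assoc, mul_inv_cancel_right])
  exact N.W_fix (homega a ha h2) (mul_inv_eq_iff_eq_mul.mpr hxa)

/-- An element of `O₂(K)` centralises or inverts `Y`. -/
theorem core_dich (X : N.toMData.Sixteen g c) {q : G} (hq : q ∈ pCoreOf 2 K) :
    (∀ a ∈ Subgroup.closure ({z, v, c, x * c * x⁻¹} : Set G), q * a * q⁻¹ = a) ∨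
      ∀ a ∈ Subgroup.closure ({z, v, c, x * c * x⁻¹} : Set G), q * a * q⁻¹ = a⁻¹ := by
  obtain ⟨hcK, hc2K, -, h22, -, -, a12, -, -, -, -⟩ := cycle_facts N X
  have hprod := prod_one N X
  have hY := homocyclic N X
  obtain ⟨e1, e2, e3⟩ := core_conj N X hq
  set c2 := x * c * x⁻¹
  set c3 := x * c2 * x⁻¹
  set Y := Subgroup.closure ({z, v, c, c2} : Set G)
  have hc3 : c3 = (c * c2)⁻¹ := eq_inv_of_mul_eq_one_right hprod
  have hcc : c * c ≠ 1 := fun e => N.z_ne (X.c_sq.symm.trans e)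
  have h22' : c2 * c2 ≠ 1 := fun e => N.v_ne (h22.symm.trans e)
  have mixed : ∀ u w : G, u * w = w * u → (u * w⁻¹ = u * w ∨ u * w⁻¹ = (u * w)⁻¹) → w * w = 1 ∨ u * u = 1 := by
    intro u w huw h'
    rcases h' with e | e
    · left
      exact mul_eq_one_iff_eq_inv.mpr (mul_left_cancel e).symm
    · right
      rw [mul_inv_rev] at e
      have hc : Commute u w⁻¹ := Commute.inv_right huw
      rw [hc.eq] at e
      exact mul_eq_one_iff_eq_inv.mpr (mul_left_cancel e)
  have hq3 : q * (c * c2) * q⁻¹ = c * c2 ∨ q * (c * c2) * q⁻¹ = (c * c2)⁻¹ := by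
    rw [hc3] at e3
    rcases e3 with e | e
    · left
      have := congrArg (fun a => a⁻¹) e
      simpa [mul_assoc] using this
    · right
      have := congrArg (fun a => a⁻¹) e
      simpa [mul_assoc] using this
  have hsplit : q * (c * c2) * q⁻¹ = (q * c * q⁻¹) * (q * c2 * q⁻¹) := by group
  rw [hsplit] at hq3
  rcases e1 with i | i <;> rcases e2 with j | j <;> rw [i, j] at hq3
  · left
    intro a ha
    refine mul_inv_eq_iff_eq_mul.mpr ?_
    have hle : Y ≤ Subgroup.centralizer ({q} : Set G) := (Subgroup.closure_le _).mpr (by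
      rintro y (rfl | rfl | rfl | rfl) <;> refine Subgroup.mem_centralizer_singleton_iff.mpr ?_
      exacts [(N.core_z hq).symm, (N.core_v q hq).symm, (mul_inv_eq_iff_eq_mul.mp i).symm,
        (mul_inv_eq_iff_eq_mul.mp j).symm])
    exact (Subgroup.mem_centralizer_singleton_iff.mp (hle ha)).symm
  · exfalso
    rcases mixed c c2 a12 hq3 with e | e
    exacts [h22' e, hcc e]
  · exfalso
    have hc : Commute c⁻¹ c2 := Commute.inv_left a12
    rw [hc.eq, show c * c2 = c2 * c from a12] at hq3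
    rcases mixed c2 c a12.symm hq3 with e | e
    exacts [hcc e, h22' e]
  · right
    intro a ha
    induction ha using Subgroup.closure_induction with
    | mem y hy =>
      rcases hy with rfl | rfl | rfl | rfl
      · rw [N.core_z hq, mul_inv_cancel_right, inv_eq_of_mul_eq_one_right N.z_mem.2.1]
      · rw [N.core_v q hq, mul_inv_cancel_right, inv_eq_of_mul_eq_one_right N.v_sq]
      · exact i
      · exact j
    | one => simp
    | mul p r hp hr ihp ihr =>
      rw [show q * (p * r) * q⁻¹ = (q * p * q⁻¹) * (q * r * q⁻¹) by group, ihp, ihr, ← mul_inv_rev,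
        hY.comm r hr p hp]
    | inv p _ ihp => rw [show q * p⁻¹ * q⁻¹ = (q * p * q⁻¹)⁻¹ by group, ihp]

/-- `Y` is self-centralising in `O₂(K)`. -/
theorem cent_homocyclic (h : Hard G) (X : N.toMData.Sixteen g c) {β : G} (hβ : β ∈ pCoreOf 2 K)
    (hc : ∀ a ∈ Subgroup.closure ({z, v, c, x * c * x⁻¹} : Set G), β * a = a * β) :
    β ∈ Subgroup.closure ({z, v, c, x * c * x⁻¹} : Set G) := by
  classical
  obtain ⟨hcK, hc2K, -, h22, -, -, -, -, -, hc2Q, -⟩ := cycle_facts N X
  have hY := homocyclic N X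
  have hdich := @core_dich G _ _ S K M₁ F z v x g c N X
  set c2 := x * c * x⁻¹
  set Y := Subgroup.closure ({z, v, c, c2} : Set G)
  have hzY : z ∈ Y := Subgroup.subset_closure (by simp)
  have hvY : v ∈ Y := Subgroup.subset_closure (by simp)
  have hcY : c ∈ Y := Subgroup.subset_closure (by simp)
  have hc2Y : c2 ∈ Y := Subgroup.subset_closure (by simp)
  set W := Subgroup.closure ({z, v} : Set G)
  have hvW : v ∈ W := Subgroup.subset_closure (Or.inr rfl)
  have hzW : z ∈ W := Subgroup.subset_closure (Or.inl rfl)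
  set b := g * v * g⁻¹
  have hgM := N.ov.F_le X.g_mem
  have hbU : b ∈ N.toMData.U := N.toMData.conj_v_U hgM
  set B := pCoreOf 2 K ⊓ Subgroup.centralizer (Y : Set G)
  have hBc : ∀ {p a : G}, p ∈ B → a ∈ Y → Commute p a := fun hp ha =>
    (Subgroup.mem_centralizer_iff.mp hp.2 _ ha).symm
  have mkB : ∀ {p : G}, p ∈ pCoreOf 2 K → (∀ a ∈ Y, p * a = a * p) → p ∈ B := fun hp h' =>
    ⟨hp, Subgroup.mem_centralizer_iff.mpr fun a ha => (h' a ha).symm⟩
  have hxB : ∀ p ∈ B, x * p * x⁻¹ ∈ B := fun p hp => mkB (conj_mem_core N.x_mem hp.1) fun a ha => by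
    have ha' : x⁻¹ * a * x ∈ Y := by
      have := (Subgroup.mem_normalizer_iff.mp (inv_mem hY.x_norm) a).mp ha
      rwa [inv_inv] at this
    calc x * p * x⁻¹ * a = x * (p * (x⁻¹ * a * x)) * x⁻¹ := by group
      _ = a * (x * p * x⁻¹) := by rw [(hBc hp ha').eq]; group
  set C := pCoreOf 2 M₁ ⊓ Subgroup.centralizer (N.toMData.U : Set G)
  have hCc : ∀ {p a : G}, p ∈ C → a ∈ N.toMData.U → Commute p a := fun hp ha =>
    (Subgroup.mem_centralizer_iff.mp hp.2 _ ha).symm
  have hCB : C ≤ B := by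
    intro p hp
    have hpK : p ∈ pCoreOf 2 K := (N.mem_core_iff (N.toMData.Q_le_S hp.1)).mpr (hCc hp N.toMData.v_U).eq
    refine mkB hpK fun a ha => mul_inv_eq_iff_eq_mul.mp ?_
    rcases hdich hpK with i | i
    · exact i a ha
    · exfalso
      have e := i c hcY
      rw [(hCc hp X.c_U).eq, mul_inv_cancel_right] at e
      exact N.z_ne (X.c_sq.symm.trans (mul_eq_one_iff_eq_inv.mpr e))
  have hBQ : ∀ p ∈ B, p ∈ pCoreOf 2 M₁ → p ∈ C ∨ p * v ∈ C := by
    intro p hp hpQ
    have mk : ∀ {r : G}, r ∈ pCoreOf 2 M₁ → Commute r v → Commute r b → Commute r c → r ∈ C := by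
      intro r hr k1 k2 k3
      refine ⟨hr, Subgroup.mem_centralizer_iff.mpr fun u hu => ?_⟩
      obtain ⟨e, he, hue⟩ := X.cases u hu
      obtain ⟨i, hi⟩ := Subgroup.mem_zpowers_iff.mp (X.Zu_le _ hue)
      have ke : Commute r e := by
        rcases he with rfl | rfl | rfl | rfl
        exacts [Commute.one_right r, k1, k2, k1.mul_right k2]
      have := (k3.zpow_right i).mul_right ke.inv_right
      rw [hi, mul_inv_cancel_right] at this
      exact this.symm.eq
    rcases mem_two N.z_mem.2.1 (N.toMData.comm_U hpQ hbU) with i | i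
    · exact Or.inl (mk hpQ (hBc hp hvY) (commutatorElement_eq_one_iff_mul_comm.mp i) (hBc hp hcY))
    · refine Or.inr (mk (mul_mem hpQ N.toMData.v_Q) ((hBc hp hvY).mul_left (Commute.refl v))
        (commutatorElement_eq_one_iff_mul_comm.mp ?_)
        ((hBc hp hcY).mul_left (hY.comm v hvY c hcY)))
      rw [N.toMData.comm_mul (core_le M₁ hpQ) (X.comm ▸ Subgroup.mem_zpowers z : ⁅v, b⁆ ∈ Subgroup.zpowers z),
        X.comm, i, N.z_mem.2.1]
  have hc2B : c2 ∈ B := mkB hc2K fun a ha => hY.comm c2 hc2Y a ha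
  have hvB : v ∈ B := mkB N.v_core fun a ha => hY.comm v hvY a ha
  -- `B = C ⟨v, c₂⟩`
  have hBdec : ∀ p ∈ B, ∃ γ ∈ C, ∃ y ∈ Y, p = γ * y := by
    intro p hp
    have inQ : ∀ r ∈ B, r ∈ pCoreOf 2 M₁ → ∃ γ ∈ C, ∃ y ∈ Y, r = γ * y := by
      intro r hr hrQ
      rcases hBQ r hr hrQ with i | i
      · exact ⟨r, i, 1, one_mem _, (mul_one r).symm⟩
      · exact ⟨_, i, v, hvY, by rw [mul_assoc, N.v_sq, mul_one]⟩
    by_cases hpQ : p ∈ pCoreOf 2 M₁
    · exact inQ p hp hpQ
    · obtain ⟨γ, hγ, y, hy, e⟩ := inQ (p * c2) (mul_mem hp hc2B)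
        (N.toMData.mul_mem_Q X.three (N.core_le_S hp.1) (N.core_le_S hc2K) hpQ hc2Q)
      exact ⟨γ, hγ, y * c2⁻¹, mul_mem hy (inv_mem hc2Y), by rw [← mul_assoc, ← e, mul_inv_cancel_right]⟩
  have hCconj : ∀ {m p : G}, m ∈ M₁ → p ∈ C → m * p * m⁻¹ ∈ C := by
    intro m p hm hp
    refine ⟨N.toMData.conj_mem_Q hm hp.1, Subgroup.mem_centralizer_iff.mpr fun u hu => ?_⟩
    have hu' : m⁻¹ * u * m ∈ N.toMData.U := by
      have := (Subgroup.mem_normalizer_iff.mp (N.toMData.U_norm (M₁.inv_mem hm)) u).mp hu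
      rwa [inv_inv] at this
    calc u * (m * p * m⁻¹) = m * ((m⁻¹ * u * m) * p) * m⁻¹ := by group
      _ = m * p * m⁻¹ * u := by rw [← (hCc hp hu').eq]; group
  -- `C` is abelian
  have hCab : ∀ p ∈ C, ∀ r ∈ C, p * r = r * p := by
    set P := Subgroup.closure {y | ∃ p ∈ C, ∃ r ∈ C, y = ⁅p, r⁆}
    by_cases hP : P = ⊥
    · intro p hp r hr
      exact commutatorElement_eq_one_iff_mul_comm.mp
        (Subgroup.mem_bot.mp (hP ▸ Subgroup.subset_closure ⟨p, hp, r, hr, rfl⟩))
    exfalso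
    have hPK : P ≤ pCoreOf 2 K := (Subgroup.closure_le _).mpr (by
      rintro _ ⟨p, hp, r, hr, rfl⟩
      rw [commutatorElement_def]
      exact mul_mem (mul_mem (mul_mem (hCB hp).1 (hCB hr).1) (inv_mem (hCB hp).1)) (inv_mem (hCB hr).1))
    refine N.crit h ((core_two K).to_le hPK) hP (fun m hm => mem_normalizer_closure ?_)
      (mem_normalizer_closure ?_)
    · rintro _ ⟨p, hp, r, hr, rfl⟩
      exact Subgroup.subset_closure ⟨_, hCconj hm hp, _, hCconj hm hr,
        by simp only [commutatorElement_def]; group⟩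
    · rintro _ ⟨p, hp, r, hr, rfl⟩
      obtain ⟨γ1, hγ1, y1, hy1, e1⟩ := hBdec _ (hxB p (hCB hp))
      obtain ⟨γ2, hγ2, y2, hy2, e2⟩ := hBdec _ (hxB r (hCB hr))
      refine Subgroup.subset_closure ⟨γ1, hγ1, γ2, hγ2, ?_⟩
      rw [show x * ⁅p, r⁆ * x⁻¹ = ⁅x * p * x⁻¹, x * r * x⁻¹⁆ by simp only [commutatorElement_def]; group, e1, e2]
      have k1 : Commute y1 γ2 := (hBc (hCB hγ2) hy1).symm
      have k2 : Commute y2 γ1 := (hBc (hCB hγ1) hy2).symm
      have k3 : Commute y1 y2 := hY.comm _ hy1 _ hy2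
      have i1 : γ1 * y1 * (γ2 * y2) = γ1 * γ2 * (y1 * y2) := by
        calc γ1 * y1 * (γ2 * y2) = γ1 * (y1 * γ2) * y2 := by group
          _ = γ1 * γ2 * (y1 * y2) := by rw [k1.eq]; group
      have i2 : γ2 * y2 * (γ1 * y1) = γ2 * γ1 * (y1 * y2) := by
        calc γ2 * y2 * (γ1 * y1) = γ2 * (y2 * γ1) * y1 := by group
          _ = γ2 * γ1 * (y1 * y2) := by rw [k2.eq, k3.eq]; group
      rw [show ⁅γ1 * y1, γ2 * y2⁆ = (γ1 * y1 * (γ2 * y2)) * (γ2 * y2 * (γ1 * y1))⁻¹ by
        simp only [commutatorElement_def]; group, i1, i2]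
      simp only [commutatorElement_def]; group
  have hBab : ∀ p ∈ B, ∀ r ∈ B, p * r = r * p := by
    intro p hp r hr
    obtain ⟨γ1, hγ1, y1, hy1, rfl⟩ := hBdec p hp
    obtain ⟨γ2, hγ2, y2, hy2, rfl⟩ := hBdec r hr
    have k1 : Commute γ1 γ2 := hCab _ hγ1 _ hγ2
    have k2 : Commute γ1 y2 := hBc (hCB hγ1) hy2
    have k3 : Commute y1 γ2 := (hBc (hCB hγ2) hy1).symm
    have k4 : Commute y1 y2 := hY.comm _ hy1 _ hy2
    exact ((k1.mul_right k2).mul_left (k3.mul_right k4)).eq
  -- `x` has no fixed point on `B`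
  have hfpf : ∀ a ∈ B, x * a = a * x → a = 1 := by
    intro a ha hxa
    by_contra hne
    set A := B ⊓ Subgroup.centralizer ({x} : Set G)
    have hAK : A ≤ pCoreOf 2 K := inf_le_left.trans inf_le_left
    have hn : pCoreOf 2 K ≤ Subgroup.normalizer (A : Set G) := Subgroup.le_normalizer_iff.mpr fun q hq p hp => by
      have hqK : q⁻¹ ∈ pCoreOf 2 K := inv_mem hq
      set r := x * q * x⁻¹
      have hrK : r ∈ pCoreOf 2 K := conj_mem_core N.x_mem hq
      have hβ' : q⁻¹ * r ∈ B := by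
        refine mkB (mul_mem hqK hrK) fun y hy => ?_
        have hy' : x⁻¹ * y * x ∈ Y := by
          have := (Subgroup.mem_normalizer_iff.mp (inv_mem hY.x_norm) y).mp hy
          rwa [inv_inv] at this
        have hry : r * y * r⁻¹ = x * (q * (x⁻¹ * y * x) * q⁻¹) * x⁻¹ := by simp only [r]; group
        refine mul_inv_eq_iff_eq_mul.mp ?_
        rw [show q⁻¹ * r * y * (q⁻¹ * r)⁻¹ = q⁻¹ * (r * y * r⁻¹) * q by group, hry]
        rcases hdich hq with i | i
        · rw [i _ hy']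
          have := i y hy
          calc q⁻¹ * (x * (x⁻¹ * y * x) * x⁻¹) * q = q⁻¹ * (q * y * q⁻¹) * q := by rw [this]; group
            _ = y := by group
        · rw [i _ hy']
          have := i y hy
          calc q⁻¹ * (x * (x⁻¹ * y * x)⁻¹ * x⁻¹) * q = q⁻¹ * (q * y * q⁻¹) * q := by rw [this]; group
            _ = y := by group
      have hpB : p ∈ B := hp.1
      have hpx : Commute p x := Subgroup.mem_centralizer_singleton_iff.mp hp.2
      refine ⟨mkB (mul_mem (mul_mem hq hpB.1) (inv_mem hq)) fun y hy => ?_,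
        Subgroup.mem_centralizer_singleton_iff.mpr ?_⟩
      · have hy' : q⁻¹ * y * q ∈ Y := by
          have := (Subgroup.mem_normalizer_iff.mp (inv_mem (hY.norm (N.core_le_S hq))) y).mp hy
          rwa [inv_inv] at this
        calc q * p * q⁻¹ * y = q * (p * (q⁻¹ * y * q)) * q⁻¹ := by group
          _ = y * (q * p * q⁻¹) := by rw [(hBc hpB hy').eq]; group
      · have hk : Commute p (q⁻¹ * r * x) := (show Commute p (q⁻¹ * r) from hBab p hpB _ hβ').mul_right hpx
        have e : q⁻¹ * r * x = q⁻¹ * x * q := by simp only [r]; group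
        rw [e] at hk
        calc q * p * q⁻¹ * x = q * (p * (q⁻¹ * x * q)) * q⁻¹ := by group
          _ = x * (q * p * q⁻¹) := by rw [hk.eq]; group
    have hAne : A ≠ ⊥ := fun e => hne (Subgroup.mem_bot.mp (e ▸
      (⟨ha, Subgroup.mem_centralizer_singleton_iff.mpr hxa.symm⟩ : a ∈ A)))
    obtain ⟨a', ha', ha'1, -, hcent⟩ := exists_central (core_two K) hAK hn hAne
    exact ha'1 (N.fpf h ha'.1.1 hcent (Subgroup.mem_centralizer_singleton_iff.mp ha'.2).symm)
  have hCU : ∀ {p : G}, p ∈ C → p ∈ N.toMData.U → p ∈ N.toMData.Zu := fun hp hu =>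
    N.toMData.mem_Zu hu fun u hu' => hCc hp hu'
  have hcC : c ∈ C := ⟨N.toMData.U_le X.c_U, Subgroup.mem_centralizer_iff.mpr fun u hu =>
    (N.toMData.Zu_comm X.c_Zu hu).symm⟩
  have hzC : z ∈ C := X.c_sq ▸ mul_mem hcC hcC
  have hvC : v ∉ C := fun hv => N.z_ne (X.comm.symm.trans
    (commutatorElement_eq_one_iff_mul_comm.mpr (hCc hv hbU).eq))
  have hinvolU : ∀ {p : G}, p ∈ C → p ∈ N.toMData.U → p * p = 1 → p ∈ Subgroup.zpowers z := by
    intro p hp hu hp2
    rcases X.Zu_cases (hCU hp hu) with i | i | i | i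
    · rw [i]; exact one_mem _
    · rw [i]; exact Subgroup.mem_zpowers z
    · rw [i, X.c_sq] at hp2; exact absurd hp2 N.z_ne
    · rw [i, ← mul_inv_rev, X.c_sq, inv_eq_one] at hp2; exact absurd hp2 N.z_ne
  -- the only involution of `C` is `z`
  have hinvol : ∀ γ ∈ C, γ * γ = 1 → γ ∈ Subgroup.zpowers z := by
    intro γ hγ hγ2
    by_contra hγz
    have hγB := hCB hγ
    set γ' := x * γ * x⁻¹
    have hγ'B : γ' ∈ B := hxB γ hγB
    have hγ'2 : γ' * γ' = 1 := by
      rw [show γ' * γ' = x * (γ * γ) * x⁻¹ by simp only [γ']; group, hγ2]; group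
    set γ'' := x * γ' * x⁻¹
    have hγ''B : γ'' ∈ B := hxB γ' hγ'B
    have hx3 : x * γ'' * x⁻¹ = γ := by
      rw [show x * γ'' * x⁻¹ = x ^ 3 * γ * (x ^ 3)⁻¹ by simp only [γ'', γ', pow_succ, pow_zero, one_mul]; group,
        N.x_cube, one_mul, inv_one, mul_one]
    have hprod' : γ * γ' * γ'' = 1 := by
      refine hfpf _ (mul_mem (mul_mem hγB hγ'B) hγ''B) (mul_inv_eq_iff_eq_mul.mp ?_)
      calc x * (γ * γ' * γ'') * x⁻¹ = γ' * γ'' * (x * γ'' * x⁻¹) := by simp only [γ'', γ']; group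
        _ = γ * γ' * γ'' := by
          rw [hx3, hBab _ (mul_mem hγ'B hγ''B) γ hγB]; group
    have hγW : γ ∉ W := by
      intro i
      rcases N.mem_four i with j | j | j | j
      · exact hγz (j ▸ one_mem _)
      · exact hγz (j ▸ Subgroup.mem_zpowers z)
      · exact hvC (j ▸ hγ)
      · refine hvC ?_
        have := mul_mem hzC (j ▸ hγ : z * v ∈ C)
        rwa [← mul_assoc, N.z_mem.2.1, one_mul] at this
    have hγ'W : γ' * γ ∉ W := by
      intro i
      refine hγW ?_
      have hxw := N.W_conj_x i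
      have e : x * (γ' * γ) * x⁻¹ = γ'' * γ' := by simp only [γ'', γ']; group
      rw [e] at hxw
      have e2 : γ = γ'' * γ' := by
        have h1 := eq_inv_of_mul_eq_one_left (a := γ) (b := γ' * γ'') (by rw [← mul_assoc]; exact hprod')
        have h2 : γ'' * γ'' = 1 := by
          rw [show γ'' * γ'' = x * (γ' * γ') * x⁻¹ by simp only [γ'']; group, hγ'2]; group
        rw [h1, mul_inv_rev, inv_eq_of_mul_eq_one_right hγ'2, inv_eq_of_mul_eq_one_right h2]
      rw [e2]; exact hxw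
    have hγ'Q : γ' ∈ pCoreOf 2 M₁ := by
      by_contra hnQ
      have hQ := N.toMData.mul_mem_Q X.three (N.core_le_S hγ'B.1) (N.core_le_S hc2K) hnQ hc2Q
      have hsq : γ' * c2 * (γ' * c2) = v := by
        have k := hBc hγ'B hc2Y
        rw [show γ' * c2 * (γ' * c2) = γ' * (c2 * γ') * c2 by group, ← k.eq,
          show γ' * (γ' * c2) * c2 = (γ' * γ') * (c2 * c2) by group, hγ'2, one_mul, h22]
      refine hvC ?_
      rcases hBQ _ (mul_mem hγ'B hc2B) hQ with i | i
      · exact hsq ▸ mul_mem i i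
      · have hk : Commute v (γ' * c2) := (hBc (mul_mem hγ'B hc2B) hvY).symm
        have := mul_mem i i
        rwa [show γ' * c2 * v * (γ' * c2 * v) = γ' * c2 * (v * (γ' * c2)) * v by group, hk.eq,
          show γ' * c2 * (γ' * c2 * v) * v = γ' * c2 * (γ' * c2) * (v * v) by group, hsq, N.v_sq, mul_one] at this
    obtain ⟨γ1, hγ1, hγ12, hγ1ne⟩ : ∃ γ1 ∈ C, γ1 * γ1 = 1 ∧
        γ1 ∉ Subgroup.zpowers z ∧ γ1 * γ ∉ Subgroup.zpowers z := by
      have hzW' : ∀ {a : G}, a ∈ Subgroup.zpowers z → a ∈ W := fun ha => Subgroup.zpowers_le.mpr hzW ha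
      have hγ'nW : γ' ∉ W := fun i => hγW (by
        have := N.W_conj_x (N.W_conj_x i)
        rwa [show x * (x * γ' * x⁻¹) * x⁻¹ = γ by rw [← hx3]] at this)
      rcases hBQ γ' hγ'B hγ'Q with i | i
      · exact ⟨γ', i, hγ'2, fun j => hγ'nW (hzW' j), fun j => hγ'W (hzW' j)⟩
      · have hk : Commute v γ' := (hBc hγ'B hvY).symm
        refine ⟨_, i, ?_, fun j => hγ'nW ?_, fun j => hγ'W ?_⟩
        · rw [show γ' * v * (γ' * v) = γ' * (v * γ') * v by group, hk.eq,
            show γ' * (γ' * v) * v = (γ' * γ') * (v * v) by group, hγ'2, N.v_sq, one_mul]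
        · simpa using mul_mem (hzW' j) (inv_mem hvW)
        · have hk2 : Commute v γ := (hBc hγB hvY).symm
          have := mul_mem (hzW' j) (inv_mem hvW)
          rwa [mul_assoc γ' v γ, hk2.eq, ← mul_assoc, mul_inv_cancel_right] at this
    -- `⟨U, γ, γ₁⟩` has too large an elementary section
    set X1 := Subgroup.closure (insert γ (N.toMData.U : Set G))
    set X2 := Subgroup.closure (insert γ1 (X1 : Set G))
    have hγU : γ ∉ N.toMData.U := fun i => hγz (hinvolU hγ i hγ2)
    have hX1 : ∀ a ∈ X1, a ∈ N.toMData.U ∨ a * γ ∈ N.toMData.U := by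
      intro a ha
      induction ha using Subgroup.closure_induction with
      | mem y hy =>
        rcases hy with rfl | hy
        · exact Or.inr (by rw [hγ2]; exact one_mem _)
        · exact Or.inl hy
      | one => exact Or.inl (one_mem _)
      | mul p r _ _ ihp ihr =>
        rcases ihp with i | i <;> rcases ihr with j | j
        · exact Or.inl (mul_mem i j)
        · exact Or.inr (by rw [mul_assoc]; exact mul_mem i j)
        · refine Or.inr ?_
          rw [mul_assoc, ← (hCc hγ j).eq, ← mul_assoc]; exact mul_mem i j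
        · refine Or.inl ?_
          have hm := mul_mem i j
          rwa [mul_assoc p γ, (hCc hγ j).eq, mul_assoc r γ γ, hγ2, mul_one] at hm
      | inv p _ ihp =>
        rcases ihp with i | i
        · exact Or.inl (inv_mem i)
        · refine Or.inr ?_
          have hm := inv_mem i
          rw [mul_inv_rev, inv_eq_of_mul_eq_one_right hγ2] at hm
          have e0 : p⁻¹ * γ = γ * (γ * p⁻¹) * γ := by
            calc p⁻¹ * γ = (γ * γ) * (p⁻¹ * γ) := by rw [hγ2, one_mul]
              _ = γ * (γ * p⁻¹) * γ := by group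
          rw [e0, (hCc hγ hm).eq, mul_assoc (γ * p⁻¹) γ γ, hγ2, mul_one]
          exact hm
    have hγ1X : γ1 ∉ X1 := by
      intro i
      rcases hX1 γ1 i with j | j
      · exact hγ1ne.1 (hinvolU hγ1 j hγ12)
      · refine hγ1ne.2 (hinvolU (mul_mem hγ1 hγ) j ?_)
        rw [show γ1 * γ * (γ1 * γ) = γ1 * (γ * γ1) * γ by group, hCab γ hγ γ1 hγ1,
          show γ1 * (γ1 * γ) * γ = (γ1 * γ1) * (γ * γ) by group, hγ12, hγ2, one_mul]
    have l1 : 2 * Nat.card N.toMData.U ≤ Nat.card X1 := two_mul_card_le_of_lt (lt_of_le_of_ne (fun a ha => Subgroup.subset_closure (Or.inr ha) :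
      N.toMData.U ≤ X1) fun e => hγU (e.ge (Subgroup.subset_closure (Or.inl rfl))))
    have l2 : 2 * Nat.card X1 ≤ Nat.card X2 := two_mul_card_le_of_lt (lt_of_le_of_ne (fun a ha => Subgroup.subset_closure (Or.inr ha) :
      X1 ≤ X2) fun e => hγ1X (e.ge (Subgroup.subset_closure (Or.inl rfl))))
    set X' : Set G := insert γ1 (insert γ (N.toMData.U : Set G))
    have hX'M : ∀ a ∈ X', a ∈ M₁ := by
      rintro a (rfl | rfl | ha)
      exacts [core_le M₁ hγ1.1, core_le M₁ hγ.1, core_le M₁ (N.toMData.U_le ha)]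
    have hzn : ∀ a ∈ M₁, ∀ n ∈ Subgroup.zpowers z, a * n * a⁻¹ ∈ Subgroup.zpowers z := by
      intro a ha n hn
      obtain ⟨i, rfl⟩ := Subgroup.mem_zpowers_iff.mp hn
      rw [← conj_zpow, N.toMData.conj_z ha]
      exact Subgroup.zpow_mem _ (Subgroup.mem_zpowers z) i
    have one' : ∀ {p r : G}, p * r = r * p → ⁅p, r⁆ ∈ Subgroup.zpowers z := fun e => by
      rw [commutatorElement_eq_one_iff_mul_comm.mpr e]; exact one_mem _
    have hsq := sq_mem_closure (X := X') (N := Subgroup.zpowers z) (fun a ha => hzn a (hX'M a ha))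
      (fun a ha n hn => by simpa using hzn a⁻¹ (M₁.inv_mem (hX'M a ha)) n hn) (by
        rintro a (rfl | rfl | ha)
        · rw [hγ12]; exact one_mem _
        · rw [hγ2]; exact one_mem _
        · exact N.toMData.U_sq ha) (by
        rintro p (rfl | rfl | hp) r (rfl | rfl | hr)
        · exact one' rfl
        · exact one' (hCab _ hγ1 _ hγ)
        · exact one' (hCc hγ1 hr).eq
        · exact one' (hCab _ hγ _ hγ1)
        · exact one' rfl
        · exact one' (hCc hγ hr).eq
        · exact one' (hCc hγ1 hp).eq.symm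
        · exact one' (hCc hγ hp).eq.symm
        · exact N.toMData.U_comm_mem hp hr)
    have hX2le : X2 ≤ Subgroup.closure X' := (Subgroup.closure_le _).mpr (Set.insert_subset
      (Subgroup.subset_closure (Or.inl rfl)) ((Subgroup.closure_le _).mpr fun a ha =>
        Subgroup.subset_closure (Or.inr ha)))
    have h1 := card_le_of_sq h.sect (H := Subgroup.closure X') (N := Subgroup.zpowers z)
      (Subgroup.zpowers_le.mpr (Subgroup.subset_closure (Or.inr (Or.inr N.toMData.z_U))))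
      (fun a ha => Subgroup.mem_normalizer_fintype (hzn a (((Subgroup.closure_le M₁).mpr hX'M) ha))) hsq
    have h2 := Subgroup.card_le_of_le hX2le
    rw [card_zpowers_two N.z_mem.2.1 N.z_ne] at h1
    have h16 := X.card
    omega
  -- hence `C = ⟨c⟩`
  have hCle : ∀ γ ∈ C, γ ∈ Subgroup.zpowers c := by
    intro γ0 hγ0
    by_contra hγ0c
    obtain ⟨γ, hγ, hγc, hγ2⟩ := exists_sq_mem ((core_two M₁).to_le inf_le_left) hγ0 hγ0c
    have hγB := hCB hγ
    have hzc : Subgroup.zpowers z ≤ Subgroup.zpowers c :=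
      Subgroup.zpowers_le.mpr (X.c_sq ▸ mul_mem (Subgroup.mem_zpowers c) (Subgroup.mem_zpowers c))
    have hroot : γ * γ = c ∨ γ * γ = c⁻¹ → False := by
      intro hr
      set β' := x * γ * x⁻¹
      have hβ'B : β' ∈ B := hxB γ hγB
      have hβ'Q : β' * β' ∈ pCoreOf 2 M₁ := by
        by_cases i : β' ∈ pCoreOf 2 M₁
        · exact mul_mem i i
        · exact N.toMData.mul_mem_Q X.three (N.core_le_S hβ'B.1) (N.core_le_S hβ'B.1) i i
      rw [show β' * β' = x * (γ * γ) * x⁻¹ by simp only [β']; group] at hβ'Q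
      rcases hr with e | e <;> rw [e] at hβ'Q
      · exact hc2Q hβ'Q
      · rw [show x * c⁻¹ * x⁻¹ = c2⁻¹ by simp only [c2]; group] at hβ'Q
        exact hc2Q (by simpa using inv_mem hβ'Q)
    rcases X.Zu_cases (a := γ * γ) (by
      obtain ⟨i, hi⟩ := Subgroup.mem_zpowers_iff.mp hγ2
      rw [← hi]; exact Subgroup.zpow_mem _ X.c_Zu i) with i | i | i | i
    · exact hγc (hzc (hinvol γ hγ i))
    · refine hγc ?_
      have hk : Commute c γ := hCab c hcC γ hγ
      have hm := hinvol (γ * c) (mul_mem hγ hcC) (by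
        rw [show γ * c * (γ * c) = γ * (c * γ) * c by group, hk.eq,
          show γ * (γ * c) * c = (γ * γ) * (c * c) by group, i, X.c_sq, N.z_mem.2.1])
      simpa using mul_mem (hzc hm) (inv_mem (Subgroup.mem_zpowers c))
    · exact hroot (Or.inl i)
    · exact hroot (Or.inr i)
  have hcle : Subgroup.zpowers c ≤ Y := Subgroup.zpowers_le.mpr hcY
  obtain ⟨γ, hγ, y, hy, e⟩ := hBdec β (mkB hβ hc)
  rw [e]
  exact mul_mem (hcle (hCle γ hγ)) hy

/-- `U` of order 16 gives `WreathData`. -/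
theorem wreathData (h : Hard G) (X : N.toMData.Sixteen g c) : ∃ Y d, WreathData N Y c d := by
  classical
  haveI := Fintype.ofFinite G
  haveI : Fact (Nat.Prime 2) := ⟨Nat.prime_two⟩
  obtain ⟨hcK, hc2K, hc3K, h22, h33, hx3, a12, a23, a31, hc2Q, hc3Q⟩ := cycle_facts N X
  have hprod := prod_one N X
  have hY := homocyclic N X
  have hdich := @core_dich G _ _ S K M₁ F z v x g c N X
  have hcentY := @cent_homocyclic G _ _ S K M₁ F z v x g c N h X
  set c2 := x * c * x⁻¹ with hc2
  set c3 := x * c2 * x⁻¹ with hc3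
  set Y := Subgroup.closure ({z, v, c, c2} : Set G) with hYdef
  have hzY : z ∈ Y := Subgroup.subset_closure (by simp)
  have hvY : v ∈ Y := Subgroup.subset_closure (by simp)
  have hcY : c ∈ Y := Subgroup.subset_closure (by simp)
  have hc2Y : c2 ∈ Y := Subgroup.subset_closure (by simp)
  set W := Subgroup.closure ({z, v} : Set G)
  have hzW : z ∈ W := Subgroup.subset_closure (Or.inl rfl)
  have hvW : v ∈ W := Subgroup.subset_closure (Or.inr rfl)
  set b := g * v * g⁻¹
  have hgM := N.ov.F_le X.g_mem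
  have hbU : b ∈ N.toMData.U := N.toMData.conj_v_U hgM
  have hbQ : b ∈ pCoreOf 2 M₁ := N.toMData.U_le hbU
  have hbS : b ∈ (S : Subgroup G) := N.toMData.Q_le_S hbQ
  have hbv : b * v * b⁻¹ = z * v := by
    have := N.toMData.comm_symm X.comm
    rw [commutatorElement_def] at this
    exact mul_inv_eq_iff_eq_mul.mp this
  have hW4 : Nat.card ↥W ≤ 4 := by
    let φ : ↥W → Bool × Bool := fun a => (decide ((a : G) = 1 ∨ (a : G) = z), decide ((a : G) = 1 ∨ (a : G) = v))
    have hφ : Function.Injective φ := by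
      rintro ⟨a, ha⟩ ⟨b', hb'⟩ e
      refine Subtype.ext ?_
      simp only [φ, Prod.mk.injEq, decide_eq_decide] at e
      have hvz := N.v_ne_z
      have k1 : z * v ≠ 1 := fun e => hvz (by
        rw [← inv_eq_of_mul_eq_one_right e, inv_eq_of_mul_eq_one_right N.z_mem.2.1])
      have k2 : z * v ≠ z := fun e => N.v_ne (mul_eq_left.mp e)
      have k3 : z * v ≠ v := fun e => N.z_ne (mul_eq_right.mp e)
      rcases N.mem_four ha with rfl | rfl | rfl | rfl <;> rcases N.mem_four hb' with rfl | rfl | rfl | rfl <;>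
        simp [N.z_ne, N.v_ne, hvz, hvz.symm, k1, k1.symm, k2, k2.symm, k3, k3.symm, N.z_ne.symm, N.v_ne.symm] at e ⊢
    have := Nat.card_le_card_of_injective φ hφ
    rwa [Nat.card_prod, Nat.card_eq_fintype_card (α := Bool), Fintype.card_bool] at this
  have hindex : ∀ {p r : G}, p ∈ pCoreOf 2 K → r ∈ pCoreOf 2 K → p ∉ Y → r ∉ Y → p * r ∈ Y := by
    intro p r hp hr hpY hrY
    have inv_of : ∀ {q : G}, q ∈ pCoreOf 2 K → q ∉ Y → ∀ a ∈ Y, q * a * q⁻¹ = a⁻¹ := fun {q} hq hqY =>
      (hdich hq).resolve_left fun i => hqY (hcentY hq fun a ha => mul_inv_eq_iff_eq_mul.mp (i a ha))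
    refine hcentY (mul_mem hp hr) fun a ha => mul_inv_eq_iff_eq_mul.mp ?_
    calc p * r * a * (p * r)⁻¹ = p * (r * a * r⁻¹) * p⁻¹ := by group
      _ = (p * a * p⁻¹)⁻¹ := by rw [inv_of hr hrY a ha]; group
      _ = a := by rw [inv_of hp hpY a ha, inv_inv]
  obtain ⟨q0, hq0, hq0Y⟩ : ∃ q ∈ pCoreOf 2 K, q ∉ Y := by
    by_contra hh
    push Not at hh
    refine h.rank fun A hAc hA2 => ?_
    by_contra hA8
    push Not at hA8
    have hA2' : IsPGroup 2 ↥A := fun a => ⟨1, Subtype.ext (by simpa using hA2 a a.2)⟩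
    obtain ⟨S', hS'⟩ := hA2'.exists_le_sylow
    obtain ⟨y, hy⟩ := MulAction.exists_smul_eq G S' S
    set A' := A.map (MulAut.conj y).toMonoidHom with hA'
    have hA'S : A' ≤ (S : Subgroup G) := by
      rintro _ ⟨a, ha, rfl⟩
      rw [← hy, Sylow.coe_subgroup_smul]
      exact ⟨a, hS' ha, rfl⟩
    have hA'sq : ∀ a ∈ A', a * a = 1 := by
      rintro _ ⟨a, ha, rfl⟩
      rw [← map_mul, show a * a = 1 by rw [← pow_two]; exact hA2 a ha, map_one]
    have hA'card : 2 ^ 2 < Nat.card A' := by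
      rwa [hA', Subgroup.card_map_of_injective (MulEquiv.injective _)]
    have hD : ∀ a ∈ A' ⊓ pCoreOf 2 K, a ∈ W := fun a ha => hY.omega a (hh a ha.2) (hA'sq a ha.1)
    have hvA : v ∈ A' := by
      have hle : A' ⊓ pCoreOf 2 K ≤ W := hD
      have h1 : Nat.card A' ≤ 2 * Nat.card ↥(A' ⊓ pCoreOf 2 K : Subgroup G) := by
        by_cases hall : ∀ a ∈ A', a ∈ pCoreOf 2 K
        · rw [inf_eq_left.mpr hall]; omega
        push Not at hall
        obtain ⟨s, hs, hsK⟩ := hall
        refine card_le_two_mul s fun a ha => ?_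
        by_cases haK : a ∈ pCoreOf 2 K
        · exact Or.inl ⟨ha, haK⟩
        · have hScard : Nat.card ↥(S : Subgroup G) ≤ 2 * Nat.card (pCoreOf 2 K) :=
            card_le_two_mul b⁻¹ fun r hr => N.core_cover hbS hbv hr
          exact Or.inr ⟨mul_mem ha hs, mul_mem_of_double N.core_le_S hScard (hA'S ha) (hA'S hs) haK hsK⟩
      have heq : A' ⊓ pCoreOf 2 K = W := Subgroup.eq_of_le_of_card_ge hle (by
        have := Subgroup.card_le_of_le hle
        have hd : Nat.card ↥(A' ⊓ pCoreOf 2 K : Subgroup G) ∣ Nat.card ↥W := Subgroup.card_dvd_of_le hle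
        by_contra hlt
        push Not at hlt
        have := Nat.le_of_dvd (by omega : 0 < Nat.card ↥(A' ⊓ pCoreOf 2 K : Subgroup G)) (dvd_refl _)
        rcases hd with ⟨k, hk⟩
        have : 2 ≤ k := by
          rcases Nat.lt_or_ge k 2 with i | i
          · exfalso; interval_cases k <;> omega
          · exact i
        have := Nat.mul_le_mul_left (Nat.card ↥(A' ⊓ pCoreOf 2 K : Subgroup G)) this
        omega)
      exact (heq.ge hvW).1
    have hA'K : ∀ a ∈ A', a ∈ W := fun a ha => hD a ⟨ha, (N.mem_core_iff (hA'S ha)).mpr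
      (comm_of_exp_two hA'sq a ha v hvA)⟩
    have := Subgroup.card_le_of_le (show A' ≤ W from hA'K)
    omega
  have hinv : ∀ {q : G}, q ∈ pCoreOf 2 K → q ∉ Y → ∀ a ∈ Y, q * a * q⁻¹ = a⁻¹ := fun {q} hq hqY =>
    (hdich hq).resolve_left fun i => hqY (hcentY hq fun a ha => mul_inv_eq_iff_eq_mul.mp (i a ha))
  have hK32 : Nat.card (pCoreOf 2 K) = 32 := by
    have l1 := two_mul_card_le_of_lt (lt_of_le_of_ne hY.le fun e => hq0Y (e.ge hq0))
    have l2 : Nat.card (pCoreOf 2 K) ≤ 2 * Nat.card Y := card_le_two_mul q0 fun a ha => by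
      by_cases haY : a ∈ Y
      · exact Or.inl haY
      · exact Or.inr (hindex ha hq0 haY hq0Y)
    rw [hY.card] at l1 l2
    omega
  have hQ32 : Nat.card (pCoreOf 2 M₁) = 32 := by
    have l1 := two_mul_card_le_of_lt (lt_of_le_of_ne N.core_le_S fun e => by
      have h1 := N.core_v b (e.ge hbS)
      have h2 := hbv
      rw [h1, mul_inv_cancel_right] at h2
      exact N.z_ne (right_eq_mul.mp h2))
    have l2 : Nat.card ↥(S : Subgroup G) ≤ 2 * Nat.card (pCoreOf 2 K) :=
      card_le_two_mul b⁻¹ fun s hs => N.core_cover hbS hbv hs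
    have m1 := two_mul_card_le_of_lt (lt_of_le_of_ne N.toMData.Q_le_S fun e =>
      hc2Q (e.ge (N.core_le_S hc2K)))
    have m2 : Nat.card ↥(S : Subgroup G) ≤ 2 * Nat.card (pCoreOf 2 M₁) := card_le_two_mul c2 fun s hs => by
      by_cases hsQ : s ∈ pCoreOf 2 M₁
      · exact Or.inl hsQ
      · exact Or.inr (N.toMData.mul_mem_Q X.three hs (N.core_le_S hc2K) hsQ hc2Q)
    omega
  -- the fixed point `e` of `x` in `O₂(K) ∖ Y`
  obtain ⟨e, heK, heY, hxe⟩ : ∃ e ∈ pCoreOf 2 K, e ∉ Y ∧ x * e = e * x := by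
    set T := ((pCoreOf 2 K : Subgroup G) : Set G).toFinset.filter fun a => a ∉ Y with hT
    have hback : ∀ a, x * a * x⁻¹ ∈ Y → a ∈ Y := fun a ha => (Subgroup.mem_normalizer_iff.mp hY.x_norm a).mpr ha
    have h1 := card_modEq_fixed (p := 3) Nat.prime_three N.x_cube T (fun a ha => by
      simp only [hT, Finset.mem_filter, Set.mem_toFinset, SetLike.mem_coe] at ha ⊢
      exact ⟨conj_mem_core N.x_mem ha.1, fun i => ha.2 (hback a i)⟩)
    have hTc : T.card = 16 := by
      have h2 := Finset.card_filter_add_card_filter_not (s := ((pCoreOf 2 K : Subgroup G) : Set G).toFinset)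
        (fun a => a ∈ Y)
      have hYc : (((pCoreOf 2 K : Subgroup G) : Set G).toFinset.filter fun a => a ∈ Y).card = 16 := by
        rw [show (((pCoreOf 2 K : Subgroup G) : Set G).toFinset.filter fun a => a ∈ Y) = (Y : Set G).toFinset by
          ext a
          simp only [Finset.mem_filter, Set.mem_toFinset, SetLike.mem_coe]
          exact ⟨fun i => i.2, fun i => ⟨hY.le i, i⟩⟩, Set.toFinset_card, ← Nat.card_eq_fintype_card]
        exact hY.card
      rw [hYc, Set.toFinset_card, ← Nat.card_eq_fintype_card, show Nat.card ↥((pCoreOf 2 K : Subgroup G) : Set G)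
        = Nat.card ↥(pCoreOf 2 K) from rfl, hK32] at h2
      change (((pCoreOf 2 K : Subgroup G) : Set G).toFinset.filter fun a => ¬ a ∈ Y).card = 16
      omega
    obtain ⟨a, ha⟩ : (T.filter fun a => x * a = a * x).Nonempty := by
      rw [← Finset.card_pos]
      by_contra h0
      push Not at h0
      rw [Nat.le_zero.mp h0, hTc] at h1
      exact absurd h1 (by decide)
    simp only [hT, Finset.mem_filter, Set.mem_toFinset, SetLike.mem_coe] at ha
    exact ⟨a, ha.1.1, ha.1.2, ha.2⟩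
  have he2 : e * e = 1 := hY.fpf _ (hindex heK heK heY heY) (Commute.mul_right hxe hxe)
  have heI := hinv heK heY
  have einv : e⁻¹ = e := inv_eq_of_mul_eq_one_right he2
  -- `q e q⁻¹ ∈ e W` for `q ∈ O₂(K)`
  have hqe : ∀ {q : G}, q ∈ pCoreOf 2 K → ∃ w ∈ W, q * e * q⁻¹ = e * w := by
    intro q hq
    obtain ⟨y, hy, hqy⟩ : ∃ y ∈ Y, q * e * q⁻¹ = y * e * y⁻¹ := by
      by_cases hqY : q ∈ Y
      · exact ⟨q, hqY, rfl⟩
      · refine ⟨q * e, hindex hq heK hqY heY, ?_⟩
        rw [show q * e * e * (q * e)⁻¹ = q * (e * e) * e⁻¹ * q⁻¹ by group, he2, einv, mul_one]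
    refine ⟨(y * y)⁻¹, inv_mem (hY.sq y hy), ?_⟩
    rw [hqy]
    have h1 := heI y hy
    rw [einv] at h1
    calc y * e * y⁻¹ = e * (e * y * e) * y⁻¹ := by
          rw [show e * (e * y * e) = (e * e) * y * e by group, he2, one_mul]
      _ = e * (y * y)⁻¹ := by rw [h1]; group
  obtain ⟨q, hq, htx⟩ := N.t_x hbS hbv
  have hbe : ∃ w ∈ W, b * e * b⁻¹ = e * w := by
    set e' := b * e * b⁻¹
    have he'K : e' ∈ pCoreOf 2 K := conj_mem_core (N.S_le_K hbS) heK
    have hbY : b ∈ Subgroup.normalizer (Y : Set G) := hY.norm hbS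
    have he'Y : e' ∉ Y := fun i => heY ((Subgroup.mem_normalizer_iff.mp hbY e).mpr i)
    set y := e * e' with hy
    have hyY : y ∈ Y := hindex heK he'K heY he'Y
    have hx2Y : ∀ a ∈ Y, x * x * a * (x * x)⁻¹ ∈ Y := fun a ha =>
      (Subgroup.mem_normalizer_iff.mp (mul_mem hY.x_norm hY.x_norm) a).mp ha
    set y' := x * x * y * (x * x)⁻¹ with hy'
    have hy'Y : y' ∈ Y := hx2Y y hyY
    obtain ⟨w0, hw0, hqe'⟩ := hqe hq
    have hee : e' = e * y := by rw [hy, ← mul_assoc, he2, one_mul]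
    have hfix : q * (x * x) * e' * (q * (x * x))⁻¹ = e' := by
      rw [← htx]
      calc b * x * b⁻¹ * (b * e * b⁻¹) * (b * x * b⁻¹)⁻¹ = b * (x * e) * x⁻¹ * b⁻¹ := by group
        _ = b * e * b⁻¹ := by rw [hxe]; group
    have hkey : e * w0 * (q * y' * q⁻¹) = e * y := by
      rw [← hqe', ← hee]
      conv_rhs => rw [← hfix, hee]
      have hxxe : Commute (x * x) e := Commute.mul_left hxe hxe
      calc q * e * q⁻¹ * (q * y' * q⁻¹) = q * (e * y') * q⁻¹ := by group
        _ = q * ((x * x * e * (x * x)⁻¹) * y') * q⁻¹ := by rw [hxxe.eq]; group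
        _ = q * (x * x) * (e * y) * (q * (x * x))⁻¹ := by rw [hy']; group
    have hkey' : w0 * (q * y' * q⁻¹) = y := by
      rw [mul_assoc] at hkey; exact mul_left_cancel hkey
    have hsq : y * y = x * x * (y * y) * (x * x)⁻¹ := by
      have hyy : y' * y' = x * x * (y * y) * (x * x)⁻¹ := by rw [hy']; group
      rw [← hyy]
      have hq' : q * y' * q⁻¹ = y' ∨ q * y' * q⁻¹ = y'⁻¹ := by
        rcases hdich hq with i | i
        · exact Or.inl (i y' hy'Y)
        · exact Or.inr (i y' hy'Y)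
      have hwy : ∀ a ∈ Y, w0 * a * (w0 * a) = a * a := fun a ha => by
        have hc : Commute a w0 := (hY.comm a ha w0 ((Subgroup.closure_le Y).mpr (by
          rintro u (rfl | rfl); exacts [hzY, hvY]) hw0))
        rw [show w0 * a * (w0 * a) = w0 * (a * w0) * a by group, hc.eq,
          show w0 * (w0 * a) * a = (w0 * w0) * (a * a) by group, N.W_invol hw0, one_mul]
      rcases hq' with i | i <;> rw [i] at hkey'
      · rw [← hkey', hwy _ hy'Y]
      · rw [← hkey', hwy _ (inv_mem hy'Y), ← mul_inv_rev,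
          inv_eq_of_mul_eq_one_right (N.W_invol (hY.sq _ hy'Y))]
    refine ⟨y, hY.omega y hyY (N.W_fix (hY.sq y hyY) ?_), hee⟩
    set s := y * y
    calc x * s * x⁻¹ = x * (x * x * s * (x * x)⁻¹) * x⁻¹ := by rw [← hsq]
      _ = x ^ 3 * s * (x ^ 3)⁻¹ := by simp only [pow_succ, pow_zero, one_mul]; group
      _ = s := by rw [N.x_cube]; group
  have heQ : e ∈ pCoreOf 2 M₁ := by
    by_contra hnQ
    have hdQ := N.toMData.mul_mem_Q X.three (N.core_le_S heK) (N.core_le_S hc2K) hnQ hc2Q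
    obtain ⟨w1, hw1, hbe'⟩ := hbe
    have hbc : b * c2 * b⁻¹ = q * c3 * q⁻¹ := by
      calc b * c2 * b⁻¹ = (b * x * b⁻¹) * (b * c * b⁻¹) * (b * x * b⁻¹)⁻¹ := by simp only [c2]; group
        _ = q * c3 * q⁻¹ := by
          rw [htx, show b * c * b⁻¹ = c from mul_inv_eq_iff_eq_mul.mpr (N.toMData.Zu_comm X.c_Zu hbU).symm]
          simp only [c3, c2]; group
    have hd' : b * (e * c2) * b⁻¹ = e * w1 * (q * c3 * q⁻¹) := by
      rw [show b * (e * c2) * b⁻¹ = (b * e * b⁻¹) * (b * c2 * b⁻¹) by group, hbe', hbc]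
    have hcm := N.toMData.comm_U hdQ hbU
    have hmove : b * (e * c2) * b⁻¹ = e * c2 ∨ b * (e * c2) * b⁻¹ = e * (z * c2) := by
      rcases mem_two N.z_mem.2.1 hcm with i | i
      · left
        rw [← commutatorElement_eq_one_iff_mul_comm.mp i, mul_inv_cancel_right]
      · right
        have h' : ⁅b, e * c2⁆ = z := N.toMData.comm_symm i
        rw [commutatorElement_def, mul_inv_eq_iff_eq_mul] at h'
        rw [h', ← mul_assoc, show z * e = e * z from (N.core_z heK).symm, mul_assoc]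
    rw [hd', mul_assoc] at hmove
    obtain ⟨w2, hw2, hc32⟩ : ∃ w2 ∈ W, q * c3 * q⁻¹ = w2 * c2 := by
      rcases hmove with i | i <;> have i' := mul_left_cancel i
      · exact ⟨w1⁻¹, inv_mem hw1, eq_inv_mul_of_mul_eq i'⟩
      · exact ⟨w1⁻¹ * z, mul_mem (inv_mem hw1) hzW, (eq_inv_mul_of_mul_eq i').trans (mul_assoc _ _ _).symm⟩
    obtain ⟨w3, hw3, hc32'⟩ : ∃ w3 ∈ W, c3 = w3 * c2 := by
      rcases (core_conj N X hq).2.2 with i | i
      · exact ⟨w2, hw2, by rw [← show q * c3 * q⁻¹ = c3 from i]; exact hc32⟩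
      · rw [show q * c3 * q⁻¹ = c3⁻¹ from i] at hc32
        refine ⟨z * v * w2, mul_mem (mul_mem hzW hvW) hw2, ?_⟩
        have hi : c3 = z * v * c3⁻¹ := by rw [← h33]; group
        rw [hi, hc32]
        group
    have hc1 : c ∈ W := by
      have e1 : c * (c2 * (w3 * c2)) = 1 := by rw [← mul_assoc c, ← hc32']; exact hprod
      rw [← mul_assoc c2, N.core_cent_W hc2K hw3, mul_assoc, h22] at e1
      rw [eq_inv_of_mul_eq_one_left e1]
      exact inv_mem (mul_mem hw3 hvW)
    exact N.z_ne (X.c_sq.symm.trans (N.W_invol hc1))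
  have heU : e ∉ N.toMData.U := fun i => by
    have h1 := heI c hcY
    rw [← (N.toMData.Zu_comm X.c_Zu i), mul_inv_cancel_right] at h1
    exact N.z_ne (X.c_sq.symm.trans (mul_eq_one_iff_eq_inv.mpr h1))
  have hQgen : pCoreOf 2 M₁ = Subgroup.closure (insert e (N.toMData.U : Set G)) := by
    refine (Subgroup.eq_of_le_of_card_ge ((Subgroup.closure_le _).mpr (Set.insert_subset heQ N.toMData.U_le)) ?_).symm
    have := two_mul_card_le_of_lt (lt_of_le_of_ne (fun a ha => Subgroup.subset_closure (Or.inr ha) :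
      N.toMData.U ≤ Subgroup.closure (insert e (N.toMData.U : Set G))) fun i =>
        heU (i.ge (Subgroup.subset_closure (Or.inl rfl))))
    have := X.card
    omega
  have hzn : ∀ a ∈ M₁, ∀ n ∈ Subgroup.zpowers z, a * n * a⁻¹ ∈ Subgroup.zpowers z := by
    intro a ha n hn
    obtain ⟨i, rfl⟩ := Subgroup.mem_zpowers_iff.mp hn
    rw [← conj_zpow, N.toMData.conj_z ha]
    exact Subgroup.zpow_mem _ (Subgroup.mem_zpowers z) i
  have hXM : ∀ a ∈ insert e (N.toMData.U : Set G), a ∈ M₁ := by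
    rintro a (rfl | ha)
    exacts [core_le M₁ heQ, core_le M₁ (N.toMData.U_le ha)]
  have hsqQ := sq_mem_closure (X := insert e (N.toMData.U : Set G)) (N := Subgroup.zpowers z)
    (fun a ha => hzn a (hXM a ha)) (fun a ha n hn => by simpa using hzn a⁻¹ (M₁.inv_mem (hXM a ha)) n hn) (by
      rintro a (rfl | ha)
      · rw [he2]; exact one_mem _
      · exact N.toMData.U_sq ha) (by
      rintro p (rfl | hp) r (rfl | hr)
      · rw [commutatorElement_self]; exact one_mem _
      · exact N.toMData.comm_U heQ hr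
      · rw [← commutatorElement_inv]; exact inv_mem (N.toMData.comm_U heQ hp)
      · exact N.toMData.U_comm_mem hp hr)
  have hcen : ∀ p ∈ pCoreOf 2 M₁, (∀ r ∈ pCoreOf 2 M₁, r * p = p * r) → p ∈ Subgroup.zpowers z := by
    intro p hp hpc
    have hpU : ∀ u ∈ N.toMData.U, p * u = u * p := fun u hu => (hpc u (N.toMData.U_le hu)).symm
    have hpe : Commute e p := hpc e heQ
    have hpK : p ∈ pCoreOf 2 K := (N.mem_core_iff (N.toMData.Q_le_S hp)).mpr (hpU v N.toMData.v_U)
    have hpY : p ∈ Y := by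
      by_contra i
      have h1 := hinv hpK i c hcY
      rw [hpU c X.c_U, mul_inv_cancel_right] at h1
      exact N.z_ne (X.c_sq.symm.trans (mul_eq_one_iff_eq_inv.mpr h1))
    have h1 := heI p hpY
    rw [hpe.eq, mul_inv_cancel_right] at h1
    have hW' := hY.omega p hpY (mul_eq_one_iff_eq_inv.mpr h1)
    rcases N.mem_four hW' with i | i | i | i <;> rw [i]
    · exact one_mem _
    · exact Subgroup.mem_zpowers z
    · exfalso
      have h2 := hpU b hbU
      rw [i] at h2
      exact N.z_ne (X.comm.symm.trans (commutatorElement_eq_one_iff_mul_comm.mpr h2))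
    · exfalso
      have h2 : Commute (z * v) b := by
        have h0 := hpU b hbU
        rw [i] at h0
        exact h0
      have hzb : Commute z b := (N.toMData.comm_z (core_le M₁ hbQ)).symm
      have h3 := hzb.inv_left.mul_left h2
      rw [inv_mul_cancel_left] at h3
      exact N.z_ne (X.comm.symm.trans (commutatorElement_eq_one_iff_mul_comm.mpr h3.eq))
  refine ⟨Y, e, hQ32, fun p hp => hsqQ p (hQgen ▸ hp), hcen, X.three, hK32, X.card, X.c_U, X.c_sq,
    fun a ha => (N.toMData.Zu_comm X.c_Zu ha).symm, fun f hf => X.F_c hf, fun f hf hf1 hcomm => ?_,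
    rfl, hY.card, hY.comm, hY.le, hY.norm, hY.x_norm, hY.fpf, heQ, heK, heY, heI, hxe, he2⟩
  -- commuting conjugates of `v` would differ by a central element
  set v' := f * v * f⁻¹
  have hv'U : v' ∈ N.toMData.U := N.toMData.conj_v_U (N.ov.F_le hf)
  have hu : v * v' ∈ N.toMData.U := mul_mem N.toMData.v_U hv'U
  have hvu : Commute v (v * v') := (Commute.refl v).mul_right (show Commute v v' from hcomm.symm)
  have hns := X.no_shift f hf hf1
  obtain ⟨k, hk, hm⟩ := X.cases _ hu
  have hvk : Commute v k := by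
    have h1 : Commute v (v * v' * k) := (N.toMData.Zu_comm hm N.toMData.v_U).symm
    have := hvu.inv_right.mul_right h1
    rwa [inv_mul_cancel_left] at this
  rcases hk with hk | hk | hk | hk <;> rw [hk] at hm hvk
  · rw [mul_one] at hm; exact hns hm
  · refine N.toMData.v_not_Zu X.not_comm ?_
    have hc' : Commute v v' := hcomm.symm
    rw [hc'.eq, mul_assoc, N.v_sq, mul_one] at hm
    have := N.toMData.Zu_conj (M₁.inv_mem (N.ov.F_le hf)) hm
    rwa [show f⁻¹ * v' * f⁻¹⁻¹ = v by simp only [v']; group] at this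
  · exact N.z_ne (X.comm.symm.trans (commutatorElement_eq_one_iff_mul_comm.mpr hvk.eq))
  · have := (Commute.refl v).inv_right.mul_right hvk
    rw [inv_mul_cancel_left] at this
    exact N.z_ne (X.comm.symm.trans (commutatorElement_eq_one_iff_mul_comm.mpr this.eq))

end NData

end CfsgLib.SRFour
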