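import Mathlib
import Cfsg.Agent.Lib.SRFour.NEightBig
import Cfsg.Agent.Lib.SRFour.NNonabWreath
import Cfsg.Agent.Lib.SRFour.ExtraFive
import Cfsg.Agent.Lib.SRFour.ExtraFpf

/-!
The natural movers are impossible.

Blueprint: `blueprint/S0517.md`, §3.
-/

set_option autoImplicit false
set_option linter.unusedSectionVars false
set_option linter.style.haveILetI false

namespace CfsgLib.SRFour

open Cfsg

universe u

variable {G : Type u} [Group G] [Finite G] {S : Sylow 2 G} {K M₁ F : Subgroup G} {z v x : G}

/-- The configuration with natural movers leaves only `WreathData`. -/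
theorem nType_of_wreath (h : Hard G) (N : NData (S : Subgroup G) K M₁ F z v x)
    (hW : ∀ (Y : Subgroup G) (c d : G), WreathData N Y c d → False) : False := by
  by_cases hab : ∀ a ∈ N.toMData.U, ∀ b ∈ N.toMData.U, a * b = b * a
  · exact extraFpf h N (N.fpfData_of_abelian h hab)
  · rcases N.toMData.nonab_cases h.sect hab with ⟨hQ, hsq, hcen, hF⟩ | ⟨g, c, X⟩
    · exact extraFive h N hQ hsq hcen hF
    · obtain ⟨Y, d, D⟩ := NData.wreathData N h X
      exact hW Y c d D

end CfsgLib.SRFour
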