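import Mathlib
import Cfsg.Agent.Lib.SRFour.Movers
import Cfsg.Agent.Lib.SRFour.NTypeEnd

/-!
The core theorem of S0517, assembled from its three configurations.

Blueprint: `blueprint/S0517.md`, §2.
-/

set_option autoImplicit false
set_option linter.unusedSectionVars false

namespace CfsgLib.SRFour

open Cfsg

universe u

variable {G : Type u} [Group G] [Finite G]

/-- No group is `Hard`, given the uniqueness case, the irreducible movers and the wreathed case. -/
theorem hard_false_of_cases (h : Hard G)
    (hU : ∀ (S : Sylow 2 G) (M : Subgroup G), IsTwoLocal M →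
      (∀ L, IsTwoLocal L → (S : Subgroup G) ≤ L → L ≤ M) →
      ¬ centZ (S : Subgroup G) ≤ Subgroup.normalizer ((S : Subgroup G) : Set G) → False)
    (hI : ∀ (S : Sylow 2 G) (K F H V : Subgroup G), IData (S : Subgroup G) K F H V → False)
    (hW : ∀ {S : Sylow 2 G} {K M₁ F : Subgroup G} {z v x : G} (N : NData (S : Subgroup G) K M₁ F z v x)
      (Y : Subgroup G) (c d : G), WreathData N Y c d → False) : False := by
  rcases h.movers with ⟨S, M, hM, hLM, hns⟩ | ⟨S, K, M₁, F, z, v, x, N⟩ | ⟨S, K, F, H, V, D⟩
  · exact hU S M hM hLM hns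
  · exact nType_of_wreath h N (hW N)
  · exact hI S K F H V D

end CfsgLib.SRFour
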