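import Mathlib
import Cfsg.Agent.Lib.SRFour.ExtraCentral
import Cfsg.Agent.Lib.SRFour.ExtraData
import Cfsg.Agent.S0111

/-!
The configuration with nonabelian `U` and a wreathed core does not occur.

Blueprint: `blueprint/S0517.md`, addendum "Parcel Extra", E3.
-/

set_option autoImplicit false
set_option linter.unusedSectionVars false
set_option linter.style.haveILetI false

namespace CfsgLib.SRFour

open Cfsg
open scoped commutatorElement

universe u

variable {G : Type u} [Group G] [Finite G]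

namespace Wreath

open Five

/-- Products of two elements outside a subgroup of index two lie inside it. -/
theorem mul_mem_of_half {A B : Subgroup G} (hAB : A ≤ B) (h2 : 2 * Nat.card A = Nat.card B) {a b : G} (ha : a ∈ B)
    (hb : b ∈ B) (haA : a ∉ A) (hbA : b ∉ A) : a * b ∈ A := by
  have hr : (A.subgroupOf B).index = 2 := by
    have h1 := Subgroup.card_mul_index (A.subgroupOf B)
    rw [Nat.card_congr (Subgroup.subgroupOfEquivOfLe hAB).toEquiv, ← h2, mul_comm 2] at h1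
    exact Nat.eq_of_mul_eq_mul_left Nat.card_pos h1
  exact (Subgroup.mul_mem_iff_of_index_two (H := A.subgroupOf B) hr (a := (⟨a, ha⟩ : ↥B))
    (b := (⟨b, hb⟩ : ↥B))).mpr ⟨fun h => absurd h haA, fun h => absurd h hbA⟩

/-- Three independent commuting involutions of an extraspecial group of order 32. -/
theorem card_three {Q : Subgroup G} {z : G} (X : Ex32 Q z) {a b e : G} (ha : a ∈ Q) (hb : b ∈ Q) (he : e ∈ Q)
    (ha2 : a * a = 1) (hb2 : b * b = 1) (he2 : e * e = 1) (hab : a * b = b * a) (hae : a * e = e * a)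
    (hbe : b * e = e * b) (ha1 : a ≠ 1) (hb1 : b ≠ 1) (hne : a ≠ b) (hW : ¬ InW a b e) :
    Subgroup.closure ({a, b, e} : Set G) ≤ Q ∧ Nat.card (Subgroup.closure ({a, b, e} : Set G)) = 8 ∧
      ∀ g ∈ Subgroup.closure ({a, b, e} : Set G), g * g = 1 := by
  classical
  haveI := Fintype.ofFinite G
  set E := Subgroup.closure ({a, b, e} : Set G) with hE
  have hle : E ≤ Q := (Subgroup.closure_le _).mpr (by
    rintro g (rfl | rfl | rfl) <;> assumption)
  have hc := comm_closure (X := ({a, b, e} : Set G)) (by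
    rintro g (rfl | rfl | rfl) k (rfl | rfl | rfl) <;>
      first | rfl | assumption | exact hab.symm | exact hae.symm | exact hbe.symm)
  have hsq : ∀ g ∈ E, g * g = 1 := fun g hg => by
    induction hg using Subgroup.closure_induction with
    | mem k hk => rcases hk with rfl | rfl | rfl <;> assumption
    | one => exact one_mul 1
    | mul p q hp hq ihp ihq =>
      rw [(show Commute p q from hc p hp q hq).symm.mul_mul_mul_comm, ihp, ihq, one_mul]
    | inv p _ ihp => rw [← mul_inv_rev, ihp, inv_one]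
  refine ⟨hle, le_antisymm (X.card_comm_le hle hc) ?_, hsq⟩
  set W4 : Finset G := {1, a, b, a * b}
  have hab1 : a * b ≠ 1 := fun h => hne (mul_left_cancel (h.trans ha2.symm)).symm
  have c4 : W4.card = 4 := by
    simp [W4, Ne.symm ha1, Ne.symm hb1, Ne.symm hab1, hne, ha1, hb1]
  have haE : a ∈ E := Subgroup.subset_closure (Or.inl rfl)
  have hbE : b ∈ E := Subgroup.subset_closure (Or.inr (Or.inl rfl))
  have heE : e ∈ E := Subgroup.subset_closure (Or.inr (Or.inr rfl))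
  have hWcl : ∀ p ∈ W4, ∀ q ∈ W4, p * q ∈ W4 := by
    intro p hp q hq
    simp only [W4, Finset.mem_insert, Finset.mem_singleton] at hp hq ⊢
    have h3 : b * a = a * b := hab.symm
    have h4 : a * (a * b) = b := by rw [← mul_assoc, ha2, one_mul]
    have h5 : b * (a * b) = a := by rw [← mul_assoc, h3, mul_assoc, hb2, mul_one]
    have h6 : a * b * a = b := by rw [mul_assoc, h3, h4]
    have h7 : a * b * b = a := by rw [mul_assoc, hb2, mul_one]
    have h8 : a * b * (a * b) = 1 := by rw [mul_assoc, h5, ha2]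
    rcases hp with rfl | rfl | rfl | rfl <;> rcases hq with rfl | rfl | rfl | rfl <;>
      simp only [one_mul, mul_one, ha2, hb2, h3, h4, h5, h6, h7, h8, true_or, or_true]
  have hdis : Disjoint W4 (W4.image (· * e)) := by
    rw [Finset.disjoint_left]
    intro p hp hp'
    obtain ⟨q, hq, rfl⟩ := Finset.mem_image.mp hp'
    have hq2 : q * q = 1 := by
      simp only [W4, Finset.mem_insert, Finset.mem_singleton] at hq
      rcases hq with rfl | rfl | rfl | rfl
      exacts [one_mul 1, ha2, hb2, by rw [(show Commute a b from hab).symm.mul_mul_mul_comm, ha2, hb2, one_mul]]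
    have := hWcl q hq _ hp
    rw [← mul_assoc, hq2, one_mul] at this
    exact hW (by simpa [W4, InW] using this)
  have hsub : W4 ∪ W4.image (· * e) ⊆ (E : Set G).toFinset := by
    intro p hp
    rw [Set.mem_toFinset, SetLike.mem_coe]
    have hW4 : ∀ q ∈ W4, q ∈ E := fun q hq => by
      simp only [W4, Finset.mem_insert, Finset.mem_singleton] at hq
      rcases hq with rfl | rfl | rfl | rfl
      exacts [one_mem _, haE, hbE, mul_mem haE hbE]
    rcases Finset.mem_union.mp hp with hp | hp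
    · exact hW4 p hp
    · obtain ⟨q, hq, rfl⟩ := Finset.mem_image.mp hp
      exact mul_mem (hW4 q hq) heE
  have h8 := Finset.card_le_card hsub
  rw [Finset.card_union_of_disjoint hdis, Finset.card_image_of_injective _ (fun p q h => mul_right_cancel h), c4,
    Set.toFinset_card, ← Nat.card_eq_fintype_card] at h8
  exact h8

variable {S : Sylow 2 G} {K M₁ F : Subgroup G} {z v x : G} {Y : Subgroup G} {c d : G}
variable (N : NData (S : Subgroup G) K M₁ F z v x) (D : WreathData N Y c d)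
include N D

theorem ex : Ex32 (pCoreOf 2 M₁) z := N.ex32 D.card_Q D.sq D.cen

theorem Y_mem : z ∈ Y ∧ v ∈ Y ∧ c ∈ Y ∧ x * c * x⁻¹ ∈ Y := by
  refine ⟨?_, ?_, ?_, ?_⟩ <;> rw [D.Y_eq] <;> refine Subgroup.subset_closure ?_ <;> simp

/-- `S` is not `Q₁`. -/
theorem exists_out : ∃ s ∈ (S : Subgroup G), s ∉ pCoreOf 2 M₁ := by
  by_contra hh
  push Not at hh
  obtain ⟨t, ht, htv⟩ := N.toMData.exists_t
  have e : pCoreOf 2 K = pCoreOf 2 M₁ := Subgroup.eq_of_le_of_card_ge (fun q hq => hh q (N.core_le_S hq))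
    (by rw [D.card_Q, D.card_core])
  rw [N.core_v t (e.symm ▸ ht), mul_inv_cancel_right] at htv
  exact N.z_ne (mul_eq_right.mp htv.symm)

/-- `O₂(K) = Y ∪ Y d`. -/
theorem core_cases {q : G} (hq : q ∈ pCoreOf 2 K) : q ∈ Y ∨ q * d ∈ Y := by
  by_cases h : q ∈ Y
  · exact Or.inl h
  · exact Or.inr (mul_mem_of_half D.Y_le (by rw [D.card_Y, D.card_core]) hq D.d_core h D.d_notMem)

theorem Y_sq {y : G} (hy : y ∈ Y) : y * y ∈ Subgroup.closure ({z, v} : Set G) := by
  have hz : z ∈ Subgroup.closure ({z, v} : Set G) := Subgroup.subset_closure (Or.inl rfl)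
  have hv : v ∈ Subgroup.closure ({z, v} : Set G) := Subgroup.subset_closure (Or.inr rfl)
  rw [D.Y_eq] at hy
  induction hy using Subgroup.closure_induction with
  | mem k hk =>
    rcases hk with rfl | rfl | rfl | rfl
    · rw [N.z_mem.2.1]; exact one_mem _
    · rw [N.v_sq]; exact one_mem _
    · rw [D.c_sq]; exact hz
    · rw [show x * c * x⁻¹ * (x * c * x⁻¹) = x * (c * c) * x⁻¹ by group, D.c_sq, N.xz]; exact hv
  | one => simp
  | mul p q hp hq ihp ihq =>
    rw [← D.Y_eq] at hp hq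
    rw [(show Commute p q from D.Y_comm p hp q hq).symm.mul_mul_mul_comm]
    exact mul_mem ihp ihq
  | inv p _ ihp => rw [← mul_inv_rev]; exact inv_mem ihp

/-- The elementary subgroup `⟨z, v, d⟩`. -/
theorem exists_E : ∃ E : Subgroup G, E ≤ pCoreOf 2 M₁ ∧ Nat.card E = 8 ∧ (∀ a ∈ E, a * a = 1) ∧ z ∈ E ∧ v ∈ E ∧
    (S : Subgroup G) ≤ Subgroup.normalizer (E : Set G) ∧ x ∈ Subgroup.normalizer (E : Set G) := by
  have X := ex N D
  obtain ⟨hzY, hvY, -, -⟩ := Y_mem N D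
  have hdz : d * z = z * d := X.z_comm d D.d_Q
  have hdv : d * v = v * d := mul_inv_eq_iff_eq_mul.mp (by rw [D.d_inv v hvY, inv_eq_of_mul_eq_one_right N.v_sq])
  have hdW : ¬ InW z v d := fun e => D.d_notMem (by
    rcases e with e | e | e | e <;> rw [e]
    exacts [one_mem _, hzY, hvY, mul_mem hzY hvY])
  obtain ⟨hEQ, hE8, hEsq⟩ := card_three X X.z_mem (vQ N) D.d_Q X.z_sq N.v_sq D.d_sq N.toMData.zv hdz.symm hdv.symm
    N.z_ne N.v_ne N.v_ne_z.symm hdW
  set E := Subgroup.closure ({z, v, d} : Set G)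
  have hzE : z ∈ E := Subgroup.subset_closure (Or.inl rfl)
  have hvE : v ∈ E := Subgroup.subset_closure (Or.inr (Or.inl rfl))
  have hdE : d ∈ E := Subgroup.subset_closure (Or.inr (Or.inr rfl))
  have hWE : Subgroup.closure ({z, v} : Set G) ≤ E := (Subgroup.closure_le _).mpr (by
    rintro a (rfl | rfl) <;> assumption)
  have hK : ∀ q ∈ pCoreOf 2 K, q ∈ Subgroup.normalizer (E : Set G) := by
    have hY : ∀ y ∈ Y, y ∈ Subgroup.normalizer (E : Set G) := fun y hy => by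
      refine mem_normalizer_closure fun a ha => ?_
      rcases ha with rfl | rfl | rfl
      · rw [D.Y_comm y hy a hzY, mul_inv_cancel_right]; exact hzE
      · rw [D.Y_comm y hy a hvY, mul_inv_cancel_right]; exact hvE
      · rw [show y * a * y⁻¹ = y * (a * y⁻¹ * a⁻¹) * a by group, D.d_inv _ (inv_mem hy), inv_inv]
        exact mul_mem (hWE (Y_sq N D hy)) hdE
    intro q hq
    rcases core_cases N D hq with h | h
    · exact hY q h
    · rw [show q = q * d * d⁻¹ by group]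
      exact mul_mem (hY _ h) (inv_mem (Subgroup.le_normalizer hdE))
  refine ⟨E, hEQ, hE8, hEsq, hzE, hvE, fun s hs => ?_, mem_normalizer_closure fun a ha => ?_⟩
  · obtain ⟨t, ht, htv⟩ := N.toMData.exists_t
    have htN := X.norm hEQ hzE ht
    rcases N.core_cover (N.toMData.Q_le_S ht) htv hs with h | h
    · exact hK s h
    · rw [show s = s * t⁻¹ * t by group]
      exact mul_mem (hK _ h) htN
  · rcases ha with rfl | rfl | rfl
    · rw [N.xz]; exact hvE
    · rw [N.xv]; exact mul_mem hzE hvE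
    · rw [D.d_x, mul_inv_cancel_right]; exact hdE

/-- The elements of `Y` sorted by their class modulo `W`. -/
theorem Y_cases {y : G} (hy : y ∈ Y) : ∃ w, InW z v w ∧
    (y = w ∨ y = w * c ∨ y = w * (x * c * x⁻¹) ∨ y = w * (c * (x * c * x⁻¹))) := by
  obtain ⟨hzY, hvY, hcY, hc2Y⟩ := Y_mem N D
  set c2 := x * c * x⁻¹ with hc2
  have h2 : c2 * c2 = v := by rw [hc2, show x * c * x⁻¹ * (x * c * x⁻¹) = x * (c * c) * x⁻¹ by group, D.c_sq, N.xz]
  have hc4 : c ^ 4 = 1 := by rw [show (4 : ℕ) = 2 * 2 from rfl, pow_mul, pow_two (c ^ 2), pow_two, D.c_sq, N.z_mem.2.1]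
  have hc24 : c2 ^ 4 = 1 := by rw [show (4 : ℕ) = 2 * 2 from rfl, pow_mul, pow_two (c2 ^ 2), pow_two, h2, N.v_sq]
  obtain ⟨a, b, rfl⟩ : ∃ a b : ℕ, y = c ^ a * c2 ^ b := by
    rw [D.Y_eq] at hy
    induction hy using Subgroup.closure_induction with
    | mem k hk =>
      rcases hk with rfl | rfl | rfl | rfl
      · exact ⟨2, 0, by rw [pow_zero, mul_one, pow_two, D.c_sq]⟩
      · exact ⟨0, 2, by rw [pow_zero, one_mul, pow_two, h2]⟩
      · exact ⟨1, 0, by rw [pow_zero, mul_one, pow_one]⟩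
      · exact ⟨0, 1, by rw [pow_zero, one_mul, pow_one]⟩
    | one => exact ⟨0, 0, by simp⟩
    | mul p q _ _ ihp ihq =>
      obtain ⟨a, b, rfl⟩ := ihp
      obtain ⟨a', b', rfl⟩ := ihq
      refine ⟨a + a', b + b', ?_⟩
      rw [((show Commute c c2 from D.Y_comm c hcY c2 hc2Y).symm.pow_pow b a').mul_mul_mul_comm, ← pow_add, ← pow_add]
    | inv p _ ihp =>
      obtain ⟨a, b, rfl⟩ := ihp
      refine ⟨3 * a, 3 * b, ?_⟩
      rw [mul_inv_rev, ((show Commute c c2 from D.Y_comm c hcY c2 hc2Y).symm.pow_pow b a).inv_inv.eq,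
        inv_eq_of_mul_eq_one_right (show c ^ a * c ^ (3 * a) = 1 by
          rw [← pow_add, show a + 3 * a = 4 * a by ring, pow_mul, hc4, one_pow]),
        inv_eq_of_mul_eq_one_right (show c2 ^ b * c2 ^ (3 * b) = 1 by
          rw [← pow_add, show b + 3 * b = 4 * b by ring, pow_mul, hc24, one_pow])]
  rw [pow_eq_pow_mod a hc4, pow_eq_pow_mod b hc24]
  have ha := Nat.mod_lt a (show 4 > 0 by norm_num)
  have hb := Nat.mod_lt b (show 4 > 0 by norm_num)
  have e2 : c ^ 2 = z := by rw [pow_two, D.c_sq]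
  have e3 : c ^ 3 = z * c := by rw [pow_succ, e2]
  have f2 : c2 ^ 2 = v := by rw [pow_two, h2]
  have f3 : c2 ^ 3 = v * c2 := by rw [pow_succ, f2]
  have hcv : c * v = v * c := D.Y_comm c hcY v hvY
  generalize a % 4 = a at ha
  generalize b % 4 = b at hb
  interval_cases a <;> interval_cases b <;>
    simp only [pow_zero, pow_one, e2, e3, f2, f3, one_mul, mul_one]
  · exact ⟨1, Or.inl rfl, Or.inl rfl⟩
  · exact ⟨1, Or.inl rfl, Or.inr (Or.inr (Or.inl (one_mul _).symm))⟩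
  · exact ⟨v, Or.inr (Or.inr (Or.inl rfl)), Or.inl rfl⟩
  · exact ⟨v, Or.inr (Or.inr (Or.inl rfl)), Or.inr (Or.inr (Or.inl rfl))⟩
  · exact ⟨1, Or.inl rfl, Or.inr (Or.inl (one_mul _).symm)⟩
  · exact ⟨1, Or.inl rfl, Or.inr (Or.inr (Or.inr (one_mul _).symm))⟩
  · exact ⟨v, Or.inr (Or.inr (Or.inl rfl)), Or.inr (Or.inl hcv)⟩
  · exact ⟨v, Or.inr (Or.inr (Or.inl rfl)), Or.inr (Or.inr (Or.inr (by rw [← mul_assoc, hcv, mul_assoc])))⟩
  · exact ⟨z, Or.inr (Or.inl rfl), Or.inl rfl⟩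
  · exact ⟨z, Or.inr (Or.inl rfl), Or.inr (Or.inr (Or.inl rfl))⟩
  · exact ⟨z * v, Or.inr (Or.inr (Or.inr rfl)), Or.inl rfl⟩
  · exact ⟨z * v, Or.inr (Or.inr (Or.inr rfl)), Or.inr (Or.inr (Or.inl (mul_assoc _ _ _).symm))⟩
  · exact ⟨z, Or.inr (Or.inl rfl), Or.inr (Or.inl rfl)⟩
  · exact ⟨z, Or.inr (Or.inl rfl), Or.inr (Or.inr (Or.inr (mul_assoc _ _ _)))⟩
  · exact ⟨z * v, Or.inr (Or.inr (Or.inr rfl)), Or.inr (Or.inl (by rw [mul_assoc, hcv, ← mul_assoc]))⟩
  · exact ⟨z * v, Or.inr (Or.inr (Or.inr rfl)), Or.inr (Or.inr (Or.inr (by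
      rw [mul_assoc z c, ← mul_assoc c v, hcv]; group)))⟩

theorem W_invol {w : G} (hw : InW z v w) : w * w = 1 := by
  rcases hw with rfl | rfl | rfl | rfl
  · exact one_mul 1
  · exact N.z_mem.2.1
  · exact N.v_sq
  · rw [(show Commute z v from N.toMData.zv).symm.mul_mul_mul_comm, N.z_mem.2.1, N.v_sq, one_mul]

/-- Transfer: `d` is conjugate to `z`. -/
theorem exists_conj (h : Hard G) : ∃ g : G, d = g * z * g⁻¹ := by
  haveI := h.simple
  have X := ex N D
  obtain ⟨f, hf, hf1, -⟩ := N.toMData.exists_odd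
  obtain ⟨hzY, hvY, hcY, hc2Y⟩ := Y_mem N D
  set c2 := x * c * x⁻¹ with hc2
  set r := f * v * f⁻¹ with hr
  have hrU : r ∈ N.toMData.U := N.toMData.conj_v_U (N.ov.F_le hf)
  have hrQ := N.toMData.U_le hrU
  have hrS := N.toMData.Q_le_S hrQ
  have hr2 : r * r = 1 := by
    rw [hr, show f * v * f⁻¹ * (f * v * f⁻¹) = f * (v * v) * f⁻¹ by group, N.v_sq]; group
  have hrinv : r⁻¹ = r := inv_eq_of_mul_eq_one_right hr2
  have hrv : r * v * r⁻¹ = z * v :=
    (N.sv r hrS).resolve_left fun e => D.conj_v f hf hf1 (mul_inv_eq_iff_eq_mul.mp e)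
  have hrz : r * z * r⁻¹ = z := by rw [X.z_comm r hrQ, mul_inv_cancel_right]
  have hrc : r * c * r⁻¹ = c := by rw [D.c_U_comm r hrU, mul_inv_cancel_right]
  have hrK : r ∉ pCoreOf 2 K := fun e => D.conj_v f hf hf1 (N.core_v r e)
  have hrY : ∀ y ∈ Y, r * y * r⁻¹ ∈ Y := fun y hy =>
    (Subgroup.mem_normalizer_iff.mp (D.Y_norm hrS) y).mp hy
  let S1 : Subgroup G :=
    { carrier := {a | a ∈ Y ∨ a * r ∈ Y}
      one_mem' := Or.inl Y.one_mem
      mul_mem' := fun {a b} ha hb => by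
        rcases ha with ha | ha <;> rcases hb with hb | hb
        · exact Or.inl (Y.mul_mem ha hb)
        · exact Or.inr (by rw [mul_assoc]; exact Y.mul_mem ha hb)
        · refine Or.inr ?_
          have := Y.mul_mem ha (hrY b hb)
          rwa [show a * r * (r * b * r⁻¹) = a * (r * r) * b * r⁻¹ by group, hr2, mul_one, hrinv] at this
        · refine Or.inl ?_
          have := Y.mul_mem ha (hrY _ hb)
          rwa [show a * r * (r * (b * r) * r⁻¹) = a * (r * r) * b by group, hr2, mul_one] at this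
      inv_mem' := fun {a} ha => by
        rcases ha with ha | ha
        · exact Or.inl (Y.inv_mem ha)
        · refine Or.inr ?_
          have := hrY _ (Y.inv_mem ha)
          rwa [show r * (a * r)⁻¹ * r⁻¹ = r * r⁻¹ * a⁻¹ * r⁻¹ by group, mul_inv_cancel, one_mul, hrinv] at this }
  have hmem : ∀ {a : G}, a ∈ S1 ↔ a ∈ Y ∨ a * r ∈ Y := Iff.rfl
  have hYS : Y ≤ (S : Subgroup G) := D.Y_le.trans N.core_le_S
  have hS1 : S1 ≤ (S : Subgroup G) := fun a ha => by
    rcases hmem.mp ha with ha | ha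
    · exact hYS ha
    · simpa using mul_mem (hYS ha) (inv_mem hrS)
  have hdS : d ∈ (S : Subgroup G) := N.core_le_S D.d_core
  have hd1 : d ∉ S1 := fun e => by
    rcases hmem.mp e with e | e
    · exact D.d_notMem e
    · exact hrK (by simpa using mul_mem (inv_mem D.d_core) (D.Y_le e))
  have hrel : S1.relIndex (S : Subgroup G) = 2 := by
    refine Subgroup.index_eq_two_iff.mpr ⟨⟨d, hdS⟩, fun ⟨s, hs⟩ => ?_⟩
    show Xor (s * d ∈ S1) (s ∈ S1)
    by_cases hs1 : s ∈ S1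
    · exact Or.inr ⟨hs1, fun e => hd1 (by simpa using mul_mem (inv_mem hs1) e)⟩
    refine Or.inl ⟨?_, hs1⟩
    rcases N.core_cover hrS hrv hs with e | e
    · rcases core_cases N D e with e' | e'
      · exact absurd (hmem.mpr (Or.inl e')) hs1
      · exact hmem.mpr (Or.inl e')
    · rw [hrinv] at e
      rcases core_cases N D e with e' | e'
      · exact absurd (hmem.mpr (Or.inr e')) hs1
      · refine hmem.mpr (Or.inr ?_)
        rcases X.move D.d_Q hrQ with e3 | e3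
        · rwa [mul_assoc, e3, ← mul_assoc]
        · rw [mul_assoc, e3, show s * (z * (r * d)) = (s * z) * r * d by group,
            N.z_mem.2.2 s hs, show z * s * r * d = z * (s * r * d) by group]
          exact Y.mul_mem hzY e'
  have hodd : orderOf d = 2 := orderOf_eq_prime (hp := ⟨Nat.prime_two⟩) (by rw [pow_two, D.d_sq])
    (fun e => D.d_notMem (e ▸ Y.one_mem))
  rcases Cfsg.Agent.S0111.result S S1 hS1 hrel d hodd hdS hd1 with ⟨M, hMn, hM2, -⟩ | ⟨g, hg⟩
  · exfalso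
    rcases hMn.eq_bot_or_eq_top with e | e
    · rw [e, Subgroup.index_bot] at hM2
      have := Subgroup.card_le_card_group (pCoreOf 2 M₁)
      rw [X.card, hM2] at this
      omega
    · rw [e, Subgroup.index_top] at hM2
      omega
  -- every involution of `S1` is conjugate to `z`
  suffices hall : ∀ a ∈ S1, a * a = 1 → a ≠ 1 → ∃ k : G, a = k * z * k⁻¹ by
    obtain ⟨k, hk⟩ := hall _ hg (by rw [show g * d * g⁻¹ * (g * d * g⁻¹) = g * (d * d) * g⁻¹ by group, D.d_sq]; group)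
      (fun e => D.d_notMem (conj_eq_one_iff.mp e ▸ Y.one_mem))
    refine ⟨g⁻¹ * k, ?_⟩
    calc d = g⁻¹ * (g * d * g⁻¹) * g := by group
      _ = g⁻¹ * k * z * (g⁻¹ * k)⁻¹ := by rw [hk]; group
  have h2 : c2 * c2 = v := by rw [hc2, show x * c * x⁻¹ * (x * c * x⁻¹) = x * (c * c) * x⁻¹ by group, D.c_sq, N.xz]
  set τ := MulAut.conj r with hτ
  have τa : ∀ a, τ a = r * a * r⁻¹ := fun a => MulAut.conj_apply r a
  have τz : τ z = z := by rw [τa, hrz]
  have τv : τ v = z * v := by rw [τa, hrv]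
  have τc : τ c = c := by rw [τa, hrc]
  have ττ : ∀ a, τ (τ a) = a := fun a => by
    rw [τa, τa, show r * (r * a * r⁻¹) * r⁻¹ = (r * r) * a * (r * r)⁻¹ by group, hr2]; group
  have hτY : ∀ y ∈ Y, τ y ∈ Y := fun y hy => (τa y).symm ▸ hrY y hy
  have hcomm : ∀ {p q}, p ∈ Y → q ∈ Y → Commute p q := fun hp hq => D.Y_comm _ hp _ hq
  set s := c2 * τ c2 with hs
  have hsY : s ∈ Y := mul_mem hc2Y (hτY _ hc2Y)
  have hs2 : s * s = z := by
    rw [hs, (hcomm hc2Y (hτY _ hc2Y)).symm.mul_mul_mul_comm, h2, ← map_mul, h2, τv, ← mul_assoc,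
      ← N.toMData.zv, mul_assoc, N.v_sq, mul_one]
  have hτs : τ s = s := by rw [hs, map_mul, ττ, (hcomm hc2Y (hτY _ hc2Y)).eq]
  have hWY : ∀ {w}, InW z v w → w ∈ Y := fun hw => by
    rcases hw with rfl | rfl | rfl | rfl
    exacts [one_mem _, hzY, hvY, mul_mem hzY hvY]
  have hvz : v ≠ z := N.v_ne_z
  have hzv1 : z * v ≠ 1 := fun e => v_nz N ((eq_inv_of_mul_eq_one_right e) ▸ inv_mem (Subgroup.mem_zpowers z))
  have hsq : ∀ {w b}, InW z v w → b ∈ Y → w * b * (w * b) = b * b := fun hw hb => by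
    rw [(hcomm (hWY hw) hb).symm.mul_mul_mul_comm, W_invol N D hw, one_mul]
  have hsc : s = c ∨ s = z * c := by
    obtain ⟨w, hw, e⟩ := Y_cases N D hsY
    rcases e with e | e | e | e
    · rw [e, W_invol N D hw] at hs2; exact absurd hs2.symm N.z_ne
    · rw [e, map_mul, τc] at hτs
      have hτw := mul_right_cancel hτs
      rcases hw with rfl | rfl | rfl | rfl
      · exact Or.inl (e.trans (one_mul c))
      · exact Or.inr e
      · rw [τv] at hτw; exact absurd (mul_eq_right.mp hτw) N.z_ne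
      · rw [map_mul, τz, τv] at hτw; exact absurd (mul_eq_right.mp (mul_left_cancel hτw)) N.z_ne
    · rw [e, hsq hw hc2Y, h2] at hs2; exact absurd hs2 hvz
    · rw [e, hsq hw (mul_mem hcY hc2Y), (hcomm hcY hc2Y).symm.mul_mul_mul_comm, D.c_sq, h2] at hs2
      exact absurd (mul_eq_left.mp hs2) N.v_ne
  have hτc2 : τ c2 = c2⁻¹ * s := by rw [hs]; group
  intro a ha ha2 ha1
  rcases hmem.mp ha with hy | hy
  · obtain ⟨w, hw, e⟩ := Y_cases N D hy
    rcases e with e | e | e | e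
    · rcases hw with rfl | rfl | rfl | rfl
      · exact absurd e ha1
      · exact ⟨1, by rw [e]; group⟩
      · exact ⟨x, by rw [e, N.xz]⟩
      · exact ⟨x * x, by rw [e, ← N.xv, ← N.xz]; group⟩
    · rw [e, hsq hw hcY, D.c_sq] at ha2; exact absurd ha2 N.z_ne
    · rw [e, hsq hw hc2Y, h2] at ha2; exact absurd ha2 N.v_ne
    · rw [e, hsq hw (mul_mem hcY hc2Y), (hcomm hcY hc2Y).symm.mul_mul_mul_comm, D.c_sq, h2] at ha2
      exact absurd ha2 hzv1
  obtain ⟨y, hyY, hay⟩ : ∃ y ∈ Y, a = y * r := ⟨a * r, hy, by rw [mul_assoc, hr2, mul_one]⟩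
  rw [hay, show y * r * (y * r) = y * (r * y * r⁻¹) * (r * r) by group, hr2, mul_one, ← τa] at ha2
  rw [hay]
  have hs1 : s ≠ 1 := fun e => N.z_ne (by rw [← hs2, e, one_mul])
  have hsz : z * s ≠ 1 := fun e => N.z_ne (by
    rw [← hs2, eq_inv_of_mul_eq_one_right e, ← mul_inv_rev, N.z_mem.2.1, inv_one])
  have hr1 : y = 1 ∨ y = z ∨ y = v * c ∨ y = z * v * c := by
    obtain ⟨w, hw, e⟩ := Y_cases N D hyY
    have hb : ∀ {b}, b ∈ Y → w * b * τ (w * b) = (w * τ w) * (b * τ b) := fun hb => by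
      rw [map_mul]; exact (hcomm hb (hτY _ (hWY hw))).mul_mul_mul_comm _ _
    have hwτ : w * τ w = 1 ∧ (w = 1 ∨ w = z) ∨ w * τ w = z ∧ (w = v ∨ w = z * v) := by
      rcases hw with rfl | rfl | rfl | rfl
      · exact Or.inl ⟨by rw [map_one, one_mul], Or.inl rfl⟩
      · exact Or.inl ⟨by rw [τz, N.z_mem.2.1], Or.inr rfl⟩
      · exact Or.inr ⟨by rw [τv, ← mul_assoc, ← N.toMData.zv, mul_assoc, N.v_sq, mul_one], Or.inl rfl⟩
      · refine Or.inr ⟨?_, Or.inr rfl⟩
        rw [map_mul, τz, τv, ← mul_assoc z z, N.z_mem.2.1, one_mul, mul_assoc, N.v_sq, mul_one]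
    rcases e with e | e | e | e <;> rw [e] at ha2
    · rcases hwτ with ⟨-, h' | h'⟩ | ⟨e1, -⟩
      · exact Or.inl (e.trans h')
      · exact Or.inr (Or.inl (e.trans h'))
      · exact absurd (e1.symm.trans ha2) N.z_ne
    · rw [hb hcY, τc, D.c_sq] at ha2
      rcases hwτ with ⟨e1, -⟩ | ⟨-, h' | h'⟩
      · rw [e1, one_mul] at ha2; exact absurd ha2 N.z_ne
      · exact Or.inr (Or.inr (Or.inl (by rw [e, h'])))
      · exact Or.inr (Or.inr (Or.inr (by rw [e, h'])))
    · rw [hb hc2Y, ← hs] at ha2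
      rcases hwτ with ⟨e1, -⟩ | ⟨e1, -⟩ <;> rw [e1] at ha2
      · exact absurd (by simpa using ha2) hs1
      · exact absurd ha2 hsz
    · rw [hb (mul_mem hcY hc2Y), map_mul, (hcomm hc2Y (hτY c hcY)).mul_mul_mul_comm, τc, D.c_sq, ← hs] at ha2
      rcases hwτ with ⟨e1, -⟩ | ⟨e1, -⟩ <;> rw [e1] at ha2
      · exact absurd (by simpa using ha2) hsz
      · rw [← mul_assoc, N.z_mem.2.1, one_mul] at ha2; exact absurd ha2 hs1
  have k1 : c2 * r * c2⁻¹ = v * s⁻¹ * r := by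
    calc c2 * r * c2⁻¹ = c2 * (τ c2)⁻¹ * r := by rw [τa]; group
      _ = c2 * (s⁻¹ * c2) * r := by rw [hτc2]; group
      _ = v * s⁻¹ * r := by rw [(hcomm (inv_mem hsY) hc2Y).eq, ← mul_assoc c2 c2, h2]
  have k2 : c2⁻¹ * r * c2 = v * s * r := by
    calc c2⁻¹ * r * c2 = c2⁻¹ * τ c2 * r := by rw [τa]; group
      _ = (c2 * c2)⁻¹ * s * r := by rw [hτc2]; group
      _ = v * s * r := by rw [h2, inv_eq_of_mul_eq_one_right N.v_sq]
  have hcinv : c⁻¹ = z * c := inv_eq_of_mul_eq_one_right (by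
    rw [← mul_assoc, X.z_comm c (N.toMData.U_le D.c_U), mul_assoc, D.c_sq, N.z_mem.2.1])
  have hzcinv : (z * c)⁻¹ = c := by rw [← hcinv, inv_inv]
  have hvc : v * (z * c) = z * v * c := by rw [← mul_assoc, ← N.toMData.zv]
  have hkk : ∀ k : G, ∃ k' : G, k * r * k⁻¹ = k' * z * k'⁻¹ := fun k =>
    ⟨k * f * x, by rw [hr, ← N.xz]; group⟩
  rcases hr1 with e | e | e | e <;> rw [e]
  · exact (by simpa using hkk 1)
  · obtain ⟨k', hk'⟩ := hkk v
    refine ⟨k', hk' ▸ ?_⟩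
    calc z * r = (v * (z * v)) * r := by rw [N.toMData.zv, ← mul_assoc v v, N.v_sq, one_mul]
      _ = v * (r * v * r⁻¹) * r := by rw [hrv]
      _ = v * r * v⁻¹ := by rw [inv_eq_of_mul_eq_one_right N.v_sq]; group
  · rcases hsc with e' | e'
    · obtain ⟨k', hk'⟩ := hkk c2⁻¹
      exact ⟨k', by rw [← hk', inv_inv, k2, e']⟩
    · obtain ⟨k', hk'⟩ := hkk c2
      exact ⟨k', by rw [← hk', k1, e', hzcinv]⟩
  · rcases hsc with e' | e'
    · obtain ⟨k', hk'⟩ := hkk c2
      exact ⟨k', by rw [← hk', k1, e', hcinv, hvc]⟩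
    · obtain ⟨k', hk'⟩ := hkk c2⁻¹
      exact ⟨k', by rw [← hk', inv_inv, k2, e', hvc]⟩

/-- `O₂(C(z)) = Q₁` and the conjugate of `W` lying in it. -/
theorem core_eq (h : Hard G) {g : G} (hg : d = g * z * g⁻¹) :
    pCoreOf 2 (Subgroup.centralizer ({z} : Set G)) = pCoreOf 2 M₁ ∧
      g⁻¹ * x * g ∈ Subgroup.centralizer ({z} : Set G) ∧ g⁻¹ * z * g ∈ pCoreOf 2 M₁ ∧
      g⁻¹ * v * g ∈ pCoreOf 2 M₁ ∧ g⁻¹ * z * g * (g⁻¹ * v * g) = g⁻¹ * v * g * (g⁻¹ * z * g) ∧
      ¬ InW (g⁻¹ * z * g) (g⁻¹ * v * g) z := by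
  classical
  have X := ex N D
  obtain ⟨hzY, hvY, -, -⟩ := Y_mem N D
  set L := Subgroup.centralizer ({z} : Set G) with hLdef
  have hL := Fpf.good_cent N h
  have hmemL : ∀ {a}, a * d = d * a → g⁻¹ * a * g ∈ L := fun {a} e => by
    refine Subgroup.mem_centralizer_singleton_iff.mpr ?_
    calc g⁻¹ * a * g * z = g⁻¹ * (a * (g * z * g⁻¹)) * g := by group
      _ = g⁻¹ * (d * a) * g := by rw [← hg, e]
      _ = g⁻¹ * ((g * z * g⁻¹) * a) * g := by rw [← hg]
      _ = z * (g⁻¹ * a * g) := by group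
  set z' := g⁻¹ * z * g with hz'
  set v' := g⁻¹ * v * g with hv'
  set x' := g⁻¹ * x * g with hx'
  have hzL : z' ∈ L := hmemL (X.z_comm d D.d_Q).symm
  have hvL : v' ∈ L := hmemL (mul_inv_eq_iff_eq_mul.mp (by rw [D.d_inv v hvY, inv_eq_of_mul_eq_one_right N.v_sq])).symm
  have hxL : x' ∈ L := hmemL D.d_x
  have hxo : Odd (orderOf x') := by
    have e : x' = MulAut.conj g⁻¹ x := by simp [hx']
    rw [e, MulEquiv.orderOf_eq]
    exact N.x_odd
  have hzv' : z' * v' = v' * z' := by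
    rw [hz', hv', show g⁻¹ * z * g * (g⁻¹ * v * g) = g⁻¹ * (z * v) * g by group,
      show g⁻¹ * v * g * (g⁻¹ * z * g) = g⁻¹ * (v * z) * g by group, N.toMData.zv]
  have hzz : z' * z' = 1 := by
    rw [hz', show g⁻¹ * z * g * (g⁻¹ * z * g) = g⁻¹ * (z * z) * g by group, X.z_sq]; group
  have hvv : v' * v' = 1 := by
    rw [hv', show g⁻¹ * v * g * (g⁻¹ * v * g) = g⁻¹ * (v * v) * g by group, N.v_sq]; group
  have hzW : ¬ InW z' v' z := fun e => D.d_notMem (by
    have hY : ∀ {a}, a ∈ Y → g⁻¹ * a * g = z → d ∈ Y := fun {a} ha e => by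
      rw [hg, ← e, show g * (g⁻¹ * a * g) * g⁻¹ = a by group]; exact ha
    rcases e with e | e | e | e
    · exact absurd e N.z_ne
    · exact hY hzY e.symm
    · exact hY hvY e.symm
    · exact hY (mul_mem hzY hvY) ((show g⁻¹ * (z * v) * g = z' * v' by rw [hz', hv']; group).trans e.symm))
  have hxz : x' * z' * x'⁻¹ = v' := by
    rw [hx', hz', hv', show g⁻¹ * x * g * (g⁻¹ * z * g) * (g⁻¹ * x * g)⁻¹ = g⁻¹ * (x * z * x⁻¹) * g by group, N.xz]
  have hxv : x' * v' * x'⁻¹ = z' * v' := by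
    rw [hx', hz', hv', show g⁻¹ * x * g * (g⁻¹ * v * g) * (g⁻¹ * x * g)⁻¹ = g⁻¹ * (x * v * x⁻¹) * g by group, N.xv]
    group
  set W' := Subgroup.closure ({z', v'} : Set G) with hW'
  have hz'W : z' ∈ W' := Subgroup.subset_closure (Or.inl rfl)
  have hv'W : v' ∈ W' := Subgroup.subset_closure (Or.inr rfl)
  have hWc := comm_closure (X := ({z', v'} : Set G)) (by
    rintro a (rfl | rfl) b (rfl | rfl)
    exacts [rfl, hzv', hzv'.symm, rfl])
  have hW2 : IsPGroup 2 ↥W' := by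
    rintro ⟨a, ha⟩
    refine ⟨1, Subtype.ext ?_⟩
    show a ^ 2 ^ 1 = 1
    rw [pow_one, pow_two]
    induction ha using Subgroup.closure_induction with
    | mem k hk => rcases hk with rfl | rfl <;> assumption
    | one => exact one_mul 1
    | mul p q hp hq ihp ihq =>
      rw [(show Commute p q from hWc p hp q hq).symm.mul_mul_mul_comm, ihp, ihq, one_mul]
    | inv p _ ihp => rw [← mul_inv_rev, ihp, inv_one]
  have hW'L : W' ≤ L := (Subgroup.closure_le _).mpr (by rintro a (rfl | rfl) <;> assumption)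
  have hz'i : z'⁻¹ = z' := inv_eq_of_mul_eq_one_right hzz
  have hv'i : v'⁻¹ = v' := inv_eq_of_mul_eq_one_right hvv
  have hz'O : z' ∈ pCoreOf 2 L := by
    have := hL.commutator_mem h.sect hW2 hW'L hv'W hxL hxo (by rw [hv'i, hxv]; exact mul_mem hz'W hv'W)
    rwa [commutatorElement_def, show v' * x' * v'⁻¹ * x'⁻¹ = v' * (x' * v'⁻¹ * x'⁻¹) by group, hv'i, hxv,
      ← mul_assoc, ← hzv', mul_assoc, hvv, mul_one] at this
  have hv'O : v' ∈ pCoreOf 2 L := by
    have := hL.commutator_mem h.sect hW2 hW'L hz'W hxL hxo (by rw [hz'i, hxz]; exact hv'W)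
    rw [commutatorElement_def, show z' * x' * z'⁻¹ * x'⁻¹ = z' * (x' * z'⁻¹ * x'⁻¹) by group, hz'i, hxz] at this
    simpa [← mul_assoc, hzz] using mul_mem hz'O this
  have hzO : z ∈ pCoreOf 2 L := by
    refine le_core (P := Subgroup.zpowers z)
      (IsPGroup.of_card (n := 1) (by rw [card_zpowers_two X.z_sq X.z_ne, pow_one]))
      (Subgroup.zpowers_le.mpr (Fpf.S_le_L N N.z_mem.1))
      (fun m hm => Subgroup.mem_normalizer_fintype fun a ha => ?_) (Subgroup.mem_zpowers z)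
    rcases mem_two X.z_sq ha with rfl | rfl
    · simp
    · rw [Subgroup.mem_centralizer_singleton_iff.mp hm, mul_inv_cancel_right]; exact Subgroup.mem_zpowers _
  have hOQ : pCoreOf 2 L ≤ pCoreOf 2 M₁ :=
    le_core (core_two L) ((core_le_sylow S (Fpf.S_le_L N)).trans N.toMData.S_le)
      ((Fpf.M_le_L N).trans (le_normalizer_core L))
  refine ⟨?_, hxL, hOQ hz'O, hOQ hv'O, hzv', hzW⟩
  obtain ⟨f, hf, hf1, hfo⟩ := N.toMData.exists_odd
  have hfM := N.ov.F_le hf
  have hmv : ∀ k ∈ F, k ≠ 1 → v * (k * v * k⁻¹) * (v * (k * v * k⁻¹)) = z := by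
    intro k hk hk1
    set r := k * v * k⁻¹ with hr
    have hr2 : r * r = 1 := by
      rw [hr, show k * v * k⁻¹ * (k * v * k⁻¹) = k * (v * v) * k⁻¹ by group, N.v_sq]; group
    have hrv : r * v * r⁻¹ = z * v :=
      (N.sv r (N.toMData.Q_le_S (N.toMData.conj_mem_Q (N.ov.F_le hk) (vQ N)))).resolve_left
        fun e => D.conj_v k hk hk1 (mul_inv_eq_iff_eq_mul.mp e)
    calc v * r * (v * r) = v * (r * v * r⁻¹) * (r * r) := by group
      _ = z := by rw [hrv, hr2, mul_one, N.toMData.zv, ← mul_assoc, N.v_sq, one_mul]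
  set a := ⁅v, f⁆ with ha
  set b := f * a * f⁻¹ with hb
  have hvi : v⁻¹ = v := inv_eq_of_mul_eq_one_right N.v_sq
  have haO : a ∈ pCoreOf 2 L :=
    hL.commutator_mem h.sect (core_two M₁) ((core_le M₁).trans (Fpf.M_le_L N)) (vQ N) (Fpf.M_le_L N hfM) hfo
      (N.toMData.conj_mem_Q hfM (inv_mem (vQ N)))
  have hbO : b ∈ pCoreOf 2 L := conj_mem_core (Fpf.M_le_L N hfM) haO
  have ea : a = v * (f * v * f⁻¹) := by
    rw [ha, commutatorElement_def, show v * f * v⁻¹ * f⁻¹ = v * (f * v⁻¹ * f⁻¹) by group, hvi]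
  have eab : a * b = v * (f * f * v * (f * f)⁻¹) := by
    rw [hb, ea, show v * (f * v * f⁻¹) * (f * (v * (f * v * f⁻¹)) * f⁻¹) =
      v * (f * (v * v) * f * v * (f * f)⁻¹) by group, N.v_sq, mul_one]
  have ha2 : a * a = z := by rw [ea]; exact hmv f hf hf1
  have hb2 : b * b = z := by
    rw [hb, show f * a * f⁻¹ * (f * a * f⁻¹) = f * (a * a) * f⁻¹ by group, ha2, N.toMData.conj_z hfM]
  have hab2 : a * b * (a * b) = z := by
    rw [eab]; exact hmv _ (F.mul_mem hf hf) fun e => hf1 (odd_ne N hf e)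
  obtain ⟨-, hE8, hEsq⟩ := card_three X (hOQ hz'O) (hOQ hv'O) X.z_mem hzz hvv X.z_sq hzv'
    (X.z_comm _ (hOQ hz'O)) (X.z_comm _ (hOQ hv'O)) (fun e => N.z_ne (by
      rw [show z = g * (g⁻¹ * z * g) * g⁻¹ by group, ← hz', e]; group)) (fun e => N.v_ne (by
      rw [show v = g * (g⁻¹ * v * g) * g⁻¹ by group, ← hv', e]; group)) (fun e => N.v_ne_z (by
      rw [show v = g * (g⁻¹ * v * g) * g⁻¹ by group, ← hv', ← e, hz']; group)) hzW
  set E' := Subgroup.closure ({z', v', z} : Set G) with hE'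
  have hE'O : E' ≤ pCoreOf 2 L := (Subgroup.closure_le _).mpr (by rintro k (rfl | rfl | rfl) <;> assumption)
  set p : Fin 4 → G := ![1, a, b, a * b] with hp
  have hpO : ∀ k, p k ∈ pCoreOf 2 L := fun k => by
    fin_cases k
    exacts [one_mem _, haO, hbO, mul_mem haO hbO]
  have hsep : ∀ i j, i ≠ j → (p i)⁻¹ * p j ∉ E' := by
    have hinv : ∀ {q : G}, q * q = z → q⁻¹ * q⁻¹ = z := fun {q} e => by
      rw [← mul_inv_rev, e, inv_eq_of_mul_eq_one_right X.z_sq]
    have h12 : a⁻¹ * b * (a⁻¹ * b) = z := by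
      have e : a⁻¹ = z * a := inv_eq_of_mul_eq_one_right (by
        rw [← mul_assoc, X.z_comm a (hOQ haO), mul_assoc, ha2, X.z_sq])
      rw [e, show z * a * b * (z * a * b) = z * ((a * b) * z) * (a * b) by group,
        X.z_comm _ (hOQ (mul_mem haO hbO)), ← mul_assoc z z, X.z_sq, one_mul, hab2]
    have h23 : b⁻¹ * (a * b) * (b⁻¹ * (a * b)) = z := by
      rw [show b⁻¹ * (a * b) * (b⁻¹ * (a * b)) = b⁻¹ * (a * a) * b by group, ha2, mul_assoc,
        ← X.z_comm b (hOQ hbO), inv_mul_cancel_left]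
    have hlt : ∀ i j : Fin 4, i < j → (p i)⁻¹ * p j * ((p i)⁻¹ * p j) = z := by
      intro i j hij
      fin_cases i <;> fin_cases j <;> simp [p] at hij ⊢
      · exact ha2
      · exact hb2
      · exact hab2
      · exact h12
      · exact hb2
      · exact h23
    intro i j hij hm
    refine N.z_ne ?_
    rcases lt_or_gt_of_ne hij with hl | hl
    · rw [← hlt i j hl, hEsq _ hm]
    · have := hlt j i hl
      rw [show (p j)⁻¹ * p i = ((p i)⁻¹ * p j)⁻¹ by group] at this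
      rw [← this, ← mul_inv_rev, hEsq _ hm, inv_one]
  let φ : Fin 4 × ↥E' → ↥(pCoreOf 2 L) := fun q => ⟨p q.1 * q.2, mul_mem (hpO _) (hE'O q.2.2)⟩
  have hφ : Function.Injective φ := by
    rintro ⟨i, k⟩ ⟨j, l⟩ e
    have e' : p i * (k : G) = p j * l := congrArg Subtype.val e
    have hij : i = j := by
      by_contra hij
      refine hsep i j hij ?_
      rw [show (p i)⁻¹ * p j = (k : G) * ((p i * k)⁻¹ * (p j * l)) * (l : G)⁻¹ by group, e', inv_mul_cancel, mul_one]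
      exact mul_mem k.2 (inv_mem l.2)
    subst hij
    exact Prod.ext rfl (Subtype.ext (mul_left_cancel e'))
  have hle := Nat.card_le_card_of_injective φ hφ
  rw [Nat.card_prod, Nat.card_fin, hE8] at hle
  exact Subgroup.eq_of_le_of_card_ge hOQ (by rw [X.card]; omega)

/-- An odd element of `C(z)` fixing the coset of `v` is trivial. -/
theorem eq_one_of_vfix (h : Hard G) (hO : pCoreOf 2 (Subgroup.centralizer ({z} : Set G)) = pCoreOf 2 M₁)
    {y : G} (hy : y ∈ Subgroup.centralizer ({z} : Set G)) (hyo : Odd (orderOf y))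
    (hv : y * v * y⁻¹ = v ∨ y * v * y⁻¹ = z * v) : y = 1 := by
  have X := ex N D
  have hL := Fpf.good_cent N h
  set L := Subgroup.centralizer ({z} : Set G) with hLdef
  have hyz : y * z = z * y := Subgroup.mem_centralizer_singleton_iff.mp hy
  have hzc : ∀ w ∈ Subgroup.zpowers z, y * w = w * y := fun w hw => by
    rcases X.zpow_cases hw with rfl | rfl
    · simp
    · exact hyz
  obtain ⟨s₀, hs₀, hs₀Q⟩ := exists_out N D
  obtain ⟨N0, hON, -, -, hNy, -, -, -, heven⟩ := hL.exists_oddPre h.sect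
  obtain ⟨-, hcomm, -⟩ := heven ⟨s₀, Fpf.S_le_L N hs₀, hO.symm ▸ hs₀Q, by
    obtain ⟨k, hk⟩ := S.isPGroup' ⟨s₀, hs₀⟩
    exact ⟨k, by rw [show s₀ ^ 2 ^ k = 1 from congrArg Subtype.val hk]; exact one_mem _⟩⟩
  have hvy : y * v = v * y := by
    rcases hv with e | e
    · exact mul_inv_eq_iff_eq_mul.mp e
    · have := eq_one_of_shift_odd hyo (k := 1) (c := z) (a := v) (by rw [pow_one, pow_two, X.z_sq]) hyz
        (e.trans N.toMData.zv)
      exact absurd this X.z_ne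
  have hgv : ∀ g ∈ F, Commute y (g * v * g⁻¹) := by
    intro g hg
    have hc' := hcomm y (hNy y hy hyo) g (hNy g (Fpf.M_le_L N (N.ov.F_le hg)) (N.ov.odd_order hg))
    rw [hO] at hc'
    have hgQ := N.toMData.conj_mem_Q (N.ov.F_le hg) (vQ N)
    have e1 : y * (g * v * g⁻¹) * y⁻¹ = ⁅y, g⁆ * (g * v * g⁻¹) * ⁅y, g⁆⁻¹ := by
      calc y * (g * v * g⁻¹) * y⁻¹ = (⁅y, g⁆ * g) * (y * v * y⁻¹) * (⁅y, g⁆ * g)⁻¹ := by
            simp only [commutatorElement_def]; group
        _ = ⁅y, g⁆ * (g * v * g⁻¹) * ⁅y, g⁆⁻¹ := by rw [hvy, mul_inv_cancel_right]; group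
    rcases X.move hc' hgQ with e | e
    · rw [e, mul_inv_cancel_right] at e1
      exact mul_inv_eq_iff_eq_mul.mp e1
    · rw [e, mul_assoc z, mul_inv_cancel_right, ← X.z_comm _ hgQ] at e1
      exact absurd (eq_one_of_shift_odd hyo (k := 1) (by rw [pow_one, pow_two, X.z_sq]) hyz e1) X.z_ne
  have hU : ∀ a ∈ N.toMData.U, y * a = a * y := by
    intro a ha
    induction ha using Subgroup.closure_induction with
    | mem k hk =>
      rcases hk with rfl | ⟨m, hm, rfl⟩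
      · exact hyz
      · obtain ⟨q, hq, g, hg, n, hn, -, rfl⟩ := N.ov.decomp m hm
        have hgQ : g * v * g⁻¹ ∈ pCoreOf 2 M₁ := N.toMData.conj_mem_Q (N.ov.F_le hg) (vQ N)
        have e2 : ∃ w ∈ Subgroup.zpowers z, q * g * n * v * (q * g * n)⁻¹ = w * (g * v * g⁻¹) := by
          obtain ⟨w1, hw1, ew1⟩ : ∃ w1 ∈ Subgroup.zpowers z, q * (g * v * g⁻¹) * q⁻¹ = w1 * (g * v * g⁻¹) := by
            refine ⟨⁅q, g * v * g⁻¹⁆, X.comm_mem hq hgQ, ?_⟩
            simp only [commutatorElement_def]; group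
          rcases N.sv n hn with e | e
          · exact ⟨w1, hw1, by
              rw [show q * g * n * v * (q * g * n)⁻¹ = q * (g * (n * v * n⁻¹) * g⁻¹) * q⁻¹ by group, e, ew1]⟩
          · refine ⟨z * w1, mul_mem (Subgroup.mem_zpowers z) hw1, ?_⟩
            rw [show q * g * n * v * (q * g * n)⁻¹ = q * (g * (n * v * n⁻¹) * g⁻¹) * q⁻¹ by group, e,
              show q * (g * (z * v) * g⁻¹) * q⁻¹ = (q * (g * z * g⁻¹) * q⁻¹) * (q * (g * v * g⁻¹) * q⁻¹) by group,
              N.toMData.conj_z (N.ov.F_le hg), X.z_comm q hq, mul_inv_cancel_right, ew1]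
            simp only [mul_assoc]
        obtain ⟨w, hw, e2⟩ := e2
        rw [e2]
        exact ((show Commute y w from hzc w hw).mul_right (hgv g hg)).eq
    | one => simp
    | mul p q _ _ ihp ihq => exact (show Commute y p from ihp).mul_right ihq
    | inv p _ ihp => exact (show Commute y p from ihp).inv_right
  have hyQ : ∀ q ∈ pCoreOf 2 M₁, y * q * y⁻¹ ∈ pCoreOf 2 M₁ := fun q hq => by
    rw [← hO] at hq ⊢; exact conj_mem_core hy hq
  refine eq_one_of_odd_mem (core_two L) hyo (hL.charTwo y hy fun q hq => ?_)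
  rw [hO] at hq
  set c' := q⁻¹ * (y * q * y⁻¹) with hc
  have hcQ : c' ∈ pCoreOf 2 M₁ := mul_mem (inv_mem hq) (hyQ q hq)
  have hcent : ∀ a ∈ N.toMData.U, c' * a = a * c' := fun a ha => by
    have haQ := N.toMData.U_le ha
    have e1 : ⁅y * q * y⁻¹, a⁆ = ⁅q, a⁆ := by
      calc ⁅y * q * y⁻¹, a⁆ = y * ⁅q, y⁻¹ * a * y⁆ * y⁻¹ := by simp only [commutatorElement_def]; group
        _ = y * ⁅q, a⁆ * y⁻¹ := by rw [show y⁻¹ * a * y = a by rw [mul_assoc, ← hU a ha, inv_mul_cancel_left]]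
        _ = ⁅q, a⁆ := by rw [hzc _ (X.comm_mem hq haQ), mul_inv_cancel_right]
    refine commutatorElement_eq_one_iff_mul_comm.mp ?_
    calc ⁅c', a⁆ = q⁻¹ * (⁅y * q * y⁻¹, a⁆ * ⁅q, a⁆⁻¹) * q := by
          simp only [hc, commutatorElement_def]; group
      _ = 1 := by rw [e1, mul_inv_cancel, mul_one, inv_mul_cancel]
  have hcU : c' ∈ N.toMData.U := by
    by_contra hne
    have hz : c ∈ Subgroup.zpowers z := X.center c (N.toMData.U_le D.c_U) fun r hr => by
      by_cases hrU : r ∈ N.toMData.U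
      · exact D.c_U_comm r hrU
      · have hm := mul_mem_of_half N.toMData.U_le (by rw [D.card_U, X.card]) hr hcQ hrU hne
        have h1 : Commute (r * c') c := D.c_U_comm _ hm
        have h2 : Commute c' c := hcent c D.c_U
        simpa using (h1.mul_left h2.inv_left).eq
    refine N.z_ne ?_
    rcases X.zpow_cases hz with e | e <;> rw [← D.c_sq, e]
    · exact one_mul 1
    · exact X.z_sq
  have hc4 : c' ^ 2 ^ 2 = 1 := by
    rw [show (2 : ℕ) ^ 2 = 2 * 2 from rfl, pow_mul, pow_two (c' ^ 2), pow_two]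
    rcases X.zpow_cases (X.sq c' hcQ) with e | e <;> rw [e]
    · exact one_mul 1
    · exact X.z_sq
  have h1 := eq_one_of_shift_odd hyo (a := q) hc4 (hU c' hcU) (by rw [hc]; group)
  exact (mul_inv_eq_iff_eq_mul.mp (inv_mul_eq_one.mp h1).symm).symm

end Wreath

/-- E3: the wreathed configuration is impossible. -/
theorem extraWreath (h : Hard G) {S : Sylow 2 G} {K M₁ F : Subgroup G} {z v x : G} {Y : Subgroup G} {c d : G}
    (N : NData (S : Subgroup G) K M₁ F z v x) (D : WreathData N Y c d) : False := by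
  classical
  haveI : Fact (Nat.Prime 3) := ⟨Nat.prime_three⟩
  have X := Wreath.ex N D
  obtain ⟨g, hg⟩ := Wreath.exists_conj N D h
  obtain ⟨hO, hxL, hzQ', hvQ', hzv', hzW⟩ := Wreath.core_eq N D h hg
  set z' := g⁻¹ * z * g with hz'
  set v' := g⁻¹ * v * g with hv'
  set x' := g⁻¹ * x * g with hx'
  obtain ⟨E, hEQ, hE8, hEsq, hzE, hvE, hSE, hxE⟩ := Wreath.exists_E N D
  set L := Subgroup.centralizer ({z} : Set G) with hLdef
  have hgood := Fpf.good_cent N h
  obtain ⟨f, hf, hf1, hfo⟩ := N.toMData.exists_odd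
  have hfM := N.ov.F_le hf
  have hfL : f ∈ L := Fpf.M_le_L N hfM
  have hof : orderOf f = 3 := orderOf_eq_prime (by
    have := pow_card_eq_one' (x := (⟨f, hf⟩ : ↥F))
    rw [D.card_F] at this
    exact congrArg Subtype.val this) hf1
  obtain ⟨s₀, hs₀, hs₀Q⟩ := Wreath.exists_out N D
  obtain ⟨N0, hON, hNL, -, hNy, -, -, -, heven⟩ := hgood.exists_oddPre h.sect
  obtain ⟨h45, -, -⟩ := heven ⟨s₀, Fpf.S_le_L N hs₀, hO.symm ▸ hs₀Q, by
    obtain ⟨k, hk⟩ := S.isPGroup' ⟨s₀, hs₀⟩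
    exact ⟨k, by rw [show s₀ ^ 2 ^ k = 1 from congrArg Subtype.val hk]; exact one_mem _⟩⟩
  rw [hO] at hON h45
  have hnQ : N0 ≤ Subgroup.normalizer (pCoreOf 2 M₁ : Set G) := hO ▸ hNL.trans (le_normalizer_core L)
  have hfN : f ∈ N0 := hNy f hfL hfo
  have h3 : 3 ∣ (pCoreOf 2 M₁).relIndex N0 := hof ▸ orderOf_dvd_relIndex hnQ hfN
    (fun k hk => N.ov.core_inter (F.pow_mem hf k) hk)
  have hn3 := Fpf.oddPre_three_of N h X hO (fun y => Wreath.eq_one_of_vfix N D h hO) hEQ hE8 hEsq hzE hvE hSE hxE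
    hON hNL h45 h3
  have hcov : ∀ m ∈ N0, ∃ i : ℕ, m * (f ^ i)⁻¹ ∈ pCoreOf 2 M₁ := by
    intro m hm
    haveI : ((pCoreOf 2 M₁).subgroupOf N0).Normal := Subgroup.normal_subgroupOf_of_le_normalizer hnQ
    set ρ := QuotientGroup.mk' ((pCoreOf 2 M₁).subgroupOf N0)
    have ha1 : ρ ⟨f, hfN⟩ ≠ 1 := fun e =>
      hf1 (N.ov.core_inter hf ((QuotientGroup.eq_one_iff (⟨f, hfN⟩ : ↥N0)).mp e))
    have htop := zpowers_eq_top_of_prime_card (p := 3) ((Subgroup.index_eq_card _).symm.trans hn3) ha1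
    obtain ⟨j, hj⟩ := mem_powers_iff_mem_zpowers.mpr (htop.symm ▸ Subgroup.mem_top (ρ ⟨m, hm⟩))
    refine ⟨j, ?_⟩
    have e2 : ρ (⟨m, hm⟩ * (⟨f, hfN⟩ ^ j)⁻¹) = 1 := by
      rw [map_mul, map_inv, map_pow, ← hj]; exact mul_inv_cancel _
    exact (QuotientGroup.eq_one_iff ((⟨m, hm⟩ : ↥N0) * ((⟨f, hfN⟩ : ↥N0) ^ j)⁻¹)).mp e2
  -- the action on `Q₁` modulo `U`
  have hUn : ∀ {k}, k ∈ M₁ → ∀ u ∈ N.toMData.U, k * u * k⁻¹ ∈ N.toMData.U := fun hk u hu =>
    (Subgroup.mem_normalizer_iff.mp (N.toMData.U_norm hk) u).mp hu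
  have hstep : ∀ q ∈ pCoreOf 2 M₁, q⁻¹ * (f * q * f⁻¹) ∈ N.toMData.U := by
    intro q hq
    by_cases hqU : q ∈ N.toMData.U
    · exact mul_mem (inv_mem hqU) (hUn hfM q hqU)
    · refine Wreath.mul_mem_of_half N.toMData.U_le (by rw [D.card_U, X.card]) (inv_mem hq)
        (N.toMData.conj_mem_Q hfM hq) (fun e => hqU (by simpa using inv_mem e)) (fun e => hqU ?_)
      have := hUn (M₁.inv_mem hfM) _ e
      rwa [show f⁻¹ * (f * q * f⁻¹) * f⁻¹⁻¹ = q by group] at this
  have hpow : ∀ k : ℕ, ∀ q ∈ pCoreOf 2 M₁, q⁻¹ * (f ^ k * q * (f ^ k)⁻¹) ∈ N.toMData.U := by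
    intro k
    induction k with
    | zero => intro q _; simp
    | succ k ih =>
      intro q hq
      rw [show q⁻¹ * (f ^ (k + 1) * q * (f ^ (k + 1))⁻¹) =
        (q⁻¹ * (f * q * f⁻¹)) * (f * (q⁻¹ * (f ^ k * q * (f ^ k)⁻¹)) * f⁻¹) by rw [pow_succ']; group]
      exact mul_mem (hstep q hq) (hUn hfM _ (ih q hq))
  have hxo : Odd (orderOf x') := by
    have e : x' = MulAut.conj g⁻¹ x := by simp [hx']
    rw [e, MulEquiv.orderOf_eq]
    exact N.x_odd
  obtain ⟨k, hk⟩ := hcov x' (hNy x' hxL hxo)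
  have hxU : ∀ w ∈ pCoreOf 2 M₁, w⁻¹ * (x' * w * x'⁻¹) ∈ N.toMData.U := by
    intro w hw
    set o := x' * (f ^ k)⁻¹
    have hwk : f ^ k * w * (f ^ k)⁻¹ ∈ pCoreOf 2 M₁ := N.toMData.conj_mem_Q (M₁.pow_mem hfM k) hw
    rw [show w⁻¹ * (x' * w * x'⁻¹) = (w⁻¹ * ⁅o, f ^ k * w * (f ^ k)⁻¹⁆ * w) * (w⁻¹ * (f ^ k * w * (f ^ k)⁻¹)) by
      simp only [o, commutatorElement_def]; group]
    refine mul_mem ?_ (hpow k w hw)
    rcases X.zpow_cases (X.comm_mem hk hwk) with e | e <;> rw [e]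
    · simp
    · rw [mul_assoc, ← X.z_comm w hw, inv_mul_cancel_left]; exact N.toMData.z_U
  have hzz : z' * z' = 1 := by
    rw [hz', show g⁻¹ * z * g * (g⁻¹ * z * g) = g⁻¹ * (z * z) * g by group, X.z_sq]; group
  have hvv : v' * v' = 1 := by
    rw [hv', show g⁻¹ * v * g * (g⁻¹ * v * g) = g⁻¹ * (v * v) * g by group, N.v_sq]; group
  have hz'U : z' ∈ N.toMData.U := by
    have := hxU v' hvQ'
    rw [inv_eq_of_mul_eq_one_right hvv, show x' * v' * x'⁻¹ = z' * v' by
      rw [hx', hz', hv', show g⁻¹ * x * g * (g⁻¹ * v * g) * (g⁻¹ * x * g)⁻¹ = g⁻¹ * (x * v * x⁻¹) * g by group,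
        N.xv]; group, ← mul_assoc, ← hzv', mul_assoc, hvv, mul_one] at this
    exact this
  have hv'U : v' ∈ N.toMData.U := by
    have := hxU z' hzQ'
    rw [inv_eq_of_mul_eq_one_right hzz, show x' * z' * x'⁻¹ = v' by
      rw [hx', hz', hv', show g⁻¹ * x * g * (g⁻¹ * z * g) * (g⁻¹ * x * g)⁻¹ = g⁻¹ * (x * z * x⁻¹) * g by group,
        N.xz]] at this
    simpa [← mul_assoc, hzz] using mul_mem hz'U this
  obtain ⟨hE'Q, hE'8, hE'sq⟩ := Wreath.card_three X hzQ' hvQ' X.z_mem hzz hvv X.z_sq hzv'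
    (X.z_comm _ hzQ') (X.z_comm _ hvQ') (fun e => N.z_ne (by
      rw [show z = g * (g⁻¹ * z * g) * g⁻¹ by group, ← hz', e]; group)) (fun e => N.v_ne (by
      rw [show v = g * (g⁻¹ * v * g) * g⁻¹ by group, ← hv', e]; group)) (fun e => N.v_ne_z (by
      rw [show v = g * (g⁻¹ * v * g) * g⁻¹ by group, ← hv', ← e, hz']; group)) hzW
  set E' := Subgroup.closure ({z', v', z} : Set G) with hE'
  have hE'U : E' ≤ N.toMData.U := (Subgroup.closure_le _).mpr (by
    rintro a (rfl | rfl | rfl)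
    exacts [hz'U, hv'U, N.toMData.z_U])
  have hcE : c ∈ E' := X.cent_eight hE'Q (comm_of_exp_two hE'sq) hE'8 (N.toMData.U_le D.c_U)
    fun a ha => (D.c_U_comm a (hE'U ha)).symm
  exact N.z_ne (D.c_sq ▸ hE'sq c hcE)

end CfsgLib.SRFour
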