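import Cfsg.Agent.Lib.SRFour.FrontBasic
import Cfsg.Agent.Lib.SectL32.Basic
import Cfsg.Agent.Lib.SuzukiTwo.UnitarySixty
import Cfsg.Agent.Lib.RankTwoModel.CMax.Model
import Cfsg.Agent.Lib.SL2Hom
import Cfsg.Agent.Lib.SLCard
import Cfsg.Agent.Lib.Suzuki.Lie
import Cfsg.Agent.Lib.PSL2.Aut

/-!
The front of S0517: the fields of the models with solvable 2-locals or of sectional 2-rank at most four.

Blueprint: `blueprint/S0517.md`, section 0.
-/

set_option autoImplicit false
set_option linter.unusedSectionVars false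
set_option linter.style.haveILetI false

namespace CfsgLib.SRFour.Front

open Cfsg Subgroup Matrix
open scoped MatrixGroups

universe u v

variable {X : Type u} [Group X] [Finite X]

/-- `SL₂(q)` is solvable only for `q ≤ 3`. -/
theorem sl2_small {F : Type v} [Field F] [Fintype F] (h : Group.IsSolvable (SpecialLinearGroup (Fin 2) F)) :
    Fintype.card F ≤ 3 := by
  by_contra hlt
  haveI := h
  haveI : Nontrivial (SpecialLinearGroup (Fin 2) F) := by
    refine ⟨⟨⟨!![1, 1; 0, 1], by simp [Matrix.det_fin_two]⟩, 1, fun e => ?_⟩⟩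
    have := congrFun (congrFun (congrArg Subtype.val e) 0) 1
    simp at this
  exact (Group.IsSolvable.commutator_lt_top_of_nontrivial (SpecialLinearGroup (Fin 2) F)).ne
    (CfsgLib.SL2Hom.commutator_top (by omega))

theorem psl3_three (hL : SolvLocals X) (hns : ¬ Group.IsSolvable X) {F : Type} [Field F] [Fintype F]
    (hodd : Odd (Fintype.card F)) (e : X ≃* ProjectiveSpecialLinearGroup (Fin 3) F) : Fintype.card F = 3 := by
  haveI : Fact (Nat.Prime 2) := ⟨Nat.prime_two⟩
  obtain ⟨t, ht⟩ := exists_prime_orderOf_dvd_card' (G := X) 2 (two_dvd_of_not_solvable hns)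
  obtain ⟨Z, hZn, hZc, -, ⟨c⟩⟩ := CfsgLib.PSLThree.exists_centralizer_iso hodd (e t) (by rw [e.orderOf_eq, ht])
  haveI := hL.centralizer ht
  let f : ↥(Subgroup.centralizer ({t} : Set X)) →* ↥(Subgroup.centralizer ({e t} : Set (ProjectiveSpecialLinearGroup (Fin 3) F))) :=
    { toFun := fun w => ⟨e w, mem_centralizer_singleton_iff.mpr (by
        rw [← map_mul, mem_centralizer_singleton_iff.mp w.2, map_mul])⟩
      map_one' := Subtype.ext (map_one e)
      map_mul' := fun a b => Subtype.ext (map_mul e _ _) }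
  have hf : Function.Surjective f := fun ⟨w, hw⟩ => ⟨⟨e.symm w, mem_centralizer_singleton_iff.mpr (e.injective (by
    rw [map_mul, map_mul, e.apply_symm_apply, mem_centralizer_singleton_iff.mp hw]))⟩,
    Subtype.ext (e.apply_symm_apply w)⟩
  haveI : Group.IsSolvable (GL (Fin 2) F ⧸ Z) :=
    Group.isSolvable_of_surjective (f := c.toMonoidHom.comp f) (c.surjective.comp hf)
  haveI : Group.IsSolvable Z := Group.isSolvable_of_comm fun a b =>
    Subtype.ext ((mem_center_iff.mp (hZc b.2) a.1))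
  have hGL : Group.IsSolvable (GL (Fin 2) F) := (Group.isSolvable_iff_subgroup_quotient Z).mpr ⟨inferInstance, inferInstance⟩
  have h3 := sl2_small (F := F) (Group.isSolvable_of_isSolvable_injective (f := SpecialLinearGroup.toGL)
    SpecialLinearGroup.toGL_injective)
  have := Fintype.one_lt_card (α := F)
  rw [Nat.odd_iff] at hodd
  omega

theorem psu3_three (hL : SolvLocals X) {F : Type} [Field F] [Fintype F] {q : ℕ}
    (hF : Fintype.card F = q ^ 2) (hodd : Odd q) (e : X ≃* PSU 3 F q) : q = 3 := by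
  obtain ⟨f, hk, t, ht, hr⟩ := CfsgLib.RankTwoModel.psu_centralizer hF hodd
  haveI := hL.centralizer (t := e.symm t) (by rw [e.symm.orderOf_eq, ht])
  let f' : ↥(GU 2 F q) →* ↥(Subgroup.centralizer ({e.symm t} : Set X)) :=
    { toFun := fun g => ⟨e.symm (f g), mem_centralizer_singleton_iff.mpr (by
        rw [← map_mul, ← map_mul, mem_centralizer_singleton_iff.mp (hr.le ⟨g, rfl⟩)])⟩
      map_one' := Subtype.ext (by simp)
      map_mul' := fun a b => Subtype.ext (by simp) }
  have hker : Odd (Nat.card f'.ker) := by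
    rw [← Nat.not_even_iff_odd, even_iff_two_dvd]
    intro hd
    haveI : Fact (Nat.Prime 2) := ⟨Nat.prime_two⟩
    obtain ⟨y, hy⟩ := exists_prime_orderOf_dvd_card' (G := ↥f'.ker) 2 hd
    have h1 : f (y : ↥(GU 2 F q)) = 1 := e.symm.injective (by
      rw [map_one]; exact congrArg Subtype.val (MonoidHom.mem_ker.mp y.2))
    have h2 := hk _ h1
    rw [Subgroup.orderOf_coe, hy] at h2
    exact Nat.not_even_iff_odd.2 h2 even_two
  haveI : Group.IsSolvable f'.ker := Cfsg.Agent.S0205.result hker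
  haveI hGU : Group.IsSolvable ↥(GU 2 F q) :=
    Group.isSolvable_of_ker_le_range f'.ker.subtype f' (by rw [range_subtype])
  obtain ⟨K, _, _, hK⟩ := CfsgLib.SUCover.exists_K hF
  obtain ⟨φ, B, -, Φ, -⟩ := CfsgLib.Phan.exists_sl_model hF hK
  let ι₀ : ↥(SU 2 F q) →* ↥(GU 2 F q) :=
    (SpecialLinearGroup.toGL.comp (SU 2 F q).subtype).codRestrict (GU 2 F q) fun g => g.2
  have hι₀ : Function.Injective ι₀ := fun a b e => Subtype.ext (Subtype.ext (congrArg (fun x => x.1.1) e))
  have h3 := sl2_small (F := K) (Group.isSolvable_of_isSolvable_injective (f := ι₀.comp Φ.toMonoidHom)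
    (hι₀.comp Φ.injective))
  have := Fintype.one_lt_card (α := K)
  rw [Nat.odd_iff] at hodd
  omega

/-- An additive group of exponent two inside a group of sectional rank at most four. -/
theorem add_le (hr : SectionalPRankLE 2 4 X) {F : Type v} [Field F] [Finite F] [CharP F 2]
    {Y : Type*} [Group Y] (ψ : Y →* X) (hψ : Function.Injective ψ) (f : Y →* Multiplicative F)
    (hf : Function.Surjective f) : Nat.card F ≤ 16 := by
  rw [← Nat.card_congr Multiplicative.toAdd]
  exact CfsgLib.CentralPair.sect_bound hr ψ hψ f hf fun a => by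
    apply Multiplicative.toAdd.injective
    rw [pow_two, toAdd_mul, toAdd_one]
    exact CharTwo.add_self_eq_zero _

theorem psl2_bound (hr : SectionalPRankLE 2 4 X) (h2 : ¬ PRankLE 2 2 X) {F : Type v} [Field F] [Fintype F]
    {n : ℕ} (hn : 2 ≤ n) (hF : Fintype.card F = 2 ^ n) (e : X ≃* ProjectiveSpecialLinearGroup (Fin 2) F) :
    Fintype.card F = 8 ∨ Fintype.card F = 16 := by
  haveI : Fact (Nat.Prime 2) := ⟨Nat.prime_two⟩
  haveI : CharP F 2 := charP_of_card_eq_prime_pow (by rw [hF])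
  have h16 := add_le hr (e.symm.toMonoidHom.comp (CfsgLib.PSL2.uHom (F := F)))
    (e.symm.injective.comp fun a b h => Multiplicative.toAdd.injective (CfsgLib.PSL2.uu_injective h))
    (MonoidHom.id _) Function.surjective_id
  rw [Nat.card_eq_fintype_card, hF] at h16
  have hn4 : n ≤ 4 := (Nat.pow_le_pow_iff_right (by norm_num : 1 < 2)).mp (h16.trans_eq (by norm_num))
  interval_cases n
  · exfalso
    refine h2 fun A _ hA => ?_
    have hc : Nat.card X = 60 := by
      have h := CfsgLib.SLCard.gcd_mul_card_PSL (F := F) (by norm_num : 1 ≤ 2)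
      rw [CfsgLib.SLCard.card_SL_two, hF, ← Nat.card_congr e.toEquiv] at h
      norm_num at h
      exact h
    have hp : IsPGroup 2 A := fun a => ⟨1, Subtype.ext (by simpa using hA a a.2)⟩
    obtain ⟨k, hk⟩ := IsPGroup.iff_card.mp hp
    rw [hk]
    refine Nat.pow_le_pow_right two_pos ?_
    by_contra hlt
    have h8 : 2 ^ 3 ∣ 60 := hc ▸ (pow_dvd_pow 2 (show 3 ≤ k by omega)).trans (hk ▸ card_subgroup_dvd_card A)
    norm_num at h8
  · exact Or.inl hF
  · exact Or.inr hF

theorem suzuki_bound (hr : SectionalPRankLE 2 4 X) {F : Type} [Field F] [Fintype F] {m : ℕ} (hm : 1 ≤ m)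
    (hF : Fintype.card F = 2 ^ (2 * m + 1)) (e : X ≃* ↥(Lie.Sz F (2 ^ (m + 1)))) : m = 1 := by
  haveI := CfsgLib.Suzuki.charTwo hF
  let ζ : Multiplicative F →* ↥(Cfsg.Sz F m) :=
    { toFun := fun b => CfsgLib.Suzuki.uS hF 0 b.toAdd
      map_one' := CfsgLib.Suzuki.uS_zero hF
      map_mul' := fun a b => by
        rw [CfsgLib.Suzuki.uS_mul, toAdd_mul]
        simp [CfsgLib.Suzuki.th_zero] }
  have h16 := add_le hr (e.symm.toMonoidHom.comp ((CfsgLib.Suzuki.lieEquiv hF hm).toMonoidHom.comp ζ))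
    (e.symm.injective.comp ((CfsgLib.Suzuki.lieEquiv hF hm).injective.comp fun a b h =>
      Multiplicative.toAdd.injective (CfsgLib.Suzuki.uS_inj hF h).2))
    (MonoidHom.id _) Function.surjective_id
  rw [Nat.card_eq_fintype_card, hF] at h16
  have := (Nat.pow_le_pow_iff_right (by norm_num : 1 < 2)).mp (h16.trans_eq (show 16 = 2 ^ 4 by norm_num))
  omega

open CfsgLib.PSUBorel in
theorem psu_bound (hr : SectionalPRankLE 2 4 X) {F : Type} [Field F] [Fintype F] {n : ℕ} (hn : 2 ≤ n)
    (hF : Fintype.card F = (2 ^ n) ^ 2) (e : X ≃* PSU 3 F (2 ^ n)) : n = 2 := by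
  classical
  haveI : Fact (Nat.Prime 2) := ⟨Nat.prime_two⟩
  haveI : CharP F 2 := charP_of_card_eq_prime_pow (p := 2) (f := n * 2) (by rw [hF, pow_mul])
  obtain ⟨-, σ, hσ⟩ := CfsgLib.UnitaryBasic.frob_exists hF
  let c : Conj F := ⟨2 ^ n, σ, hF, hσ⟩
  obtain ⟨E⟩ := exists_iso c (n := 3)
  let φ : SUs c 3 →* PSU 3 F (2 ^ n) := (QuotientGroup.mk' (Subgroup.center (Cfsg.SU 3 F (2 ^ n)))).comp E.toMonoidHom
  have hinj : Function.Injective (φ.comp (UU c 3).subtype) := (injective_iff_map_eq_one _).mpr fun a ha => by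
    have hz : E a ∈ Subgroup.center (Cfsg.SU 3 F (2 ^ n)) := (QuotientGroup.eq_one_iff (E a)).mp ha
    have hg : (⟨E a, hz⟩ : Subgroup.center (Cfsg.SU 3 F (2 ^ n))) ^ Nat.gcd 3 (2 ^ n + 1) = 1 := by
      rw [← Cfsg.Agent.S0280.center_card hF 3 (by norm_num)]
      exact pow_card_eq_one'
    have h1 : a ^ Nat.gcd 3 (2 ^ n + 1) = 1 := by
      apply Subtype.ext
      apply E.injective
      rw [SubgroupClass.coe_pow, map_pow, OneMemClass.coe_one, map_one]
      exact congrArg Subtype.val hg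
    obtain ⟨j, hj⟩ := isPGroup_UU c 2 a
    have hco : Nat.Coprime (Nat.gcd 3 (2 ^ n + 1)) (2 ^ j) :=
      Nat.Coprime.coprime_dvd_left (Nat.gcd_dvd_left _ _) (Nat.Coprime.pow_right _ (by norm_num))
    exact orderOf_eq_one_iff.mp (Nat.eq_one_of_dvd_coprimes hco (orderOf_dvd_of_pow_eq_one h1)
      (orderOf_dvd_of_pow_eq_one hj))
  let f : ↥(UU c 3) →* Multiplicative F :=
    MonoidHom.mk' (fun A => Multiplicative.ofAdd (A.1.1.1 0 1)) fun A B => by
      rw [← ofAdd_add]
      refine congrArg Multiplicative.ofAdd ?_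
      show (A.1.1.1 * B.1.1.1) 0 1 = _
      rw [Matrix.mul_apply, Fin.sum_univ_three, UU_diag c A.2, UU_diag c B.2,
        UU_below c B.2 (show (1 : Fin 3) < 2 by decide)]
      ring
  have hf : Function.Surjective f := by
    intro a
    obtain ⟨e0, he⟩ := c.exists_trace_one
    obtain ⟨b, hb⟩ : ∃ b : F, b + c.σ b + a.toAdd * c.σ a.toAdd = 0 := by
      refine ⟨e0 * (a.toAdd * c.σ a.toAdd), ?_⟩
      rw [map_mul, map_mul, c.invol]
      linear_combination (a.toAdd * c.σ a.toAdd) * he + CharTwo.add_self_eq_zero (a.toAdd * c.σ a.toAdd)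
    refine ⟨⟨r3 c a.toAdd b hb, ⟨fun i j hij => ?_, fun i j hij => ?_⟩⟩, ?_⟩
    · show m3 c.σ a.toAdd b i j = 0
      fin_cases i <;> fin_cases j <;> first | rfl | (exfalso; simp at hij)
    · show m3 c.σ a.toAdd b i j = (1 : Matrix (Fin 3) (Fin 3) F) i j
      fin_cases i <;> fin_cases j <;> first | rfl | (exfalso; simp at hij)
    · rfl
  have h16 := add_le hr (e.symm.toMonoidHom.comp (φ.comp (UU c 3).subtype)) (e.symm.injective.comp hinj) f hf
  rw [Nat.card_eq_fintype_card, hF, ← pow_mul] at h16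
  have := (Nat.pow_le_pow_iff_right (by norm_num : 1 < 2)).mp (h16.trans_eq (show 16 = 2 ^ 4 by norm_num))
  omega

end CfsgLib.SRFour.Front
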