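import Cfsg.Agent.Lib.SRFour.FrontOut
import Cfsg.Agent.Lib.SRFour.FrontModels
import Cfsg.Agent.Lib.Bender.GoodAll
import Cfsg.Agent.Lib.Components
import Cfsg.Agent.Lib.ChzTwoNil.RankTwo
import Cfsg.Agent.S0482
import Cfsg.Agent.S1296

/-!
The front of S0517: the statement, given that no group is `Hard`.

Blueprint: `blueprint/S0517.md`, section 0.
-/

set_option autoImplicit false
set_option linter.unusedSectionVars false
set_option linter.style.haveILetI false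

namespace CfsgLib.SRFour

open Cfsg Subgroup

universe u

/-- The conclusion of S0517, for the simple group itself. -/
def InList (X : Type u) [Group X] : Prop :=
  (∃ (F : Type) (_ : Field F) (_ : Fintype F),
      (Odd (Fintype.card F) ∨ Fintype.card F = 8 ∨ Fintype.card F = 16) ∧
        Nonempty (X ≃* Matrix.ProjectiveSpecialLinearGroup (Fin 2) F)) ∨
    (∃ (F : Type) (_ : Field F) (_ : Fintype F), Fintype.card F = 3 ∧
        Nonempty (X ≃* Matrix.ProjectiveSpecialLinearGroup (Fin 3) F)) ∨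
    (∃ (F : Type) (_ : Field F) (_ : Fintype F) (q : ℕ), Fintype.card F = q ^ 2 ∧ (q = 3 ∨ q = 4) ∧
        Nonempty (X ≃* Cfsg.PSU 3 F q)) ∨
    Nonempty (X ≃* alternatingGroup (Fin 7)) ∨
    (IsSimpleGroup X ∧ (Nat.card X = 29120 ∨ Nat.card X = 7920))

namespace Front

theorem psu_case {X : Type u} [Group X] [Finite X] [IsSimpleGroup X] (hX : ¬ IsMulCommutative X)
    {F : Type} [Field F] [Fintype F] {q : ℕ} (hF : Fintype.card F = q ^ 2) (hq : q = 3 ∨ q = 4)
    (e : X ≃* Cfsg.PSU 3 F q) : InList X ∧ OutAb X := by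
  refine ⟨Or.inr (Or.inr (Or.inl ⟨F, inferInstance, inferInstance, q, hF, hq, ⟨e⟩⟩)), ?_⟩
  rcases hq with rfl | rfl
  · haveI : Fact (Nat.Prime 3) := ⟨Nat.prime_three⟩
    exact outAb_psu3 hX (p := 3) (f := 1) le_rfl (by norm_num) hF (by norm_num) (by decide) e
  · haveI : Fact (Nat.Prime 2) := ⟨Nat.prime_two⟩
    exact outAb_psu3 hX (p := 2) (f := 2) (by norm_num) (by norm_num) hF (by norm_num) (by decide) e

/-- The list for the simple group. -/
theorem simple_list (hard : ∀ (H : Type u) [Group H] [Finite H], Hard H → False)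
    {X : Type u} [Group X] [Finite X] [IsSimpleGroup X] (hX : ¬ IsMulCommutative X)
    (hr : SectionalPRankLE 2 4 X) (hL : SolvLocals X) : InList X ∧ OutAb X := by
  have hns : ¬ Group.IsSolvable X := fun h => hX ⟨⟨IsSimpleGroup.comm_iff_isSolvable.mpr h⟩⟩
  by_cases h2 : PRankLE 2 2 X
  · rcases Cfsg.Agent.S0482.result hX h2 with ⟨F, iF, iT, ho, -, ⟨e⟩⟩ | ⟨F, iF, iT, ho, ⟨e⟩⟩ |
      ⟨F, iF, iT, q, hF, ho, ⟨e⟩⟩ | ⟨F, iF, iT, hF, ⟨e⟩⟩ | ⟨⟨e⟩⟩ | hM
    · exact ⟨Or.inl ⟨F, iF, iT, Or.inl ho, ⟨e⟩⟩, (outAb_psl2 F).of_equiv e⟩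
    · have h3 := psl3_three hL hns ho e
      exact ⟨Or.inr (Or.inl ⟨F, iF, iT, h3, ⟨e⟩⟩), outAb_psl3_three hX h3 e⟩
    · exact psu_case hX hF (Or.inl (psu3_three hL hF ho e)) e
    · exact psu_case hX (q := 4) (by rw [hF]; norm_num) (Or.inr rfl) e
    · exact ⟨Or.inr (Or.inr (Or.inr (Or.inl ⟨e⟩))), outAb_alt7 hX e⟩
    · exact ⟨Or.inr (Or.inr (Or.inr (Or.inr ⟨hM.1, Or.inr hM.2⟩))), outAb_m11 hM⟩
  by_cases hse : ∃ H : Subgroup X, IsStronglyEmbedded H
  · obtain ⟨H, hH⟩ := hse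
    rcases CfsgLib.Bender.isBenderGroup_of_stronglyEmbedded
        (CfsgLib.Bender.Assembly.benderHyp CfsgLib.Bender.Assembly.goodAll) CfsgLib.Bender.Assembly.suzukiHyp hH with
      ⟨F, iF, iT, ⟨n, hn, hF⟩, ⟨e⟩⟩ | hS | ⟨F, iF, iT, n, hn, hF, ⟨e⟩⟩
    · exact ⟨Or.inl ⟨F, iF, iT, Or.inr (psl2_bound hr h2 hn hF e), ⟨e⟩⟩, (outAb_psl2 F).of_equiv e⟩
    · have hS' := hS
      obtain ⟨F, iF, iT, m, hm, hF, ⟨e⟩⟩ := hS
      obtain rfl := suzuki_bound hr hm hF e
      refine ⟨Or.inr (Or.inr (Or.inr (Or.inr ⟨inferInstance, Or.inl ?_⟩))), (outAb_suzuki_eight hF).of_equiv e⟩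
      rw [Nat.card_congr e.toEquiv, (Cfsg.Agent.S1163.result hm hF).1]
      norm_num
    · obtain rfl := psu_bound hr hn hF e
      exact psu_case hX hF (Or.inr (by norm_num)) e
  push Not at hse
  exfalso
  have heven : Even (Nat.card X) := even_iff_two_dvd.mpr (two_dvd_of_not_solvable hns)
  refine hard X ⟨inferInstance, hX, h2, hr, hL, ?_, hse⟩
  have hO : oddCore X = ⊥ := (IsSimpleGroup.eq_bot_or_eq_top_of_normal (oddCore X) inferInstance).resolve_right
    fun e => hns (Cfsg.Agent.S0205.result (by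
      have := CfsgLib.odd_card_oddCore (G := X)
      rwa [e, Subgroup.card_top] at this))
  refine ((Cfsg.Agent.S1296.result heven (fun N _ => CfsgLib.ChzTwoNil.no_index_two hX N) hO).resolve_left h2).resolve_left ?_
  rintro ⟨t, ht, K, -, hq⟩
  haveI := hL.centralizer ht
  haveI : Group.IsSolvable (↥(Subgroup.centralizer ({t} : Set X)) ⧸ oddCore ↥(Subgroup.centralizer ({t} : Set X))) :=
    inferInstance
  exact CfsgLib.isQuasisimple_not_isSolvable hq inferInstance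

end Front

/-- **S0517**, given that no group is `Hard`. -/
theorem front (hard : ∀ (H : Type u) [Group H] [Finite H], Hard H → False) {G : Type u} [Group G] [Finite G]
    (hG : ¬ Group.IsSolvable G) (h4 : SectionalPRankLE 2 4 G)
    (hL : ∀ N : Subgroup G, IsTwoLocal N → Group.IsSolvable N) :
    InList (↥(commutator G) ⧸ oddCore ↥(commutator G)) := by
  have hsQ : Front.SolvLocals (G ⧸ oddCore G) := Front.SolvLocals.quot hL (oddCore G)
  have hnsQ : ¬ Group.IsSolvable (G ⧸ oddCore G) := fun h =>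
    hG ((Group.isSolvable_iff_subgroup_quotient (oddCore G)).mpr
      ⟨Cfsg.Agent.S0205.result CfsgLib.odd_card_oddCore, h⟩)
  have hrad : ∀ (N : Subgroup (G ⧸ oddCore G)) [N.Normal], Group.IsSolvable N → N = ⊥ := by
    intro N _ hs
    by_contra hN
    obtain ⟨M, hMn, hMN, hM0, hmin⟩ := CfsgLib.exists_minimal_normal hN
    obtain ⟨-, p, hp, hexp⟩ := CfsgLib.minimal_normal_elementary hM0 (by
      haveI := hs
      exact Group.isSolvable_of_isSolvable_injective (Subgroup.inclusion_injective hMN)) hmin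
    haveI := Fact.mk hp
    have hpg : IsPGroup p M := fun x => ⟨1, Subtype.ext (by simpa using hexp _ x.2)⟩
    rcases eq_or_ne p 2 with rfl | hp2
    · haveI := hsQ _ ⟨M, hpg, hM0, rfl⟩
      refine hnsQ (Group.isSolvable_of_surjective (f := (normalizer (M : Set (G ⧸ oddCore G))).subtype) fun g =>
        ⟨⟨g, by rw [normalizer_eq_top_iff.mpr hMn]; exact mem_top g⟩, rfl⟩)
    · obtain ⟨j, hj⟩ := IsPGroup.iff_card.mp hpg
      refine hM0 (eq_bot_iff.mpr ((CfsgLib.le_oddCore (N := M) (hj ▸ (hp.odd_of_ne_two hp2).pow)).trans ?_))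
      exact (CfsgLib.pPrimeCore_quotient_eq_bot 2).le
  obtain ⟨L, hLn, hLs, hLna, hC⟩ := Front.exists_simple hsQ hnsQ hrad
  haveI := hLn
  haveI := hLs
  obtain ⟨hlist, hout⟩ := Front.simple_list hard hLna
    (Front.sectional_inj L.subtype L.subtype_injective (Front.sectional_quot (oddCore G) h4)) (hsQ.sub L)
  have hperf : commutator L = ⊤ := (inferInstance : (commutator L).Normal).eq_bot_or_eq_top.resolve_left fun e => by
    refine hLna ⟨⟨fun a b => ?_⟩⟩
    rw [← commutatorElement_eq_one_iff_mul_comm, ← Subgroup.mem_bot, ← e]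
    exact commutator_mem_commutator (mem_top a) (mem_top b)
  obtain ⟨φ⟩ := Front.derived_iso L (Front.commutator_eq L hC hperf hout)
  rcases hlist with ⟨F, a, b, h, ⟨e⟩⟩ | ⟨F, a, b, h, ⟨e⟩⟩ | ⟨F, a, b, q, h, h', ⟨e⟩⟩ | ⟨⟨e⟩⟩ | ⟨hs, h⟩
  · exact Or.inl ⟨F, a, b, h, ⟨φ.trans e⟩⟩
  · exact Or.inr (Or.inl ⟨F, a, b, h, ⟨φ.trans e⟩⟩)
  · exact Or.inr (Or.inr (Or.inl ⟨F, a, b, q, h, h', ⟨φ.trans e⟩⟩))
  · exact Or.inr (Or.inr (Or.inr (Or.inl ⟨φ.trans e⟩)))
  · rw [← Nat.card_congr φ.toEquiv] at h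
    exact Or.inr (Or.inr (Or.inr (Or.inr ⟨φ.isSimpleGroup, h⟩)))

end CfsgLib.SRFour
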