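import Cfsg.Agent.Lib.SRFour.Hyp
import Cfsg.Agent.Lib.Elementary
import Cfsg.Agent.Lib.PSolvable
import Cfsg.Agent.Lib.SmallSimple.RadicalQuotient
import Cfsg.Agent.S0205

/-!
The front of S0517: 2-locals of `G / O(G)`, its simple normal subgroup, the derived group.

Blueprint: `blueprint/S0517.md`, section 0.
-/

set_option autoImplicit false
set_option linter.unusedSectionVars false
set_option linter.style.haveILetI false

namespace CfsgLib.SRFour.Front

open Cfsg Subgroup
open scoped commutatorElement

universe u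

variable {G : Type u} [Group G] [Finite G]

/-- All 2-locals are solvable. -/
def SolvLocals (G : Type u) [Group G] : Prop := ∀ N : Subgroup G, IsTwoLocal N → Group.IsSolvable N

theorem two_dvd_of_not_solvable {X : Type u} [Group X] [Finite X] (hX : ¬ Group.IsSolvable X) : 2 ∣ Nat.card X := by
  by_contra h2
  exact hX (Cfsg.Agent.S0205.result (Nat.not_even_iff_odd.mp fun he => h2 he.two_dvd))

theorem SolvLocals.centralizer (hL : SolvLocals G) {t : G} (ht : orderOf t = 2) :
    Group.IsSolvable ↥(Subgroup.centralizer ({t} : Set G)) := by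
  have hp : IsPGroup 2 ↥(zpowers t) := IsPGroup.of_card (n := 1) (by rw [Nat.card_zpowers, ht, pow_one])
  have hne : zpowers t ≠ ⊥ := fun e => by
    rw [zpowers_eq_bot] at e
    rw [e, orderOf_one] at ht
    exact absurd ht (by norm_num)
  haveI := hL _ ⟨_, hp, hne, rfl⟩
  have hle : Subgroup.centralizer ({t} : Set G) ≤ normalizer (zpowers t : Set G) := by
    rw [← Subgroup.centralizer_closure, ← Subgroup.zpowers_eq_closure]
    exact centralizer_le_normalizer _
  exact Group.isSolvable_of_isSolvable_injective (Subgroup.inclusion_injective hle)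

/-- Sectional rank passes along injective maps. -/
theorem sectional_inj {p k : ℕ} {X Y : Type*} [Group X] [Group Y] (f : X →* Y)
    (hf : Function.Injective f) (hr : SectionalPRankLE p k Y) : SectionalPRankLE p k X := by
  intro H L _ V hV hVp
  let e0 : H ≃* H.map f := H.equivMapOfInjective f hf
  let ψ : H.map f →* H ⧸ L := (QuotientGroup.mk' L).comp e0.symm.toMonoidHom
  have hψ : Function.Surjective ψ := fun q => by
    obtain ⟨a, rfl⟩ := QuotientGroup.mk'_surjective L q
    exact ⟨e0 a, congrArg (QuotientGroup.mk' L) (e0.symm_apply_apply a)⟩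
  let e := QuotientGroup.quotientKerEquivOfSurjective ψ hψ
  have h1 := hr _ ψ.ker (V.map e.symm.toMonoidHom) ⟨⟨by
      rintro ⟨_, a, ha, rfl⟩ ⟨_, b, hb, rfl⟩
      refine Subtype.ext ?_
      show e.symm a * e.symm b = e.symm b * e.symm a
      rw [← map_mul, ← map_mul, show a * b = b * a from congrArg Subtype.val (hV.is_comm.comm ⟨a, ha⟩ ⟨b, hb⟩)]⟩⟩
    (by rintro _ ⟨a, ha, rfl⟩; rw [← map_pow, hVp a ha, map_one])
  rwa [← Nat.card_congr (V.equivMapOfInjective _ e.symm.injective).toEquiv] at h1

/-- Sectional rank passes to quotients. -/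
theorem sectional_quot {p k : ℕ} {P : Type*} [Group P] (K : Subgroup P) [K.Normal]
    (hr : SectionalPRankLE p k P) : SectionalPRankLE p k (P ⧸ K) := by
  intro H L _ V hV hVp
  let π := QuotientGroup.mk' K
  let H' := H.comap π
  let ψ : H' →* H ⧸ L := (QuotientGroup.mk' L).comp (π.subgroupComap H)
  have hψ : Function.Surjective ψ := fun q => by
    obtain ⟨⟨a, ha⟩, rfl⟩ := QuotientGroup.mk'_surjective L q
    obtain ⟨g, rfl⟩ := QuotientGroup.mk'_surjective K a
    exact ⟨⟨g, ha⟩, rfl⟩
  let e := QuotientGroup.quotientKerEquivOfSurjective ψ hψ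
  have h1 := hr H' ψ.ker (V.map e.symm.toMonoidHom) ⟨⟨by
      rintro ⟨_, a, ha, rfl⟩ ⟨_, b, hb, rfl⟩
      refine Subtype.ext ?_
      show e.symm a * e.symm b = e.symm b * e.symm a
      rw [← map_mul, ← map_mul, show a * b = b * a from congrArg Subtype.val (hV.is_comm.comm ⟨a, ha⟩ ⟨b, hb⟩)]⟩⟩
    (by rintro _ ⟨a, ha, rfl⟩; rw [← map_pow, hVp a ha, map_one])
  rwa [← Nat.card_congr (V.equivMapOfInjective _ e.symm.injective).toEquiv] at h1

/-- A nontrivial 2-subgroup of a quotient is the image of one whose normaliser covers its normaliser. -/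
theorem exists_cover (N : Subgroup G) [N.Normal] {B : Subgroup (G ⧸ N)} (hB : IsPGroup 2 B) :
    ∃ T : Subgroup G, IsPGroup 2 T ∧ T.map (QuotientGroup.mk' N) = B ∧
      normalizer (B : Set (G ⧸ N)) ≤ (normalizer (T : Set G)).map (QuotientGroup.mk' N) := by
  haveI : Fact (Nat.Prime 2) := ⟨Nat.prime_two⟩
  set π := QuotientGroup.mk' N with hπ
  set P := B.comap π with hP
  obtain ⟨S⟩ : Nonempty (Sylow 2 P) := inferInstance
  set T := (S : Subgroup P).map P.subtype with hT
  have hTP : T ≤ P := map_subtype_le _
  let f : P →* B := π.subgroupComap B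
  have hfs : Function.Surjective f :=
    MonoidHom.subgroupComap_surjective_of_surjective π B (QuotientGroup.mk'_surjective N)
  have htop : (S : Subgroup P).map f = ⊤ := by
    have h := (S.mapSurjective hfs).3 (hB.to_subgroup ⊤) le_top
    rw [Sylow.coe_mapSurjective] at h
    exact h.symm
  have himg : T.map π = B := by
    refine le_antisymm ?_ fun b hb => ?_
    · rintro _ ⟨x, hx, rfl⟩
      exact hTP hx
    · obtain ⟨s, hs, e⟩ := htop.ge (mem_top ⟨b, hb⟩)
      exact ⟨s, ⟨s, hs, rfl⟩, congrArg Subtype.val e⟩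
  refine ⟨T, S.2.map P.subtype, himg, fun c hc => ?_⟩
  obtain ⟨x, rfl⟩ := QuotientGroup.mk'_surjective N c
  have hx : ∀ y, y ∈ P ↔ x * y * x⁻¹ ∈ P := fun y => by
    show π y ∈ B ↔ π (x * y * x⁻¹) ∈ B
    rw [map_mul, map_mul, map_inv]
    exact mem_normalizer_iff.mp hc (π y)
  -- conjugation by `x` on the preimage
  let α : MulAut P :=
    { toFun := fun y => ⟨x * y * x⁻¹, (hx y).mp y.2⟩
      invFun := fun y => ⟨x⁻¹ * y * x, (hx _).mpr (by
        rw [show x * (x⁻¹ * (y : G) * x) * x⁻¹ = y by group]; exact y.2)⟩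
      left_inv := fun y => Subtype.ext (show x⁻¹ * (x * (y : G) * x⁻¹) * x = y by group)
      right_inv := fun y => Subtype.ext (show x * (x⁻¹ * (y : G) * x) * x⁻¹ = y by group)
      map_mul' := fun a b => Subtype.ext (show x * ((a : G) * b) * x⁻¹ = x * a * x⁻¹ * (x * b * x⁻¹) by group) }
  obtain ⟨p, hp⟩ := MulAction.exists_smul_eq P (S.mapSurjective (f := α.toMonoidHom) α.surjective) S
  have hn : (p : G) * x ∈ normalizer (T : Set G) := by
    have h1 : T.map (MulAut.conj ((p : G) * x)).toMonoidHom ≤ T := by
      rintro _ ⟨_, ⟨s, hs, rfl⟩, rfl⟩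
      have h2 : p * α s * p⁻¹ ∈ (S : Subgroup P) := by
        rw [← hp, Sylow.coe_subgroup_smul]
        exact ⟨α s, ⟨s, hs, rfl⟩, rfl⟩
      refine ⟨_, h2, ?_⟩
      show (p : G) * (x * s * x⁻¹) * (p : G)⁻¹ = (p : G) * x * s * ((p : G) * x)⁻¹
      group
    have h3 : T.map (MulAut.conj ((p : G) * x)).toMonoidHom = T :=
      eq_of_le_of_card_ge h1 (card_map_of_injective (MulAut.conj _).injective).ge
    rw [mem_normalizer_iff]
    refine fun y => ⟨fun hy => h1 ⟨y, hy, rfl⟩, fun hy => ?_⟩
    obtain ⟨z, hz, e⟩ := h3.ge hy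
    have : z = y := (MulAut.conj ((p : G) * x)).injective e
    exact this ▸ hz
  have hpB : π p ∈ T.map π := himg.ge (show (p : G) ∈ B.comap π from p.2)
  obtain ⟨t, ht, e⟩ := hpB
  refine ⟨t⁻¹ * ((p : G) * x), mul_mem (inv_mem (le_normalizer ht)) hn, ?_⟩
  rw [map_mul, map_inv, e, map_mul, inv_mul_cancel_left]

/-- 2-locals of a quotient of a group with solvable 2-locals are solvable. -/
theorem SolvLocals.quot (hL : SolvLocals G) (N : Subgroup G) [N.Normal] : SolvLocals (G ⧸ N) := by
  rintro M ⟨B, hB, hB1, rfl⟩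
  obtain ⟨T, hT, himg, hle⟩ := exists_cover N hB
  have hT1 : T ≠ ⊥ := fun e => hB1 (by rw [← himg, e, Subgroup.map_bot])
  haveI := hL _ ⟨T, hT, hT1, rfl⟩
  haveI : Group.IsSolvable ↥((normalizer (T : Set G)).map (QuotientGroup.mk' N)) :=
    Group.isSolvable_of_surjective (f := (QuotientGroup.mk' N).subgroupMap (normalizer (T : Set G)))
      (MonoidHom.subgroupMap_surjective _ _)
  exact Group.isSolvable_of_isSolvable_injective (Subgroup.inclusion_injective hle)

theorem SolvLocals.sub (hL : SolvLocals G) (H : Subgroup G) : SolvLocals H := by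
  rintro M ⟨T, hT, hT1, rfl⟩
  haveI := hL _ ⟨T.map H.subtype, hT.map H.subtype,
    fun e => hT1 ((map_eq_bot_iff_of_injective T H.subtype_injective).mp e), rfl⟩
  have hle : (normalizer (T : Set H)).map H.subtype ≤ normalizer (T.map H.subtype : Set G) :=
    le_normalizer_map H.subtype
  exact Group.isSolvable_of_isSolvable_injective
    (f := (Subgroup.inclusion hle).comp
      (Subgroup.equivMapOfInjective (normalizer (T : Set H)) H.subtype H.subtype_injective).toMonoidHom)
    ((Subgroup.inclusion_injective hle).comp (MulEquiv.injective _))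

/-- Without a solvable normal subgroup, a group with solvable 2-locals has a simple normal subgroup. -/
theorem exists_simple (hL : SolvLocals G) (hns : ¬ Group.IsSolvable G)
    (hrad : ∀ (N : Subgroup G) [N.Normal], Group.IsSolvable N → N = ⊥) :
    ∃ N : Subgroup G, N.Normal ∧ IsSimpleGroup N ∧ ¬ IsMulCommutative N ∧
      Subgroup.centralizer (N : Set G) = ⊥ := by
  haveI : Fact (Nat.Prime 2) := ⟨Nat.prime_two⟩
  haveI : Nontrivial G := by
    rw [← not_subsingleton_iff_nontrivial]
    exact fun _ => hns inferInstance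
  obtain ⟨M, hMn, -, hM0, hmin⟩ := CfsgLib.exists_minimal_normal (N := (⊤ : Subgroup G)) top_ne_bot
  haveI := hMn
  have hMs : ¬ Group.IsSolvable M := fun hs => hM0 (hrad M hs)
  have pair : ∀ A B : Subgroup G, ¬ Group.IsSolvable A → (∀ a ∈ A, ∀ b ∈ B, Commute a b) → Group.IsSolvable B := by
    intro A B hA hc
    obtain ⟨a, ha⟩ := exists_prime_orderOf_dvd_card' (G := A) 2 (two_dvd_of_not_solvable hA)
    haveI := hL.centralizer (t := (a : G)) (by rw [Subgroup.orderOf_coe, ha])
    exact Group.isSolvable_of_isSolvable_injective (f := Subgroup.inclusion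
      (fun b hb => mem_centralizer_singleton_iff.mpr (hc a a.2 b hb).eq.symm :
        B ≤ Subgroup.centralizer ({(a : G)} : Set G))) (Subgroup.inclusion_injective _)
  have hMne : (⊤ : Subgroup M) ≠ ⊥ := fun e => hM0 (by
    rw [← range_subtype M, MonoidHom.range_eq_map, e, Subgroup.map_bot])
  obtain ⟨S, hSn, -, hS0, hSmin⟩ := CfsgLib.exists_minimal_normal (N := (⊤ : Subgroup M)) hMne
  haveI := hSn
  set S' := S.map M.subtype with hS'
  have hS'M : S' ≤ M := map_subtype_le S
  -- a proper normal subgroup of `M` has a second conjugate, commuting with it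
  have hStop : S = ⊤ := by
    by_contra hS1
    have hnn : ¬ S'.Normal := fun hn => by
      rcases hmin S' hn hS'M with e | e
      · exact hS0 ((map_eq_bot_iff_of_injective S M.subtype_injective).mp e)
      · refine hS1 (map_injective M.subtype_injective ?_)
        rw [← hS', e, ← MonoidHom.range_eq_map, range_subtype]
    obtain ⟨g, hg⟩ : ∃ g : G, S'.map (MulAut.conj g).toMonoidHom ≠ S' := by
      by_contra hh
      push Not at hh
      exact hnn ⟨fun x hx g => (hh g).le ⟨x, hx, rfl⟩⟩
    let R : Subgroup M := S.map (MulAut.conjNormal g : MulAut M).toMonoidHom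
    have hRn : R.Normal := hSn.map _ (MulAut.conjNormal g : MulAut M).surjective
    have hRS : R.map M.subtype = S'.map (MulAut.conj g).toMonoidHom := by
      rw [hS', Subgroup.map_map, Subgroup.map_map]
      rfl
    have hinf : S ⊓ R = ⊥ := (hSmin _ inferInstance inf_le_left).resolve_right fun e => hg (by
      have h1 : S ≤ R := inf_eq_left.mp e
      have h2 : Nat.card R = Nat.card S :=
        card_map_of_injective (MulAut.conjNormal g : MulAut M).injective
      rw [← hRS, ← eq_of_le_of_card_ge h1 h2.le, hS'])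
    have hc : ∀ a ∈ S', ∀ b ∈ R.map M.subtype, Commute a b := by
      rintro _ ⟨a, ha, rfl⟩ _ ⟨b, hb, rfl⟩
      exact (commute_of_normal_of_disjoint S R hSn hRn (disjoint_iff.mpr hinf) a b ha hb).map M.subtype
    have hSs : ¬ Group.IsSolvable S := by
      intro hs
      obtain ⟨-, p, hp, hexp⟩ := CfsgLib.minimal_normal_elementary hS0 hs hSmin
      haveI := Fact.mk hp
      have hpg : IsPGroup p S := fun x => ⟨1, Subtype.ext (by simpa using hexp _ x.2)⟩
      have h0 := hrad ((pCore p M).map M.subtype)
        (by haveI := ((CfsgLib.isPGroup_pCore (G := M) p).map M.subtype).isNilpotent; infer_instance)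
      rw [map_eq_bot_iff_of_injective _ M.subtype_injective] at h0
      exact hS0 (eq_bot_iff.mpr ((CfsgLib.le_pCore hpg).trans h0.le))
    have hs' : Group.IsSolvable ↥(R.map M.subtype) := pair S' _ (fun hs => hSs (by
      haveI := hs
      exact Group.isSolvable_of_isSolvable_injective
        (f := (equivMapOfInjective S M.subtype M.subtype_injective).toMonoidHom) (MulEquiv.injective _))) hc
    haveI := hs'
    exact hSs (Group.isSolvable_of_isSolvable_injective
      (f := ((equivMapOfInjective S _ (MulAut.conjNormal g : MulAut M).injective).trans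
        (equivMapOfInjective R M.subtype M.subtype_injective)).toMonoidHom) (MulEquiv.injective _))
  haveI : Nontrivial M := (nontrivial_iff_ne_bot M).mpr hM0
  refine ⟨M, hMn, ⟨fun K hK => ?_⟩, fun hc => hMs ?_, ?_⟩
  · exact (hSmin K hK (by rw [hStop]; exact le_top)).imp id fun e => e.trans hStop
  · exact Group.isSolvable_of_comm hc.is_comm.comm
  · exact hrad _ (pair M _ hMs fun a ha b hb => mem_centralizer_iff.mp hb a ha)

/-- The derived group modulo its odd core is the derived group of the quotient by the odd core. -/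
theorem derived_iso (L : Subgroup (G ⧸ oddCore G)) (h : commutator (G ⧸ oddCore G) = L) :
    Nonempty (↥(commutator G) ⧸ oddCore ↥(commutator G) ≃* L) := by
  set π := QuotientGroup.mk' (oddCore G) with hπ
  have hmap : (commutator G).map π = L := by
    rw [← h, commutator_def, commutator_def, map_commutator,
      map_top_of_surjective π (QuotientGroup.mk'_surjective _)]
  let f : ↥(commutator G) →* L := (MulEquiv.subgroupCongr hmap).toMonoidHom.comp (π.subgroupMap (commutator G))
  have hf : Function.Surjective f :=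
    (MulEquiv.subgroupCongr hmap).surjective.comp (MonoidHom.subgroupMap_surjective π (commutator G))
  have hk : f.ker = oddCore ↥(commutator G) := by
    ext x
    constructor
    · intro hx
      refine CfsgLib.le_oddCore (N := (oddCore G).subgroupOf (commutator G)) ?_ ?_
      · refine (CfsgLib.odd_card_oddCore (G := G)).of_dvd_nat ?_
        rw [← card_map_of_injective (commutator G).subtype_injective, subgroupOf_map_subtype]
        exact card_dvd_of_le inf_le_left
      · have h1 : π x = 1 := congrArg Subtype.val (MonoidHom.mem_ker.mp hx)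
        exact mem_subgroupOf.mpr ((QuotientGroup.eq_one_iff (x : G)).mp h1)
    · intro hx
      have h1 : (x : G) ∈ oddCore G := CfsgLib.map_pPrimeCore_le 2 (commutator G) ⟨x, hx, rfl⟩
      exact MonoidHom.mem_ker.mpr (Subtype.ext ((QuotientGroup.eq_one_iff _).mpr h1))
  exact ⟨(QuotientGroup.quotientMulEquivOfEq hk.symm).trans (QuotientGroup.quotientKerEquivOfSurjective f hf)⟩

end CfsgLib.SRFour.Front
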