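import Cfsg.Prelude.Def_KGroupFacts
import Cfsg.Prelude.Def_Sporadic
import Cfsg.Agent.Lib.PSL2.Out
import Cfsg.Agent.Lib.Chev.Aut.FieldCyclic
import Cfsg.Agent.Lib.SLCard
import Cfsg.Agent.Lib.SimpleM11.Recognition
import Cfsg.Agent.Lib.M11Det.Basic
import Cfsg.Agent.S0813
import Cfsg.Agent.S0815
import Cfsg.Agent.S2119
import Cfsg.Agent.S2060
import Cfsg.Agent.S2126

/-!
The front of S0517: the outer automorphism groups of the groups in the list are abelian.

Blueprint: `blueprint/S0517.md`, section 0.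
-/

set_option autoImplicit false
set_option linter.unusedSectionVars false
set_option linter.style.haveILetI false

namespace CfsgLib.SRFour.Front

open Cfsg Subgroup
open scoped commutatorElement

universe u v

/-- Commutators of automorphisms are inner. -/
def OutAb (X : Type u) [Group X] : Prop := ∀ a b : MulAut X, ⁅a, b⁆ ∈ Inn X

theorem outAb_of_comm {X : Type u} [Group X] (h : ∀ a b : Out X, a * b = b * a) : OutAb X := fun a b => by
  rw [← QuotientGroup.eq_one_iff, ← QuotientGroup.mk'_apply, map_commutatorElement,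
    commutatorElement_eq_one_iff_mul_comm]
  exact h _ _

theorem OutAb.of_equiv {X : Type u} {Y : Type v} [Group X] [Group Y] (e : X ≃* Y) (h : OutAb Y) : OutAb X := by
  intro a b
  obtain ⟨y, hy⟩ := h (MulAut.congr e a) (MulAut.congr e b)
  refine ⟨e.symm y, (MulAut.congr e).injective ?_⟩
  rw [map_commutatorElement, ← hy]
  refine MulEquiv.ext fun x => ?_
  show e (e.symm y * e.symm x * (e.symm y)⁻¹) = y * x * y⁻¹
  rw [map_mul, map_mul, map_inv, e.apply_symm_apply, e.apply_symm_apply]

/-- A group of order at most five is abelian. -/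
theorem comm_of_card_le_five {O : Type*} [Group O] [Finite O] (h : Nat.card O ≤ 5) (a b : O) : a * b = b * a := by
  have hpos : 0 < Nat.card O := Nat.card_pos
  rcases (by omega : Nat.card O = 1 ∨ Nat.card O = 4 ∨ Nat.card O = 2 ∨ Nat.card O = 3 ∨ Nat.card O = 5) with
    h | h | h
  · haveI := (Nat.card_eq_one_iff_unique.mp h).1
    exact Subsingleton.elim _ _
  · haveI : Fact (Nat.Prime 2) := ⟨Nat.prime_two⟩
    haveI := IsPGroup.isMulCommutative_of_card_eq_prime_sq (p := 2) (G := O) (by rw [h]; norm_num)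
    exact IsMulCommutative.is_comm.comm a b
  · obtain ⟨p, hp, hc⟩ : ∃ p, p.Prime ∧ Nat.card O = p := by
      rcases h with h | h | h
      exacts [⟨2, by norm_num, h⟩, ⟨3, by norm_num, h⟩, ⟨5, by norm_num, h⟩]
    haveI := Fact.mk hp
    haveI : IsCyclic O := isCyclic_of_prime_card hc
    exact (IsCyclic.commGroup (α := O)).mul_comm a b

theorem outAb_of_card_out {X : Type u} [Group X] [Finite X] (h : Nat.card (Out X) ≤ 5) : OutAb X :=
  outAb_of_comm (comm_of_card_le_five h)

theorem outAb_of_card {X : Type u} [Group X] [Finite X] [IsSimpleGroup X] (hX : ¬ IsMulCommutative X)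
    {Y : Type v} [Group Y] (e : X ≃* Y) {k : ℕ} (hk : k ≤ 5) (h : Nat.card (MulAut Y) ≤ k * Nat.card Y) :
    OutAb X := by
  rw [← Nat.card_congr (MulAut.congr e).toEquiv, ← Nat.card_congr e.toEquiv] at h
  refine outAb_of_card_out (le_trans ?_ hk)
  have hc : Subgroup.center X = ⊥ := (Subgroup.center X).normal_of_characteristic.eq_bot_or_eq_top.resolve_right
    fun e => hX ⟨⟨fun a b => (mem_center_iff.mp (e.ge (mem_top b)) a)⟩⟩
  have hinn : Nat.card (Inn X) = Nat.card X := by
    refine (Nat.card_congr (MonoidHom.ofInjective (f := (MulAut.conj : X →* MulAut X)) ?_).toEquiv).symm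
    rw [injective_iff_map_eq_one]
    intro g hg
    refine mem_bot.mp (hc.le (mem_center_iff.mpr fun x => ?_))
    have h1 := MulEquiv.congr_fun hg x
    rw [MulAut.conj_apply, MulAut.one_apply] at h1
    exact (mul_inv_eq_iff_eq_mul.mp h1).symm
  have hm := Subgroup.card_eq_card_quotient_mul_card_subgroup (Inn X)
  rw [hinn] at hm
  exact Nat.le_of_mul_le_mul_right (hm ▸ h) Nat.card_pos

/-- `Out(PSL₂(q))` is abelian: the diagonal part is central, the field part cyclic. -/
theorem outAb_psl2 (F : Type v) [Field F] [Fintype F] : OutAb (Matrix.ProjectiveSpecialLinearGroup (Fin 2) F) := by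
  classical
  obtain ⟨p, hp⟩ := CharP.exists F
  obtain ⟨f, hprime, hf⟩ := FiniteField.card F p
  haveI : Fact p.Prime := ⟨hprime⟩
  set X := Matrix.ProjectiveSpecialLinearGroup (Fin 2) F
  haveI : IsCyclic (RingAut F) := CfsgLib.Chev.ringAut_cyclic_finite F
  have hI : Inn X ≤ (PSL2.fieldPart (F := F) p).ker := by
    rintro _ ⟨x, rfl⟩
    obtain ⟨A, rfl⟩ := QuotientGroup.mk'_surjective _ x
    refine MonoidHom.mem_ker.mpr (PSL2.fieldPart_eq p (g := Matrix.SpecialLinearGroup.toGL A) (e := 1) ?_)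
    rw [PSL2.diagAut_toGL]
    erw [PSL2.fieldAut_refl, mul_one]
  let φ : Out X →* RingAut F := QuotientGroup.lift (Inn X) (PSL2.fieldPart (F := F) p) hI
  -- two classes of diagonal automorphisms
  let θ : Fˣ →* Out X := (QuotientGroup.mk' (Inn X)).comp (PSL2.diagAut.comp PSL2.dil)
  have hsq : (powMonoidHom 2 : Fˣ →* Fˣ).range ≤ θ.ker := by
    intro c hc
    obtain ⟨x, hx⟩ := (PSL2.dil_inner_iff c).mpr hc
    exact MonoidHom.mem_ker.mpr ((QuotientGroup.eq_one_iff _).mpr ⟨x, hx.symm⟩)
  have hker : φ.ker ≤ θ.range := by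
    intro o ho
    obtain ⟨a, rfl⟩ := QuotientGroup.mk'_surjective _ o
    obtain ⟨g, rfl⟩ := PSL2.exists_of_fieldPart_eq_one p (φ := a) ho
    obtain ⟨c, A, rfl⟩ := PSL2.exists_dil_mul g
    refine ⟨c, ?_⟩
    rw [map_mul, map_mul, PSL2.diagAut_toGL]
    refine (mul_eq_left.mpr ?_).symm
    exact (QuotientGroup.eq_one_iff _).mpr (MonoidHom.mem_range.mpr ⟨_, rfl⟩)
  have hidx : θ.ker.index ≤ 2 := by
    refine (Nat.le_of_dvd (Nat.pos_of_ne_zero Subgroup.index_ne_zero_of_finite)
      (Subgroup.index_dvd_of_le hsq)).trans ?_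
    rw [index_range]
    haveI : IsCyclic Fˣ := inferInstance
    rw [IsCyclic.card_powMonoidHom_ker]
    exact Nat.le_of_dvd two_pos (Nat.gcd_dvd_right _ _)
  have hk2 : Nat.card φ.ker ≤ 2 := by
    refine le_trans (Nat.le_of_dvd Nat.card_pos (card_dvd_of_le hker)) ?_
    rwa [← index_ker]
  have hcen : φ.ker ≤ Subgroup.center (Out X) := by
    intro z hz
    refine mem_center_iff.mpr fun w => mul_inv_eq_iff_eq_mul.mp ?_
    have h1 : w * z * w⁻¹ ∈ φ.ker := (inferInstance : φ.ker.Normal).conj_mem z hz w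
    by_cases hz1 : z = 1
    · rw [hz1]; group
    by_contra hne
    have h3 : ({1, ⟨z, hz⟩, ⟨_, h1⟩} : Finset φ.ker).card = 3 := by
      rw [Finset.card_insert_of_notMem (by
        simp only [Finset.mem_insert, Finset.mem_singleton, not_or]
        exact ⟨fun e => hz1 (congrArg Subtype.val e).symm,
          fun e => hz1 (conj_eq_one_iff.mp (congrArg Subtype.val e).symm)⟩),
        Finset.card_pair fun e => hne (congrArg Subtype.val e).symm]
    haveI : Fintype φ.ker := Fintype.ofFinite _
    have h4 := Finset.card_le_univ ({1, ⟨z, hz⟩, ⟨_, h1⟩} : Finset φ.ker)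
    rw [Nat.card_eq_fintype_card] at hk2
    omega
  haveI : IsCyclic φ.range := inferInstance
  haveI := φ.rangeRestrict.isMulCommutative_of_isCyclic_of_ker_le_center (by rwa [MonoidHom.ker_rangeRestrict])
  exact outAb_of_comm fun a b => IsMulCommutative.is_comm.comm a b

theorem outAb_psl3_three {X : Type u} [Group X] [Finite X] [IsSimpleGroup X] (hX : ¬ IsMulCommutative X)
    {F : Type v} [Field F] [Fintype F] (h3 : Fintype.card F = 3)
    (e : X ≃* Matrix.ProjectiveSpecialLinearGroup (Fin 3) F) : OutAb X := by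
  haveI : Fact (Nat.Prime 3) := ⟨Nat.prime_three⟩
  refine outAb_of_card hX e (k := 2) (by norm_num) ?_
  rw [Cfsg.Agent.S0813.result 3 1 le_rfl (by rw [h3, pow_one]) 3 (by norm_num) (by omega), if_neg (by norm_num),
    mul_one, CfsgLib.SLCard.card_PGL, ← CfsgLib.SLCard.gcd_mul_card_PSL (by norm_num : 1 ≤ 3), h3]
  norm_num

theorem outAb_psu3 {X : Type u} [Group X] [Finite X] [IsSimpleGroup X] (hX : ¬ IsMulCommutative X)
    {F : Type v} [Field F] [Fintype F] {p f q : ℕ} [Fact p.Prime] (hf : 1 ≤ f) (hq : q = p ^ f)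
    (hF : Fintype.card F = q ^ 2) (h2 : q ≠ 2) (hk : Nat.gcd 3 (q + 1) * (2 * f) ≤ 5)
    (e : X ≃* Cfsg.PSU 3 F q) : OutAb X :=
  outAb_of_card hX e hk (Cfsg.Agent.S0815.result p f hf hq hF 3 le_rfl (fun h => h2 h.2)).le

theorem outAb_alt7 {X : Type u} [Group X] [Finite X] [IsSimpleGroup X] (hX : ¬ IsMulCommutative X)
    (e : X ≃* ↥(alternatingGroup (Fin 7))) : OutAb X := by
  refine outAb_of_card hX e (k := 2) (by norm_num) ?_
  rw [← Nat.card_congr (Equiv.ofBijective _ (Cfsg.Agent.S2119.result 7 (by norm_num) (by norm_num))),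
    two_mul_nat_card_alternatingGroup]

theorem outAb_m11 {X : Type u} [Group X] [Finite X] (h : IsM11 X) : OutAb X := by
  haveI := Fintype.ofFinite X
  obtain ⟨e⟩ := CfsgSimpleM11.unique7920 h CfsgM11Det.isM11_spor
  exact (outAb_of_card_out (X := ↥Cfsg.Spor.M11) (by rw [Cfsg.Agent.S2060.result]; norm_num)).of_equiv e

theorem outAb_suzuki_eight {F : Type v} [Field F] [Fintype F] (h8 : Fintype.card F = 2 ^ (2 * 1 + 1)) :
    OutAb ↥(Cfsg.Lie.Sz F (2 ^ (1 + 1))) :=
  outAb_of_card_out (by rw [Cfsg.Agent.S2126.result le_rfl h8]; norm_num)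

/-- A group with a perfect normal subgroup with trivial centraliser and abelian outer automorphisms has it as its
derived group. -/
theorem commutator_eq {Q : Type u} [Group Q] (L : Subgroup Q) [L.Normal]
    (hC : Subgroup.centralizer (L : Set Q) = ⊥) (hperf : commutator L = ⊤) (hL : OutAb L) : commutator Q = L := by
  refine le_antisymm ?_ ?_
  · rw [commutator_def, commutator_le]
    intro g _ h _
    obtain ⟨l, hl⟩ := hL (MulAut.conjNormal g) (MulAut.conjNormal h)
    have h1 : (l : Q)⁻¹ * ⁅g, h⁆ ∈ Subgroup.centralizer (L : Set Q) := mem_centralizer_iff.mpr fun m hm => by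
      have h2 := congrArg Subtype.val (MulEquiv.congr_fun hl ⟨m, hm⟩)
      rw [← map_commutatorElement, MulAut.conj_apply, MulAut.conjNormal_apply] at h2
      simp only [Subgroup.coe_mul, Subgroup.coe_inv] at h2
      calc m * ((l : Q)⁻¹ * ⁅g, h⁆) = (l : Q)⁻¹ * (l * m * (l : Q)⁻¹) * ⁅g, h⁆ := by group
        _ = (l : Q)⁻¹ * ⁅g, h⁆ * m := by rw [h2]; group
    rw [hC, mem_bot, inv_mul_eq_one] at h1
    exact h1 ▸ l.2
  · calc L = (⊤ : Subgroup L).map L.subtype := by rw [← MonoidHom.range_eq_map, range_subtype]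
      _ ≤ _ := by
        rw [← hperf, commutator_def, map_commutator, commutator_def]
        exact commutator_mono le_top le_top

end CfsgLib.SRFour.Front
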