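import Mathlib
import Cfsg.Agent.Lib.SRFour.ITypeBasic

/-!
The action of `N_S(F)` on `F` and on `V`: two cyclic shapes and the wreathed shape.

Blueprint: `blueprint/S0517.md`, §4.
-/

set_option autoImplicit false
set_option linter.unusedSectionVars false
set_option linter.style.haveILetI false

namespace CfsgLib.SRFour

open Cfsg
open scoped commutatorElement

universe u

variable {G : Type u} [Group G]

theorem pow_two_eq_inv {f : G} (hf : f ^ 3 = 1) : f * f = f⁻¹ :=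
  eq_inv_of_mul_eq_one_left (by rw [mul_assoc, ← pow_two f, ← pow_succ' f 2]; exact hf)

theorem zpow_cases {f g : G} (hf : f ^ 3 = 1) (hg : g ∈ Subgroup.zpowers f) : g = 1 ∨ g = f ∨ g = f⁻¹ := by
  obtain ⟨i, rfl⟩ := Subgroup.mem_zpowers_iff.mp hg
  rw [zpow_eq_zpow_emod' i hf]
  have h0 : 0 ≤ i % ((3 : ℕ) : ℤ) := Int.emod_nonneg _ (by norm_num)
  have h1 : i % ((3 : ℕ) : ℤ) < 3 := Int.emod_lt_of_pos _ (by norm_num)
  generalize i % ((3 : ℕ) : ℤ) = j at h0 h1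
  interval_cases j
  · left; rw [zpow_zero]
  · right; left; rw [zpow_one]
  · right; right; rw [show (2 : ℤ) = ((2 : ℕ) : ℤ) from rfl, zpow_natCast, pow_two, pow_two_eq_inv hf]

/-- Three vanishing norms force a fixed point. -/
theorem fix_of_norms {W : Type*} [Group W] (hW : ∀ x : W, x * x = 1) (a b : W →* W)
    (ha : ∀ x, a (a (a x)) = x) (hab : ∀ x, a (b x) = b (a x)) {x : W}
    (h1 : x * b x * b (b x) = 1) (h2 : x * a (b x) * a (b (a (b x))) = 1)
    (h3 : x * a (b (b x)) * a (b (b (a (b (b x))))) = 1) (hb : ∀ x, b (b (b x)) = x) : a x = x := by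
  letI : CommGroup W :=
    { (inferInstance : Group W) with
      mul_comm := fun p q => by
        have e : ∀ c : W, c⁻¹ = c := fun c => inv_eq_of_mul_eq_one_right (hW c)
        calc p * q = (p * q)⁻¹ := (e _).symm
          _ = q * p := by rw [mul_inv_rev, e, e] }
  have e : ∀ c d : W, c * d = 1 → c = d := fun c d hcd => by
    rw [eq_inv_of_mul_eq_one_left hcd]
    exact inv_eq_of_mul_eq_one_right (hW d)
  have hbb : b (b x) = x * b x := (e _ _ h1).symm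
  rw [← hab (b x), hbb, map_mul, map_mul] at h2
  rw [← hab (b (b x)), ← hab (b (b (b x))), hb, hbb, map_mul] at h3
  set p := a x
  set q := a (b x)
  set p2 := a p
  set q2 := a q
  have h4 : p * p2 = 1 := by
    calc p * p2 = (x * x) * (q * q) * (p * p2) * (q2 * q2) := by rw [hW x, hW q, hW q2, one_mul, one_mul, mul_one]
      _ = (x * q * (p2 * q2)) * (x * (p * q) * q2) := by ac_rfl
      _ = 1 := by rw [h2, h3, one_mul]
  have h5 : p = p2 := e _ _ h4
  have h6 : a (a p) = a (a p2) := by rw [← h5]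
  exact ((ha x).symm.trans (h6.trans (ha p))).symm

variable [Finite G] {S : Sylow 2 G} {K F H V : Subgroup G}

/-- The shape with `S/O₂(K)` of order two. -/
def CycTwo (S K F : Subgroup G) : Prop :=
  ∃ u ∈ S, (∀ f ∈ F, u * f * u⁻¹ = f⁻¹) ∧ ∀ s ∈ S, ∃ r ∈ pCoreOf 2 K, s = r ∨ s = r * u

/-- The shape with `S/O₂(K)` cyclic of order four. -/
def CycFour (S K F : Subgroup G) : Prop :=
  ∃ u ∈ S, u ∈ Subgroup.normalizer (F : Set G) ∧ (∀ f ∈ F, (u * u) * f * (u * u)⁻¹ = f⁻¹) ∧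
    ∀ s ∈ S, ∃ r ∈ pCoreOf 2 K, s = r ∨ s = r * u ∨ s = r * (u * u) ∨ s = r * (u * u * u)

/-- The wreathed shape. -/
structure WrShape (S K F V : Subgroup G) (f₁ f₂ t₁ σ : G) : Prop where
  f₁_mem : f₁ ∈ F
  f₂_mem : f₂ ∈ F
  f₁_pow : f₁ ^ 3 = 1
  f₂_pow : f₂ ^ 3 = 1
  f₁_ne : f₁ ≠ 1
  t_mem : t₁ ∈ S
  σ_mem : σ ∈ S
  t_norm : t₁ ∈ Subgroup.normalizer (F : Set G)
  σ_norm : σ ∈ Subgroup.normalizer (F : Set G)
  t_f₁ : t₁ * f₁ * t₁⁻¹ = f₁
  t_f₂ : t₁ * f₂ * t₁⁻¹ = f₂⁻¹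
  σ_f₁ : σ * f₁ * σ⁻¹ = f₂
  σ_f₂ : σ * f₂ * σ⁻¹ = f₁
  decomp : ∀ s ∈ S, ∃ r ∈ pCoreOf 2 K, ∃ i j k : ℕ,
    i < 2 ∧ j < 2 ∧ k < 2 ∧ s = r * t₁ ^ i * (σ * t₁ * σ⁻¹) ^ j * σ ^ k
  split : ∀ v ∈ V, ∃ a ∈ V, ∃ b ∈ V, f₁ * a = a * f₁ ∧ f₂ * b = b * f₂ ∧ v = a * b
  indep : ∀ v ∈ V, f₁ * v = v * f₁ → f₂ * v = v * f₂ → v = 1
  card_A : Nat.card ↥(V ⊓ Subgroup.centralizer ({f₁} : Set G)) = 4
  gen : ∀ f ∈ F, ∃ i j : ℤ, f = f₁ ^ i * f₂ ^ j

namespace IData

/-- Conjugation by an element of `K` on `V`. -/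
def act (D : IData (S : Subgroup G) K F H V) {g : G} (hg : g ∈ K) : ↥V →* ↥V where
  toFun v := ⟨g * v * g⁻¹, D.conj_V hg v.2⟩
  map_one' := Subtype.ext (by simp)
  map_mul' a b := Subtype.ext (by simp [mul_assoc])

theorem fixed_closure {f g v : G} (hf : f * v = v * f) (hg : g * v = v * g) {x : G}
    (hx : x ∈ Subgroup.closure ({f, g} : Set G)) : x * v = v * x := by
  have : Subgroup.closure ({f, g} : Set G) ≤ Subgroup.centralizer ({v} : Set G) := by
    refine (Subgroup.closure_le _).mpr ?_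
    rintro a (rfl | rfl) <;> exact Subgroup.mem_centralizer_singleton_iff.mpr (by first | exact hf | exact hg)
  exact Subgroup.mem_centralizer_singleton_iff.mp (this hx)

theorem closure_pair_eq (D : IData (S : Subgroup G) K F H V) (h9 : Nat.card F = 9)
    (h3 : ∀ f ∈ F, f ^ 3 = 1) {f g : G} (hf : f ∈ F) (hg : g ∈ F) (hf1 : f ≠ 1)
    (hgf : g ∉ Subgroup.zpowers f) : Subgroup.closure ({f, g} : Set G) = F := by
  have hle : Subgroup.closure ({f, g} : Set G) ≤ F := (Subgroup.closure_le _).mpr (by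
    rintro a (rfl | rfl) <;> assumption)
  have hc : Nat.card (Subgroup.zpowers f) = 3 := by
    rw [Nat.card_zpowers]
    haveI : Fact (Nat.Prime 3) := ⟨Nat.prime_three⟩
    exact orderOf_eq_prime (h3 f hf) hf1
  have h6 := two_mul_card_le (H := Subgroup.zpowers f) (H' := Subgroup.closure ({f, g} : Set G))
    (Subgroup.zpowers_le.mpr (Subgroup.subset_closure (Or.inl rfl))) (Subgroup.subset_closure (Or.inr rfl)) hgf
  have hd := Subgroup.card_dvd_of_le hle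
  refine Subgroup.eq_of_le_of_card_ge hle ?_
  rw [h9] at hd ⊢
  rw [hc] at h6
  have : Nat.card ↥(Subgroup.closure ({f, g} : Set G)) ∈ Nat.divisors 9 := Nat.mem_divisors.mpr ⟨hd, by norm_num⟩
  rw [show Nat.divisors 9 = {1, 3, 9} from by decide] at this
  simp only [Finset.mem_insert, Finset.mem_singleton] at this
  omega

theorem exp_three (D : IData (S : Subgroup G) K F H V) (h9 : Nat.card F = 9) : ∀ f ∈ F, f ^ 3 = 1 := by
  obtain ⟨p, hp, -, hexp⟩ := D.ov.exp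
  intro f hf
  by_cases hf1 : f = 1
  · rw [hf1, one_pow]
  have h1 : orderOf f = p := by
    haveI := Fact.mk hp
    exact orderOf_eq_prime (hexp f hf) hf1
  have h2 : p ∣ 3 ^ 2 := by
    rw [← h1, show (3 : ℕ) ^ 2 = Nat.card F by rw [h9]; rfl]
    exact Subgroup.orderOf_dvd_natCard F hf
  rw [show (3 : ℕ) = p from ((Nat.prime_dvd_prime_iff_eq hp Nat.prime_three).mp (hp.dvd_of_dvd_pow h2)).symm]
  exact hexp f hf

/-- The two lines of `F` with fixed points and the decomposition of `V`. -/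
theorem exists_lines (D : IData (S : Subgroup G) K F H V) (h9 : Nat.card F = 9) :
    ∃ f g, f ∈ F ∧ g ∈ F ∧ f ≠ 1 ∧ g ≠ 1 ∧ g ∉ Subgroup.zpowers f ∧
      Nat.card ↥(V ⊓ Subgroup.centralizer ({f} : Set G)) = 4 ∧
      (∀ v ∈ V, ∃ a ∈ V, ∃ b ∈ V, f * a = a * f ∧ g * b = b * g ∧ v = a * b) ∧
      ∃ a ∈ V, a ≠ 1 ∧ g * a = a * g := by
  classical
  have h3 := D.exp_three h9
  have hFK : ∀ {f : G}, f ∈ F → f ∈ K := fun hf => D.ov.F_le hf
  haveI : Nontrivial ↥V := Finite.one_lt_card_iff_nontrivial.mp (by rw [D.card_V]; norm_num)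
  -- a line with fixed points, other than the given one
  have key : ∀ f ∈ F, f ≠ 1 → ∃ g ∈ F, g ∉ Subgroup.zpowers f ∧ ∃ a ∈ V, a ≠ 1 ∧ g * a = a * g := by
    intro f hf hf1
    obtain ⟨g, hg, hgf⟩ : ∃ g ∈ F, g ∉ Subgroup.zpowers f := by
      by_contra hh
      push Not at hh
      have h1 := Subgroup.card_le_of_le (show F ≤ Subgroup.zpowers f from hh)
      rw [h9, Nat.card_zpowers] at h1
      have := orderOf_le_of_pow_eq_one (by norm_num) (h3 f hf)
      omega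
    by_contra hh
    push Not at hh
    obtain ⟨⟨v, hv⟩, hv1⟩ := exists_ne (1 : ↥V)
    have hnorm : ∀ x ∈ F, x ∉ Subgroup.zpowers f → ∀ v : ↥V,
        v * D.act (hFK hg) 1 * (v⁻¹ * v) = v → ∀ w : G, w = v * (x * v * x⁻¹) * (x * (x * v * x⁻¹) * x⁻¹) → w = 1 := by
      intro x hx hxf v _ w hw
      by_contra hw1
      refine hh x hx hxf w (hw ▸ V.mul_mem (V.mul_mem v.2 (D.conj_V (hFK hx) v.2))
        (D.conj_V (hFK hx) (D.conj_V (hFK hx) v.2))) hw1 (mul_inv_eq_iff_eq_mul.mp ?_)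
      subst hw
      have e3 : x * (x * (x * (v : G) * x⁻¹) * x⁻¹) * x⁻¹ = v := by
        calc x * (x * (x * (v : G) * x⁻¹) * x⁻¹) * x⁻¹ = x ^ 3 * v * (x ^ 3)⁻¹ := by
              simp only [pow_succ, pow_zero, one_mul]; group
          _ = v := by rw [h3 x hx, one_mul, inv_one, mul_one]
      calc x * (↑v * (x * ↑v * x⁻¹) * (x * (x * ↑v * x⁻¹) * x⁻¹)) * x⁻¹
          = (x * v * x⁻¹) * (x * (x * v * x⁻¹) * x⁻¹) * (x * (x * (x * (v : G) * x⁻¹) * x⁻¹) * x⁻¹) := by group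
        _ = (x * v * x⁻¹) * (x * (x * v * x⁻¹) * x⁻¹) * v := by rw [e3]
        _ = v * ((x * v * x⁻¹) * (x * (x * v * x⁻¹) * x⁻¹)) :=
            D.comm (V.mul_mem (D.conj_V (hFK hx) v.2) (D.conj_V (hFK hx) (D.conj_V (hFK hx) v.2))) v.2
        _ = _ := (mul_assoc _ _ _).symm
    have hgfi : ∀ i : ℕ, ¬ 3 ∣ i → f * g ^ i ∉ Subgroup.zpowers f := by
      intro i hi e
      have h1 : g ^ i ∈ Subgroup.zpowers f := by
        have := mul_mem (inv_mem (Subgroup.mem_zpowers f)) e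
        rwa [inv_mul_cancel_left] at this
      have hb := Nat.gcd_eq_gcd_ab i 3
      rw [((Nat.Prime.coprime_iff_not_dvd Nat.prime_three).mpr hi).symm.gcd_eq_one] at hb
      refine hgf ?_
      rw [show g = (g ^ i) ^ (Nat.gcdA i 3) * (g ^ 3) ^ (Nat.gcdB i 3) by
        rw [← zpow_natCast, ← zpow_natCast, ← zpow_mul, ← zpow_mul, ← zpow_add, ← hb]; simp, h3 g hg, one_zpow,
        mul_one]
      exact zpow_mem h1 _
    have hfix : ∀ w : ↥V, D.act (hFK hf) w = w := by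
      intro w
      have hcomp : ∀ {p q : G} (hp : p ∈ K) (hq : q ∈ K) (v : ↥V),
          D.act (K.mul_mem hp hq) v = D.act hp (D.act hq v) := fun {p q} hp hq v => Subtype.ext (by
        show (p * q) * v * (p * q)⁻¹ = p * (q * v * q⁻¹) * p⁻¹
        group)
      have hpt : ∀ {x : G}, x ∈ F → ∀ v : ↥V, v * D.act (hFK hg) 1 * (v⁻¹ * v) = v := fun _ v => by simp
      refine fix_of_norms (fun v => Subtype.ext (D.V_sq v v.2)) (D.act (hFK hf)) (D.act (hFK hg)) (fun v => ?_)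
        (fun v => ?_) ?_ ?_ ?_ (fun v => ?_)
      · refine Subtype.ext ?_
        show f * (f * (f * (v : G) * f⁻¹) * f⁻¹) * f⁻¹ = v
        calc f * (f * (f * (v : G) * f⁻¹) * f⁻¹) * f⁻¹ = f ^ 3 * v * (f ^ 3)⁻¹ := by
              simp only [pow_succ, pow_zero, one_mul]; group
          _ = v := by rw [h3 f hf, one_mul, inv_one, mul_one]
      · refine Subtype.ext ?_
        show f * (g * (v : G) * g⁻¹) * f⁻¹ = g * (f * v * f⁻¹) * g⁻¹
        calc f * (g * (v : G) * g⁻¹) * f⁻¹ = (f * g) * v * (f * g)⁻¹ := by group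
          _ = (g * f) * v * (g * f)⁻¹ := by rw [D.ov.comm f hf g hg]
          _ = _ := by group
      · exact Subtype.ext (hnorm g hg hgf w (hpt hg w) _ rfl)
      · refine Subtype.ext (hnorm (f * g) (F.mul_mem hf hg) (by simpa using hgfi 1 (by norm_num)) w (hpt hg w) _ ?_)
        show (w : G) * (f * (g * w * g⁻¹) * f⁻¹) * (f * (g * (f * (g * w * g⁻¹) * f⁻¹) * g⁻¹) * f⁻¹) = _
        group
      · refine Subtype.ext (hnorm (f * g ^ 2) (F.mul_mem hf (F.pow_mem hg 2)) (hgfi 2 (by norm_num)) w (hpt hg w) _ ?_)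
        show (w : G) * (f * (g * (g * w * g⁻¹) * g⁻¹) * f⁻¹) *
          (f * (g * (g * (f * (g * (g * w * g⁻¹) * g⁻¹) * f⁻¹) * g⁻¹) * g⁻¹) * f⁻¹) = _
        rw [pow_two]; group
      · refine Subtype.ext ?_
        show g * (g * (g * (v : G) * g⁻¹) * g⁻¹) * g⁻¹ = v
        calc g * (g * (g * (v : G) * g⁻¹) * g⁻¹) * g⁻¹ = g ^ 3 * v * (g ^ 3)⁻¹ := by
              simp only [pow_succ, pow_zero, one_mul]; group
          _ = v := by rw [h3 g hg, one_mul, inv_one, mul_one]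
    have hcV : ∀ a ∈ V, f * a = a * f := fun a ha =>
      mul_inv_eq_iff_eq_mul.mp (congrArg Subtype.val (hfix ⟨a, ha⟩))
    exact hf1 (D.ov.core_inter hf (D.mem_R (hFK hf) hcV))
  obtain ⟨f0, hf0, hf01, -⟩ : ∃ f ∈ F, f ≠ 1 ∧ True := by
    haveI : Nontrivial ↥F := Finite.one_lt_card_iff_nontrivial.mp (by rw [h9]; norm_num)
    obtain ⟨⟨f, hf⟩, h⟩ := exists_ne (1 : ↥F)
    exact ⟨f, hf, fun e => h (Subtype.ext e), trivial⟩
  obtain ⟨f, hf, hff0, a, ha, ha1, hfa⟩ := key f0 hf0 hf01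
  have hf1 : f ≠ 1 := fun e => hff0 (e ▸ one_mem _)
  obtain ⟨g, hg, hgf, b, hb, hb1, hgb⟩ := key f hf hf1
  have hg1 : g ≠ 1 := fun e => hgf (e ▸ one_mem _)
  have hfix : ∀ v ∈ V, f * v = v * f → g * v = v * g → v = 1 := fun v hv e1 e2 =>
    D.fpf v hv fun x hx => fixed_closure e1 e2 ((D.closure_pair_eq h9 h3 hf hg hf1 hgf).ge hx)
  set A := V ⊓ Subgroup.centralizer ({f} : Set G)
  set B := V ⊓ Subgroup.centralizer ({g} : Set G)
  have hsize : ∀ (p q : G), q ∈ F → (∀ v ∈ V, p * v = v * p → q * v = v * q → v = 1) → q * p = p * q →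
      (∀ a ∈ V, a ≠ 1 → p * a = a * p → 4 ≤ Nat.card ↥(V ⊓ Subgroup.centralizer ({p} : Set G))) := by
    intro p q hq hpq hqp a ha ha1 hpa
    set C := V ⊓ Subgroup.centralizer ({p} : Set G) with hC
    have haC : a ∈ C := ⟨ha, Subgroup.mem_centralizer_singleton_iff.mpr hpa.symm⟩
    have hqa : q * a * q⁻¹ ∈ C := by
      refine ⟨D.conj_V (hFK hq) ha, Subgroup.mem_centralizer_singleton_iff.mpr ?_⟩
      calc q * a * q⁻¹ * p = q * (a * p) * q⁻¹ := by
            rw [mul_assoc, show q⁻¹ * p = p * q⁻¹ from (Commute.inv_left (hqp : Commute q p)).eq]; group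
        _ = q * (p * a) * q⁻¹ := by rw [hpa]
        _ = p * (q * a * q⁻¹) := by rw [← mul_assoc q p a, hqp]; group
    have hne : q * a * q⁻¹ ≠ a := fun e => ha1 (hpq a ha hpa (mul_inv_eq_iff_eq_mul.mp e))
    have h2 := two_mul_card_le (H := Subgroup.zpowers a) (H' := C) (Subgroup.zpowers_le.mpr haC) hqa fun e => by
      rcases mem_two (D.V_sq a ha) e with e | e
      · refine ha1 ?_
        calc a = q⁻¹ * (q * a * q⁻¹) * q := by group
          _ = 1 := by rw [e]; group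
      · exact hne e
    rw [card_zpowers_two (D.V_sq a ha) ha1] at h2
    omega
  have hA4 : 4 ≤ Nat.card A := hsize f g hg hfix (D.ov.comm g hg f hf) a ha ha1 hfa
  have hB4 : 4 ≤ Nat.card B := hsize g f hf (fun v hv e1 e2 => hfix v hv e2 e1) (D.ov.comm f hf g hg) b hb hb1 hgb
  let φ : ↥A × ↥B → ↥V := fun p => ⟨p.1 * p.2, V.mul_mem p.1.2.1 p.2.2.1⟩
  have hφ : Function.Injective φ := by
    rintro ⟨x, y⟩ ⟨x', y'⟩ e
    have e' : (x : G) * y = x' * y' := congrArg Subtype.val e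
    have e2 : (x' : G)⁻¹ * x = y' * (y : G)⁻¹ := by
      rw [eq_mul_inv_iff_mul_eq, mul_assoc, e', inv_mul_cancel_left]
    have h1 : (x' : G)⁻¹ * x = 1 := by
      have hm : (x' : G)⁻¹ * x ∈ A := A.mul_mem (A.inv_mem x'.2) x.2
      have hm' : (x' : G)⁻¹ * x ∈ B := e2.symm ▸ B.mul_mem y'.2 (B.inv_mem y.2)
      exact hfix _ hm.1 (Subgroup.mem_centralizer_singleton_iff.mp hm.2).symm
        (Subgroup.mem_centralizer_singleton_iff.mp hm'.2).symm
    have hx : x = x' := Subtype.ext (inv_mul_eq_one.mp h1).symm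
    subst hx
    exact Prod.ext rfl (Subtype.ext (mul_left_cancel e'))
  have hle := Nat.card_le_card_of_injective φ hφ
  rw [Nat.card_prod, D.card_V] at hle
  have hA : Nat.card A = 4 := by
    have := Nat.mul_le_mul_left (Nat.card A) hB4
    omega
  have hB : Nat.card B = 4 := by rw [hA] at hle; omega
  have hbij : Function.Bijective φ :=
    (Nat.bijective_iff_injective_and_card φ).mpr ⟨hφ, by rw [Nat.card_prod, hA, hB, D.card_V]⟩
  refine ⟨f, g, hf, hg, hf1, hg1, hgf, hA, fun v hv => ?_, b, hb, hb1, hgb⟩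
  obtain ⟨⟨x, y⟩, e⟩ := hbij.2 ⟨v, hv⟩
  exact ⟨x, x.2.1, y, y.2.1, (Subgroup.mem_centralizer_singleton_iff.mp x.2.2).symm,
    (Subgroup.mem_centralizer_singleton_iff.mp y.2.2).symm, (congrArg Subtype.val e).symm⟩

/-- Some element of `F` acts without fixed points on `V`. -/
theorem exists_fpf (D : IData (S : Subgroup G) K F H V) :
    ∃ f ∈ F, f ≠ 1 ∧ ∀ a ∈ V, f * a = a * f → a = 1 := by
  rcases D.card_F with h5 | h9
  · haveI : Fact (Nat.Prime 5) := ⟨Nat.prime_five⟩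
    haveI : Nontrivial ↥F := Finite.one_lt_card_iff_nontrivial.mp (by rw [h5]; norm_num)
    obtain ⟨⟨f, hf⟩, hf1⟩ := exists_ne (1 : ↥F)
    have hf1' : f ≠ 1 := fun e => hf1 (Subtype.ext e)
    refine ⟨f, hf, hf1', fun a ha hfa => D.fpf a ha fun x hx => ?_⟩
    have hF : Subgroup.zpowers f = F := Subgroup.eq_of_le_of_card_ge (Subgroup.zpowers_le.mpr hf) (by
      rw [h5, Nat.card_zpowers]
      have h1 := Subgroup.orderOf_dvd_natCard F hf
      rw [h5] at h1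
      rcases (Nat.dvd_prime Nat.prime_five).mp h1 with e | e
      · exact absurd (orderOf_eq_one_iff.mp e) hf1'
      · rw [e])
    rw [← hF] at hx
    obtain ⟨i, rfl⟩ := Subgroup.mem_zpowers_iff.mp hx
    exact (Commute.zpow_left (hfa : Commute f a) i).eq
  · have h3 := D.exp_three h9
    obtain ⟨f, g, hf, hg, hf1, -, hgf, -, hsp, -⟩ := D.exists_lines h9
    refine ⟨f * g, F.mul_mem hf hg, fun e => hgf ?_, fun v hv hfv => ?_⟩
    · rw [eq_inv_of_mul_eq_one_right e]; exact inv_mem (Subgroup.mem_zpowers f)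
    obtain ⟨a, ha, b, hb, hfa, hgb, rfl⟩ := hsp v hv
    have hfix : ∀ v ∈ V, f * v = v * f → g * v = v * g → v = 1 := fun v hv e1 e2 =>
      D.fpf v hv fun x hx => fixed_closure e1 e2 ((D.closure_pair_eq h9 h3 hf hg hf1 hgf).ge hx)
    have hga : f * (g * a * g⁻¹) = g * a * g⁻¹ * f := by
      calc f * (g * a * g⁻¹) = (f * g) * a * g⁻¹ := by group
        _ = g * (f * a) * g⁻¹ := by rw [D.ov.comm f hf g hg]; group
        _ = g * a * (f * g⁻¹) := by rw [hfa]; group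
        _ = g * a * g⁻¹ * f := by rw [D.ov.comm f hf _ (F.inv_mem hg)]; group
    have e : g * a * g⁻¹ * a⁻¹ = b * (f * b * f⁻¹)⁻¹ := by
      have e0 : (f * g) * (a * b) * (f * g)⁻¹ = a * b := by rw [hfv, mul_inv_cancel_right]
      have e1 : (f * g) * (a * b) * (f * g)⁻¹ = (g * a * g⁻¹) * (f * b * f⁻¹) := by
        calc (f * g) * (a * b) * (f * g)⁻¹ = (f * (g * a * g⁻¹) * f⁻¹) * (f * (g * b * g⁻¹) * f⁻¹) := by group
          _ = (g * a * g⁻¹) * (f * b * f⁻¹) := by rw [hga, mul_inv_cancel_right, hgb, mul_inv_cancel_right]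
      rw [e1] at e0
      rw [mul_inv_eq_iff_eq_mul, eq_mul_inv_of_mul_eq e0, mul_assoc,
        D.comm ha (V.mul_mem hb (V.inv_mem (D.conj_V (D.ov.F_le hf) hb)))]
    have hw : g * a * g⁻¹ * a⁻¹ = 1 := by
      refine hfix _ (V.mul_mem (D.conj_V (D.ov.F_le hg) ha) (V.inv_mem ha))
        ((show Commute f _ from hga).mul_right (show Commute f a from hfa).inv_right).eq ?_
      rw [e]
      refine ((show Commute g b from hgb).mul_right (Commute.inv_right ?_)).eq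
      calc g * (f * b * f⁻¹) = (g * f) * b * f⁻¹ := by group
        _ = f * (g * b) * f⁻¹ := by rw [D.ov.comm g hg f hf]; group
        _ = f * b * (g * f⁻¹) := by rw [hgb]; group
        _ = f * b * f⁻¹ * g := by rw [D.ov.comm g hg _ (F.inv_mem hf)]; group
    rw [hw] at e
    rw [hfix a ha hfa (mul_inv_eq_iff_eq_mul.mp (mul_inv_eq_one.mp hw)), one_mul]
    exact hfix b hb (mul_inv_eq_iff_eq_mul.mp (mul_inv_eq_one.mp e.symm).symm) hgb

/-- The shapes. -/
theorem shape (D : IData (S : Subgroup G) K F H V) :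
    CycTwo (S : Subgroup G) K F ∨ CycFour (S : Subgroup G) K F ∨
      ∃ f₁ f₂ t₁ σ, WrShape (S : Subgroup G) K F V f₁ f₂ t₁ σ := by
  classical
  have hfixR : ∀ n ∈ (S : Subgroup G), n ∈ Subgroup.normalizer (F : Set G) → (∀ f ∈ F, n * f * n⁻¹ = f) →
      n ∈ pCoreOf 2 K := fun n hn hnF hc =>
    D.ov.mem_core_of_fix S.isPGroup' hn hnF fun f hf => mul_inv_eq_iff_eq_mul.mp (hc f hf)
  have hSne : ∃ s ∈ (S : Subgroup G), s ∉ pCoreOf 2 K := by
    by_contra hh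
    push Not at hh
    refine D.moved fun m hm => ?_
    have hZ : ∀ a ∈ V, m * a = a * m := fun a ha => D.comm_inZ hm
      (D.inZ_of_mem ha fun s hs => D.conj_R (hh s hs) ha)
    exact Subgroup.mem_normalizer_fintype fun a ha => by rw [hZ a ha, mul_inv_cancel_right]; exact ha
  rcases D.card_F with h5 | h9
  · haveI : Fact (Nat.Prime 5) := ⟨Nat.prime_five⟩
    haveI : Nontrivial ↥F := Finite.one_lt_card_iff_nontrivial.mp (by rw [h5]; norm_num)
    obtain ⟨⟨f, hf⟩, hf1⟩ := exists_ne (1 : ↥F)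
    have hfo : orderOf f = 5 := by
      have h1 := Subgroup.orderOf_dvd_natCard F hf
      rw [h5] at h1
      exact ((Nat.dvd_prime Nat.prime_five).mp h1).resolve_left fun e => hf1 (Subtype.ext (orderOf_eq_one_iff.mp e))
    have hF : Subgroup.zpowers f = F := Subgroup.eq_of_le_of_card_ge (Subgroup.zpowers_le.mpr hf)
      (by rw [h5, Nat.card_zpowers, hfo])
    have hext : ∀ (n : G) (k : ℤ), n * f * n⁻¹ = f ^ k → ∀ x ∈ F, n * x * n⁻¹ = x ^ k := by
      intro n k hk x hx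
      rw [← hF] at hx
      obtain ⟨i, rfl⟩ := Subgroup.mem_zpowers_iff.mp hx
      rw [← conj_zpow, hk, ← zpow_mul, ← zpow_mul, mul_comm]
    have hf5 : f ^ 5 = 1 := hfo ▸ pow_orderOf_eq_one f
    have hpow : ∀ n ∈ Subgroup.normalizer (F : Set G), ∃ k : ℕ, 1 ≤ k ∧ k < 5 ∧ n * f * n⁻¹ = f ^ (k : ℤ) := by
      intro n hn
      have h1 : n * f * n⁻¹ ∈ Subgroup.zpowers f := hF.symm ▸ (Subgroup.mem_normalizer_iff.mp hn f).mp hf
      obtain ⟨i, hi⟩ := Subgroup.mem_zpowers_iff.mp h1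
      rw [zpow_eq_zpow_emod' i hf5] at hi
      have h0 : 0 ≤ i % ((5 : ℕ) : ℤ) := Int.emod_nonneg _ (by norm_num)
      have h4 : i % ((5 : ℕ) : ℤ) < 5 := Int.emod_lt_of_pos _ (by norm_num)
      refine ⟨(i % ((5 : ℕ) : ℤ)).toNat, ?_, by omega, ?_⟩
      · rcases eq_or_lt_of_le h0 with e | e
        · exfalso
          rw [← e, zpow_zero] at hi
          refine hf1 (Subtype.ext ?_)
          calc f = n⁻¹ * (n * f * n⁻¹) * n := by group
            _ = 1 := by rw [← hi]; group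
        · omega
      · rw [Int.toNat_of_nonneg h0, hi]
    by_cases hgen : ∃ n ∈ (S : Subgroup G), n ∈ Subgroup.normalizer (F : Set G) ∧
        (n * f * n⁻¹ = f ^ (2 : ℤ) ∨ n * f * n⁻¹ = f ^ (3 : ℤ))
    · right; left
      obtain ⟨u, hu, huF, hu2⟩ := hgen
      have hinv : ∀ x ∈ F, (u * u) * x * (u * u)⁻¹ = x⁻¹ := by
        intro x hx
        have h5' : x ^ (5 : ℕ) = 1 := orderOf_dvd_iff_pow_eq_one.mp (h5 ▸ Subgroup.orderOf_dvd_natCard F hx)
        obtain ⟨k, hk, hk'⟩ : ∃ k : ℤ, (k = 2 ∨ k = 3) ∧ ∀ y ∈ F, u * y * u⁻¹ = y ^ k := by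
          rcases hu2 with e | e
          · exact ⟨2, Or.inl rfl, hext u 2 e⟩
          · exact ⟨3, Or.inr rfl, hext u 3 e⟩
        rw [show (u * u) * x * (u * u)⁻¹ = u * (u * x * u⁻¹) * u⁻¹ by group, hk' x hx, ← conj_zpow, hk' x hx,
          ← zpow_mul, ← zpow_neg_one x, zpow_eq_zpow_emod' (k * k) h5', zpow_eq_zpow_emod' (-1) h5']
        rcases hk with rfl | rfl <;> rfl
      refine ⟨u, hu, huF, hinv, fun s hs => ?_⟩
      obtain ⟨q, hq, n, hn, hnF, rfl⟩ := D.ov.lift s hs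
      obtain ⟨k, hk1, hk5, hk⟩ := hpow n hnF
      obtain ⟨j, hju, hj⟩ : ∃ j : G, (j = 1 ∨ j = u ∨ j = u * u ∨ j = u * u * u) ∧ j * f * j⁻¹ = f ^ (k : ℤ) := by
        have hm : ∀ (i : ℤ), f ^ i = f ^ (i % ((5 : ℕ) : ℤ)) := fun i => zpow_eq_zpow_emod' i hf5
        rcases hu2 with e | e
        · have e' := hext u 2 e
          have e2 : (u * u) * f * (u * u)⁻¹ = f ^ (4 : ℤ) := by
            rw [show (u * u) * f * (u * u)⁻¹ = u * (u * f * u⁻¹) * u⁻¹ by group, e, ← conj_zpow, e, ← zpow_mul]; rfl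
          have e3 : (u * u * u) * f * (u * u * u)⁻¹ = f ^ (3 : ℤ) := by
            rw [show (u * u * u) * f * (u * u * u)⁻¹ = u * ((u * u) * f * (u * u)⁻¹) * u⁻¹ by group, e2,
              ← conj_zpow, e, ← zpow_mul, hm (2 * 4)]; rfl
          interval_cases k
          · exact ⟨1, Or.inl rfl, by simp⟩
          · exact ⟨u, Or.inr (Or.inl rfl), e⟩
          · exact ⟨u * u * u, Or.inr (Or.inr (Or.inr rfl)), e3⟩
          · exact ⟨u * u, Or.inr (Or.inr (Or.inl rfl)), e2⟩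
        · have e2 : (u * u) * f * (u * u)⁻¹ = f ^ (4 : ℤ) := by
            rw [show (u * u) * f * (u * u)⁻¹ = u * (u * f * u⁻¹) * u⁻¹ by group, e, ← conj_zpow, e, ← zpow_mul,
              hm (3 * 3)]; rfl
          have e3 : (u * u * u) * f * (u * u * u)⁻¹ = f ^ (2 : ℤ) := by
            rw [show (u * u * u) * f * (u * u * u)⁻¹ = u * ((u * u) * f * (u * u)⁻¹) * u⁻¹ by group, e2,
              ← conj_zpow, e, ← zpow_mul, hm (3 * 4)]; rfl
          interval_cases k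
          · exact ⟨1, Or.inl rfl, by simp⟩
          · exact ⟨u * u * u, Or.inr (Or.inr (Or.inr rfl)), e3⟩
          · exact ⟨u, Or.inr (Or.inl rfl), e⟩
          · exact ⟨u * u, Or.inr (Or.inr (Or.inl rfl)), e2⟩
      have hjS : j ∈ (S : Subgroup G) ∧ j ∈ Subgroup.normalizer (F : Set G) := by
        rcases hju with rfl | rfl | rfl | rfl
        · exact ⟨one_mem _, one_mem _⟩
        · exact ⟨hu, huF⟩
        · exact ⟨mul_mem hu hu, mul_mem huF huF⟩
        · exact ⟨mul_mem (mul_mem hu hu) hu, mul_mem (mul_mem huF huF) huF⟩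
      have hr : n * j⁻¹ ∈ pCoreOf 2 K := hfixR _ (mul_mem hn (inv_mem hjS.1)) (mul_mem hnF (inv_mem hjS.2)) fun x hx => by
        have hx' : j⁻¹ * x * j ∈ F := (Subgroup.mem_normalizer_iff''.mp hjS.2 x).mp hx
        calc n * j⁻¹ * x * (n * j⁻¹)⁻¹ = n * (j⁻¹ * x * j) * n⁻¹ := by group
          _ = j * (j⁻¹ * x * j) * j⁻¹ := by rw [hext n k hk _ hx', hext j k hj _ hx']
          _ = x := by group
      refine ⟨q * (n * j⁻¹), mul_mem hq hr, ?_⟩
      rcases hju with rfl | rfl | rfl | rfl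
      · left; simp
      · right; left; group
      · right; right; left; group
      · right; right; right; group
    · left
      have hone : ∀ n ∈ (S : Subgroup G), n ∈ Subgroup.normalizer (F : Set G) →
          (∀ x ∈ F, n * x * n⁻¹ = x) ∨ ∀ x ∈ F, n * x * n⁻¹ = x⁻¹ := by
        intro n hn hnF
        obtain ⟨k, hk1, hk5, hk⟩ := hpow n hnF
        interval_cases k
        · left; intro x hx; rw [hext n _ hk x hx]; simp
        · exact absurd ⟨n, hn, hnF, Or.inl hk⟩ hgen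
        · exact absurd ⟨n, hn, hnF, Or.inr hk⟩ hgen
        · right; intro x hx
          rw [hext n _ hk x hx, ← zpow_neg_one x, zpow_eq_zpow_emod' (-1) (orderOf_dvd_iff_pow_eq_one.mp (h5 ▸ Subgroup.orderOf_dvd_natCard F hx) : x ^ 5 = 1)]
          rfl
      obtain ⟨s0, hs0, hs0R⟩ := hSne
      obtain ⟨q0, hq0, u, hu, huF, rfl⟩ := D.ov.lift s0 hs0
      have hinv := (hone u hu huF).resolve_left fun e => hs0R (mul_mem hq0 (hfixR u hu huF e))
      refine ⟨u, hu, hinv, fun s hs => ?_⟩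
      obtain ⟨q, hq, n, hn, hnF, rfl⟩ := D.ov.lift s hs
      rcases hone n hn hnF with e | e
      · exact ⟨_, mul_mem hq (hfixR n hn hnF e), Or.inl rfl⟩
      · refine ⟨q * (n * u⁻¹), mul_mem hq (hfixR _ (mul_mem hn (inv_mem hu)) (mul_mem hnF (inv_mem huF)) fun x hx => ?_),
          Or.inr (by group)⟩
        have hx' : u⁻¹ * x * u ∈ F := (Subgroup.mem_normalizer_iff''.mp huF x).mp hx
        calc n * u⁻¹ * x * (n * u⁻¹)⁻¹ = n * (u⁻¹ * x * u) * n⁻¹ := by group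
          _ = u * (u⁻¹ * x * u) * u⁻¹ := by rw [e _ hx', hinv _ hx']
          _ = x := by group
  · have h3 := D.exp_three h9
    obtain ⟨f₁, g, hf₁, hg, hf₁1, hg1, hgf, hA, hsp, b, hb, hb1, hgb⟩ := D.exists_lines h9
    have hgenF : ∀ {p q : G}, p ∈ F → q ∈ F → p ≠ 1 → q ∉ Subgroup.zpowers p →
        ∀ x ∈ F, ∃ i j : ℤ, x = p ^ i * q ^ j := by
      intro p q hp hq hp1 hqp x hx
      rw [← D.closure_pair_eq h9 h3 hp hq hp1 hqp] at hx
      induction hx using Subgroup.closure_induction with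
      | mem y hy =>
        rcases hy with rfl | rfl
        · exact ⟨1, 0, by simp⟩
        · exact ⟨0, 1, by simp⟩
      | one => exact ⟨0, 0, by simp⟩
      | mul y w _ _ ihy ihw =>
        obtain ⟨i, j, rfl⟩ := ihy
        obtain ⟨i', j', rfl⟩ := ihw
        refine ⟨i + i', j + j', ?_⟩
        have hc : Commute (q ^ j) (p ^ i') := (D.ov.comm _ (F.zpow_mem hq j) _ (F.zpow_mem hp i'))
        rw [zpow_add, zpow_add, mul_assoc, ← mul_assoc (q ^ j), hc.eq]; group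
      | inv y _ ihy =>
        obtain ⟨i, j, rfl⟩ := ihy
        refine ⟨-i, -j, ?_⟩
        rw [mul_inv_rev, ← zpow_neg, ← zpow_neg]
        exact D.ov.comm _ (F.zpow_mem hq _) _ (F.zpow_mem hp _)
    have hindep : ∀ v ∈ V, f₁ * v = v * f₁ → g * v = v * g → v = 1 := fun v hv e1 e2 =>
      D.fpf v hv fun x hx => fixed_closure e1 e2 ((D.closure_pair_eq h9 h3 hf₁ hg hf₁1 hgf).ge hx)
    obtain ⟨a, ha, ha1, hfa⟩ : ∃ a ∈ V, a ≠ 1 ∧ f₁ * a = a * f₁ := by
      haveI : Nontrivial ↥(V ⊓ Subgroup.centralizer ({f₁} : Set G)) :=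
        Finite.one_lt_card_iff_nontrivial.mp (by rw [hA]; norm_num)
      obtain ⟨⟨a, ha⟩, ha1⟩ := exists_ne (1 : ↥(V ⊓ Subgroup.centralizer ({f₁} : Set G)))
      exact ⟨a, ha.1, fun e => ha1 (Subtype.ext e), (Subgroup.mem_centralizer_singleton_iff.mp ha.2).symm⟩
    -- elements of `F` with fixed points
    have hlines : ∀ x ∈ F, ∀ v ∈ V, v ≠ 1 → x * v = v * x → x ∈ Subgroup.zpowers f₁ ∨ x ∈ Subgroup.zpowers g := by
      intro x hx v hv hv1 hxv
      by_contra hh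
      push Not at hh
      obtain ⟨p, hp, q, hq, hfp, hgq, rfl⟩ := hsp v hv
      obtain ⟨i, j, rfl⟩ := hgenF hf₁ hg hf₁1 hgf x hx
      have hi : f₁ ^ i ≠ 1 := fun e => hh.2 (by rw [e, one_mul]; exact Subgroup.zpow_mem _ (Subgroup.mem_zpowers g) j)
      have hj : g ^ j ≠ 1 := fun e => hh.1 (by rw [e, mul_one]; exact Subgroup.zpow_mem _ (Subgroup.mem_zpowers f₁) i)
      have hgjf : Commute (g ^ j) f₁ := D.ov.comm _ (F.zpow_mem hg j) f₁ hf₁
      set p' := g ^ j * p * (g ^ j)⁻¹ with hp'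
      set q' := f₁ ^ i * q * (f₁ ^ i)⁻¹ with hq'
      have hp'f : f₁ * p' = p' * f₁ := ((hgjf.symm.mul_right (show Commute f₁ p from hfp)).mul_right hgjf.symm.inv_right).eq
      have hq'g : g * q' = q' * g := (((show Commute g (f₁ ^ i) from D.ov.comm _ hg _ (F.zpow_mem hf₁ i)).mul_right
        (show Commute g q from hgq)).mul_right (show Commute g (f₁ ^ i) from D.ov.comm _ hg _ (F.zpow_mem hf₁ i)).inv_right).eq
      have e1 : f₁ ^ i * p' * (f₁ ^ i)⁻¹ = p' := by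
        rw [((show Commute f₁ p' from hp'f).zpow_left i).eq, mul_inv_cancel_right]
      have e2 : g ^ j * q * (g ^ j)⁻¹ = q := by rw [((show Commute g q from hgq).zpow_left j).eq, mul_inv_cancel_right]
      have e : p' * q' = p * q := by
        calc p' * q' = (f₁ ^ i * p' * (f₁ ^ i)⁻¹) * (f₁ ^ i * (g ^ j * q * (g ^ j)⁻¹) * (f₁ ^ i)⁻¹) := by
              rw [e1, e2]
          _ = (f₁ ^ i * g ^ j) * (p * q) * (f₁ ^ i * g ^ j)⁻¹ := by rw [hp']; group
          _ = p * q := by rw [hxv, mul_inv_cancel_right]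
      have hp'V : p' ∈ V := D.conj_V (D.ov.F_le (F.zpow_mem hg j)) hp
      have hq'V : q' ∈ V := D.conj_V (D.ov.F_le (F.zpow_mem hf₁ i)) hq
      have e3 : p⁻¹ * p' = q * q'⁻¹ := by
        rw [eq_mul_inv_iff_mul_eq, mul_assoc, e, inv_mul_cancel_left]
      have e4 : p⁻¹ * p' = 1 := hindep _ (V.mul_mem (V.inv_mem hp) hp'V)
        ((show Commute f₁ p from hfp).inv_right.mul_right (show Commute f₁ p' from hp'f)).eq
        (by rw [e3]; exact ((show Commute g q from hgq).mul_right (show Commute g q' from hq'g).inv_right).eq)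
      have hp1 : p = 1 := by
        refine hindep p hp hfp ?_
        have h1 : Commute (g ^ j) p := mul_inv_eq_iff_eq_mul.mp (inv_mul_eq_one.mp e4).symm
        rcases zpow_cases (h3 g hg) (Subgroup.zpow_mem _ (Subgroup.mem_zpowers g) j) with e | e | e
        · exact absurd e hj
        · exact (e ▸ h1 : Commute g p).eq
        · have := (e ▸ h1 : Commute g⁻¹ p).inv_left
          rw [inv_inv] at this
          exact this.eq
      subst hp1
      have hq1 : q = 1 := by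
        refine hindep q hq ?_ hgq
        have e5 : q' = q := by
          rw [e4] at e3
          exact (mul_inv_eq_one.mp e3.symm).symm
        have h1 : Commute (f₁ ^ i) q := mul_inv_eq_iff_eq_mul.mp e5
        rcases zpow_cases (h3 f₁ hf₁) (Subgroup.zpow_mem _ (Subgroup.mem_zpowers f₁) i) with e | e | e
        · exact absurd e hi
        · exact (e ▸ h1 : Commute f₁ q).eq
        · have := (e ▸ h1 : Commute f₁⁻¹ q).inv_left
          rw [inv_inv] at this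
          exact this.eq
      exact hv1 (by rw [hq1, one_mul])
    have himg : ∀ n ∈ (S : Subgroup G), n ∈ Subgroup.normalizer (F : Set G) → ∀ x ∈ F,
        (∃ v ∈ V, v ≠ 1 ∧ x * v = v * x) → x ≠ 1 →
        n * x * n⁻¹ = f₁ ∨ n * x * n⁻¹ = f₁⁻¹ ∨ n * x * n⁻¹ = g ∨ n * x * n⁻¹ = g⁻¹ := by
      rintro n hn hnF x hx ⟨v, hv, hv1, hxv⟩ hx1
      have hy1 : n * x * n⁻¹ ≠ 1 := fun e => hx1 (by
        calc x = n⁻¹ * (n * x * n⁻¹) * n := by group
          _ = 1 := by rw [e]; group)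
      rcases hlines _ ((Subgroup.mem_normalizer_iff.mp hnF x).mp hx) _ (D.conj_V_S hn hv)
        (fun e => hv1 (by
          calc v = n⁻¹ * (n * v * n⁻¹) * n := by group
            _ = 1 := by rw [e]; group))
        (by calc n * x * n⁻¹ * (n * v * n⁻¹) = n * (x * v) * n⁻¹ := by group
              _ = n * (v * x) * n⁻¹ := by rw [hxv]
              _ = n * v * n⁻¹ * (n * x * n⁻¹) := by group) with e | e
      · rcases zpow_cases (h3 f₁ hf₁) e with e | e | e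
        · exact absurd e hy1
        · exact Or.inl e
        · exact Or.inr (Or.inl e)
      · rcases zpow_cases (h3 g hg) e with e | e | e
        · exact absurd e hy1
        · exact Or.inr (Or.inr (Or.inl e))
        · exact Or.inr (Or.inr (Or.inr e))
    obtain ⟨σ, hσ, hσF, hσ1⟩ : ∃ n ∈ (S : Subgroup G), n ∈ Subgroup.normalizer (F : Set G) ∧
        (n * f₁ * n⁻¹ = g ∨ n * f₁ * n⁻¹ = g⁻¹) := by
      by_contra hh
      push Not at hh
      rcases D.ov.irred (Subgroup.zpowers f₁) (Subgroup.zpowers_le.mpr hf₁) (fun n hn hnF x hx => by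
        obtain ⟨i, rfl⟩ := Subgroup.mem_zpowers_iff.mp hx
        rw [← conj_zpow]
        refine Subgroup.zpow_mem _ ?_ i
        obtain ⟨n1, n2⟩ := hh n hn hnF
        rcases himg n hn hnF f₁ hf₁ ⟨a, ha, ha1, hfa⟩ hf₁1 with e | e | e | e
        · rw [e]; exact Subgroup.mem_zpowers f₁
        · rw [e]; exact inv_mem (Subgroup.mem_zpowers f₁)
        · exact absurd e n1
        · exact absurd e n2) with e | e
      · exact hf₁1 (Subgroup.zpowers_eq_bot.mp e)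
      · exact hgf (e.ge hg)
    set f₂ := σ * f₁ * σ⁻¹ with hf₂def
    have hf₂ : f₂ ∈ F := (Subgroup.mem_normalizer_iff.mp hσF f₁).mp hf₁
    have hf₂g : g = f₂ ∨ g = f₂⁻¹ := hσ1.imp (fun e => e.symm) fun e => by
      rw [show f₂ = g⁻¹ from e, inv_inv]
    have hzp : Subgroup.zpowers f₂ = Subgroup.zpowers g := by
      rcases hf₂g with e | e <;> rw [e]
      rw [Subgroup.zpowers_inv]
    have hf₂f : f₂ ∉ Subgroup.zpowers f₁ := fun e => by
      rcases hf₂g with e' | e'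
      · exact hgf (e'.symm ▸ e)
      · exact hgf (e'.symm ▸ inv_mem e)
    have hcg : ∀ v : G, f₂ * v = v * f₂ ↔ g * v = v * g := fun v => by
      rcases hf₂g with e | e <;> rw [e]
      exact ⟨fun h => (Commute.inv_left (h : Commute f₂ v)).eq, fun h => by
        have := (Commute.inv_left (h : Commute f₂⁻¹ v))
        rw [inv_inv] at this
        exact this.eq⟩
    have himg₁ : ∀ n ∈ (S : Subgroup G), n ∈ Subgroup.normalizer (F : Set G) →
        n * f₁ * n⁻¹ = f₁ ∨ n * f₁ * n⁻¹ = f₁⁻¹ ∨ n * f₁ * n⁻¹ = f₂ ∨ n * f₁ * n⁻¹ = f₂⁻¹ := fun n hn hnF => by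
      rcases himg n hn hnF f₁ hf₁ ⟨a, ha, ha1, hfa⟩ hf₁1 with e | e | e | e
      · exact Or.inl e
      · exact Or.inr (Or.inl e)
      · rcases hf₂g with e' | e' <;> rw [e'] at e
        · exact Or.inr (Or.inr (Or.inl e))
        · exact Or.inr (Or.inr (Or.inr e))
      · rcases hf₂g with e' | e' <;> rw [e'] at e
        · exact Or.inr (Or.inr (Or.inr e))
        · rw [inv_inv] at e; exact Or.inr (Or.inr (Or.inl e))
    -- elements fixing the first line fix the second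
    have hT : ∀ n ∈ (S : Subgroup G), n ∈ Subgroup.normalizer (F : Set G) →
        (n * f₁ * n⁻¹ = f₁ ∨ n * f₁ * n⁻¹ = f₁⁻¹) → (n * f₂ * n⁻¹ = f₂ ∨ n * f₂ * n⁻¹ = f₂⁻¹) := by
      intro n hn hnF hn1
      have hpre : n * f₂ * n⁻¹ ∈ Subgroup.zpowers f₁ → False := fun e => by
        refine hf₂f ?_
        have h1 : n⁻¹ * f₁ * n ∈ Subgroup.zpowers f₁ := by
          rcases hn1 with e1 | e1
          · rw [show n⁻¹ * f₁ * n = f₁ by nth_rewrite 1 [← e1]; group]; exact Subgroup.mem_zpowers f₁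
          · rw [show n⁻¹ * f₁ * n = f₁⁻¹ by
              calc n⁻¹ * f₁ * n = (n⁻¹ * (n * f₁ * n⁻¹) * n)⁻¹ := by rw [e1]; group
                _ = f₁⁻¹ := by group]
            exact inv_mem (Subgroup.mem_zpowers f₁)
        obtain ⟨i, hi⟩ := Subgroup.mem_zpowers_iff.mp e
        rw [show f₂ = n⁻¹ * (n * f₂ * n⁻¹) * n by group, ← hi, show n⁻¹ * f₁ ^ i * n = (n⁻¹ * f₁ * n) ^ i by
          rw [show n⁻¹ * f₁ * n = n⁻¹ * f₁ * n⁻¹⁻¹ by group, conj_zpow, inv_inv]]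
        exact Subgroup.zpow_mem _ h1 i
      rcases himg n hn hnF f₂ hf₂ ⟨σ * a * σ⁻¹, D.conj_V_S hσ ha, fun e => ha1 (by
          calc a = σ⁻¹ * (σ * a * σ⁻¹) * σ := by group
            _ = 1 := by rw [e]; group), by
          calc σ * f₁ * σ⁻¹ * (σ * a * σ⁻¹) = σ * (f₁ * a) * σ⁻¹ := by group
            _ = σ * (a * f₁) * σ⁻¹ := by rw [hfa]
            _ = σ * a * σ⁻¹ * (σ * f₁ * σ⁻¹) := by group⟩
        (fun e => hf₂f (e ▸ one_mem _)) with e | e | e | e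
      · exact absurd (e ▸ Subgroup.mem_zpowers f₁) hpre
      · exact absurd (e ▸ inv_mem (Subgroup.mem_zpowers f₁)) hpre
      · rcases hf₂g with e' | e' <;> rw [e'] at e
        · exact Or.inl e
        · exact Or.inr e
      · rcases hf₂g with e' | e' <;> rw [e'] at e
        · exact Or.inr e
        · rw [inv_inv] at e; exact Or.inl e
    have hext : ∀ {n m : G}, n * f₁ * n⁻¹ = m * f₁ * m⁻¹ → n * f₂ * n⁻¹ = m * f₂ * m⁻¹ →
        ∀ x ∈ F, n * x * n⁻¹ = m * x * m⁻¹ := by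
      intro n m e1 e2 x hx
      obtain ⟨i, j, rfl⟩ := hgenF hf₁ hf₂ hf₁1 hf₂f x hx
      rw [show n * (f₁ ^ i * f₂ ^ j) * n⁻¹ = (n * f₁ ^ i * n⁻¹) * (n * f₂ ^ j * n⁻¹) by group,
        show m * (f₁ ^ i * f₂ ^ j) * m⁻¹ = (m * f₁ ^ i * m⁻¹) * (m * f₂ ^ j * m⁻¹) by group,
        ← conj_zpow, ← conj_zpow, ← conj_zpow, ← conj_zpow, e1, e2]
    have hsame : ∀ n m, n ∈ (S : Subgroup G) → n ∈ Subgroup.normalizer (F : Set G) → m ∈ (S : Subgroup G) →
        m ∈ Subgroup.normalizer (F : Set G) → n * f₁ * n⁻¹ = m * f₁ * m⁻¹ → n * f₂ * n⁻¹ = m * f₂ * m⁻¹ →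
        n * m⁻¹ ∈ pCoreOf 2 K := fun n m hn hnF hm hmF e1 e2 =>
      hfixR _ (mul_mem hn (inv_mem hm)) (mul_mem hnF (inv_mem hmF)) fun x hx => by
        have hx' : m⁻¹ * x * m ∈ F := (Subgroup.mem_normalizer_iff''.mp hmF x).mp hx
        calc n * m⁻¹ * x * (n * m⁻¹)⁻¹ = n * (m⁻¹ * x * m) * n⁻¹ := by group
          _ = m * (m⁻¹ * x * m) * m⁻¹ := hext e1 e2 _ hx'
          _ = x := by group
    have hσ2 : σ * f₂ * σ⁻¹ = f₁ ∨ σ * f₂ * σ⁻¹ = f₁⁻¹ := by
      have hss := himg₁ (σ * σ) (mul_mem hσ hσ) (mul_mem hσF hσF)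
      have e0 : σ * f₂ * σ⁻¹ = (σ * σ) * f₁ * (σ * σ)⁻¹ := by rw [hf₂def]; group
      rw [e0]
      rcases hss with e | e | e | e
      · exact Or.inl e
      · exact Or.inr e
      · exfalso
        refine hf₂f ?_
        have : σ * f₁ * σ⁻¹ = f₁ := by
          calc σ * f₁ * σ⁻¹ = σ⁻¹ * ((σ * σ) * f₁ * (σ * σ)⁻¹) * σ := by group
            _ = f₁ := by rw [e, hf₂def]; group
        rw [hf₂def, this]; exact Subgroup.mem_zpowers f₁
      · exfalso
        refine hf₂f ?_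
        have : σ * f₁ * σ⁻¹ = f₁⁻¹ := by
          calc σ * f₁ * σ⁻¹ = σ⁻¹ * ((σ * σ) * f₁ * (σ * σ)⁻¹) * σ := by group
            _ = f₁⁻¹ := by rw [e, hf₂def]; group
        rw [hf₂def, this]; exact inv_mem (Subgroup.mem_zpowers f₁)
    by_cases hmix : ∃ n ∈ (S : Subgroup G), n ∈ Subgroup.normalizer (F : Set G) ∧
        ((n * f₁ * n⁻¹ = f₁ ∧ n * f₂ * n⁻¹ = f₂⁻¹) ∨ (n * f₁ * n⁻¹ = f₁⁻¹ ∧ n * f₂ * n⁻¹ = f₂))
    · right; right
      obtain ⟨t, ht, htF, htf₁, htf₂⟩ : ∃ t, t ∈ (S : Subgroup G) ∧ t ∈ Subgroup.normalizer (F : Set G) ∧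
          t * f₁ * t⁻¹ = f₁ ∧ t * f₂ * t⁻¹ = f₂⁻¹ := by
        obtain ⟨n, hn, hnF, ⟨e1, e2⟩ | ⟨e1, e2⟩⟩ := hmix
        · exact ⟨n, hn, hnF, e1, e2⟩
        · refine ⟨σ * n * σ⁻¹, mul_mem (mul_mem hσ hn) (inv_mem hσ), mul_mem (mul_mem hσF hnF) (inv_mem hσF), ?_, ?_⟩
          · rcases hσ2 with e | e
            · calc σ * n * σ⁻¹ * f₁ * (σ * n * σ⁻¹)⁻¹ = σ * n * (σ⁻¹ * f₁ * σ) * n⁻¹ * σ⁻¹ := by group
                _ = σ * (n * f₂ * n⁻¹) * σ⁻¹ := by rw [← e]; group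
                _ = f₁ := by rw [e2, e]
            · calc σ * n * σ⁻¹ * f₁ * (σ * n * σ⁻¹)⁻¹ = σ * n * (σ⁻¹ * f₁⁻¹ * σ)⁻¹ * n⁻¹ * σ⁻¹ := by group
                _ = (σ * (n * f₂ * n⁻¹) * σ⁻¹)⁻¹ := by rw [← e]; group
                _ = f₁ := by rw [e2, e, inv_inv]
          · calc σ * n * σ⁻¹ * f₂ * (σ * n * σ⁻¹)⁻¹ = σ * (n * f₁ * n⁻¹) * σ⁻¹ := by rw [hf₂def]; group
              _ = f₂⁻¹ := by rw [e1, hf₂def]; group
      obtain ⟨τ, hτ, hτF, hτ1, hτ2⟩ : ∃ τ, τ ∈ (S : Subgroup G) ∧ τ ∈ Subgroup.normalizer (F : Set G) ∧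
          τ * f₁ * τ⁻¹ = f₂ ∧ τ * f₂ * τ⁻¹ = f₁ := by
        rcases hσ2 with e | e
        · exact ⟨σ, hσ, hσF, hf₂def.symm, e⟩
        · refine ⟨σ * t, mul_mem hσ ht, mul_mem hσF htF, ?_, ?_⟩
          · rw [show σ * t * f₁ * (σ * t)⁻¹ = σ * (t * f₁ * t⁻¹) * σ⁻¹ by group, htf₁]
          · rw [show σ * t * f₂ * (σ * t)⁻¹ = σ * (t * f₂ * t⁻¹) * σ⁻¹ by group, htf₂, ← conj_inv, e, inv_inv]
      have htB : (τ * t * τ⁻¹) * f₁ * (τ * t * τ⁻¹)⁻¹ = f₁⁻¹ ∧ (τ * t * τ⁻¹) * f₂ * (τ * t * τ⁻¹)⁻¹ = f₂ := by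
        have hu1 : τ⁻¹ * f₁ * τ = f₂ := by rw [← hτ2]; group
        have hu2 : τ⁻¹ * f₂ * τ = f₁ := by rw [← hτ1]; group
        refine ⟨?_, ?_⟩
        · rw [show (τ * t * τ⁻¹) * f₁ * (τ * t * τ⁻¹)⁻¹ = τ * (t * (τ⁻¹ * f₁ * τ) * t⁻¹) * τ⁻¹ by group, hu1,
            htf₂, ← conj_inv, hτ2]
        · rw [show (τ * t * τ⁻¹) * f₂ * (τ * t * τ⁻¹)⁻¹ = τ * (t * (τ⁻¹ * f₂ * τ) * t⁻¹) * τ⁻¹ by group, hu2,
            htf₁, hτ1]
      refine ⟨f₁, f₂, t, τ, ⟨hf₁, hf₂, h3 _ hf₁, h3 _ hf₂, hf₁1, ht, hτ, htF, hτF, htf₁, htf₂, hτ1, hτ2, ?_,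
        fun v hv => ?_, fun v hv e1 e2 => hindep v hv e1 ((hcg v).mp e2), hA, hgenF hf₁ hf₂ hf₁1 hf₂f⟩⟩
      · intro s hs
        obtain ⟨q, hq, n, hn, hnF, rfl⟩ := D.ov.lift s hs
        obtain ⟨k, hk, m, hm, hmF, hm1, hnm⟩ : ∃ k, k < 2 ∧ ∃ m, m ∈ (S : Subgroup G) ∧
            m ∈ Subgroup.normalizer (F : Set G) ∧ (m * f₁ * m⁻¹ = f₁ ∨ m * f₁ * m⁻¹ = f₁⁻¹) ∧ n = m * τ ^ k := by
          rcases himg₁ n hn hnF with e | e | e | e
          · exact ⟨0, by norm_num, n, hn, hnF, Or.inl e, by simp⟩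
          · exact ⟨0, by norm_num, n, hn, hnF, Or.inr e, by simp⟩
          all_goals
            refine ⟨1, by norm_num, n * τ⁻¹, mul_mem hn (inv_mem hτ), mul_mem hnF (inv_mem hτF), ?_, by simp⟩
            have hu2 : τ⁻¹ * f₁ * τ = f₂ := by rw [← hτ2]; group
            have hn2 : n * f₂ * n⁻¹ = f₁ ∨ n * f₂ * n⁻¹ = f₁⁻¹ := by
              have hu1 : τ⁻¹ * f₂ * τ = f₁ := by rw [← hτ1]; group
              have hm1 : τ⁻¹ * n * f₁ * (τ⁻¹ * n)⁻¹ = f₁ ∨ τ⁻¹ * n * f₁ * (τ⁻¹ * n)⁻¹ = f₁⁻¹ := by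
                rw [show τ⁻¹ * n * f₁ * (τ⁻¹ * n)⁻¹ = τ⁻¹ * (n * f₁ * n⁻¹) * τ by group, e]
                first
                  | exact Or.inl hu1
                  | (right; rw [← hu1]; group)
              have h1 := hT (τ⁻¹ * n) (mul_mem (inv_mem hτ) hn) (mul_mem (inv_mem hτF) hnF) hm1
              rw [show n * f₂ * n⁻¹ = τ * ((τ⁻¹ * n) * f₂ * (τ⁻¹ * n)⁻¹) * τ⁻¹ by group]
              rcases h1 with e' | e' <;> rw [e']
              · exact Or.inl hτ2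
              · right; rw [← conj_inv, hτ2]
            rw [show n * τ⁻¹ * f₁ * (n * τ⁻¹)⁻¹ = n * (τ⁻¹ * f₁ * τ) * n⁻¹ by group, hu2]
            exact hn2
        have ht2 : m * f₂ * m⁻¹ = f₂ ∨ m * f₂ * m⁻¹ = f₂⁻¹ := hT m hm hmF hm1
        obtain ⟨i, j, hi, hj, e1, e2⟩ : ∃ i j : ℕ, i < 2 ∧ j < 2 ∧
            (t ^ i * (τ * t * τ⁻¹) ^ j) * f₁ * (t ^ i * (τ * t * τ⁻¹) ^ j)⁻¹ = m * f₁ * m⁻¹ ∧
            (t ^ i * (τ * t * τ⁻¹) ^ j) * f₂ * (t ^ i * (τ * t * τ⁻¹) ^ j)⁻¹ = m * f₂ * m⁻¹ := by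
          have hcomp : ∀ x : G, (t * (τ * t * τ⁻¹)) * x * (t * (τ * t * τ⁻¹))⁻¹ =
              t * ((τ * t * τ⁻¹) * x * (τ * t * τ⁻¹)⁻¹) * t⁻¹ := fun x => by group
          rcases hm1 with e1 | e1 <;> rcases ht2 with e2 | e2
          · exact ⟨0, 0, by norm_num, by norm_num, by simp [e1], by simp [e2]⟩
          · exact ⟨1, 0, by norm_num, by norm_num, by simp [e1, htf₁], by simp [e2, htf₂]⟩
          · exact ⟨0, 1, by norm_num, by norm_num, by simp only [pow_zero, one_mul, pow_one]; rw [e1, htB.1],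
              by simp only [pow_zero, one_mul, pow_one]; rw [e2, htB.2]⟩
          · refine ⟨1, 1, by norm_num, by norm_num, ?_, ?_⟩
            · rw [pow_one, pow_one, hcomp, htB.1, ← conj_inv, htf₁, e1]
            · rw [pow_one, pow_one, hcomp, htB.2, htf₂, e2]
        have hmem : t ^ i * (τ * t * τ⁻¹) ^ j ∈ (S : Subgroup G) ∧
            t ^ i * (τ * t * τ⁻¹) ^ j ∈ Subgroup.normalizer (F : Set G) :=
          ⟨mul_mem (pow_mem ht i) (pow_mem (mul_mem (mul_mem hτ ht) (inv_mem hτ)) j),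
            mul_mem (pow_mem htF i) (pow_mem (mul_mem (mul_mem hτF htF) (inv_mem hτF)) j)⟩
        refine ⟨q * (m * (t ^ i * (τ * t * τ⁻¹) ^ j)⁻¹), mul_mem hq (hsame m _ hm hmF hmem.1 hmem.2 e1.symm e2.symm),
          i, j, k, hi, hj, hk, ?_⟩
        rw [hnm]; group
      · obtain ⟨p, hp, r, hr, hfp, hgr, rfl⟩ := hsp v hv
        exact ⟨p, hp, r, hr, hfp, (hcg r).mpr hgr, rfl⟩
    · push Not at hmix
      rcases hσ2 with e | e
      · exfalso
        have hprod : σ * (f₁ * f₂) * σ⁻¹ = f₁ * f₂ := by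
          calc σ * (f₁ * f₂) * σ⁻¹ = (σ * f₁ * σ⁻¹) * (σ * f₂ * σ⁻¹) := by group
            _ = f₂ * f₁ := by rw [e]
            _ = f₁ * f₂ := D.ov.comm f₂ hf₂ f₁ hf₁
        rcases D.ov.irred (Subgroup.zpowers (f₁ * f₂)) (Subgroup.zpowers_le.mpr (F.mul_mem hf₁ hf₂)) (fun n hn hnF x hx => by
          obtain ⟨i, rfl⟩ := Subgroup.mem_zpowers_iff.mp hx
          rw [← conj_zpow]
          refine Subgroup.zpow_mem _ ?_ i
          have hTn : ∀ m ∈ (S : Subgroup G), m ∈ Subgroup.normalizer (F : Set G) →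
              (m * f₁ * m⁻¹ = f₁ ∨ m * f₁ * m⁻¹ = f₁⁻¹) → m * (f₁ * f₂) * m⁻¹ ∈ Subgroup.zpowers (f₁ * f₂) := by
            intro m hm hmF hm1
            obtain ⟨h1, h2⟩ := hmix m hm hmF
            rw [show m * (f₁ * f₂) * m⁻¹ = (m * f₁ * m⁻¹) * (m * f₂ * m⁻¹) by group]
            rcases hm1 with e1 | e1
            · rw [e1, ((hT m hm hmF (Or.inl e1)).resolve_right (h1 e1))]
              exact Subgroup.mem_zpowers _
            · rw [e1, ((hT m hm hmF (Or.inr e1)).resolve_left (h2 e1)),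
                D.ov.comm _ (F.inv_mem hf₁) _ (F.inv_mem hf₂), ← mul_inv_rev]
              exact inv_mem (Subgroup.mem_zpowers _)
          rcases himg₁ n hn hnF with e' | e' | e' | e'
          · exact hTn n hn hnF (Or.inl e')
          · exact hTn n hn hnF (Or.inr e')
          all_goals
            have hm := hTn (σ⁻¹ * n) (mul_mem (inv_mem hσ) hn) (mul_mem (inv_mem hσF) hnF)
              (by rw [show σ⁻¹ * n * f₁ * (σ⁻¹ * n)⁻¹ = σ⁻¹ * (n * f₁ * n⁻¹) * σ by group, e', hf₂def]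
                  first
                    | (left; group; done)
                    | (right; group; done))
            obtain ⟨i, hi⟩ := Subgroup.mem_zpowers_iff.mp hm
            rw [show n * (f₁ * f₂) * n⁻¹ = σ * ((σ⁻¹ * n) * (f₁ * f₂) * (σ⁻¹ * n)⁻¹) * σ⁻¹ by group, ← hi,
              ← conj_zpow, hprod]
            exact Subgroup.zpow_mem _ (Subgroup.mem_zpowers _) i) with e' | e'
        · refine hf₂f ?_
          rw [eq_inv_of_mul_eq_one_right (Subgroup.zpowers_eq_bot.mp e')]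
          exact inv_mem (Subgroup.mem_zpowers f₁)
        · have h1 : Nat.card (Subgroup.zpowers (f₁ * f₂)) ≤ 3 := by
            rw [Nat.card_zpowers]
            exact orderOf_le_of_pow_eq_one (by norm_num) (h3 _ (F.mul_mem hf₁ hf₂))
          rw [e', h9] at h1
          omega
      · right; left
        have hu2 : ∀ x ∈ F, (σ * σ) * x * (σ * σ)⁻¹ = x⁻¹ := by
          intro x hx
          obtain ⟨i, j, rfl⟩ := hgenF hf₁ hf₂ hf₁1 hf₂f x hx
          have e1 : (σ * σ) * f₁ * (σ * σ)⁻¹ = f₁⁻¹ := by rw [← e, hf₂def]; group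
          have e2 : (σ * σ) * f₂ * (σ * σ)⁻¹ = f₂⁻¹ := by
            rw [show (σ * σ) * f₂ * (σ * σ)⁻¹ = σ * (σ * f₂ * σ⁻¹) * σ⁻¹ by group, e, ← conj_inv]
          rw [show σ * σ * (f₁ ^ i * f₂ ^ j) * (σ * σ)⁻¹ = (σ * σ * f₁ ^ i * (σ * σ)⁻¹) * (σ * σ * f₂ ^ j * (σ * σ)⁻¹)
              by group, ← conj_zpow, ← conj_zpow, e1, e2, inv_zpow, inv_zpow, mul_inv_rev]
          exact D.ov.comm _ (F.inv_mem (F.zpow_mem hf₁ i)) _ (F.inv_mem (F.zpow_mem hf₂ j))
        refine ⟨σ, hσ, hσF, hu2, fun s hs => ?_⟩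
        obtain ⟨q, hq, n, hn, hnF, rfl⟩ := D.ov.lift s hs
        have hTn : ∀ m ∈ (S : Subgroup G), m ∈ Subgroup.normalizer (F : Set G) →
            (m * f₁ * m⁻¹ = f₁ ∨ m * f₁ * m⁻¹ = f₁⁻¹) → m ∈ pCoreOf 2 K ∨ m * (σ * σ)⁻¹ ∈ pCoreOf 2 K := by
          intro m hm hmF hm1
          obtain ⟨h1, h2⟩ := hmix m hm hmF
          rcases hm1 with e1 | e1
          · left
            have e2 := (hT m hm hmF (Or.inl e1)).resolve_right (h1 e1)
            simpa using hsame m 1 hm hmF (one_mem _) (one_mem _) (by simpa using e1) (by simpa using e2)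
          · right
            have e2 := (hT m hm hmF (Or.inr e1)).resolve_left (h2 e1)
            exact hsame m (σ * σ) hm hmF (mul_mem hσ hσ) (mul_mem hσF hσF) (e1.trans (hu2 f₁ hf₁).symm)
              (e2.trans (hu2 f₂ hf₂).symm)
        rcases himg₁ n hn hnF with e' | e' | e' | e'
        · rcases hTn n hn hnF (Or.inl e') with h | h
          · exact ⟨_, mul_mem hq h, Or.inl rfl⟩
          · exact ⟨_, mul_mem hq h, Or.inr (Or.inr (Or.inl (by group)))⟩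
        · rcases hTn n hn hnF (Or.inr e') with h | h
          · exact ⟨_, mul_mem hq h, Or.inl rfl⟩
          · exact ⟨_, mul_mem hq h, Or.inr (Or.inr (Or.inl (by group)))⟩
        all_goals
          have hm := hTn (σ⁻¹ * n) (mul_mem (inv_mem hσ) hn) (mul_mem (inv_mem hσF) hnF)
            (by rw [show σ⁻¹ * n * f₁ * (σ⁻¹ * n)⁻¹ = σ⁻¹ * (n * f₁ * n⁻¹) * σ by group, e', hf₂def]
                first
                  | (left; group; done)
                  | (right; group; done))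
          have hSK := D.ov.S_le hσ
          rcases hm with h | h
          · exact ⟨q * (σ * (σ⁻¹ * n) * σ⁻¹), mul_mem hq (conj_mem_core hSK h), Or.inr (Or.inl (by group))⟩
          · exact ⟨q * (σ * (σ⁻¹ * n * (σ * σ)⁻¹) * σ⁻¹), mul_mem hq (conj_mem_core hSK h),
              Or.inr (Or.inr (Or.inr (by group)))⟩

end IData

end CfsgLib.SRFour
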