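import Mathlib
import Cfsg.Agent.Lib.SRFour.ITypeShape

/-!
The two cyclic shapes.

Blueprint: `blueprint/S0517.md`, §4.
-/

set_option autoImplicit false
set_option linter.unusedSectionVars false
set_option linter.style.haveILetI false

namespace CfsgLib.SRFour

open Cfsg
open scoped commutatorElement

universe u

variable {G : Type u} [Group G] [Finite G] {S : Sylow 2 G} {K F H V : Subgroup G}

theorem inZ_mem_core {a : G} (ha : InZ (S : Subgroup G) a) : a ∈ pCoreOf 2 (centZ (S : Subgroup G)) :=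
  le_core (pow_two_two fun b (hb : InZ (S : Subgroup G) b) => hb.2.1)
    (fun _ (hb : InZ (S : Subgroup G) _) => le_centZ _ hb.1) (centZ_norm _) (show a ∈ omegaZ (S : Subgroup G) from ha)

namespace IData

theorem conj_core_mul (D : IData (S : Subgroup G) K F H V) {r g v : G} (hr : r ∈ pCoreOf 2 K) (hg : g ∈ K)
    (hv : v ∈ V) : r * g * v * (r * g)⁻¹ = g * v * g⁻¹ := by
  rw [show r * g * v * (r * g)⁻¹ = r * (g * v * g⁻¹) * r⁻¹ by group, D.conj_R hr (D.conj_V hg hv)]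

/-- An element inverting `F` is outside the 2-core of `K`. -/
theorem notMem_R_of_inverts (D : IData (S : Subgroup G) K F H V) {p : G}
    (hinv : ∀ f ∈ F, p * f * p⁻¹ = f⁻¹) : p ∉ pCoreOf 2 K := by
  intro hp
  obtain ⟨f, hf, hf1, -⟩ := D.exists_fpf
  have hpn : p ∈ Subgroup.normalizer (F : Set G) := Subgroup.mem_normalizer_fintype fun x hx => by
    rw [hinv x hx]; exact F.inv_mem hx
  have h1 := hinv f hf
  rw [D.ov.comm_of_core hp hpn hf, mul_inv_cancel_right] at h1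
  refine hf1 (orderOf_eq_one_iff.mp ?_)
  refine Nat.eq_one_of_dvd_coprimes (Nat.coprime_two_right.mpr (D.ov.odd_order hf)) dvd_rfl ?_
  refine orderOf_dvd_of_pow_eq_one ?_
  rw [pow_two]
  nth_rewrite 1 [h1]
  exact inv_mul_cancel f

/-- An element inverting `F` centralises at most four elements of `V`. -/
theorem card_fix_le (D : IData (S : Subgroup G) K F H V) {p : G}
    (hinv : ∀ f ∈ F, p * f * p⁻¹ = f⁻¹) :
    Nat.card ↥(V ⊓ Subgroup.centralizer ({p} : Set G)) ≤ 4 := by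
  obtain ⟨f, hf, -, hfpf⟩ := D.exists_fpf
  set X := V ⊓ Subgroup.centralizer ({p} : Set G)
  have hfix : ∀ x ∈ X, p * x * p⁻¹ = x := fun x hx => by
    rw [← Subgroup.mem_centralizer_singleton_iff.mp hx.2, mul_inv_cancel_right]
  let φ : ↥X × ↥X → ↥V := fun a => ⟨a.1 * (f * a.2 * f⁻¹),
    V.mul_mem a.1.2.1 (D.conj_V (D.ov.F_le hf) a.2.2.1)⟩
  have hφ : Function.Injective φ := by
    rintro ⟨a, b⟩ ⟨a', b'⟩ e
    have e1 : (a : G) * (f * b * f⁻¹) = a' * (f * b' * f⁻¹) := congrArg Subtype.val e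
    have e2 : (a' : G)⁻¹ * a = f * ((b' : G) * (b : G)⁻¹) * f⁻¹ := by
      calc (a' : G)⁻¹ * a = (a' : G)⁻¹ * (a * (f * b * f⁻¹)) * (f * b * f⁻¹)⁻¹ := by group
        _ = _ := by rw [e1]; group
    set w := (b' : G) * (b : G)⁻¹ with hw
    have hwX : w ∈ X := X.mul_mem b'.2 (X.inv_mem b.2)
    have h2 : f⁻¹ * w * f = f * w * f⁻¹ := by
      have h3 := hfix _ (X.mul_mem (X.inv_mem a'.2) a.2)
      rw [e2, show p * (f * w * f⁻¹) * p⁻¹ = (p * f * p⁻¹) * (p * w * p⁻¹) * (p * f * p⁻¹)⁻¹ by group,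
        hinv f hf, hfix w hwX, inv_inv] at h3
      exact h3
    have h4 : Commute (f ^ 2) w := by
      show f ^ 2 * w = w * f ^ 2
      rw [pow_two]
      calc f * f * w = f * (f * w * f⁻¹) * f := by group
        _ = f * (f⁻¹ * w * f) * f := by rw [h2]
        _ = w * (f * f) := by group
    have h5 : Commute f w := by
      obtain ⟨k, hk⟩ := D.ov.odd_order hf
      have e3 : (f ^ 2) ^ (k + 1) = f := by
        rw [← pow_mul, show 2 * (k + 1) = orderOf f + 1 by omega, pow_succ, pow_orderOf_eq_one, one_mul]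
      rw [← e3]
      exact h4.pow_left _
    have hw1 := hfpf w hwX.1 h5
    have hb : b' = b := Subtype.ext (mul_inv_eq_one.mp hw1)
    subst hb
    exact Prod.ext (Subtype.ext (mul_right_cancel e1)) rfl
  have h1 := Nat.card_le_card_of_injective φ hφ
  rw [Nat.card_prod, D.card_V] at h1
  by_contra hh
  push Not at hh
  have := Nat.mul_le_mul hh hh
  omega

/-- `V` is the only elementary group of order sixteen inside `R ∪ Rp`. -/
theorem eq_V_of_two (D : IData (S : Subgroup G) K F H V) {p : G} (hp : p ∈ K)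
    (hinv : ∀ f ∈ F, p * f * p⁻¹ = f⁻¹) {A : Subgroup G} (hA : Nat.card A = 16)
    (hsq : ∀ a ∈ A, a * a = 1) (htwo : ∀ a ∈ A, ∃ r ∈ pCoreOf 2 K, a = r ∨ a = r * p) : A = V := by
  classical
  by_cases hAR : A ≤ pCoreOf 2 K
  · exact Subgroup.eq_of_le_of_card_ge (fun a ha => D.V_all a (hAR ha) (hsq a ha)) (by rw [hA, D.card_V])
  exfalso
  obtain ⟨a, ha, haR⟩ := Set.not_subset.mp hAR
  obtain ⟨r, hr, e | e⟩ := htwo a ha
  · exact haR (show a ∈ pCoreOf 2 K from e ▸ hr)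
  have hcls : ∀ x ∈ A, ∀ y ∈ A, decide (x ∈ pCoreOf 2 K) = decide (y ∈ pCoreOf 2 K) → x⁻¹ * y ∈ pCoreOf 2 K := by
    intro x hx y hy hxy
    simp only [decide_eq_decide] at hxy
    by_cases hxR : x ∈ pCoreOf 2 K
    · exact mul_mem (inv_mem hxR) (hxy.mp hxR)
    · obtain ⟨r1, hr1, e1 | e1⟩ := htwo x hx
      · exact absurd (e1 ▸ hr1) hxR
      obtain ⟨r2, hr2, e2 | e2⟩ := htwo y hy
      · exact absurd (hxy.mpr (e2 ▸ hr2)) hxR
      rw [e1, e2, show (r1 * p)⁻¹ * (r2 * p) = p⁻¹ * (r1⁻¹ * r2) * p⁻¹⁻¹ by group]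
      exact conj_mem_core (K.inv_mem hp) (mul_mem (inv_mem hr1) hr2)
  have h1 := card_le_of_classes (T := Bool) (fun x => decide (x ∈ pCoreOf 2 K)) hcls
  have h2 : A ⊓ pCoreOf 2 K ≤ V ⊓ Subgroup.centralizer ({p} : Set G) := by
    intro x hx
    have hxV : x ∈ V := D.V_all x hx.2 (hsq x hx.1)
    refine ⟨hxV, Subgroup.mem_centralizer_singleton_iff.mpr ?_⟩
    have h3 : a * x * a⁻¹ = x := by rw [comm_of_exp_two hsq a ha x hx.1, mul_inv_cancel_right]
    rw [e, D.conj_core_mul hr hp hxV] at h3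
    exact (mul_inv_eq_iff_eq_mul.mp h3).symm
  have h3 := (Subgroup.card_le_of_le h2).trans (D.card_fix_le hinv)
  rw [hA, Nat.card_eq_fintype_card (α := Bool), Fintype.card_bool] at h1
  omega

/-- The map `v ↦ [g, v]` on `V`. -/
def dlt (D : IData (S : Subgroup G) K F H V) {g : G} (hg : g ∈ K) : ↥V →* ↥V where
  toFun v := ⟨g * v * g⁻¹ * v, V.mul_mem (D.conj_V hg v.2) v.2⟩
  map_one' := Subtype.ext (by simp)
  map_mul' a b := Subtype.ext (by
    show g * ((a : G) * b) * g⁻¹ * (a * b) = g * a * g⁻¹ * a * (g * b * g⁻¹ * b)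
    calc g * ((a : G) * b) * g⁻¹ * (a * b) = (g * a * g⁻¹) * ((g * b * g⁻¹) * a) * b := by group
      _ = (g * a * g⁻¹) * (a * (g * b * g⁻¹)) * b := by rw [D.comm (D.conj_V hg b.2) a.2]
      _ = g * a * g⁻¹ * a * (g * b * g⁻¹ * b) := by group)

theorem commutator_eq (D : IData (S : Subgroup G) K F H V) {q v : G} (hv : v ∈ V) :
    ⁅q, v⁆ = q * v * q⁻¹ * v := by rw [commutatorElement_def, D.inv_eq hv]

/-- The shape with `S/O₂(K)` of order two is impossible. -/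
theorem false_of_two (h : Hard G) (D : IData (S : Subgroup G) K F H V) (hC : CycTwo (S : Subgroup G) K F) :
    False := by
  obtain ⟨u, hu, hinv, hdec⟩ := hC
  have huK := D.ov.S_le hu
  have hu2 : u * u ∈ pCoreOf 2 K := by
    obtain ⟨r, hr, e | e⟩ := hdec (u * u) (mul_mem hu hu)
    · exact e ▸ hr
    · exact absurd (mul_right_cancel e ▸ hr) (D.notMem_R_of_inverts hinv)
  refine D.false_of_le (fun v hv => D.mem_Q_of_comm h hv fun q hq => ?_) fun A hA hA16 hsq => ?_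
  · obtain ⟨r, hr, rfl | rfl⟩ := hdec q (core_le_sylow S (le_centZ _) hq)
    · rw [commutatorElement_eq_one_iff_mul_comm.mpr (D.V_cent _ hr v hv)]
      exact InZ.one _
    · rw [D.commutator_eq hv, D.conj_core_mul hr huK hv]
      have hw : u * v * u⁻¹ * v ∈ V := V.mul_mem (D.conj_V huK hv) hv
      refine D.inZ_of_mem hw fun s hs => ?_
      have hfix : u * (u * v * u⁻¹ * v) * u⁻¹ = u * v * u⁻¹ * v := by
        calc u * (u * v * u⁻¹ * v) * u⁻¹ = (u * u * v * (u * u)⁻¹) * (u * v * u⁻¹) := by group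
          _ = v * (u * v * u⁻¹) := by rw [D.conj_R hu2 hv]
          _ = u * v * u⁻¹ * v := D.comm hv (D.conj_V huK hv)
      obtain ⟨r', hr', rfl | rfl⟩ := hdec s hs
      · exact D.conj_R hr' hw
      · rw [D.conj_core_mul hr' huK hw, hfix]
  · exact D.eq_V_of_two huK hinv hA16 hsq fun a ha => hdec a (core_le_sylow S (le_centZ _) (hA ha))

/-- The shape with `S/O₂(K)` cyclic of order four is impossible. -/
theorem false_of_four (h : Hard G) (D : IData (S : Subgroup G) K F H V) (hC : CycFour (S : Subgroup G) K F) :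
    False := by
  classical
  obtain ⟨u, hu, huF, hinv, hdec⟩ := hC
  have huK := D.ov.S_le hu
  set w₂ := u * u with hw₂
  have hwS : w₂ ∈ (S : Subgroup G) := mul_mem hu hu
  have hwK := D.ov.S_le hwS
  have hwR := D.notMem_R_of_inverts hinv
  have hu4 : w₂ * w₂ ∈ pCoreOf 2 K := D.ov.mem_core_of_fix S.isPGroup' (mul_mem hwS hwS)
    (mul_mem (mul_mem huF huF) (mul_mem huF huF)) fun f hf => by
      refine mul_inv_eq_iff_eq_mul.mp ?_
      rw [show w₂ * w₂ * f * (w₂ * w₂)⁻¹ = w₂ * (w₂ * f * w₂⁻¹) * w₂⁻¹ by group, hinv f hf,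
        hinv _ (F.inv_mem hf), inv_inv]
  set Q := pCoreOf 2 (centZ (S : Subgroup G)) with hQ
  have hQS : Q ≤ (S : Subgroup G) := core_le_sylow S (le_centZ _)
  -- elements squaring to one avoid the odd cosets
  have hevn : ∀ t ∈ (S : Subgroup G), t * t = 1 → ∃ r ∈ pCoreOf 2 K, t = r ∨ t = r * w₂ := by
    intro t ht htt
    obtain ⟨r, hr, e | e | e | e⟩ := hdec t ht
    · exact ⟨r, hr, Or.inl e⟩
    · exfalso
      refine hwR ?_
      have e1 : w₂ = (r * (u * r * u⁻¹))⁻¹ * (t * t) := by rw [e, hw₂]; group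
      rw [e1, htt, mul_one]
      exact inv_mem (mul_mem hr (conj_mem_core huK hr))
    · exact ⟨r, hr, Or.inr e⟩
    · exfalso
      refine hwR ?_
      have hu3 : w₂ * u ∈ K := K.mul_mem hwK huK
      have e1 : w₂ = (w₂ * w₂)⁻¹ * ((r * (w₂ * u * r * (w₂ * u)⁻¹))⁻¹ * (t * t)) := by rw [e, hw₂]; group
      rw [e1, htt, mul_one]
      exact mul_mem (inv_mem hu4) (inv_mem (mul_mem hr (conj_mem_core hu3 hr)))
  have huniq : ∀ A : Subgroup G, A ≤ Q → Nat.card A = 16 → (∀ a ∈ A, a * a = 1) → A = V :=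
    fun A hA hA16 hsq => D.eq_V_of_two hwK hinv hA16 hsq fun a ha => hevn a (hQS (hA ha)) (hsq a ha)
  by_cases hQR : Q ≤ pCoreOf 2 K
  · refine D.false_of_le (fun v hv => D.mem_Q_of_comm h hv fun q hq => ?_) huniq
    rw [commutatorElement_eq_one_iff_mul_comm.mpr (D.V_cent _ (hQR hq) v hv)]
    exact InZ.one _
  -- the two maps
  set δ := D.dlt huK with hδ
  set d := D.dlt hwK with hd
  have hδδ : ∀ v, δ (δ v) = d v := fun v => Subtype.ext (by
    show u * (u * v * u⁻¹ * v) * u⁻¹ * (u * v * u⁻¹ * v) = w₂ * v * w₂⁻¹ * v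
    calc u * (u * (v : G) * u⁻¹ * v) * u⁻¹ * (u * v * u⁻¹ * v)
        = (w₂ * v * w₂⁻¹) * ((u * v * u⁻¹) * (u * v * u⁻¹)) * v := by rw [hw₂]; group
      _ = w₂ * v * w₂⁻¹ * v := by rw [D.V_sq _ (D.conj_V huK v.2), mul_one])
  have hdd : ∀ v, d (d v) = 1 := fun v => Subtype.ext (by
    show w₂ * (w₂ * v * w₂⁻¹ * v) * w₂⁻¹ * (w₂ * v * w₂⁻¹ * v) = 1
    calc w₂ * (w₂ * (v : G) * w₂⁻¹ * v) * w₂⁻¹ * (w₂ * v * w₂⁻¹ * v)
        = (w₂ * w₂ * v * (w₂ * w₂)⁻¹) * ((w₂ * v * w₂⁻¹) * (w₂ * v * w₂⁻¹)) * v := by group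
      _ = 1 := by rw [D.V_sq _ (D.conj_V hwK v.2), D.conj_R hu4 v.2, mul_one, D.V_sq _ v.2])
  have hker : Nat.card d.ker ≤ 4 := by
    refine le_trans ?_ (D.card_fix_le hinv)
    let ψ : ↥d.ker → ↥(V ⊓ Subgroup.centralizer ({w₂} : Set G)) := fun v => ⟨v.1, v.1.2, by
      have e : w₂ * (v.1 : G) * w₂⁻¹ * v.1 = 1 := congrArg Subtype.val v.2
      refine Subgroup.mem_centralizer_singleton_iff.mpr ?_
      have e' := eq_inv_of_mul_eq_one_left e
      rw [D.inv_eq v.1.2] at e'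
      exact (mul_inv_eq_iff_eq_mul.mp e').symm⟩
    exact Nat.card_le_card_of_injective ψ fun a b e => Subtype.ext (Subtype.ext (congrArg (Subtype.val : ↥(V ⊓ Subgroup.centralizer ({w₂} : Set G)) → G) e))
  have hcards : ∀ φ : ↥V →* ↥V, Nat.card φ.ker * Nat.card φ.range = 16 := fun φ => by
    rw [← Subgroup.index_ker, Subgroup.card_mul_index, D.card_V]
  have hrd : d.range ≤ d.ker := by rintro _ ⟨v, rfl⟩; exact hdd v
  have hrd4 : 4 ≤ Nat.card d.range := by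
    have h1 := hcards d
    have := Nat.mul_le_mul_right (Nat.card d.range) hker
    omega
  have hkd : d.ker = d.range :=
    (Subgroup.eq_of_le_of_card_ge hrd (hker.trans hrd4)).symm
  have hδd : ∀ v, δ (d v) = d (δ v) := fun v => by rw [← hδδ, ← hδδ]
  have hmove : ∃ x ∈ d.ker, δ x ≠ 1 := by
    by_contra hh
    push Not at hh
    have h1 : δ.ker = d.ker := le_antisymm (fun v hv => by
      rw [MonoidHom.mem_ker] at hv ⊢
      rw [← hδδ, hv, map_one]) hh
    have h2 : d.range ≤ δ.range := by rintro _ ⟨v, rfl⟩; exact ⟨δ v, hδδ v⟩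
    have h3 : δ.range = d.range := by
      refine (Subgroup.eq_of_le_of_card_ge h2 ?_).symm
      have e1 := hcards δ
      have e2 := hcards d
      rw [h1] at e1
      exact le_of_eq (Nat.eq_of_mul_eq_mul_left Nat.card_pos (e1.trans e2.symm))
    have h4 : ∀ v, d v = 1 := fun v => by
      rw [← hδδ]
      exact hh _ (hkd ▸ h3 ▸ ⟨v, rfl⟩)
    have h5 : d.range = ⊥ := eq_bot_iff.mpr (by rintro _ ⟨v, rfl⟩; exact h4 v)
    rw [h5, Subgroup.card_bot] at hrd4
    omega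
  obtain ⟨y, hy⟩ : ∃ y, d (δ y) ≠ 1 := by
    obtain ⟨x, hx, hx1⟩ := hmove
    obtain ⟨y, rfl⟩ : x ∈ d.range := hkd ▸ hx
    exact ⟨y, fun e => hx1 ((hδd y).trans e)⟩
  -- elements of `ker δ` are central
  have hZδ : ∀ v : ↥V, δ v = 1 → InZ (S : Subgroup G) (v : G) := fun v hv => by
    have e : u * (v : G) * u⁻¹ * v = 1 := congrArg Subtype.val hv
    have e' := eq_inv_of_mul_eq_one_left e
    rw [D.inv_eq v.2] at e'
    have e'' : w₂ * (v : G) * w₂⁻¹ = v := by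
      calc w₂ * (v : G) * w₂⁻¹ = u * (u * v * u⁻¹) * u⁻¹ := by rw [hw₂]; group
        _ = v := by rw [e', e']
    have e3 : w₂ * u * (v : G) * (w₂ * u)⁻¹ = v := by
      calc w₂ * u * (v : G) * (w₂ * u)⁻¹ = w₂ * (u * v * u⁻¹) * w₂⁻¹ := by group
        _ = v := by rw [e', e'']
    refine D.inZ_of_mem v.2 fun s hs => ?_
    obtain ⟨r, hr, rfl | rfl | rfl | rfl⟩ := hdec s hs
    · exact D.conj_R hr v.2
    · rw [D.conj_core_mul hr huK v.2, e']
    · rw [D.conj_core_mul hr hwK v.2, e'']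
    · rw [D.conj_core_mul hr (K.mul_mem hwK huK) v.2, e3]
  have hZX : ∀ x ∈ d.ker, InZ (S : Subgroup G) ((δ x : ↥V) : G) := fun x hx =>
    hZδ _ (by rw [hδδ]; exact hx)
  -- commutators of `V` with the cosets
  have hcW : ∀ {r : G}, r ∈ pCoreOf 2 K → ∀ v : ↥V, ⁅r * w₂, (v : G)⁆ = (d v : ↥V) := fun {r} hr v => by
    rw [D.commutator_eq v.2, D.conj_core_mul hr hwK v.2]; rfl
  have hcU : ∀ {r : G}, r ∈ pCoreOf 2 K → ∀ v : ↥V, ⁅r * u, (v : G)⁆ = (δ v : ↥V) := fun {r} hr v => by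
    rw [D.commutator_eq v.2, D.conj_core_mul hr huK v.2]; rfl
  have hcX : ∀ {r : G}, r ∈ pCoreOf 2 K → ∀ x ∈ d.ker, ⁅r * (w₂ * u), (x : G)⁆ = (δ x : ↥V) := fun {r} hr x hx => by
    rw [D.commutator_eq x.2, D.conj_core_mul hr (K.mul_mem hwK huK) x.2]
    have e : w₂ * (δ x : ↥V) * w₂⁻¹ = ((δ x : ↥V) : G) := by
      rw [(hZX x hx).2.2 w₂ hwS, mul_inv_cancel_right]
    have e2 : w₂ * (x : G) * w₂⁻¹ = x := by
      have e := congrArg Subtype.val (show d x = 1 from hx)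
      have e' := eq_inv_of_mul_eq_one_left (show w₂ * (x : G) * w₂⁻¹ * x = 1 from e)
      rwa [D.inv_eq x.2] at e'
    have e1 : w₂ * (u * x * u⁻¹ * x) * w₂⁻¹ = u * x * u⁻¹ * x := e
    calc w₂ * u * (x : G) * (w₂ * u)⁻¹ * x = w₂ * (u * x * u⁻¹) * w₂⁻¹ * (w₂ * x * w₂⁻¹) := by rw [e2]; group
      _ = w₂ * (u * x * u⁻¹ * x) * w₂⁻¹ := by group
      _ = _ := e1
  have hcomQ : ∀ v : ↥V, ∀ q ∈ Q, ⁅q, (v : G)⁆ ∈ Q := fun v q hq => by
    have := mul_mem hq (conj_mem_core (D.V_le_M v.2) (inv_mem hq))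
    simpa [commutatorElement_def, mul_assoc] using this
  -- an element of `Q` in the coset of `u`, or all of them in `R ∪ Rw₂`
  have hsplit : (∃ r ∈ pCoreOf 2 K, r * u ∈ Q) ∨
      ((∀ q ∈ Q, ∃ r ∈ pCoreOf 2 K, q = r ∨ q = r * w₂) ∧ ∃ r ∈ pCoreOf 2 K, r * w₂ ∈ Q) := by
    by_cases hodd : ∃ r ∈ pCoreOf 2 K, r * u ∈ Q
    · exact Or.inl hodd
    have hall : ∀ q ∈ Q, ∃ r ∈ pCoreOf 2 K, q = r ∨ q = r * w₂ := by
      intro q hq
      obtain ⟨r, hr, e | e | e | e⟩ := hdec q (hQS hq)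
      · exact ⟨r, hr, Or.inl e⟩
      · exact absurd ⟨r, hr, e ▸ hq⟩ hodd
      · exact ⟨r, hr, Or.inr e⟩
      · refine absurd ⟨(w₂ * u)⁻¹ * r⁻¹ * (w₂ * u)⁻¹⁻¹ * (w₂ * w₂)⁻¹, mul_mem (conj_mem_core
          (K.inv_mem (K.mul_mem hwK huK)) (inv_mem hr)) (inv_mem hu4), ?_⟩ hodd
        rw [show (w₂ * u)⁻¹ * r⁻¹ * (w₂ * u)⁻¹⁻¹ * (w₂ * w₂)⁻¹ * u = q⁻¹ by rw [e, hw₂]; group]
        exact inv_mem hq
    refine Or.inr ⟨hall, ?_⟩
    obtain ⟨q, hq, hqR⟩ := Set.not_subset.mp hQR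
    obtain ⟨r, hr, e | e⟩ := hall q hq
    · exact absurd (show q ∈ pCoreOf 2 K from e ▸ hr) hqR
    · exact ⟨r, hr, e ▸ hq⟩
  have himQ : ∀ v : ↥V, ((δ v : ↥V) : G) ∈ Q := by
    rcases hsplit with ⟨r, hr, hrQ⟩ | ⟨hall, -⟩
    · intro v; rw [← hcU hr v]; exact hcomQ v _ hrQ
    · intro v
      refine D.mem_Q_of_comm h (δ v).2 fun q hq => ?_
      obtain ⟨r, hr, rfl | rfl⟩ := hall q hq
      · rw [commutatorElement_eq_one_iff_mul_comm.mpr (D.V_cent _ hr _ (δ v).2)]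
        exact InZ.one _
      · rw [hcW hr, ← hδd]
        exact hZX _ (hdd v)
  set X := d.ker.map V.subtype with hX
  have hXQ : ∀ x ∈ d.ker, (x : G) ∈ Q := fun x hx => by
    obtain ⟨v, rfl⟩ : x ∈ d.range := hkd ▸ hx
    rw [← hδδ]
    exact himQ _
  have hXsq : ∀ x ∈ X, x * x = 1 := by rintro _ ⟨x, -, rfl⟩; exact D.V_sq _ x.2
  -- `t` commuting with the image of `δ` is in `V`
  have hinV : ∀ t ∈ Q, t * t = 1 → t * (δ y : ↥V) = (δ y : ↥V) * t → t ∈ V := by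
    intro t ht htt htc
    obtain ⟨r, hr, e | e⟩ := hevn t (hQS ht) htt
    · exact D.V_all t (e ▸ hr) htt
    · exfalso
      refine hy (Subtype.ext ?_)
      show ((d (δ y) : ↥V) : G) = 1
      rw [← hcW hr, ← e]
      exact commutatorElement_eq_one_iff_mul_comm.mpr htc
  have hM : centZ (S : Subgroup G) ≤ Subgroup.normalizer (X : Set G) := by
    rcases hsplit with ⟨r0, hr0, hr0Q⟩ | ⟨hall, r0, hr0, hr0Q⟩
    · have hiff : ∀ t, t ∈ X ↔ t ∈ Q ∧ t * t = 1 ∧ (∀ s ∈ Q, s * s = 1 → s * t = t * s) ∧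
          ∀ q ∈ Q, InZ (S : Subgroup G) ⁅q, t⁆ := by
        intro t
        constructor
        · rintro ⟨x, hx, rfl⟩
          refine ⟨hXQ x hx, D.V_sq _ x.2, fun s hs hss => ?_, fun q hq => ?_⟩
          · obtain ⟨r, hr, rfl | rfl⟩ := hevn s (hQS hs) hss
            · exact D.V_cent _ hr _ x.2
            · refine commutatorElement_eq_one_iff_mul_comm.mp ?_
              show ⁅r * w₂, (x : G)⁆ = 1
              rw [hcW hr, show d x = 1 from hx]; rfl
          · obtain ⟨r, hr, rfl | rfl | rfl | rfl⟩ := hdec q (hQS hq)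
            · show InZ (S : Subgroup G) ⁅_, (x : G)⁆
              rw [commutatorElement_eq_one_iff_mul_comm.mpr (D.V_cent _ hr _ x.2)]; exact InZ.one _
            · show InZ (S : Subgroup G) ⁅r * u, (x : G)⁆
              rw [hcU hr]; exact hZX x hx
            · show InZ (S : Subgroup G) ⁅r * w₂, (x : G)⁆
              rw [hcW hr, show d x = 1 from hx]; exact InZ.one _
            · show InZ (S : Subgroup G) ⁅r * (w₂ * u), (x : G)⁆
              rw [hcX hr x hx]; exact hZX x hx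
        · rintro ⟨htQ, htt, hcm, hcz⟩
          have htV := hinV t htQ htt (hcm _ (himQ y) (D.V_sq _ (δ y).2)).symm
          refine ⟨⟨t, htV⟩, ?_, rfl⟩
          show d ⟨t, htV⟩ = 1
          rw [← hδδ]
          refine Subtype.ext ?_
          show u * ((δ ⟨t, htV⟩ : ↥V) : G) * u⁻¹ * (δ ⟨t, htV⟩ : ↥V) = 1
          have h1 : InZ (S : Subgroup G) ((δ ⟨t, htV⟩ : ↥V) : G) := by
            rw [← hcU hr0]; exact hcz _ hr0Q
          rw [h1.2.2 u hu, mul_inv_cancel_right]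
          exact h1.2.1
      refine Subgroup.le_normalizer_iff.mpr fun m hm t ht => ?_
      obtain ⟨htQ, htt, hcm, hcz⟩ := (hiff t).mp ht
      refine (hiff _).mpr ⟨conj_mem_core hm htQ, by
        rw [show m * t * m⁻¹ * (m * t * m⁻¹) = m * (t * t) * m⁻¹ by group, htt, mul_one, mul_inv_cancel],
        fun s hs hss => ?_, fun q hq => ?_⟩
      · have hs' := conj_mem_core ((centZ (S : Subgroup G)).inv_mem hm) hs
        have e := hcm _ hs' (by
          rw [show m⁻¹ * s * m⁻¹⁻¹ * (m⁻¹ * s * m⁻¹⁻¹) = m⁻¹ * (s * s) * m by group, hss, mul_one, inv_mul_cancel])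
        calc s * (m * t * m⁻¹) = m * (m⁻¹ * s * m⁻¹⁻¹ * t) * m⁻¹ := by group
          _ = m * (t * (m⁻¹ * s * m⁻¹⁻¹)) * m⁻¹ := by rw [e]
          _ = m * t * m⁻¹ * s := by group
      · have hq' := conj_mem_core ((centZ (S : Subgroup G)).inv_mem hm) hq
        have h1 := hcz _ hq'
        have e : ⁅q, m * t * m⁻¹⁆ = m * ⁅m⁻¹ * q * m⁻¹⁻¹, t⁆ * m⁻¹ := by simp only [commutatorElement_def]; group
        rw [e, D.comm_inZ hm h1, mul_inv_cancel_right]
        exact h1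
    · have hiff : ∀ t, t ∈ X ↔ t ∈ Q ∧ t * t = 1 ∧ ∀ q ∈ Q, q * t = t * q := by
        intro t
        constructor
        · rintro ⟨x, hx, rfl⟩
          refine ⟨hXQ x hx, D.V_sq _ x.2, fun q hq => ?_⟩
          obtain ⟨r, hr, rfl | rfl⟩ := hall q hq
          · exact D.V_cent _ hr _ x.2
          · refine commutatorElement_eq_one_iff_mul_comm.mp ?_
            show ⁅r * w₂, (x : G)⁆ = 1
            rw [hcW hr, show d x = 1 from hx]; rfl
        · rintro ⟨htQ, htt, hcm⟩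
          have htV := hinV t htQ htt (hcm _ (himQ y)).symm
          refine ⟨⟨t, htV⟩, ?_, rfl⟩
          refine Subtype.ext ?_
          show ((d ⟨t, htV⟩ : ↥V) : G) = 1
          rw [← hcW hr0]
          exact commutatorElement_eq_one_iff_mul_comm.mpr (hcm _ hr0Q)
      refine Subgroup.le_normalizer_iff.mpr fun m hm t ht => ?_
      obtain ⟨htQ, htt, hcm⟩ := (hiff t).mp ht
      refine (hiff _).mpr ⟨conj_mem_core hm htQ, by
        rw [show m * t * m⁻¹ * (m * t * m⁻¹) = m * (t * t) * m⁻¹ by group, htt, mul_one, mul_inv_cancel],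
        fun q hq => ?_⟩
      have e := hcm _ (conj_mem_core ((centZ (S : Subgroup G)).inv_mem hm) hq)
      calc q * (m * t * m⁻¹) = m * (m⁻¹ * q * m⁻¹⁻¹ * t) * m⁻¹ := by group
        _ = m * (t * (m⁻¹ * q * m⁻¹⁻¹)) * m⁻¹ := by rw [e]
        _ = m * t * m⁻¹ * q := by group
  refine D.false_of_le (fun v hv => (D.good_M h).mem_core_of_act (pow_two_two hXsq) hM (D.V_le_M hv) ?_ ?_) huniq
  · rintro _ ⟨x, -, rfl⟩
    exact D.comm hv x.2
  · intro q hq hqX
    obtain ⟨x, hx, hx1⟩ := hmove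
    have hbad : ⁅q, (x : G)⁆ = ((δ x : ↥V) : G) → False := fun e => hx1 (Subtype.ext (by
      rw [← e]
      exact commutatorElement_eq_one_iff_mul_comm.mpr (hqX _ ⟨x, hx, rfl⟩)))
    obtain ⟨r, hr, rfl | rfl | rfl | rfl⟩ := hdec q (hQS hq)
    · rw [commutatorElement_eq_one_iff_mul_comm.mpr (D.V_cent _ hr v hv)]
      exact one_mem _
    · exact (hbad (hcU hr x)).elim
    · rw [hcW hr ⟨v, hv⟩]
      exact ⟨d ⟨v, hv⟩, hdd _, rfl⟩
    · exact (hbad (hcX hr x hx)).elim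

end IData

end CfsgLib.SRFour
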