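import Mathlib
import Cfsg.Agent.Lib.SRFour.ITypeCyclic

/-!
Coordinates on `V` in the wreathed shape.

Blueprint: `blueprint/S0517.md`, §4.
-/

set_option autoImplicit false
set_option linter.unusedSectionVars false
set_option linter.style.haveILetI false

namespace CfsgLib.SRFour

open Cfsg
open scoped commutatorElement

universe u

variable {G : Type u} [Group G]

/-- `g` or `1`. -/
def bp (g : G) (b : Bool) : G := if b then g else 1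

@[simp] theorem bp_true (g : G) : bp g true = g := rfl

@[simp] theorem bp_false (g : G) : bp g false = 1 := rfl

theorem bp_mem {A : Subgroup G} {g : G} (h : g ∈ A) (b : Bool) : bp g b ∈ A := by
  cases b
  · exact one_mem _
  · exact h

theorem conj_bp (x g : G) (b : Bool) : x * bp g b * x⁻¹ = bp (x * g * x⁻¹) b := by
  cases b <;> simp

/-- Coordinates for the wreathed shape. -/
structure WrFrame (S K F V : Subgroup G) (f₁ f₂ t₁ t₂ σ u₁ z₁ u₂ z₂ : G) : Prop extends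
    WrShape S K F V f₁ f₂ t₁ σ where
  t₂_eq : t₂ = σ * t₁ * σ⁻¹
  u₁_mem : u₁ ∈ V
  z₁_mem : z₁ ∈ V
  z₁_ne : z₁ ≠ 1
  f₁u₁ : f₁ * u₁ = u₁ * f₁
  f₁z₁ : f₁ * z₁ = z₁ * f₁
  f₂u₂ : f₂ * u₂ = u₂ * f₂
  f₂z₂ : f₂ * z₂ = z₂ * f₂
  σu₁ : σ * u₁ * σ⁻¹ = u₂
  σz₁ : σ * z₁ * σ⁻¹ = z₂
  σu₂ : σ * u₂ * σ⁻¹ = u₁
  σz₂ : σ * z₂ * σ⁻¹ = z₁
  t₁u₁ : t₁ * u₁ * t₁⁻¹ = u₁ * z₁
  t₁z₁ : t₁ * z₁ * t₁⁻¹ = z₁
  t₁u₂ : t₁ * u₂ * t₁⁻¹ = u₂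
  t₁z₂ : t₁ * z₂ * t₁⁻¹ = z₂
  t₂u₁ : t₂ * u₁ * t₂⁻¹ = u₁
  t₂z₁ : t₂ * z₁ * t₂⁻¹ = z₁
  t₂u₂ : t₂ * u₂ * t₂⁻¹ = u₂ * z₂
  t₂z₂ : t₂ * z₂ * t₂⁻¹ = z₂
  coords : ∀ v ∈ V, ∃ a b c d : Bool, v = bp u₁ a * bp z₁ b * (bp u₂ c * bp z₂ d)
  coords_A₁ : ∀ v ∈ V, f₁ * v = v * f₁ → ∃ a b : Bool, v = bp u₁ a * bp z₁ b
  coords_A₂ : ∀ v ∈ V, f₂ * v = v * f₂ → ∃ a b : Bool, v = bp u₂ a * bp z₂ b

variable [Finite G] {S : Sylow 2 G} {K F H V : Subgroup G} {f₁ f₂ t₁ σ : G}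

namespace IData

/-- Conjugation preserves commuting, transporting the operator. -/
theorem comm_conj {f g a f' : G} (h : f * a = a * f) (e : g * f * g⁻¹ = f') :
    f' * (g * a * g⁻¹) = (g * a * g⁻¹) * f' := by
  subst e
  calc g * f * g⁻¹ * (g * a * g⁻¹) = g * (f * a) * g⁻¹ := by group
    _ = g * (a * f) * g⁻¹ := by rw [h]
    _ = g * a * g⁻¹ * (g * f * g⁻¹) := by group

theorem comm_inv' {f a : G} (h : f⁻¹ * a = a * f⁻¹) : f * a = a * f := by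
  have := (show Commute f⁻¹ a from h).inv_left
  rwa [inv_inv] at this

theorem fix_of_pair (D : IData (S : Subgroup G) K F H V) (w : WrShape (S : Subgroup G) K F V f₁ f₂ t₁ σ)
    {g : G} (h1 : g * f₁ * g⁻¹ = f₁) (h2 : g * f₂ * g⁻¹ = f₂) : ∀ f ∈ F, g * f * g⁻¹ = f := by
  intro f hf
  obtain ⟨i, j, rfl⟩ := w.gen f hf
  rw [show g * (f₁ ^ i * f₂ ^ j) * g⁻¹ = (g * f₁ ^ i * g⁻¹) * (g * f₂ ^ j * g⁻¹) by group,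
    ← conj_zpow, ← conj_zpow, h1, h2]

theorem inv_of_pair (D : IData (S : Subgroup G) K F H V) (w : WrShape (S : Subgroup G) K F V f₁ f₂ t₁ σ)
    {g : G} (h1 : g * f₁ * g⁻¹ = f₁⁻¹) (h2 : g * f₂ * g⁻¹ = f₂⁻¹) : ∀ f ∈ F, g * f * g⁻¹ = f⁻¹ := by
  intro f hf
  obtain ⟨i, j, rfl⟩ := w.gen f hf
  rw [show g * (f₁ ^ i * f₂ ^ j) * g⁻¹ = (g * f₁ ^ i * g⁻¹) * (g * f₂ ^ j * g⁻¹) by group,
    ← conj_zpow, ← conj_zpow, h1, h2, inv_zpow, inv_zpow, mul_inv_rev]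
  exact D.ov.comm _ (F.inv_mem (F.zpow_mem w.f₁_mem i)) _ (F.inv_mem (F.zpow_mem w.f₂_mem j))

theorem σ_sq_mem (D : IData (S : Subgroup G) K F H V) (w : WrShape (S : Subgroup G) K F V f₁ f₂ t₁ σ) :
    σ * σ ∈ pCoreOf 2 K :=
  D.ov.mem_core_of_fix S.isPGroup' (mul_mem w.σ_mem w.σ_mem) (mul_mem w.σ_norm w.σ_norm) fun f hf =>
    mul_inv_eq_iff_eq_mul.mp (D.fix_of_pair w
      (by rw [show σ * σ * f₁ * (σ * σ)⁻¹ = σ * (σ * f₁ * σ⁻¹) * σ⁻¹ by group, w.σ_f₁, w.σ_f₂])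
      (by rw [show σ * σ * f₂ * (σ * σ)⁻¹ = σ * (σ * f₂ * σ⁻¹) * σ⁻¹ by group, w.σ_f₂, w.σ_f₁]) f hf)

theorem t_sq_mem (D : IData (S : Subgroup G) K F H V) (w : WrShape (S : Subgroup G) K F V f₁ f₂ t₁ σ) :
    t₁ * t₁ ∈ pCoreOf 2 K :=
  D.ov.mem_core_of_fix S.isPGroup' (mul_mem w.t_mem w.t_mem) (mul_mem w.t_norm w.t_norm) fun f hf =>
    mul_inv_eq_iff_eq_mul.mp (D.fix_of_pair w
      (by rw [show t₁ * t₁ * f₁ * (t₁ * t₁)⁻¹ = t₁ * (t₁ * f₁ * t₁⁻¹) * t₁⁻¹ by group, w.t_f₁, w.t_f₁])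
      (by rw [show t₁ * t₁ * f₂ * (t₁ * t₁)⁻¹ = t₁ * (t₁ * f₂ * t₁⁻¹) * t₁⁻¹ by group, w.t_f₂, ← conj_inv,
        w.t_f₂, inv_inv]) f hf)

/-- The frame exists. -/
theorem exists_frame (D : IData (S : Subgroup G) K F H V) (w : WrShape (S : Subgroup G) K F V f₁ f₂ t₁ σ) :
    ∃ u₁ z₁ u₂ z₂, WrFrame (S : Subgroup G) K F V f₁ f₂ t₁ (σ * t₁ * σ⁻¹) σ u₁ z₁ u₂ z₂ := by
  classical
  have hσ2 : ∀ a ∈ V, σ * (σ * a * σ⁻¹) * σ⁻¹ = a := fun a ha => by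
    rw [show σ * (σ * a * σ⁻¹) * σ⁻¹ = σ * σ * a * (σ * σ)⁻¹ by group, D.conj_R (D.σ_sq_mem w) ha]
  have hs2 : ∀ a ∈ V, σ⁻¹ * a * σ = σ * a * σ⁻¹ := fun a ha => by
    nth_rewrite 1 [← hσ2 a ha]
    group
  have ht2 : ∀ a ∈ V, t₁ * (t₁ * a * t₁⁻¹) * t₁⁻¹ = a := fun a ha => by
    rw [show t₁ * (t₁ * a * t₁⁻¹) * t₁⁻¹ = t₁ * t₁ * a * (t₁ * t₁)⁻¹ by group, D.conj_R (D.t_sq_mem w) ha]
  have h12 : ∀ a, f₁ * a = a * f₁ → f₂ * (σ * a * σ⁻¹) = σ * a * σ⁻¹ * f₂ := fun a h => comm_conj h w.σ_f₁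
  have h21 : ∀ a, f₂ * a = a * f₂ → f₁ * (σ * a * σ⁻¹) = σ * a * σ⁻¹ * f₁ := fun a h => comm_conj h w.σ_f₂
  have htA₁ : ∀ a, f₁ * a = a * f₁ → f₁ * (t₁ * a * t₁⁻¹) = t₁ * a * t₁⁻¹ * f₁ := fun a h => comm_conj h w.t_f₁
  have htA₂ : ∀ a, f₂ * a = a * f₂ → f₂ * (t₁ * a * t₁⁻¹) = t₁ * a * t₁⁻¹ * f₂ := fun a h =>
    comm_inv' (comm_conj h w.t_f₂)
  set A₂ := V ⊓ Subgroup.centralizer ({f₂} : Set G) with hA₂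
  set A₁ := V ⊓ Subgroup.centralizer ({f₁} : Set G) with hA₁
  have hmA₁ : ∀ {a}, a ∈ A₁ ↔ a ∈ V ∧ f₁ * a = a * f₁ := fun {a} => by
    simp [hA₁, Subgroup.mem_centralizer_singleton_iff, eq_comm]
  have hmA₂ : ∀ {a}, a ∈ A₂ ↔ a ∈ V ∧ f₂ * a = a * f₂ := fun {a} => by
    simp [hA₂, Subgroup.mem_centralizer_singleton_iff, eq_comm]
  have hc2 : Nat.card A₂ ≤ 4 := by
    rw [← w.card_A]
    let φ : ↥A₂ → ↥A₁ := fun a => ⟨σ * a * σ⁻¹,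
      hmA₁.mpr ⟨D.conj_V_S w.σ_mem (hmA₂.mp a.2).1, h21 _ (hmA₂.mp a.2).2⟩⟩
    refine Nat.card_le_card_of_injective φ fun a b e => Subtype.ext ?_
    have e' : σ * (a : G) * σ⁻¹ = σ * b * σ⁻¹ := congrArg Subtype.val e
    exact mul_left_cancel (mul_right_cancel e')
  -- `t₁` centralises `A₂`
  have ht₁A₂ : ∀ a ∈ V, f₂ * a = a * f₂ → t₁ * a * t₁⁻¹ = a := by
    intro a ha hfa
    by_contra hne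
    set e := t₁ * a * t₁⁻¹ * a with he
    have hta := D.conj_V_S w.t_mem ha
    have he1 : e ≠ 1 := fun e0 => hne (by rw [eq_inv_of_mul_eq_one_left e0, D.inv_eq ha])
    have heA : e ∈ A₂ := hmA₂.mpr ⟨V.mul_mem hta ha,
      ((show Commute f₂ _ from htA₂ a hfa).mul_right (show Commute f₂ a from hfa)).eq⟩
    have hte : t₁ * e * t₁⁻¹ = e := by
      rw [he, show t₁ * (t₁ * a * t₁⁻¹ * a) * t₁⁻¹ = t₁ * (t₁ * a * t₁⁻¹) * t₁⁻¹ * (t₁ * a * t₁⁻¹) by group,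
        ht2 a ha, D.comm ha hta]
    set C := A₂ ⊓ Subgroup.centralizer ({t₁} : Set G) with hC
    have heC : e ∈ C :=
      ⟨heA, Subgroup.mem_centralizer_singleton_iff.mpr (mul_inv_eq_iff_eq_mul.mp hte).symm⟩
    set e' := f₁ * e * f₁⁻¹ with he'
    have he'C : e' ∈ C := by
      refine ⟨hmA₂.mpr ⟨D.conj_V (D.ov.F_le w.f₁_mem) (hmA₂.mp heA).1,
        comm_conj (hmA₂.mp heA).2 (by rw [D.ov.comm f₁ w.f₁_mem f₂ w.f₂_mem, mul_inv_cancel_right])⟩,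
        Subgroup.mem_centralizer_singleton_iff.mpr (mul_inv_eq_iff_eq_mul.mp ?_).symm⟩
      calc t₁ * e' * t₁⁻¹ = (t₁ * f₁ * t₁⁻¹) * (t₁ * e * t₁⁻¹) * (t₁ * f₁ * t₁⁻¹)⁻¹ := by rw [he']; group
        _ = e' := by rw [w.t_f₁, hte]
    have hne' : e' ∉ Subgroup.zpowers e := fun hm => by
      rcases mem_two (D.V_sq e (hmA₂.mp heA).1) hm with h | h
      · exact he1 (conj_eq_one_iff.mp h)
      · exact he1 (w.indep e (hmA₂.mp heA).1 (mul_inv_eq_iff_eq_mul.mp h) (hmA₂.mp heA).2)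
    have h4 := two_mul_card_le (Subgroup.zpowers_le.mpr heC) he'C hne'
    rw [card_zpowers_two (D.V_sq e (hmA₂.mp heA).1) he1] at h4
    have hCA : C = A₂ := Subgroup.eq_of_le_of_card_ge inf_le_left (hc2.trans h4)
    have haC : a ∈ C := hCA.ge (hmA₂.mpr ⟨ha, hfa⟩)
    exact hne (mul_inv_eq_iff_eq_mul.mpr (Subgroup.mem_centralizer_singleton_iff.mp haC.2).symm)
  -- `t₁` moves `A₁`
  obtain ⟨u₁, hu₁, hfu₁, hmv⟩ : ∃ u₁ ∈ V, f₁ * u₁ = u₁ * f₁ ∧ t₁ * u₁ * t₁⁻¹ ≠ u₁ := by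
    by_contra hh
    push Not at hh
    haveI : Nontrivial ↥A₁ := Finite.one_lt_card_iff_nontrivial.mp (by rw [w.card_A]; norm_num)
    obtain ⟨⟨a, ha⟩, ha1⟩ := exists_ne (1 : ↥A₁)
    obtain ⟨haV, hfa⟩ := hmA₁.mp ha
    refine ha1 (Subtype.ext (w.indep a haV hfa ?_))
    set b := f₂ * a * f₂⁻¹ with hb
    have hfb : f₁ * b = b * f₁ := comm_conj hfa (by rw [D.ov.comm f₂ w.f₂_mem f₁ w.f₁_mem, mul_inv_cancel_right])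
    have h1 : f₂⁻¹ * a * f₂ = f₂ * a * f₂⁻¹ := by
      calc f₂⁻¹ * a * f₂ = (t₁ * f₂ * t₁⁻¹) * (t₁ * a * t₁⁻¹) * (t₁ * f₂ * t₁⁻¹)⁻¹ := by
            rw [w.t_f₂, hh a haV hfa, inv_inv]
        _ = t₁ * b * t₁⁻¹ := by rw [hb]; group
        _ = b := hh b (D.conj_V (D.ov.F_le w.f₂_mem) haV) hfb
    have h2 : Commute (f₂ * f₂) a := by
      show f₂ * f₂ * a = a * (f₂ * f₂)
      calc f₂ * f₂ * a = f₂ * (f₂ * a * f₂⁻¹) * f₂ := by group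
        _ = f₂ * (f₂⁻¹ * a * f₂) * f₂ := by rw [h1]
        _ = a * (f₂ * f₂) := by group
    rw [pow_two_eq_inv w.f₂_pow] at h2
    exact comm_inv' h2.eq
  set z₁ := t₁ * u₁ * t₁⁻¹ * u₁ with hz₁
  have htu := D.conj_V_S w.t_mem hu₁
  have hz₁V : z₁ ∈ V := V.mul_mem htu hu₁
  have hfz₁ : f₁ * z₁ = z₁ * f₁ :=
    ((show Commute f₁ _ from htA₁ u₁ hfu₁).mul_right (show Commute f₁ u₁ from hfu₁)).eq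
  have hz₁ne : z₁ ≠ 1 := fun e0 => hmv (by rw [eq_inv_of_mul_eq_one_left e0, D.inv_eq hu₁])
  have hu₁ne : u₁ ≠ 1 := fun e => hmv (by rw [e]; simp)
  have htu₁ : t₁ * u₁ * t₁⁻¹ = u₁ * z₁ := by
    rw [D.comm hu₁ hz₁V, hz₁, mul_assoc (t₁ * u₁ * t₁⁻¹), D.V_sq u₁ hu₁, mul_one]
  have htz₁ : t₁ * z₁ * t₁⁻¹ = z₁ := by
    rw [hz₁, show t₁ * (t₁ * u₁ * t₁⁻¹ * u₁) * t₁⁻¹ = t₁ * (t₁ * u₁ * t₁⁻¹) * t₁⁻¹ * (t₁ * u₁ * t₁⁻¹) by group,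
      ht2 u₁ hu₁, D.comm hu₁ htu]
  have huz : u₁ * z₁ ≠ 1 := by rw [← htu₁]; exact fun e => hu₁ne (conj_eq_one_iff.mp e)
  have hcA₁ : ∀ v ∈ V, f₁ * v = v * f₁ → ∃ a b : Bool, v = bp u₁ a * bp z₁ b := by
    let φ : Bool × Bool → ↥A₁ := fun p => ⟨bp u₁ p.1 * bp z₁ p.2,
      A₁.mul_mem (bp_mem (hmA₁.mpr ⟨hu₁, hfu₁⟩) _) (bp_mem (hmA₁.mpr ⟨hz₁V, hfz₁⟩) _)⟩
    have hne : u₁ ≠ z₁ := fun e => huz (by rw [← e]; exact D.V_sq u₁ hu₁)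
    have hφ : Function.Injective φ := by
      rintro ⟨a, b⟩ ⟨c, d⟩ e
      have e' : bp u₁ a * bp z₁ b = bp u₁ c * bp z₁ d := congrArg Subtype.val e
      cases a <;> cases b <;> cases c <;> cases d <;> simp at e' ⊢ <;>
        first
          | exact hne e'
          | exact hne e'.symm
          | exact hu₁ne e'
          | exact hu₁ne e'.symm
          | exact hz₁ne e'
          | exact hz₁ne e'.symm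
          | exact huz e'
          | exact huz e'.symm
    have hb : Function.Bijective φ :=
      (Nat.bijective_iff_injective_and_card φ).mpr ⟨hφ, by rw [w.card_A]; simp⟩
    intro v hv hfv
    obtain ⟨⟨a, b⟩, e⟩ := hb.2 ⟨v, hmA₁.mpr ⟨hv, hfv⟩⟩
    exact ⟨a, b, (congrArg Subtype.val e).symm⟩
  set u₂ := σ * u₁ * σ⁻¹ with hu₂def
  set z₂ := σ * z₁ * σ⁻¹ with hz₂def
  have hu₂ : u₂ ∈ V := D.conj_V_S w.σ_mem hu₁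
  have hz₂ : z₂ ∈ V := D.conj_V_S w.σ_mem hz₁V
  have hcA₂ : ∀ v ∈ V, f₂ * v = v * f₂ → ∃ a b : Bool, v = bp u₂ a * bp z₂ b := by
    intro v hv hfv
    obtain ⟨a, b, e⟩ := hcA₁ _ (D.conj_V_S w.σ_mem hv) (h21 v hfv)
    refine ⟨a, b, ?_⟩
    rw [← hσ2 v hv, e, show σ * (bp u₁ a * bp z₁ b) * σ⁻¹ = (σ * bp u₁ a * σ⁻¹) * (σ * bp z₁ b * σ⁻¹) by group,
      conj_bp, conj_bp]
  have ht₂ : ∀ a ∈ V, σ * t₁ * σ⁻¹ * a * (σ * t₁ * σ⁻¹)⁻¹ = σ * (t₁ * (σ * a * σ⁻¹) * t₁⁻¹) * σ⁻¹ := fun a ha => by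
    rw [← hs2 a ha]; group
  have ht₂A₁ : ∀ a ∈ V, f₁ * a = a * f₁ → σ * t₁ * σ⁻¹ * a * (σ * t₁ * σ⁻¹)⁻¹ = a := fun a ha hfa => by
    rw [ht₂ a ha, ht₁A₂ _ (D.conj_V_S w.σ_mem ha) (h12 a hfa), hσ2 a ha]
  refine ⟨u₁, z₁, u₂, z₂, ⟨w, rfl, hu₁, hz₁V, hz₁ne, hfu₁, hfz₁, h12 u₁ hfu₁, h12 z₁ hfz₁, rfl, rfl,
    hσ2 u₁ hu₁, hσ2 z₁ hz₁V, htu₁, htz₁, ht₁A₂ u₂ hu₂ (h12 u₁ hfu₁), ht₁A₂ z₂ hz₂ (h12 z₁ hfz₁),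
    ht₂A₁ u₁ hu₁ hfu₁, ht₂A₁ z₁ hz₁V hfz₁, ?_, ?_, fun v hv => ?_, hcA₁, hcA₂⟩⟩
  · rw [ht₂ u₂ hu₂, hu₂def, hσ2 u₁ hu₁, htu₁, hz₂def]; group
  · rw [ht₂ z₂ hz₂, hz₂def, hσ2 z₁ hz₁V, htz₁]
  · obtain ⟨a, ha, b, hb, hfa, hgb, rfl⟩ := w.split v hv
    obtain ⟨p, q, rfl⟩ := hcA₁ a ha hfa
    obtain ⟨r, s, rfl⟩ := hcA₂ b hb hgb
    exact ⟨p, q, r, s, rfl⟩

end IData

namespace WrFrame

variable {t₂ u₁ z₁ u₂ z₂ : G}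

theorem u₂_mem (w : WrFrame (S : Subgroup G) K F V f₁ f₂ t₁ t₂ σ u₁ z₁ u₂ z₂)
    (D : IData (S : Subgroup G) K F H V) : u₂ ∈ V := w.σu₁ ▸ D.conj_V_S w.σ_mem w.u₁_mem

theorem z₂_mem (w : WrFrame (S : Subgroup G) K F V f₁ f₂ t₁ t₂ σ u₁ z₁ u₂ z₂)
    (D : IData (S : Subgroup G) K F H V) : z₂ ∈ V := w.σz₁ ▸ D.conj_V_S w.σ_mem w.z₁_mem

theorem t₂_mem (w : WrFrame (S : Subgroup G) K F V f₁ f₂ t₁ t₂ σ u₁ z₁ u₂ z₂) : t₂ ∈ (S : Subgroup G) :=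
  w.t₂_eq ▸ mul_mem (mul_mem w.σ_mem w.t_mem) (inv_mem w.σ_mem)

theorem t₂_norm (w : WrFrame (S : Subgroup G) K F V f₁ f₂ t₁ t₂ σ u₁ z₁ u₂ z₂) :
    t₂ ∈ Subgroup.normalizer (F : Set G) :=
  w.t₂_eq ▸ mul_mem (mul_mem w.σ_norm w.t_norm) (inv_mem w.σ_norm)

theorem t₂_f₁ (w : WrFrame (S : Subgroup G) K F V f₁ f₂ t₁ t₂ σ u₁ z₁ u₂ z₂) :
    t₂ * f₁ * t₂⁻¹ = f₁⁻¹ := by
  have h1 : σ⁻¹ * f₁ * σ = f₂ := by rw [← w.σ_f₂]; group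
  rw [w.t₂_eq, show σ * t₁ * σ⁻¹ * f₁ * (σ * t₁ * σ⁻¹)⁻¹ = σ * (t₁ * (σ⁻¹ * f₁ * σ) * t₁⁻¹) * σ⁻¹ by group,
    h1, w.t_f₂, ← conj_inv, w.σ_f₂]

theorem t₂_f₂ (w : WrFrame (S : Subgroup G) K F V f₁ f₂ t₁ t₂ σ u₁ z₁ u₂ z₂) :
    t₂ * f₂ * t₂⁻¹ = f₂ := by
  have h1 : σ⁻¹ * f₂ * σ = f₁ := by rw [← w.σ_f₁]; group
  rw [w.t₂_eq, show σ * t₁ * σ⁻¹ * f₂ * (σ * t₁ * σ⁻¹)⁻¹ = σ * (t₁ * (σ⁻¹ * f₂ * σ) * t₁⁻¹) * σ⁻¹ by group,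
    h1, w.t_f₁, w.σ_f₁]

theorem c_inv (w : WrFrame (S : Subgroup G) K F V f₁ f₂ t₁ t₂ σ u₁ z₁ u₂ z₂)
    (D : IData (S : Subgroup G) K F H V) : ∀ f ∈ F, (t₁ * t₂) * f * (t₁ * t₂)⁻¹ = f⁻¹ :=
  D.inv_of_pair w.toWrShape
    (by rw [show t₁ * t₂ * f₁ * (t₁ * t₂)⁻¹ = t₁ * (t₂ * f₁ * t₂⁻¹) * t₁⁻¹ by group, w.t₂_f₁, ← conj_inv, w.t_f₁])
    (by rw [show t₁ * t₂ * f₂ * (t₁ * t₂)⁻¹ = t₁ * (t₂ * f₂ * t₂⁻¹) * t₁⁻¹ by group, w.t₂_f₂, w.t_f₂])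

theorem z₁_ne_z₂ (w : WrFrame (S : Subgroup G) K F V f₁ f₂ t₁ t₂ σ u₁ z₁ u₂ z₂) : z₁ ≠ z₂ := fun e =>
  w.z₁_ne (w.indep z₁ w.z₁_mem w.f₁z₁ (e ▸ w.f₂z₂))

theorem z_ne (w : WrFrame (S : Subgroup G) K F V f₁ f₂ t₁ t₂ σ u₁ z₁ u₂ z₂)
    (D : IData (S : Subgroup G) K F H V) : z₁ * z₂ ≠ 1 := fun e =>
  w.z₁_ne_z₂ ((eq_inv_of_mul_eq_one_left e).trans (D.inv_eq (w.z₂_mem D)))

/-- Every element of `S` fixes `z₁` and `z₂` or exchanges them, and fixes their product. -/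
theorem conj_z (w : WrFrame (S : Subgroup G) K F V f₁ f₂ t₁ t₂ σ u₁ z₁ u₂ z₂)
    (D : IData (S : Subgroup G) K F H V) {s : G} (hs : s ∈ (S : Subgroup G)) :
    (s * z₁ * s⁻¹ = z₁ ∧ s * z₂ * s⁻¹ = z₂) ∨ (s * z₁ * s⁻¹ = z₂ ∧ s * z₂ * s⁻¹ = z₁) := by
  obtain ⟨r, hr, i, j, k, hi, hj, hk, e⟩ := w.decomp s hs
  rw [← w.t₂_eq] at e
  have hzV := w.z₂_mem D
  have hg : ∀ (g : G) (n : ℕ) (a : G), g * a * g⁻¹ = a → g ^ n * a * (g ^ n)⁻¹ = a := fun g n a h =>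
    mul_inv_eq_iff_eq_mul.mpr ((show Commute g a from mul_inv_eq_iff_eq_mul.mp h).pow_left n).eq
  have key : ∀ a ∈ V, t₁ * a * t₁⁻¹ = a → t₂ * a * t₂⁻¹ = a →
      r * t₁ ^ i * t₂ ^ j * a * (r * t₁ ^ i * t₂ ^ j)⁻¹ = a := fun a ha h1 h2 => by
    rw [show r * t₁ ^ i * t₂ ^ j * a * (r * t₁ ^ i * t₂ ^ j)⁻¹ =
      r * (t₁ ^ i * (t₂ ^ j * a * (t₂ ^ j)⁻¹) * (t₁ ^ i)⁻¹) * r⁻¹ by group, hg t₂ j a h2, hg t₁ i a h1,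
      D.conj_R hr ha]
  subst e
  interval_cases k
  · left
    simp only [pow_zero, mul_one]
    exact ⟨key _ w.z₁_mem w.t₁z₁ w.t₂z₁, key _ hzV w.t₁z₂ w.t₂z₂⟩
  · right
    simp only [pow_one]
    constructor
    · rw [show r * t₁ ^ i * t₂ ^ j * σ * z₁ * (r * t₁ ^ i * t₂ ^ j * σ)⁻¹ =
        r * t₁ ^ i * t₂ ^ j * (σ * z₁ * σ⁻¹) * (r * t₁ ^ i * t₂ ^ j)⁻¹ by group, w.σz₁]
      exact key _ hzV w.t₁z₂ w.t₂z₂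
    · rw [show r * t₁ ^ i * t₂ ^ j * σ * z₂ * (r * t₁ ^ i * t₂ ^ j * σ)⁻¹ =
        r * t₁ ^ i * t₂ ^ j * (σ * z₂ * σ⁻¹) * (r * t₁ ^ i * t₂ ^ j)⁻¹ by group, w.σz₂]
      exact key _ w.z₁_mem w.t₁z₁ w.t₂z₁

theorem inZ_z (w : WrFrame (S : Subgroup G) K F V f₁ f₂ t₁ t₂ σ u₁ z₁ u₂ z₂)
    (D : IData (S : Subgroup G) K F H V) : InZ (S : Subgroup G) (z₁ * z₂) := by
  refine D.inZ_of_mem (V.mul_mem w.z₁_mem (w.z₂_mem D)) fun s hs => ?_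
  rw [show s * (z₁ * z₂) * s⁻¹ = (s * z₁ * s⁻¹) * (s * z₂ * s⁻¹) by group]
  rcases w.conj_z D hs with ⟨e1, e2⟩ | ⟨e1, e2⟩ <;> rw [e1, e2]
  exact D.comm (w.z₂_mem D) w.z₁_mem

end WrFrame

end CfsgLib.SRFour
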