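import Mathlib
import Cfsg.Agent.Lib.SRFour.ITypeFrame

/-!
A second elementary group of order sixteen yields an involution over `t₁`.

Blueprint: `blueprint/S0517.md`, §4.
-/

set_option autoImplicit false
set_option linter.unusedSectionVars false
set_option linter.style.haveILetI false

namespace CfsgLib.SRFour

open Cfsg
open scoped commutatorElement

universe u

variable {G : Type u} [Group G] [Finite G] {S : Sylow 2 G} {K F H V : Subgroup G}

namespace WrFrame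

variable {f₁ f₂ t₁ t₂ σ u₁ z₁ u₂ z₂ : G}

theorem z₂_ne (w : WrFrame (S : Subgroup G) K F V f₁ f₂ t₁ t₂ σ u₁ z₁ u₂ z₂) : z₂ ≠ 1 := fun e => by
  have h := w.σz₂
  rw [e, mul_one, mul_inv_cancel] at h
  exact w.z₁_ne h.symm

theorem bp_z_eq_one (w : WrFrame (S : Subgroup G) K F V f₁ f₂ t₁ t₂ σ u₁ z₁ u₂ z₂)
    (D : IData (S : Subgroup G) K F H V) {a c : Bool} (e : bp z₁ a * bp z₂ c = 1) : a = false ∧ c = false := by
  cases a <;> cases c <;> simp at e ⊢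
  · exact w.z₂_ne e
  · exact w.z₁_ne e
  · exact w.z_ne D e

/-- An element of `V` in coordinates under conjugation. -/
theorem conj_coords {g x y p q : G} {a b c d : Bool} :
    g * (bp x a * bp y b * (bp p c * bp q d)) * g⁻¹ =
      bp (g * x * g⁻¹) a * bp (g * y * g⁻¹) b * (bp (g * p * g⁻¹) c * bp (g * q * g⁻¹) d) := by
  simp only [← conj_bp]; group

theorem conj_t₁ (w : WrFrame (S : Subgroup G) K F V f₁ f₂ t₁ t₂ σ u₁ z₁ u₂ z₂)
    (D : IData (S : Subgroup G) K F H V) (a b c d : Bool) :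
    t₁ * (bp u₁ a * bp z₁ b * (bp u₂ c * bp z₂ d)) * t₁⁻¹ =
      bp z₁ a * (bp u₁ a * bp z₁ b * (bp u₂ c * bp z₂ d)) := by
  rw [conj_coords, w.t₁u₁, w.t₁z₁, w.t₁u₂, w.t₁z₂]
  cases a <;> simp [D.comm w.u₁_mem w.z₁_mem, mul_assoc]

theorem conj_t₂ (w : WrFrame (S : Subgroup G) K F V f₁ f₂ t₁ t₂ σ u₁ z₁ u₂ z₂)
    (D : IData (S : Subgroup G) K F H V) (a b c d : Bool) :
    t₂ * (bp u₁ a * bp z₁ b * (bp u₂ c * bp z₂ d)) * t₂⁻¹ =
      bp z₂ c * (bp u₁ a * bp z₁ b * (bp u₂ c * bp z₂ d)) := by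
  have hu := w.u₂_mem D
  have hz := w.z₂_mem D
  have hp : bp u₁ a * bp z₁ b ∈ V := V.mul_mem (bp_mem w.u₁_mem a) (bp_mem w.z₁_mem b)
  rw [conj_coords, w.t₂u₁, w.t₂z₁, w.t₂u₂, w.t₂z₂]
  cases c
  · simp
  · simp only [bp_true]
    rw [show bp u₁ a * bp z₁ b * (u₂ * z₂ * bp z₂ d) = (bp u₁ a * bp z₁ b) * (u₂ * z₂) * bp z₂ d by group,
      D.comm hu hz, ← mul_assoc (bp u₁ a * bp z₁ b) z₂ u₂, D.comm hp hz]
    group

/-- The fixed points of `t₁t₂` on `V`. -/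
theorem fix_c (w : WrFrame (S : Subgroup G) K F V f₁ f₂ t₁ t₂ σ u₁ z₁ u₂ z₂)
    (D : IData (S : Subgroup G) K F H V) {v : G} (hv : v ∈ V) (h : t₁ * t₂ * v * (t₁ * t₂)⁻¹ = v) :
    ∃ b d : Bool, v = bp z₁ b * bp z₂ d := by
  obtain ⟨a, b, c, d, rfl⟩ := w.coords v hv
  rw [show ∀ x : G, t₁ * t₂ * x * (t₁ * t₂)⁻¹ = t₁ * (t₂ * x * t₂⁻¹) * t₁⁻¹ from fun x => by group, w.conj_t₂ D,
    ← conj_mul, w.conj_t₁ D, conj_bp, w.t₁z₂, ← mul_assoc] at h
  have e := mul_eq_right.mp h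
  rw [D.comm (bp_mem (w.z₂_mem D) c) (bp_mem w.z₁_mem a)] at e
  obtain ⟨rfl, rfl⟩ := w.bp_z_eq_one D e
  exact ⟨b, d, by simp⟩

/-- An element exchanging the two summands fixes at most four elements of `V`. -/
theorem card_fix_swap (w : WrFrame (S : Subgroup G) K F V f₁ f₂ t₁ t₂ σ u₁ z₁ u₂ z₂)
    (D : IData (S : Subgroup G) K F H V) {g : G} (hg : g ∈ K)
    (h₁ : ∀ a ∈ V, f₁ * a = a * f₁ → f₂ * (g * a * g⁻¹) = g * a * g⁻¹ * f₂)
    (h₂ : ∀ a ∈ V, f₂ * a = a * f₂ → f₁ * (g * a * g⁻¹) = g * a * g⁻¹ * f₁) :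
    Nat.card ↥(V ⊓ Subgroup.centralizer ({g} : Set G)) ≤ 4 := by
  classical
  have hex : ∀ v : ↥(V ⊓ Subgroup.centralizer ({g} : Set G)), ∃ x : ↥(V ⊓ Subgroup.centralizer ({f₁} : Set G)),
      (v : G) = x * (g * x * g⁻¹) := by
    rintro ⟨v, hv⟩
    obtain ⟨a, ha, b, hb, hfa, hgb, e⟩ := w.split v hv.1
    refine ⟨⟨a, ha, Subgroup.mem_centralizer_singleton_iff.mpr hfa.symm⟩, ?_⟩
    show v = a * (g * a * g⁻¹)
    have hfix : g * v * g⁻¹ = v := by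
      rw [← Subgroup.mem_centralizer_singleton_iff.mp hv.2, mul_inv_cancel_right]
    have ha' := D.conj_V hg ha
    have hb' := D.conj_V hg hb
    rw [e, ← conj_mul, D.comm ha' hb'] at hfix
    -- compare the two decompositions
    have e2 : a⁻¹ * (g * b * g⁻¹) = b * (g * a * g⁻¹)⁻¹ := by
      rw [eq_mul_inv_iff_mul_eq, mul_assoc, hfix, inv_mul_cancel_left]
    have e3 : a⁻¹ * (g * b * g⁻¹) = 1 := w.indep _ (V.mul_mem (V.inv_mem ha) hb')
      ((show Commute f₁ a from hfa).inv_right.mul_right (show Commute f₁ _ from h₂ b hb hgb)).eq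
      (by rw [e2]; exact ((show Commute f₂ b from hgb).mul_right (show Commute f₂ _ from h₁ a ha hfa).inv_right).eq)
    rw [e, mul_left_cancel_iff]
    exact mul_inv_eq_one.mp (e2.symm.trans e3)
  choose φ hφ using hex
  rw [← w.card_A]
  exact Nat.card_le_card_of_injective φ fun p q e => Subtype.ext (by rw [hφ p, hφ q, e])

theorem exists_inv_t₁ (w : WrFrame (S : Subgroup G) K F V f₁ f₂ t₁ t₂ σ u₁ z₁ u₂ z₂)
    (D : IData (S : Subgroup G) K F H V) {A : Subgroup G} (hAS : A ≤ (S : Subgroup G))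
    (hA : Nat.card A = 16) (hsq : ∀ a ∈ A, a * a = 1) (hne : A ≠ V) :
    ∃ a ∈ (S : Subgroup G), a * a = 1 ∧ ∃ r ∈ pCoreOf 2 K, a = r * t₁ := by
  classical
  by_contra hh
  push Not at hh
  set R := pCoreOf 2 K with hR
  have hσK := D.ov.S_le w.σ_mem
  have htK := D.ov.S_le w.t_mem
  have ht2K := D.ov.S_le w.t₂_mem
  have hc : t₁ * t₂ ∉ R := D.notMem_R_of_inverts (w.c_inv D)
  have hdec : ∀ a ∈ A, ∃ r ∈ R, ∃ p q : Bool, a = r * bp (t₁ * t₂) p * bp σ q := by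
    intro a ha
    obtain ⟨r, hr, i, j, k, hi, hj, hk, e⟩ := w.decomp a (hAS ha)
    rw [← w.t₂_eq] at e
    interval_cases i <;> interval_cases j <;> interval_cases k <;>
      simp only [pow_zero, pow_one, mul_one] at e
    · exact ⟨r, hr, false, false, by simpa using e⟩
    · exact ⟨r, hr, false, true, by simpa using e⟩
    · exfalso
      refine hh (σ⁻¹ * a * σ) (mul_mem (mul_mem (inv_mem w.σ_mem) (hAS ha)) w.σ_mem) (by
        rw [show σ⁻¹ * a * σ * (σ⁻¹ * a * σ) = σ⁻¹ * (a * a) * σ by group, hsq a ha, mul_one, inv_mul_cancel])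
        (σ⁻¹ * r * σ⁻¹⁻¹) (conj_mem_core (K.inv_mem hσK) hr) ?_
      rw [e, w.t₂_eq]; group
    · exfalso
      refine hc ?_
      have h1 : t₂ * t₁ ∈ R := by
        have hg := K.mul_mem hσK htK
        have e1 : t₂ * t₁ = ((r * ((σ * t₁) * r * (σ * t₁)⁻¹))⁻¹ * (a * a)) * (t₁⁻¹ * (σ * σ) * t₁)⁻¹ := by
          rw [e, w.t₂_eq]; group
        rw [e1, hsq a ha, mul_one]
        refine mul_mem (inv_mem (mul_mem hr (conj_mem_core hg hr))) (inv_mem ?_)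
        rw [show t₁⁻¹ * (σ * σ) * t₁ = t₁⁻¹ * (σ * σ) * t₁⁻¹⁻¹ by group]
        exact conj_mem_core (K.inv_mem htK) (D.σ_sq_mem w.toWrShape)
      rw [show t₁ * t₂ = t₁ * (t₂ * t₁) * t₁⁻¹ by group]
      exact conj_mem_core htK h1
    · exact absurd e (hh a (hAS ha) (hsq a ha) r hr)
    · exfalso
      refine hc ?_
      have hg := K.mul_mem htK hσK
      have e1 : t₁ * t₂ = ((r * ((t₁ * σ) * r * (t₁ * σ)⁻¹))⁻¹ * (a * a)) * (σ * σ)⁻¹ := by
        rw [e, w.t₂_eq]; group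
      rw [e1, hsq a ha, mul_one]
      exact mul_mem (inv_mem (mul_mem hr (conj_mem_core hg hr))) (inv_mem (D.σ_sq_mem w.toWrShape))
    · exact ⟨r, hr, true, false, by simp [e, mul_assoc]⟩
    · exact ⟨r, hr, true, true, by simp [e, mul_assoc]⟩
  -- elements with a component `σ` exchange `z₁` and `z₂`
  have hz : ∀ (r : G) (p q : Bool), r ∈ R →
      (r * bp (t₁ * t₂) p * bp σ q) * z₁ * (r * bp (t₁ * t₂) p * bp σ q)⁻¹ = if q then z₂ else z₁ := by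
    intro r p q hr
    have hzV : (if q then z₂ else z₁ : G) ∈ V := by cases q; exacts [w.z₁_mem, w.z₂_mem D]
    have h1 : bp σ q * z₁ * (bp σ q)⁻¹ = if q then z₂ else z₁ := by cases q <;> simp [w.σz₁]
    have h2 : bp (t₁ * t₂) p * (if q then z₂ else z₁) * (bp (t₁ * t₂) p)⁻¹ = if q then z₂ else z₁ := by
      cases p
      · simp
      · simp only [bp_true]
        cases q
        · rw [show ∀ x : G, t₁ * t₂ * x * (t₁ * t₂)⁻¹ = t₁ * (t₂ * x * t₂⁻¹) * t₁⁻¹ from fun x => by group]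
          simp only [Bool.false_eq_true, ↓reduceIte]
          rw [w.t₂z₁, w.t₁z₁]
        · rw [show ∀ x : G, t₁ * t₂ * x * (t₁ * t₂)⁻¹ = t₁ * (t₂ * x * t₂⁻¹) * t₁⁻¹ from fun x => by group]
          simp only [↓reduceIte]
          rw [w.t₂z₂, w.t₁z₂]
    calc (r * bp (t₁ * t₂) p * bp σ q) * z₁ * (r * bp (t₁ * t₂) p * bp σ q)⁻¹
        = r * (bp (t₁ * t₂) p * (bp σ q * z₁ * (bp σ q)⁻¹) * (bp (t₁ * t₂) p)⁻¹) * r⁻¹ := by group
      _ = _ := by rw [h1, h2, D.conj_R hr hzV]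
  by_cases hnoσ : ∀ a ∈ A, a * z₁ * a⁻¹ = z₁
  · refine hne (D.eq_V_of_two (K.mul_mem htK ht2K) (w.c_inv D) hA hsq fun a ha => ?_)
    obtain ⟨r, hr, p, q, rfl⟩ := hdec a ha
    cases q
    · cases p
      · exact ⟨r, hr, Or.inl (by simp)⟩
      · exact ⟨r, hr, Or.inr (by simp)⟩
    · have h1 := hnoσ _ ha
      rw [hz r p true hr] at h1
      exact absurd h1.symm w.z₁_ne_z₂
  push Not at hnoσ
  obtain ⟨a₀, ha₀, ha₀z⟩ := hnoσ
  obtain ⟨r₀, hr₀, p₀, q₀, e₀⟩ := hdec a₀ ha₀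
  have hq₀ : q₀ = true := by
    rcases q₀ with _ | _
    · exact absurd (by rw [e₀]; exact hz r₀ p₀ false hr₀) ha₀z
    · rfl
  subst hq₀
  have hsw : a₀ * z₁ * a₀⁻¹ = z₂ := by rw [e₀]; exact hz r₀ p₀ true hr₀
  -- the fixed points
  have hfix : A ⊓ R ≤ V ⊓ Subgroup.centralizer ({a₀} : Set G) := fun x hx =>
    ⟨D.V_all x hx.2 (hsq x hx.1), Subgroup.mem_centralizer_singleton_iff.mpr (comm_of_exp_two hsq x hx.1 a₀ ha₀)⟩
  by_cases hCc : ∃ a ∈ A, ∃ r ∈ R, a = r * (t₁ * t₂)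
  · obtain ⟨a, ha, r, hr, e⟩ := hCc
    have hsmall : A ⊓ R ≤ Subgroup.zpowers (z₁ * z₂) := by
      intro x hx
      have hxV := D.V_all x hx.2 (hsq x hx.1)
      have h1 : t₁ * t₂ * x * (t₁ * t₂)⁻¹ = x := by
        rw [← D.conj_core_mul hr (K.mul_mem htK ht2K) hxV, ← e, comm_of_exp_two hsq a ha x hx.1, mul_inv_cancel_right]
      obtain ⟨b, d, rfl⟩ := w.fix_c D hxV h1
      have h2 : a₀ * (bp z₁ b * bp z₂ d) * a₀⁻¹ = bp z₁ b * bp z₂ d := by
        rw [comm_of_exp_two hsq a₀ ha₀ _ hx.1, mul_inv_cancel_right]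
      have hsw' : a₀ * z₂ * a₀⁻¹ = z₁ := by
        rcases w.conj_z D (hAS ha₀) with ⟨e1, -⟩ | ⟨-, e2⟩
        · exact absurd e1 ha₀z
        · exact e2
      rw [← conj_mul, conj_bp, conj_bp, hsw, hsw'] at h2
      cases b <;> cases d <;> simp at h2 ⊢
      · exact absurd h2 w.z₁_ne_z₂
      · exact absurd h2.symm w.z₁_ne_z₂
    let cls : G → Bool × Bool := fun g =>
      if hg : ∃ r ∈ R, ∃ p q : Bool, g = r * bp (t₁ * t₂) p * bp σ q then
        (hg.choose_spec.2.choose, hg.choose_spec.2.choose_spec.choose)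
      else (false, false)
    have hcls : ∀ x ∈ A, ∀ y ∈ A, cls x = cls y → x⁻¹ * y ∈ R := by
      intro x hx y hy exy
      have hx' := hdec x hx
      have hy' := hdec y hy
      simp only [cls, dif_pos hx', dif_pos hy', Prod.mk.injEq] at exy
      have ex := hx'.choose_spec.2.choose_spec.choose_spec
      have ey := hy'.choose_spec.2.choose_spec.choose_spec
      have ex' : x = hx'.choose * bp (t₁ * t₂) hy'.choose_spec.2.choose * bp σ hy'.choose_spec.2.choose_spec.choose :=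
        ex.trans (congrArg₂ (fun a b => hx'.choose * bp (t₁ * t₂) a * bp σ b) exy.1 exy.2)
      refine (show ∀ r r' g : G, r ∈ R → r' ∈ R → g ∈ K → x = r * g → y = r' * g → x⁻¹ * y ∈ R from ?_)
        _ _ _ hx'.choose_spec.1 hy'.choose_spec.1
        (K.mul_mem (bp_mem (K.mul_mem htK ht2K) hy'.choose_spec.2.choose) (bp_mem hσK hy'.choose_spec.2.choose_spec.choose))
        (ex'.trans (mul_assoc _ _ _)) (ey.trans (mul_assoc _ _ _))
      intro r r' g hr hr' hg e1 e2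
      rw [e1, e2, show (r * g)⁻¹ * (r' * g) = g⁻¹ * (r⁻¹ * r') * g⁻¹⁻¹ by group]
      exact conj_mem_core (K.inv_mem hg) (mul_mem (inv_mem hr) hr')
    have h1 := card_le_of_classes cls hcls
    have h2 := Subgroup.card_le_of_le hsmall
    rw [card_zpowers_two (D.V_sq _ (V.mul_mem w.z₁_mem (w.z₂_mem D))) (w.z_ne D)] at h2
    rw [hA, Nat.card_prod, Nat.card_eq_fintype_card (α := Bool), Fintype.card_bool] at h1
    omega
  push Not at hCc
  have hcls : ∀ x ∈ A, ∀ y ∈ A, decide (x * z₁ * x⁻¹ = z₁) = decide (y * z₁ * y⁻¹ = z₁) → x⁻¹ * y ∈ R := by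
    intro x hx y hy exy
    simp only [decide_eq_decide] at exy
    have hxy : x * z₁ * x⁻¹ = y * z₁ * y⁻¹ := by
      rcases w.conj_z D (hAS hx) with ⟨e1, -⟩ | ⟨e1, -⟩
      · rw [e1, exy.mp e1]
      · rcases w.conj_z D (hAS hy) with ⟨e2, -⟩ | ⟨e2, -⟩
        · exact absurd (exy.mpr e2) (e1 ▸ fun e => w.z₁_ne_z₂ e.symm)
        · rw [e1, e2]
    have hfz : (x⁻¹ * y) * z₁ * (x⁻¹ * y)⁻¹ = z₁ := by
      rw [show (x⁻¹ * y) * z₁ * (x⁻¹ * y)⁻¹ = x⁻¹ * (y * z₁ * y⁻¹) * x by group, ← hxy]; group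
    obtain ⟨r, hr, p, q, e⟩ := hdec _ (A.mul_mem (A.inv_mem hx) hy)
    rw [e] at hfz ⊢
    cases q
    · cases p
      · simpa using hr
      · exact absurd (by simpa using e) (hCc _ (A.mul_mem (A.inv_mem hx) hy) r hr)
    · rw [hz r p true hr] at hfz
      exact absurd hfz.symm w.z₁_ne_z₂
  have h1 := card_le_of_classes (fun g => decide (g * z₁ * g⁻¹ = z₁)) hcls
  have hgK : bp (t₁ * t₂) p₀ * σ ∈ K := K.mul_mem (bp_mem (K.mul_mem htK ht2K) _) hσK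
  have hact : ∀ a ∈ V, a₀ * a * a₀⁻¹ = bp (t₁ * t₂) p₀ * (σ * a * σ⁻¹) * (bp (t₁ * t₂) p₀)⁻¹ := fun a ha => by
    rw [e₀, bp_true, mul_assoc r₀, D.conj_core_mul hr₀ hgK ha]; group
  have hb₁ : ∀ a, f₁ * a = a * f₁ → f₁ * (bp (t₁ * t₂) p₀ * a * (bp (t₁ * t₂) p₀)⁻¹) =
      bp (t₁ * t₂) p₀ * a * (bp (t₁ * t₂) p₀)⁻¹ * f₁ := by
    intro a h
    cases p₀
    · simpa using h
    · exact IData.comm_inv' (IData.comm_conj h (w.c_inv D _ w.f₁_mem))
  have hb₂ : ∀ a, f₂ * a = a * f₂ → f₂ * (bp (t₁ * t₂) p₀ * a * (bp (t₁ * t₂) p₀)⁻¹) =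
      bp (t₁ * t₂) p₀ * a * (bp (t₁ * t₂) p₀)⁻¹ * f₂ := by
    intro a h
    cases p₀
    · simpa using h
    · exact IData.comm_inv' (IData.comm_conj h (w.c_inv D _ w.f₂_mem))
  have h2 := (Subgroup.card_le_of_le hfix).trans (w.card_fix_swap D (D.ov.S_le (hAS ha₀))
    (fun a ha hfa => by rw [hact a ha]; exact hb₂ _ (IData.comm_conj hfa w.σ_f₁))
    (fun a ha hfa => by rw [hact a ha]; exact hb₁ _ (IData.comm_conj hfa w.σ_f₂)))
  rw [hA, Nat.card_eq_fintype_card (α := Bool), Fintype.card_bool] at h1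
  omega

end WrFrame

end CfsgLib.SRFour
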