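import Mathlib
import Cfsg.Agent.Lib.SRFour.ITypeUniq

/-!
In the wreathed shape the 2-core of the mover is `V`.

Blueprint: `blueprint/S0517.md`, §4.
-/

set_option autoImplicit false
set_option linter.unusedSectionVars false
set_option linter.style.haveILetI false

namespace CfsgLib.SRFour

open Cfsg
open scoped commutatorElement

universe u

variable {G : Type u} [Group G] [Finite G] {S : Sylow 2 G} {K F H V : Subgroup G}

namespace IData

/-- The preimage of the involutions of the centre of `O₂(K)/V`. -/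
def Xc (D : IData (S : Subgroup G) K F H V) : Subgroup G where
  carrier := {r | r ∈ pCoreOf 2 K ∧ r * r ∈ V ∧ ∀ q ∈ pCoreOf 2 K, ⁅r, q⁆ ∈ V}
  one_mem' := ⟨one_mem _, by simp, fun q _ => by simp⟩
  mul_mem' := fun {a b} ha hb => by
    refine ⟨mul_mem ha.1 hb.1, ?_, fun q hq => ?_⟩
    · have h1 : ⁅a⁻¹, b⁆ ∈ V := by
        rw [show ⁅a⁻¹, b⁆ = a⁻¹ * ⁅a, b⁆⁻¹ * a by simp only [commutatorElement_def]; group]
        have := V.inv_mem (ha.2.2 b hb.1)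
        rw [← D.conj_R (inv_mem ha.1) this, inv_inv] at this
        exact this
      rw [show a * b * (a * b) = a * a * ⁅a⁻¹, b⁆ * (b * b) by simp only [commutatorElement_def]; group]
      exact V.mul_mem (V.mul_mem ha.2.1 h1) hb.2.1
    · rw [show ⁅a * b, q⁆ = a * ⁅b, q⁆ * a⁻¹ * ⁅a, q⁆ by simp only [commutatorElement_def]; group,
        D.conj_R ha.1 (hb.2.2 q hq)]
      exact V.mul_mem (hb.2.2 q hq) (ha.2.2 q hq)
  inv_mem' := fun {a} ha => by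
    refine ⟨inv_mem ha.1, ?_, fun q hq => ?_⟩
    · rw [← mul_inv_rev]; exact V.inv_mem ha.2.1
    · have := V.inv_mem (ha.2.2 q hq)
      rw [← D.conj_R (inv_mem ha.1) this, inv_inv] at this
      rwa [show ⁅a⁻¹, q⁆ = a⁻¹ * ⁅a, q⁆⁻¹ * a by simp only [commutatorElement_def]; group]

theorem mem_Xc (D : IData (S : Subgroup G) K F H V) {r : G} :
    r ∈ D.Xc ↔ r ∈ pCoreOf 2 K ∧ r * r ∈ V ∧ ∀ q ∈ pCoreOf 2 K, ⁅r, q⁆ ∈ V := Iff.rfl

theorem V_le_Xc (D : IData (S : Subgroup G) K F H V) : V ≤ D.Xc := fun a ha =>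
  D.mem_Xc.mpr ⟨D.V_le ha, by rw [D.V_sq a ha]; exact one_mem _, fun q hq => by
    rw [commutatorElement_eq_one_iff_mul_comm.mpr (D.V_cent q hq a ha).symm]; exact one_mem _⟩

theorem conj_Xc (D : IData (S : Subgroup G) K F H V) {g r : G} (hg : g ∈ K) (hr : r ∈ D.Xc) :
    g * r * g⁻¹ ∈ D.Xc := by
  obtain ⟨h1, h2, h3⟩ := D.mem_Xc.mp hr
  refine D.mem_Xc.mpr ⟨conj_mem_core hg h1, ?_, fun q hq => ?_⟩
  · rw [show g * r * g⁻¹ * (g * r * g⁻¹) = g * (r * r) * g⁻¹ by group]; exact D.conj_V hg h2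
  · rw [show ⁅g * r * g⁻¹, q⁆ = g * ⁅r, g⁻¹ * q * g⁻¹⁻¹⁆ * g⁻¹ by simp only [commutatorElement_def]; group]
    exact D.conj_V hg (h3 _ (conj_mem_core (K.inv_mem hg) hq))

/-- The elements of `Xc` fixed by `f` modulo `V`. -/
def Pf (D : IData (S : Subgroup G) K F H V) {f : G} (hf : f ∈ K) : Subgroup G where
  carrier := {r | r ∈ D.Xc ∧ ⁅f, r⁆ ∈ V}
  one_mem' := ⟨one_mem _, by simp⟩
  mul_mem' := fun {a b} ha hb => ⟨mul_mem ha.1 hb.1, by
    rw [show ⁅f, a * b⁆ = ⁅f, a⁆ * (a * ⁅f, b⁆ * a⁻¹) by simp only [commutatorElement_def]; group,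
      D.conj_R (D.mem_Xc.mp ha.1).1 hb.2]
    exact V.mul_mem ha.2 hb.2⟩
  inv_mem' := fun {a} ha => ⟨inv_mem ha.1, by
    have := V.inv_mem ha.2
    rw [← D.conj_R (inv_mem (D.mem_Xc.mp ha.1).1) this, inv_inv] at this
    rwa [show ⁅f, a⁻¹⁆ = a⁻¹ * ⁅f, a⁆⁻¹ * a by simp only [commutatorElement_def]; group]⟩

theorem mem_Pf (D : IData (S : Subgroup G) K F H V) {f : G} {hf : f ∈ K} {r : G} :
    r ∈ D.Pf hf ↔ r ∈ D.Xc ∧ ⁅f, r⁆ ∈ V := Iff.rfl

theorem comm_inv_mem (D : IData (S : Subgroup G) K F H V) {f r : G} (hf : f ∈ K) (h : ⁅f, r⁆ ∈ V) :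
    ⁅f⁻¹, r⁆ ∈ V := by
  rw [show ⁅f⁻¹, r⁆ = f⁻¹ * ⁅f, r⁆⁻¹ * f⁻¹⁻¹ by simp only [commutatorElement_def]; group]
  exact D.conj_V (K.inv_mem hf) (V.inv_mem h)

theorem conj_Pf (D : IData (S : Subgroup G) K F H V) {f f' : G} {hf : f ∈ K} {hf' : f' ∈ K} {g r : G}
    (hg : g ∈ K) (e : g * f * g⁻¹ = f') (hr : r ∈ D.Pf hf) : g * r * g⁻¹ ∈ D.Pf hf' := by
  refine D.mem_Pf.mpr ⟨D.conj_Xc hg hr.1, ?_⟩
  rw [← e, show ⁅g * f * g⁻¹, g * r * g⁻¹⁆ = g * ⁅f, r⁆ * g⁻¹ by simp only [commutatorElement_def]; group]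
  exact D.conj_V hg hr.2

theorem conj_Pf' (D : IData (S : Subgroup G) K F H V) {f f' : G} {hf : f ∈ K} {hf' : f' ∈ K} {g r : G}
    (hg : g ∈ K) (e : g * f * g⁻¹ = f'⁻¹) (hr : r ∈ D.Pf hf) : g * r * g⁻¹ ∈ D.Pf hf' := by
  have h1 := D.conj_Pf (hf' := K.inv_mem hf') hg e hr
  refine D.mem_Pf.mpr ⟨h1.1, ?_⟩
  have := D.comm_inv_mem (K.inv_mem hf') h1.2
  rwa [inv_inv] at this

theorem sq_fix (D : IData (S : Subgroup G) K F H V) {f r : G} (hr : r ∈ D.Xc) (h : ⁅f, r⁆ ∈ V) :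
    f * (r * r) = r * r * f := by
  refine mul_inv_eq_iff_eq_mul.mp ?_
  have hR := (D.mem_Xc.mp hr).1
  calc f * (r * r) * f⁻¹ = ⁅f, r⁆ * (r * ⁅f, r⁆ * r⁻¹) * (r * r) := by simp only [commutatorElement_def]; group
    _ = r * r := by rw [D.conj_R hR h, D.V_sq _ h, one_mul]

/-- There is an element of `Xc` outside `V` unless `O₂(K) = V`. -/
theorem exists_Xc (D : IData (S : Subgroup G) K F H V) (hR : ¬ pCoreOf 2 K ≤ V) :
    ∃ r ∈ D.Xc, r ∉ V := by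
  haveI : Fact (Nat.Prime 2) := ⟨Nat.prime_two⟩
  set R := pCoreOf 2 K
  haveI : (V.subgroupOf R).Normal := Subgroup.normal_subgroupOf_of_le_normalizer ((core_le K).trans D.V_norm)
  set π := QuotientGroup.mk' (V.subgroupOf R)
  obtain ⟨r₁, hr₁, hr₁V⟩ := Set.not_subset.mp hR
  have hne : Nontrivial (↥R ⧸ V.subgroupOf R) :=
    ⟨⟨π ⟨r₁, hr₁⟩, 1, fun e => hr₁V (by have h3 := (QuotientGroup.eq_one_iff _).mp e; exact h3)⟩⟩
  have hp : IsPGroup 2 (↥R ⧸ V.subgroupOf R) := (core_two K).to_quotient _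
  haveI := hp.center_nontrivial
  have hp2 : 2 ∣ Nat.card ↥(Subgroup.center (↥R ⧸ V.subgroupOf R)) := by
    obtain ⟨n, hn⟩ := IsPGroup.iff_card.mp (hp.to_subgroup (Subgroup.center _))
    rw [hn]
    refine dvd_pow_self 2 ?_
    rintro rfl
    have := Finite.one_lt_card_iff_nontrivial.mpr (inferInstance : Nontrivial ↥(Subgroup.center (↥R ⧸ V.subgroupOf R)))
    omega
  obtain ⟨⟨w, hw⟩, ho⟩ := exists_prime_orderOf_dvd_card' 2 hp2
  rw [← Subgroup.orderOf_coe] at ho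
  obtain ⟨⟨r, hr⟩, rfl⟩ := QuotientGroup.mk'_surjective (V.subgroupOf R) w
  refine ⟨r, D.mem_Xc.mpr ⟨hr, ?_, fun q hq => ?_⟩, fun hrV => ?_⟩
  · have h2 := pow_orderOf_eq_one (π ⟨r, hr⟩)
    rw [ho, pow_two, ← map_mul] at h2
    have h3 := (QuotientGroup.eq_one_iff _).mp h2
    exact h3
  · have h2 : π ⁅(⟨r, hr⟩ : ↥R), ⟨q, hq⟩⁆ = 1 := by
      rw [map_commutatorElement, commutatorElement_eq_one_iff_mul_comm]
      exact (Subgroup.mem_center_iff.mp hw _).symm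
    have h3 := (QuotientGroup.eq_one_iff _).mp h2
    exact h3
  · have h2 : π ⟨r, hr⟩ = 1 := (QuotientGroup.eq_one_iff _).mpr hrV
    change orderOf (π ⟨r, hr⟩) = 2 at ho
    rw [h2, orderOf_one] at ho
    omega

variable {f₁ f₂ t₁ t₂ σ u₁ z₁ u₂ z₂ : G}

theorem trivial_of_two_lines (D : IData (S : Subgroup G) K F H V)
    (w : WrFrame (S : Subgroup G) K F V f₁ f₂ t₁ t₂ σ u₁ z₁ u₂ z₂) {r : G} (hr : r ∈ D.Xc)
    (h1 : ⁅f₁, r⁆ ∈ V) (h2 : ⁅f₂, r⁆ ∈ V) : r ∈ V :=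
  D.V_all r (D.mem_Xc.mp hr).1 (w.indep _ (D.mem_Xc.mp hr).2.1 (D.sq_fix hr h1) (D.sq_fix hr h2))

/-- `f₁g` has no fixed point on `V` for `g ∈ {f₂, f₂⁻¹}`. -/
theorem fpf_line (D : IData (S : Subgroup G) K F H V)
    (w : WrFrame (S : Subgroup G) K F V f₁ f₂ t₁ t₂ σ u₁ z₁ u₂ z₂) {g : G} (hg : g = f₂ ∨ g = f₂⁻¹) {v : G}
    (hv : v ∈ V) (h : f₁ * g * v = v * (f₁ * g)) : v = 1 := by
  have hgF : g ∈ F := by rcases hg with rfl | rfl <;> first | exact w.f₂_mem | exact F.inv_mem w.f₂_mem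
  have hgK := D.ov.F_le hgF
  have hfK := D.ov.F_le w.f₁_mem
  have hgf : f₁ * g = g * f₁ := D.ov.comm _ w.f₁_mem _ hgF
  have hgf₂ : g * f₂ = f₂ * g := D.ov.comm _ hgF _ w.f₂_mem
  have hcg : ∀ {x : G}, g * x = x * g → f₂ * x = x * f₂ := fun {x} hx => by
    rcases hg with rfl | rfl
    · exact hx
    · exact comm_inv' hx
  obtain ⟨a, ha, b, hb, hfa, hgb, rfl⟩ := w.split v hv
  have hgb' : g * b = b * g := by
    rcases hg with rfl | rfl
    · exact hgb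
    · exact (Commute.inv_left (hgb : Commute f₂ b)).eq
  have hga : f₁ * (g * a * g⁻¹) = g * a * g⁻¹ * f₁ := comm_conj hfa (by rw [← hgf, mul_inv_cancel_right])
  have hfb : f₂ * (f₁ * b * f₁⁻¹) = f₁ * b * f₁⁻¹ * f₂ :=
    comm_conj hgb (by rw [D.ov.comm _ w.f₁_mem _ w.f₂_mem, mul_inv_cancel_right])
  have e : g * a * g⁻¹ * (f₁ * b * f₁⁻¹) = a * b := by
    have e1 : f₁ * (g * a * g⁻¹) * f₁⁻¹ = g * a * g⁻¹ := by rw [hga, mul_inv_cancel_right]
    have e2 : g * b * g⁻¹ = b := by rw [hgb', mul_inv_cancel_right]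
    calc g * a * g⁻¹ * (f₁ * b * f₁⁻¹) = f₁ * (g * a * g⁻¹) * f₁⁻¹ * (f₁ * (g * b * g⁻¹) * f₁⁻¹) := by rw [e1, e2]
      _ = (f₁ * g) * (a * b) * (f₁ * g)⁻¹ := by group
      _ = a * b := by rw [h, mul_inv_cancel_right]
  have e' : a⁻¹ * (g * a * g⁻¹) = b * (f₁ * b * f₁⁻¹)⁻¹ := by
    rw [eq_mul_inv_iff_mul_eq, mul_assoc, e, inv_mul_cancel_left]
  have h1 : a⁻¹ * (g * a * g⁻¹) = 1 := w.indep _ (V.mul_mem (V.inv_mem ha) (D.conj_V hgK ha))
    ((show Commute f₁ a from hfa).inv_right.mul_right (show Commute f₁ _ from hga)).eq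
    (by rw [e']; exact ((show Commute f₂ b from hgb).mul_right (show Commute f₂ _ from hfb).inv_right).eq)
  rw [h1] at e'
  rw [w.indep a ha hfa (hcg (mul_inv_eq_iff_eq_mul.mp (inv_mul_eq_one.mp h1).symm)), one_mul]
  exact w.indep b hb (mul_inv_eq_iff_eq_mul.mp (mul_inv_eq_one.mp e'.symm).symm) hgb

/-- The first line has fixed points modulo `V`. -/
theorem exists_Pf₁ (D : IData (S : Subgroup G) K F H V)
    (w : WrFrame (S : Subgroup G) K F V f₁ f₂ t₁ t₂ σ u₁ z₁ u₂ z₂) (hR : ¬ pCoreOf 2 K ≤ V) :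
    ∃ x ∈ D.Pf (D.ov.F_le w.f₁_mem), x ∉ V := by
  by_contra hh
  push Not at hh
  have hσK := D.ov.S_le w.σ_mem
  have hno₂ : ∀ r ∈ D.Xc, ⁅f₂, r⁆ ∈ V → r ∈ V := fun r hr h2 => by
    have h3 := hh _ (D.conj_Pf (hf := D.ov.F_le w.f₂_mem) (hf' := D.ov.F_le w.f₁_mem) hσK w.σ_f₂ ⟨hr, h2⟩)
    rw [show r = σ⁻¹ * (σ * r * σ⁻¹) * σ⁻¹⁻¹ by group]
    exact D.conj_V (K.inv_mem hσK) h3
  have hno₃ : ∀ g, (g = f₂ ∨ g = f₂⁻¹) → ∀ r ∈ D.Xc, ⁅f₁ * g, r⁆ ∈ V → r ∈ V := fun g hg r hr h =>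
    D.V_all r (D.mem_Xc.mp hr).1 (D.fpf_line w hg (D.mem_Xc.mp hr).2.1 (D.sq_fix hr h))
  obtain ⟨x, hx, hxV⟩ := D.exists_Xc hR
  haveI : (V.subgroupOf D.Xc).Normal := Subgroup.normal_subgroupOf_of_le_normalizer
    (Subgroup.le_normalizer_iff.mpr fun r hr a ha => by rw [D.conj_R (D.mem_Xc.mp hr).1 ha]; exact ha)
  set N := V.subgroupOf D.Xc with hN
  have hW : ∀ q : ↥D.Xc ⧸ N, q * q = 1 := fun q => by
    obtain ⟨r, rfl⟩ := QuotientGroup.mk_surjective q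
    rw [← QuotientGroup.mk_mul, QuotientGroup.eq_one_iff]
    exact (D.mem_Xc.mp r.2).2.1
  let cj : ∀ g : G, g ∈ K → ↥D.Xc →* ↥D.Xc := fun g hg =>
    { toFun := fun r => ⟨g * r * g⁻¹, D.conj_Xc hg r.2⟩
      map_one' := Subtype.ext (by simp)
      map_mul' := fun a b => Subtype.ext (by simp [mul_assoc]) }
  let qa : ∀ g : G, g ∈ K → (↥D.Xc ⧸ N) →* (↥D.Xc ⧸ N) := fun g hg =>
    QuotientGroup.map N N (cj g hg) fun r hr => D.conj_V hg hr
  have hpow : ∀ {g : G} (hg : g ∈ K), g ^ 3 = 1 → ∀ q, qa g hg (qa g hg (qa g hg q)) = q := fun {g} hg h3 q => by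
    obtain ⟨r, rfl⟩ := QuotientGroup.mk_surjective q
    show ((cj g hg (cj g hg (cj g hg r)) : ↥D.Xc) : ↥D.Xc ⧸ N) = _
    refine congrArg _ (Subtype.ext ?_)
    show g * (g * (g * (r : G) * g⁻¹) * g⁻¹) * g⁻¹ = r
    calc g * (g * (g * (r : G) * g⁻¹) * g⁻¹) * g⁻¹ = g ^ 3 * r * (g ^ 3)⁻¹ := by
          simp only [pow_succ, pow_zero, one_mul]; group
      _ = r := by rw [h3, one_mul, inv_one, mul_one]
  have hnorm : ∀ g (hg : g ∈ K), g ^ 3 = 1 → (∀ r ∈ D.Xc, ⁅g, r⁆ ∈ V → r ∈ V) →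
      ∀ q : ↥D.Xc ⧸ N, q * qa g hg q * qa g hg (qa g hg q) = 1 := by
    intro g hg h3 hno q
    set n := q * qa g hg q * qa g hg (qa g hg q) with hn
    have hfix : qa g hg n = n := by
      rw [hn, map_mul, map_mul, hpow hg h3]
      exact (comm_of_exp_two (H := (⊤ : Subgroup (↥D.Xc ⧸ N))) (fun a _ => hW a) _ (Subgroup.mem_top _) _
        (Subgroup.mem_top _)).trans (mul_assoc _ _ _).symm
    obtain ⟨r, hr⟩ := QuotientGroup.mk_surjective n
    rw [← hr] at hfix ⊢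
    refine (QuotientGroup.eq_one_iff r).mpr (hno r r.2 ?_)
    have h1 : ((cj g hg r * r⁻¹ : ↥D.Xc) : ↥D.Xc ⧸ N) = 1 := by
      rw [QuotientGroup.mk_mul, QuotientGroup.mk_inv]
      exact mul_inv_eq_one.mpr hfix
    have h4 := (QuotientGroup.eq_one_iff _).mp h1
    exact h4
  have hfK := D.ov.F_le w.f₁_mem
  have hgK := D.ov.F_le w.f₂_mem
  have hcomp : ∀ {a b : G} (ha : a ∈ K) (hb : b ∈ K) q, qa (a * b) (K.mul_mem ha hb) q = qa a ha (qa b hb q) :=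
    fun {a b} ha hb q => by
    obtain ⟨r, rfl⟩ := QuotientGroup.mk_surjective q
    show ((cj (a * b) (K.mul_mem ha hb) r : ↥D.Xc) : ↥D.Xc ⧸ N) = (cj a ha (cj b hb r) : ↥D.Xc)
    refine congrArg _ (Subtype.ext ?_)
    show a * b * (r : G) * (a * b)⁻¹ = a * (b * r * b⁻¹) * a⁻¹
    group
  have hfg := D.ov.comm _ w.f₁_mem _ w.f₂_mem
  have hfg' : Commute f₁ (f₂ * f₂) := (show Commute f₁ f₂ from hfg).mul_right hfg
  set a := qa f₁ hfK
  set b := qa f₂ hgK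
  set q : ↥D.Xc ⧸ N := QuotientGroup.mk ⟨x, hx⟩ with hq
  have hfix : a q = q := by
    refine fix_of_norms hW a b (hpow hfK w.f₁_pow) (fun y => ?_) (hnorm _ hgK w.f₂_pow hno₂ q) ?_ ?_
      (hpow hgK w.f₂_pow)
    · obtain ⟨r, rfl⟩ := QuotientGroup.mk_surjective y
      show ((cj f₁ hfK (cj f₂ hgK r) : ↥D.Xc) : ↥D.Xc ⧸ N) = (cj f₂ hgK (cj f₁ hfK r) : ↥D.Xc)
      refine congrArg _ (Subtype.ext ?_)
      show f₁ * (f₂ * (r : G) * f₂⁻¹) * f₁⁻¹ = f₂ * (f₁ * r * f₁⁻¹) * f₂⁻¹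
      calc f₁ * (f₂ * (r : G) * f₂⁻¹) * f₁⁻¹ = f₁ * f₂ * r * (f₁ * f₂)⁻¹ := by group
        _ = f₂ * f₁ * r * (f₂ * f₁)⁻¹ := by rw [hfg]
        _ = _ := by group
    · have h := hnorm _ (K.mul_mem hfK hgK)
        (by rw [(show Commute f₁ f₂ from hfg).mul_pow, w.f₁_pow, w.f₂_pow, one_mul])
        (hno₃ f₂ (Or.inl rfl)) q
      rwa [hcomp hfK hgK, hcomp hfK hgK] at h
    · have h := hnorm _ (K.mul_mem hfK (K.mul_mem hgK hgK))
        (by rw [hfg'.mul_pow, w.f₁_pow, (Commute.refl f₂).mul_pow, w.f₂_pow, one_mul, one_mul])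
        (fun r hr hV => hno₃ f₂⁻¹ (Or.inr rfl) r hr (by rwa [← pow_two_eq_inv w.f₂_pow])) q
      simp only [hcomp hfK (K.mul_mem hgK hgK), hcomp hgK hgK] at h
      exact h
  refine hxV (hh x ⟨hx, ?_⟩)
  have h1 : ((cj f₁ hfK ⟨x, hx⟩ * (⟨x, hx⟩ : ↥D.Xc)⁻¹ : ↥D.Xc) : ↥D.Xc ⧸ N) = 1 := by
    rw [QuotientGroup.mk_mul, QuotientGroup.mk_inv]
    exact mul_inv_eq_one.mpr hfix
  have h4 := (QuotientGroup.eq_one_iff _).mp h1
  exact h4

/-- Bilinearity of commutators of `Xc` with values in `V`. -/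
theorem comm_mul (D : IData (S : Subgroup G) K F H V) {r a b : G} (hr : r ∈ D.Xc) (ha : a ∈ D.Xc) (hb : b ∈ D.Xc) :
    ⁅r, a * b⁆ = ⁅r, a⁆ * ⁅r, b⁆ := by
  rw [show ⁅r, a * b⁆ = ⁅r, a⁆ * (a * ⁅r, b⁆ * a⁻¹) by simp only [commutatorElement_def]; group,
    D.conj_R (D.mem_Xc.mp ha).1 ((D.mem_Xc.mp hr).2.2 b (D.mem_Xc.mp hb).1)]

/-- A shift by `V` does not change the commutator. -/
theorem comm_shift (D : IData (S : Subgroup G) K F H V) {v w' r s : G} (hv : v ∈ V) (hw : w' ∈ V)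
    (hr : r ∈ pCoreOf 2 K) (hs : s ∈ pCoreOf 2 K) : ⁅v * r, w' * s⁆ = ⁅r, s⁆ := by
  have h1 : ∀ q ∈ pCoreOf 2 K, Commute v q := fun q hq => (D.V_cent q hq v hv).symm
  have h2 : ∀ q ∈ pCoreOf 2 K, Commute w' q := fun q hq => (D.V_cent q hq w' hw).symm
  simp only [commutatorElement_def, mul_inv_rev]
  calc v * r * (w' * s) * (r⁻¹ * v⁻¹) * (s⁻¹ * w'⁻¹)
      = v * ((r * w') * s * r⁻¹) * (v⁻¹ * s⁻¹) * w'⁻¹ := by group
    _ = v * ((w' * r) * s * r⁻¹) * (s⁻¹ * v⁻¹) * w'⁻¹ := by rw [(h2 r hr).eq, (h1 s hs).inv_inv.eq]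
    _ = v * w' * (r * s * r⁻¹ * s⁻¹) * (w' * v)⁻¹ := by group
    _ = r * s * r⁻¹ * s⁻¹ := by
      rw [D.comm hw hv, ((h1 _ (mul_mem (mul_mem (mul_mem hr hs) (inv_mem hr)) (inv_mem hs))).mul_left
        (h2 _ (mul_mem (mul_mem (mul_mem hr hs) (inv_mem hr)) (inv_mem hs)))).eq, mul_inv_cancel_right]

/-- Norms put the commutators of the two halves on one side. -/
theorem comm_side (D : IData (S : Subgroup G) K F H V) {f g r s : G} (hfF : f ∈ F) (hgF : g ∈ F)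
    (hf3 : f ^ 3 = 1) (hr : r ∈ D.Xc) (hs : s ∈ D.Xc) (hfr : ⁅f, r⁆ ∈ V) (hgs : ⁅g, s⁆ ∈ V)
    (hboth : ∀ n ∈ D.Xc, ⁅f, n⁆ ∈ V → ⁅g, n⁆ ∈ V → n ∈ V)
    (hindep : ∀ v ∈ V, f * v = v * f → g * v = v * g → v = 1)
    (hsplit : ∃ a ∈ V, ∃ b ∈ V, f * a = a * f ∧ g * b = b * g ∧ ⁅r, s⁆ = a * b) :
    g * ⁅r, s⁆ = ⁅r, s⁆ * g := by
  have hfK := D.ov.F_le hfF
  have hgK := D.ov.F_le hgF
  have hgf : g * f = f * g := D.ov.comm _ hgF _ hfF
  have hs' := D.conj_Xc hfK hs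
  have hs'' := D.conj_Xc hfK hs'
  have hrR := (D.mem_Xc.mp hr).1
  set s₁ := f * s * f⁻¹ with hs₁
  set s₂ := f * s₁ * f⁻¹ with hs₂
  have hf₃ : f * s₂ * f⁻¹ = s := by
    calc f * s₂ * f⁻¹ = f ^ 3 * s * (f ^ 3)⁻¹ := by simp only [hs₂, hs₁, pow_succ, pow_zero, one_mul]; group
      _ = s := by rw [hf3, one_mul, inv_one, mul_one]
  set n := s * s₁ * s₂ with hn
  have hnX : n ∈ D.Xc := mul_mem (mul_mem hs hs') hs''
  have hgPf : ∀ {y : G}, y ∈ D.Pf hgK → f * y * f⁻¹ ∈ D.Pf hgK := fun {y} hy =>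
    D.conj_Pf hfK (by rw [← hgf, mul_inv_cancel_right]) hy
  have hnV : n ∈ V := by
    refine hboth n hnX ?_ ((D.Pf hgK).mul_mem ((D.Pf hgK).mul_mem ⟨hs, hgs⟩ (hgPf ⟨hs, hgs⟩))
      (hgPf (hgPf ⟨hs, hgs⟩))).2
    have e : ⁅f, n⁆ = ⁅s₁ * s₂, s⁆ := by
      rw [commutatorElement_def, commutatorElement_def, hn,
        show f * (s * s₁ * s₂) * f⁻¹ = (f * s * f⁻¹) * (f * s₁ * f⁻¹) * (f * s₂ * f⁻¹) by group, hf₃, ← hs₁, ← hs₂]
      group
    rw [e]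
    exact (D.mem_Xc.mp (mul_mem hs' hs'')).2.2 s (D.mem_Xc.mp hs).1
  have hcf : ∀ y ∈ D.Xc, f * ⁅r, y⁆ * f⁻¹ = ⁅r, f * y * f⁻¹⁆ := fun y hy => by
    calc f * ⁅r, y⁆ * f⁻¹ = ⁅⁅f, r⁆ * r, 1 * (f * y * f⁻¹)⁆ := by simp only [commutatorElement_def]; group
      _ = ⁅r, f * y * f⁻¹⁆ := D.comm_shift hfr (one_mem _) hrR (D.mem_Xc.mp (D.conj_Xc hfK hy)).1
  have hsum : ⁅r, s⁆ * ⁅r, s₁⁆ * ⁅r, s₂⁆ = 1 := by
    rw [← D.comm_mul hr hs hs', ← D.comm_mul hr (mul_mem hs hs') hs'', ← hn]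
    exact commutatorElement_eq_one_iff_mul_comm.mpr (D.V_cent r hrR n hnV)
  obtain ⟨a, ha, b, hb, hfa, hgb, e⟩ := hsplit
  set b₁ := f * b * f⁻¹ with hb₁
  set b₂ := f * b₁ * f⁻¹ with hb₂
  have hb₁V : b₁ ∈ V := D.conj_V hfK hb
  have hb₂V : b₂ ∈ V := D.conj_V hfK hb₁V
  have e₁ : ⁅r, s₁⁆ = a * b₁ := by
    rw [hs₁, ← hcf s hs, e, ← conj_mul, hb₁, hfa, mul_inv_cancel_right]
  have e₂ : ⁅r, s₂⁆ = a * b₂ := by
    rw [hs₂, ← hcf s₁ hs', e₁, ← conj_mul, hb₂, hfa, mul_inv_cancel_right]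
  rw [e, e₁, e₂] at hsum
  have hnb : b * b₁ * b₂ = 1 := by
    refine hindep _ (V.mul_mem (V.mul_mem hb hb₁V) hb₂V) (mul_inv_eq_iff_eq_mul.mp ?_) ?_
    · have hb₃ : f * b₂ * f⁻¹ = b := by
        calc f * b₂ * f⁻¹ = f ^ 3 * b * (f ^ 3)⁻¹ := by simp only [hb₂, hb₁, pow_succ, pow_zero, one_mul]; group
          _ = b := by rw [hf3, one_mul, inv_one, mul_one]
      rw [← conj_mul, ← conj_mul, ← hb₁, ← hb₂, hb₃]
      exact (D.comm (V.mul_mem hb₁V hb₂V) hb).trans (mul_assoc _ _ _).symm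
    · have h1 : g * b₁ = b₁ * g := comm_conj hgb (by rw [← hgf, mul_inv_cancel_right])
      have h2 : g * b₂ = b₂ * g := comm_conj h1 (by rw [← hgf, mul_inv_cancel_right])
      exact (((show Commute g b from hgb).mul_right (show Commute g b₁ from h1)).mul_right (show Commute g b₂ from h2)).eq
  have ha1 : a = 1 := by
    calc a = a * (a * a) * (b * b₁ * b₂) := by rw [D.V_sq a ha, hnb, mul_one, mul_one]
      _ = (a * b) * (a * b₁) * (a * b₂) := by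
        have c1 : Commute b a := D.comm hb ha
        have c2 : Commute (b * b₁) a := D.comm (V.mul_mem hb hb₁V) ha
        calc a * (a * a) * (b * b₁ * b₂) = a * (a * (a * (b * b₁))) * b₂ := by group
          _ = a * (a * ((b * b₁) * a)) * b₂ := by rw [c2.eq]
          _ = a * ((a * b) * b₁) * (a * b₂) := by group
          _ = a * ((b * a) * b₁) * (a * b₂) := by rw [c1.eq]
          _ = _ := by group
      _ = 1 := hsum
  rw [e, ha1, one_mul]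
  exact hgb

/-- In the wreathed shape `O₂(K) = V`. -/
theorem R_le_V (h : Hard G) (h4 : SectionalPRankLE 2 4 G) (D : IData (S : Subgroup G) K F H V)
    (w : WrFrame (S : Subgroup G) K F V f₁ f₂ t₁ t₂ σ u₁ z₁ u₂ z₂) : pCoreOf 2 K ≤ V := by
  classical
  by_contra hR
  have hfK := D.ov.F_le w.f₁_mem
  have hgK := D.ov.F_le w.f₂_mem
  have hσK := D.ov.S_le w.σ_mem
  have htK := D.ov.S_le w.t_mem
  have hgF := w.f₂_mem
  set P := D.Pf hfK with hP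
  obtain ⟨x, hx, hxV⟩ := D.exists_Pf₁ w hR
  set y := f₂ * x * f₂⁻¹ with hy'
  have hy : y ∈ P := D.conj_Pf hgK (by rw [D.ov.comm _ hgF _ w.f₁_mem, mul_inv_cancel_right]) hx
  have hVP : V ≤ P := fun a ha => D.mem_Pf.mpr ⟨D.V_le_Xc ha, by
    rw [commutatorElement_def]; exact V.mul_mem (D.conj_V hfK ha) (V.inv_mem ha)⟩
  have hPR : ∀ {r}, r ∈ P → r ∈ pCoreOf 2 K := fun hr => (D.mem_Xc.mp hr.1).1
  have hfree : ∀ r ∈ P, ⁅f₂, r⁆ ∈ V → r ∈ V := fun r hr h2 => D.trivial_of_two_lines w hr.1 hr.2 h2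
  have hxy : x⁻¹ * y ∉ V := fun hh => hxV (hfree x hx (by
    have h1 := D.conj_R (hPR hx) hh
    rw [show ⁅f₂, x⁆ = x * (x⁻¹ * y) * x⁻¹ by simp only [hy', commutatorElement_def]; group, h1]
    exact hh))
  have hyV : y ∉ V := fun hh => hxV (by
    rw [show x = f₂⁻¹ * y * f₂⁻¹⁻¹ by rw [hy']; group]
    exact D.conj_V (K.inv_mem hgK) hh)
  have hxy' : x * y ∉ V := fun hh => hxy (by
    have e : x⁻¹ * y = (x * x)⁻¹ * (x * y) := by group
    rw [e]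
    exact V.mul_mem (V.inv_mem (D.mem_Xc.mp hx.1).2.1) hh)
  -- the four cosets exhaust `P`
  let φ : Bool × Bool × ↥V → ↥P := fun p =>
    ⟨bp x p.1 * bp y p.2.1 * p.2.2, P.mul_mem (P.mul_mem (bp_mem hx _) (bp_mem hy _)) (hVP p.2.2.2)⟩
  have hφ : Function.Injective φ := by
    rintro ⟨a, b, v⟩ ⟨c, d, v'⟩ e
    have e' : bp x a * bp y b * (v : G) = bp x c * bp y d * v' := congrArg Subtype.val e
    have hm : (bp x c * bp y d)⁻¹ * (bp x a * bp y b) ∈ V := by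
      have : (bp x c * bp y d)⁻¹ * (bp x a * bp y b) = (v' : G) * (v : G)⁻¹ := by
        rw [eq_mul_inv_iff_mul_eq, mul_assoc, e', inv_mul_cancel_left]
      rw [this]; exact V.mul_mem v'.2 (V.inv_mem v.2)
    have hsx := (D.mem_Xc.mp hx.1).2.1
    have hi := @Subgroup.inv_mem G _ V
    suffices hac : a = c ∧ b = d by
      obtain ⟨rfl, rfl⟩ := hac
      exact Prod.ext rfl (Prod.ext rfl (Subtype.ext (mul_left_cancel e')))
    have hcx : ∀ {v : G}, v ∈ V → x * v * x⁻¹ ∈ V := fun hv => by rwa [D.conj_R (hPR hx) hv]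
    have hcy : ∀ {v : G}, v ∈ V → y * v * y⁻¹ ∈ V := fun hv => by rwa [D.conj_R (hPR hy) hv]
    cases a <;> cases b <;> cases c <;> cases d <;> simp [mul_assoc] at hm ⊢
    all_goals first
      | exact hxV hm
      | exact hyV hm
      | exact hxy hm
      | exact hxy' hm
      | exact hxV (by simpa using hi hm)
      | exact hyV (by simpa using hi hm)
      | exact hxy (by simpa using hi hm)
      | exact hxy' (by simpa using hi hm)
      | exact hyV (by simpa [mul_assoc] using hcy hm)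
      | exact hxV (by simpa [mul_assoc] using hcy hm)
      | exact hxy (by simpa [mul_assoc] using hcy hm)
      | exact hxy' (by simpa [mul_assoc] using hcy hm)
      | exact hxy' (by simpa [mul_assoc] using hi (hcy hm))
      | exact hxV (by simpa [mul_assoc] using hi (hcy hm))
      | exact hxy (by simpa [mul_assoc] using hi (hcy hm))
      | exact hyV (by simpa [mul_assoc] using hi (hcy hm))
  set A₁ := V ⊓ Subgroup.centralizer ({f₁} : Set G) with hA₁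
  have hA₁P : A₁ ≤ P := inf_le_left.trans hVP
  have hsqA : ∀ r ∈ P, r * r ∈ A₁ := fun r hr =>
    ⟨(D.mem_Xc.mp hr.1).2.1, Subgroup.mem_centralizer_singleton_iff.mpr (D.sq_fix hr.1 hr.2).symm⟩
  have h64 : Nat.card P ≤ 64 := by
    have := card_le_of_sq h4 hA₁P (Subgroup.le_normalizer_iff.mpr fun r hr a ha => by
      rw [D.conj_R (hPR hr) ha.1]; exact ha) hsqA
    rw [w.card_A] at this
    omega
  have hbij : Function.Bijective φ := by
    refine (Nat.bijective_iff_injective_and_card φ).mpr ⟨hφ, ?_⟩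
    have := Nat.card_le_card_of_injective φ hφ
    simp only [Nat.card_prod, D.card_V, Nat.card_eq_fintype_card (α := Bool), Fintype.card_bool] at this ⊢
    omega
  -- `P` is abelian
  have hxyc : x * y = y * x := by
    set c := ⁅x, y⁆ with hc
    have hcV : c ∈ V := (D.mem_Xc.mp hx.1).2.2 y (hPR hy)
    refine commutatorElement_eq_one_iff_mul_comm.mp (w.indep c hcV (mul_inv_eq_iff_eq_mul.mp ?_) ?_)
    · rw [hc, show f₁ * ⁅x, y⁆ * f₁⁻¹ = ⁅⁅f₁, x⁆ * x, ⁅f₁, y⁆ * y⁆ by simp only [commutatorElement_def]; group]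
      exact D.comm_shift hx.2 hy.2 (hPR hx) (hPR hy)
    · have hy2 : f₂ * y * f₂⁻¹ ∈ P := D.conj_Pf hgK (by rw [D.ov.comm _ hgF _ w.f₁_mem, mul_inv_cancel_right]) hy
      obtain ⟨⟨a, b, ⟨v, hv⟩⟩, e⟩ := hbij.2 ⟨_, hy2⟩
      have e' : bp x a * bp y b * v = f₂ * y * f₂⁻¹ := congrArg Subtype.val e
      have hab : a = true ∧ b = true := by
        cases a <;> cases b <;> simp at e' ⊢
        · exact hyV (by
            rw [show y = f₂⁻¹ * v * f₂⁻¹⁻¹ by rw [e']; group]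
            exact D.conj_V (K.inv_mem hgK) hv)
        · refine hyV (hfree y hy ?_)
          rw [commutatorElement_def, ← e', D.conj_R (hPR hy) hv]
          exact hv
        · refine hxV (hfree x hx ?_)
          have e3 : x = f₂ * (x * v) * f₂⁻¹ := by
            rw [e', hy']
            calc x = f₂ ^ 3 * x * (f₂ ^ 3)⁻¹ := by rw [w.f₂_pow, one_mul, inv_one, mul_one]
              _ = _ := by simp only [pow_succ, pow_zero, one_mul]; group
          rw [commutatorElement_def, show f₂ * x * f₂⁻¹ = x * (f₂ * v * f₂⁻¹)⁻¹ by nth_rewrite 2 [e3]; group,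
            D.conj_R (hPR hx) (V.inv_mem (D.conj_V hgK hv))]
          exact V.inv_mem (D.conj_V hgK hv)
      obtain ⟨rfl, rfl⟩ := hab
      simp only [bp_true] at e'
      refine mul_inv_eq_iff_eq_mul.mp ?_
      calc f₂ * c * f₂⁻¹ = ⁅y, f₂ * y * f₂⁻¹⁆ := by simp only [hc, hy', commutatorElement_def]; group
        _ = ⁅1 * y, v * (x * y)⁆ := by
          rw [one_mul, ← e', D.V_cent _ (mul_mem (hPR hx) (hPR hy)) v hv]
        _ = ⁅y, x * y⁆ := D.comm_shift (one_mem _) hv (hPR hy) (mul_mem (hPR hx) (hPR hy))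
        _ = c⁻¹ := by simp only [hc, commutatorElement_def]; group
        _ = c := D.inv_eq hcV
  have hPcomm : ∀ r ∈ P, ∀ s ∈ P, r * s = s * r := by
    intro r hr s hs
    obtain ⟨⟨a, b, ⟨v, hv⟩⟩, e⟩ := hbij.2 ⟨r, hr⟩
    obtain ⟨⟨c, d, ⟨v', hv'⟩⟩, e₂⟩ := hbij.2 ⟨s, hs⟩
    rw [← show bp x a * bp y b * v = r from congrArg Subtype.val e,
      ← show bp x c * bp y d * v' = s from congrArg Subtype.val e₂]
    have cxy : ∀ a b, Commute (bp x a) (bp y b) := fun a b => by cases a <;> cases b <;> simp [hxyc, Commute, SemiconjBy]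
    have cxx : ∀ a b, Commute (bp x a) (bp x b) := fun a b => by cases a <;> cases b <;> simp [Commute, SemiconjBy]
    have cyy : ∀ a b, Commute (bp y a) (bp y b) := fun a b => by cases a <;> cases b <;> simp [Commute, SemiconjBy]
    have cv : ∀ {g : G}, g ∈ pCoreOf 2 K → ∀ {v : G}, v ∈ V → Commute g v := fun hg _ hv => D.V_cent _ hg _ hv
    have hbx : ∀ a, bp x a ∈ pCoreOf 2 K := bp_mem (hPR hx)
    have hby : ∀ a, bp y a ∈ pCoreOf 2 K := bp_mem (hPR hy)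
    exact (((((cxx a c).mul_right (cxy a d)).mul_left ((cxy c b).symm.mul_right (cyy b d))).mul_left
      (cv (mul_mem (hbx c) (hby d)) hv).symm).mul_right
        ((cv (mul_mem (hbx a) (hby b)) hv').mul_left (D.comm hv hv'))).eq
  -- squares of `P` fill `A₁`
  let Sq : Subgroup G :=
    { carrier := {a | ∃ r ∈ P, r * r = a}
      one_mem' := ⟨1, one_mem _, one_mul 1⟩
      mul_mem' := fun {a b} ha hb => by
        obtain ⟨r, hr, rfl⟩ := ha
        obtain ⟨s, hs, rfl⟩ := hb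
        exact ⟨r * s, P.mul_mem hr hs, (show Commute r s from hPcomm r hr s hs).symm.mul_mul_mul_comm r s⟩
      inv_mem' := fun {a} ha => by
        obtain ⟨r, hr, rfl⟩ := ha
        exact ⟨r⁻¹, P.inv_mem hr, by group⟩ }
  have hne : ∀ r ∈ P, r ∉ V → r * r ≠ 1 := fun r hr hrV e => hrV (D.V_all r (hPR hr) e)
  have hxx := hne x hx hxV
  have hyx : y * y ∉ Subgroup.zpowers (x * x) := by
    intro e
    rcases mem_two (D.V_sq _ (D.mem_Xc.mp hx.1).2.1) e with e | e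
    · exact hne y hy hyV e
    · refine hxx (w.indep _ (D.mem_Xc.mp hx.1).2.1 (D.sq_fix hx.1 hx.2) (mul_inv_eq_iff_eq_mul.mp ?_))
      rw [← conj_mul, ← hy']; exact e
  have hSq : Sq = A₁ := by
    have hle : Sq ≤ A₁ := by rintro _ ⟨r, hr, rfl⟩; exact hsqA r hr
    refine Subgroup.eq_of_le_of_card_ge hle ?_
    have h2 := two_mul_card_le (H := Subgroup.zpowers (x * x)) (H' := Sq)
      (Subgroup.zpowers_le.mpr ⟨x, hx, rfl⟩) ⟨y, hy, rfl⟩ hyx
    rw [card_zpowers_two (D.V_sq _ (D.mem_Xc.mp hx.1).2.1) hxx] at h2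
    rw [w.card_A]
    omega
  -- the abelian group normalised by `S`
  set P₂ := D.Pf hgK with hP₂
  have hPP₂ : ∀ r ∈ P₂, σ * r * σ⁻¹ ∈ P := fun r hr => D.conj_Pf hσK w.σ_f₂ hr
  have hP₂comm : ∀ r ∈ P₂, ∀ s ∈ P₂, r * s = s * r := fun r hr s hs => by
    have e := hPcomm _ (hPP₂ r hr) _ (hPP₂ s hs)
    refine mul_right_cancel (b := σ⁻¹) (mul_left_cancel (a := σ) ?_)
    calc σ * (r * s * σ⁻¹) = σ * r * σ⁻¹ * (σ * s * σ⁻¹) := by group
      _ = σ * s * σ⁻¹ * (σ * r * σ⁻¹) := e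
      _ = σ * (s * r * σ⁻¹) := by group
  have hcross : ∀ r ∈ P, ∀ s ∈ P₂, r * s = s * r := by
    intro r hr s hs
    have hcV : ⁅r, s⁆ ∈ V := (D.mem_Xc.mp hr.1).2.2 s (D.mem_Xc.mp hs.1).1
    have hcV' : ⁅s, r⁆ ∈ V := (D.mem_Xc.mp hs.1).2.2 r (hPR hr)
    have h1 := D.comm_side w.f₁_mem hgF w.f₁_pow hr.1 hs.1 hr.2 hs.2
      (fun n hn a b => D.trivial_of_two_lines w hn a b) w.indep (w.split _ hcV)
    have h2 := D.comm_side hgF w.f₁_mem w.f₂_pow hs.1 hr.1 hs.2 hr.2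
      (fun n hn a b => D.trivial_of_two_lines w hn b a) (fun v hv a b => w.indep v hv b a)
      (by
        obtain ⟨a, ha, b, hb, hfa, hgb, e⟩ := w.split _ hcV'
        exact ⟨b, hb, a, ha, hgb, hfa, e.trans (D.comm ha hb)⟩)
    rw [show ⁅s, r⁆ = ⁅r, s⁆⁻¹ by simp only [commutatorElement_def]; group, D.inv_eq hcV] at h2
    exact commutatorElement_eq_one_iff_mul_comm.mp (w.indep _ hcV h2 h1)
  set X := Subgroup.closure ((P : Set G) ∪ (P₂ : Set G)) with hX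
  have hXcomm : ∀ a ∈ X, ∀ b ∈ X, a * b = b * a := by
    have h1 : X ≤ Subgroup.centralizer ((P : Set G) ∪ (P₂ : Set G)) := by
      refine (Subgroup.closure_le _).mpr fun a ha => Subgroup.mem_centralizer_iff.mpr fun b hb => ?_
      rcases ha with ha | ha <;> rcases hb with hb | hb
      · exact hPcomm b hb a ha
      · exact (hcross a ha b hb).symm
      · exact hcross b hb a ha
      · exact hP₂comm b hb a ha
    have h2 : X ≤ Subgroup.centralizer (X : Set G) := by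
      refine (Subgroup.closure_le _).mpr fun b hb => Subgroup.mem_centralizer_iff.mpr fun a ha => ?_
      exact (Subgroup.mem_centralizer_iff.mp (h1 ha) b hb).symm
    exact fun a ha b hb => Subgroup.mem_centralizer_iff.mp (h2 hb) a ha
  have hstab : ∀ g, (∀ r ∈ P, g * r * g⁻¹ ∈ X) → (∀ r ∈ P₂, g * r * g⁻¹ ∈ X) →
      g ∈ Subgroup.normalizer (X : Set G) := by
    intro g h1 h2
    refine Subgroup.mem_normalizer_fintype fun a ha => ?_
    induction ha using Subgroup.closure_induction with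
    | mem z hz => exact hz.elim (h1 z) (h2 z)
    | one => simp
    | mul a b _ _ iha ihb => rw [← conj_mul]; exact mul_mem iha ihb
    | inv a _ iha => rw [← conj_inv]; exact inv_mem iha
  have hPX : P ≤ X := fun r hr => Subgroup.subset_closure (Or.inl hr)
  have hP₂X : P₂ ≤ X := fun r hr => Subgroup.subset_closure (Or.inr hr)
  have hconjP : ∀ {f : G} (hf : f ∈ K), ∀ q ∈ pCoreOf 2 K, ∀ r ∈ D.Pf hf, q * r * q⁻¹ ∈ D.Pf hf := by
    intro f hf q hq r hr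
    have hc : ⁅q, r⁆ ∈ V := by
      rw [show ⁅q, r⁆ = ⁅r, q⁆⁻¹ by simp only [commutatorElement_def]; group]
      exact V.inv_mem ((D.mem_Xc.mp hr.1).2.2 q hq)
    rw [show q * r * q⁻¹ = ⁅q, r⁆ * r by simp only [commutatorElement_def]; group]
    exact (D.Pf hf).mul_mem ⟨D.V_le_Xc hc, by
      rw [commutatorElement_def (g₁ := f)]; exact V.mul_mem (D.conj_V hf hc) (V.inv_mem hc)⟩ hr
  have hRX : ∀ q ∈ pCoreOf 2 K, q ∈ Subgroup.normalizer (X : Set G) := fun q hq =>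
    hstab q (fun r hr => hPX (hconjP hfK q hq r hr)) (fun r hr => hP₂X (hconjP hgK q hq r hr))
  have hσX : σ ∈ Subgroup.normalizer (X : Set G) :=
    hstab σ (fun r hr => hP₂X (D.conj_Pf hσK w.σ_f₁ hr)) (fun r hr => hPX (hPP₂ r hr))
  have htX : t₁ ∈ Subgroup.normalizer (X : Set G) :=
    hstab t₁ (fun r hr => hPX (D.conj_Pf htK w.t_f₁ hr)) (fun r hr => hP₂X (D.conj_Pf' htK w.t_f₂ hr))
  have hSX : ∀ s ∈ (S : Subgroup G), s ∈ Subgroup.normalizer (X : Set G) := fun s hs => by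
    obtain ⟨r, hr, i, j, k, -, -, -, rfl⟩ := w.decomp s hs
    exact mul_mem (mul_mem (mul_mem (hRX r hr) (pow_mem htX i))
      (pow_mem (mul_mem (mul_mem hσX htX) (inv_mem hσX)) j)) (pow_mem hσX k)
  have hXS : X ≤ (S : Subgroup G) := (Subgroup.closure_le _).mpr (by
    rintro a (ha | ha) <;> exact D.R_le_S (D.mem_Xc.mp ha.1).1)
  set Q := pCoreOf 2 (centZ (S : Subgroup G)) with hQ
  have hsqQ : ∀ r ∈ X, r * r ∈ Q := fun r hr => (D.good_M h).sq_mem_core_of_quad (hXS.trans (le_centZ _)) hXcomm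
    (fun q hq => hSX q (core_le_sylow S (le_centZ _) hq)) hr
  have hA₁Q : ∀ a ∈ V, f₁ * a = a * f₁ → a ∈ Q := fun a ha hfa => by
    obtain ⟨r, hr, rfl⟩ : a ∈ Sq := hSq ▸ ⟨ha, Subgroup.mem_centralizer_singleton_iff.mpr hfa.symm⟩
    exact hsqQ r (hPX hr)
  refine D.false_of_le (fun v hv => ?_) fun A hA hA16 hAsq => ?_
  · obtain ⟨a, ha, b, hb, hfa, hgb, rfl⟩ := w.split v hv
    refine mul_mem (hA₁Q a ha hfa) ?_
    have hb' := hA₁Q _ (D.conj_V hσK hb) (comm_conj hgb w.σ_f₂)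
    rw [show b = σ⁻¹ * (σ * b * σ⁻¹) * σ⁻¹⁻¹ by group]
    exact conj_mem_core ((centZ (S : Subgroup G)).inv_mem (le_centZ _ w.σ_mem)) hb'
  by_contra hne'
  obtain ⟨a, haS, haa, r₀, hr₀, ea⟩ := w.exists_inv_t₁ D (hA.trans (core_le_sylow S (le_centZ _))) hA16 hAsq hne'
  obtain ⟨x', hx', ex'⟩ : u₁ ∈ Sq := hSq ▸ ⟨w.u₁_mem, Subgroup.mem_centralizer_singleton_iff.mpr w.f₁u₁.symm⟩
  have haK := D.ov.S_le haS
  have hainv : a⁻¹ = a := inv_eq_of_mul_eq_one_right haa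
  have hya : a * x' * a⁻¹ ∈ P := by
    rw [ea, show r₀ * t₁ * x' * (r₀ * t₁)⁻¹ = r₀ * (t₁ * x' * t₁⁻¹) * r₀⁻¹ by group]
    exact hconjP hfK r₀ hr₀ _ (D.conj_Pf htK w.t_f₁ hx')
  set p := x'⁻¹ * (a * x' * a⁻¹) with hp
  have hpP : p ∈ P := P.mul_mem (P.inv_mem hx') hya
  have hau : a * u₁ * a⁻¹ = u₁ * z₁ := by rw [ea, D.conj_core_mul hr₀ htK w.u₁_mem, w.t₁u₁]
  have hpp : p * p = z₁ := by
    rw [hp, (show Commute x'⁻¹ (a * x' * a⁻¹) from (Commute.inv_left (hPcomm _ hx' _ hya))).symm.mul_mul_mul_comm,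
      ← mul_inv_rev, ex', conj_mul, ex', hau, inv_mul_cancel_left]
  have hpa : a * p * a⁻¹ = p⁻¹ := by
    have h2 : a * a * x' * (a * a)⁻¹ = x' := by rw [haa, one_mul, inv_one, mul_one]
    calc a * p * a⁻¹ = (a * x' * a⁻¹)⁻¹ * (a * a * x' * (a * a)⁻¹) := by rw [hp]; group
      _ = p⁻¹ := by rw [h2, hp]; group
  have hpne : p ∉ V := fun e => w.z₁_ne (by rw [← hpp]; exact D.V_sq p e)
  set Xs : Set G := (V : Set G) ∪ {p, a} with hXs
  set Hh := Subgroup.closure Xs with hHh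
  have hz2 : z₁ * z₁ = 1 := D.V_sq _ w.z₁_mem
  have haz : a * z₁ * a⁻¹ = z₁ := by rw [ea, D.conj_core_mul hr₀ htK w.z₁_mem, w.t₁z₁]
  have hcz : ∀ g ∈ Xs, g * z₁ = z₁ * g := by
    rintro g (hg | rfl | rfl)
    · exact D.comm hg w.z₁_mem
    · exact D.V_cent _ (hPR hpP) _ w.z₁_mem
    · exact mul_inv_eq_iff_eq_mul.mp haz
  have hva : ∀ v ∈ V, ⁅a, v⁆ ∈ Subgroup.zpowers z₁ := fun v hv => by
    obtain ⟨i, j, k, l, rfl⟩ := w.coords v hv
    rw [commutatorElement_def, ea, D.conj_core_mul hr₀ htK hv, w.conj_t₁ D, mul_inv_cancel_right]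
    exact bp_mem (Subgroup.mem_zpowers z₁) i
  have hpa' : ⁅a, p⁆ = z₁ := by
    rw [commutatorElement_def, hpa, ← mul_inv_rev, hpp]; exact D.inv_eq w.z₁_mem
  have hcm : ∀ g ∈ Xs, ∀ g' ∈ Xs, ⁅g, g'⁆ ∈ Subgroup.zpowers z₁ := by
    have hsymm : ∀ g g' : G, ⁅g', g⁆ ∈ Subgroup.zpowers z₁ → ⁅g, g'⁆ ∈ Subgroup.zpowers z₁ := fun g g' h => by
      rw [show ⁅g, g'⁆ = ⁅g', g⁆⁻¹ by simp only [commutatorElement_def]; group]; exact inv_mem h
    rintro g (hg | rfl | rfl) g' (hg' | rfl | rfl)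
    · rw [commutatorElement_eq_one_iff_mul_comm.mpr (D.comm hg hg')]; exact one_mem _
    · rw [commutatorElement_eq_one_iff_mul_comm.mpr (D.V_cent _ (hPR hpP) _ hg).symm]; exact one_mem _
    · exact hsymm _ _ (hva g hg)
    · rw [commutatorElement_eq_one_iff_mul_comm.mpr (D.V_cent _ (hPR hpP) _ hg')]; exact one_mem _
    · simp
    · exact hsymm _ _ (hpa' ▸ Subgroup.mem_zpowers z₁)
    · exact hva g' hg'
    · exact hpa' ▸ Subgroup.mem_zpowers z₁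
    · simp
  have hsq : ∀ g ∈ Hh, g * g ∈ Subgroup.zpowers z₁ := by
    refine sq_mem_closure (fun g hg n hn => ?_) (fun g hg n hn => ?_) (fun g hg => ?_) hcm
    · obtain ⟨i, rfl⟩ := Subgroup.mem_zpowers_iff.mp hn
      rw [((show Commute g z₁ from hcz g hg).zpow_right i).eq, mul_inv_cancel_right]
      exact Subgroup.zpow_mem _ (Subgroup.mem_zpowers z₁) i
    · obtain ⟨i, rfl⟩ := Subgroup.mem_zpowers_iff.mp hn
      rw [((show Commute g z₁ from hcz g hg).inv_left.zpow_right i).eq, inv_mul_cancel_right]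
      exact Subgroup.zpow_mem _ (Subgroup.mem_zpowers z₁) i
    · rcases hg with hg | rfl | rfl
      · rw [D.V_sq g hg]; exact one_mem _
      · rw [hpp]; exact Subgroup.mem_zpowers _
      · rw [haa]; exact one_mem _
  have hzH : Subgroup.zpowers z₁ ≤ Hh := Subgroup.zpowers_le.mpr (Subgroup.subset_closure (Or.inl w.z₁_mem))
  have hle := card_le_of_sq h4 hzH (Subgroup.le_normalizer_iff.mpr fun g hg n hn => by
    have hgz : g * z₁ = z₁ * g := Subgroup.mem_centralizer_singleton_iff.mp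
      ((Subgroup.closure_le (Subgroup.centralizer ({z₁} : Set G))).mpr
        (fun q hq => Subgroup.mem_centralizer_singleton_iff.mpr (hcz q hq)) hg)
    obtain ⟨i, rfl⟩ := Subgroup.mem_zpowers_iff.mp hn
    rw [((show Commute g z₁ from hgz).zpow_right i).eq, mul_inv_cancel_right]
    exact Subgroup.zpow_mem _ (Subgroup.mem_zpowers z₁) i) hsq
  set Vp := Subgroup.closure ((V : Set G) ∪ {p}) with hVp
  have h1 := two_mul_card_le (H := V) (H' := Vp) (fun v hv => Subgroup.subset_closure (Or.inl hv))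
    (Subgroup.subset_closure (Or.inr rfl)) hpne
  have h2 := two_mul_card_le (H := Vp) (H' := Hh)
    (Subgroup.closure_mono (Set.union_subset_union_right _ (by simp)))
    (Subgroup.subset_closure (Or.inr (Or.inr rfl))) fun e => by
      have hVpR : Vp ≤ pCoreOf 2 K := (Subgroup.closure_le _).mpr (Set.union_subset D.V_le (by
        simpa using hPR hpP))
      have h3 := hVpR e
      rw [ea] at h3
      have ht : t₁ ∈ pCoreOf 2 K := by simpa using mul_mem (inv_mem hr₀) h3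
      have e1 : t₁ * u₁ * t₁⁻¹ = u₁ := D.conj_R ht w.u₁_mem
      rw [w.t₁u₁, mul_eq_left] at e1
      exact w.z₁_ne e1
  rw [card_zpowers_two hz2 w.z₁_ne] at hle
  rw [D.card_V] at h1
  omega

end IData

end CfsgLib.SRFour
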