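import Mathlib
import Cfsg.Agent.Lib.SRFour.ITypeQuad

/-!
The group `S = V(⟨t₁⟩ × ⟨t₂⟩)⟨σ⟩` of the wreathed shape and the two basic contradictions.

Blueprint: `blueprint/S0517.md`, §4.
-/

set_option autoImplicit false
set_option linter.unusedSectionVars false
set_option linter.style.haveILetI false

namespace CfsgLib.SRFour

open Cfsg
open scoped commutatorElement

universe u

variable {G : Type u} [Group G] [Finite G] {S : Sylow 2 G} {K F H V : Subgroup G}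

/-- The wreathed shape with exact relations. -/
structure WrExact (S K F H V : Subgroup G) (f₁ f₂ t₁ t₂ σ u₁ z₁ u₂ z₂ : G) : Prop where
  D : IData S K F H V
  w : WrFrame S K F V f₁ f₂ t₁ t₂ σ u₁ z₁ u₂ z₂
  R_eq : pCoreOf 2 K = V
  t₁_sq : t₁ * t₁ = 1
  σ_sq : σ * σ = 1
  t_comm : t₁ * t₂ = t₂ * t₁

variable {f₁ f₂ t₁ t₂ σ u₁ z₁ u₂ z₂ : G}

theorem IData.exists_exact (h : Hard G) (h4 : SectionalPRankLE 2 4 G) (D : IData (S : Subgroup G) K F H V)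
    (w : WrFrame (S : Subgroup G) K F V f₁ f₂ t₁ t₂ σ u₁ z₁ u₂ z₂) :
    WrExact (S : Subgroup G) K F H V f₁ f₂ t₁ t₂ σ u₁ z₁ u₂ z₂ := by
  have hR : pCoreOf 2 K = V := le_antisymm (D.R_le_V h h4 w) D.V_le
  have hone : ∀ x ∈ pCoreOf 2 K, x * f₁ * x⁻¹ = f₁ → x * f₂ * x⁻¹ = f₂ → x = 1 := fun x hx h1 h2 => by
    rw [hR] at hx
    exact w.indep x hx (mul_inv_eq_iff_eq_mul.mp h1).symm (mul_inv_eq_iff_eq_mul.mp h2).symm
  refine ⟨D, w, hR, hone _ (D.t_sq_mem w.toWrShape) ?_ ?_, hone _ (D.σ_sq_mem w.toWrShape) ?_ ?_, ?_⟩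
  · rw [show t₁ * t₁ * f₁ * (t₁ * t₁)⁻¹ = t₁ * (t₁ * f₁ * t₁⁻¹) * t₁⁻¹ by group, w.t_f₁, w.t_f₁]
  · rw [show t₁ * t₁ * f₂ * (t₁ * t₁)⁻¹ = t₁ * (t₁ * f₂ * t₁⁻¹) * t₁⁻¹ by group, w.t_f₂, ← conj_inv, w.t_f₂,
      inv_inv]
  · rw [show σ * σ * f₁ * (σ * σ)⁻¹ = σ * (σ * f₁ * σ⁻¹) * σ⁻¹ by group, w.σ_f₁, w.σ_f₂]
  · rw [show σ * σ * f₂ * (σ * σ)⁻¹ = σ * (σ * f₂ * σ⁻¹) * σ⁻¹ by group, w.σ_f₂, w.σ_f₁]
  · refine commutatorElement_eq_one_iff_mul_comm.mp ?_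
    have a1 : t₁⁻¹ * f₁ * t₁ = f₁ := by nth_rewrite 1 [← w.t_f₁]; group
    have b1 : t₂⁻¹ * f₁ * t₂ = f₁⁻¹ := by
      calc t₂⁻¹ * f₁ * t₂ = (t₂⁻¹ * (t₂ * f₁ * t₂⁻¹) * t₂)⁻¹ := by rw [w.t₂_f₁]; group
        _ = f₁⁻¹ := by group
    have a2 : t₁⁻¹ * f₂ * t₁ = f₂⁻¹ := by
      calc t₁⁻¹ * f₂ * t₁ = (t₁⁻¹ * (t₁ * f₂ * t₁⁻¹) * t₁)⁻¹ := by rw [w.t_f₂]; group
        _ = f₂⁻¹ := by group
    have b2 : t₂⁻¹ * f₂ * t₂ = f₂ := by nth_rewrite 1 [← w.t₂_f₂]; group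
    have hf : ∀ x, ⁅t₁, t₂⁆ * x * ⁅t₁, t₂⁆⁻¹ = t₁ * (t₂ * (t₁⁻¹ * (t₂⁻¹ * x * t₂) * t₁) * t₂⁻¹) * t₁⁻¹ :=
      fun x => by simp only [commutatorElement_def]; group
    have h1 : ⁅t₁, t₂⁆ * f₁ * ⁅t₁, t₂⁆⁻¹ = f₁ := by
      rw [hf, b1, show t₁⁻¹ * f₁⁻¹ * t₁ = (t₁⁻¹ * f₁ * t₁)⁻¹ by group, a1, ← conj_inv, w.t₂_f₁, inv_inv, w.t_f₁]
    have h2 : ⁅t₁, t₂⁆ * f₂ * ⁅t₁, t₂⁆⁻¹ = f₂ := by
      rw [hf, b2, a2, ← conj_inv, w.t₂_f₂, ← conj_inv, w.t_f₂, inv_inv]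
    refine hone _ ?_ h1 h2
    refine D.ov.mem_core_of_fix S.isPGroup' ?_ ?_ fun f hf' =>
      mul_inv_eq_iff_eq_mul.mp (D.fix_of_pair w.toWrShape h1 h2 f hf')
    · simp only [commutatorElement_def]
      exact mul_mem (mul_mem (mul_mem w.t_mem w.t₂_mem) (inv_mem w.t_mem)) (inv_mem w.t₂_mem)
    · simp only [commutatorElement_def]
      exact mul_mem (mul_mem (mul_mem w.t_norm w.t₂_norm) (inv_mem w.t_norm)) (inv_mem w.t₂_norm)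

namespace WrExact

theorem t₁_inv (e : WrExact (S : Subgroup G) K F H V f₁ f₂ t₁ t₂ σ u₁ z₁ u₂ z₂) : t₁⁻¹ = t₁ :=
  inv_eq_of_mul_eq_one_right e.t₁_sq

theorem σ_inv (e : WrExact (S : Subgroup G) K F H V f₁ f₂ t₁ t₂ σ u₁ z₁ u₂ z₂) : σ⁻¹ = σ :=
  inv_eq_of_mul_eq_one_right e.σ_sq

theorem t₂_sq (e : WrExact (S : Subgroup G) K F H V f₁ f₂ t₁ t₂ σ u₁ z₁ u₂ z₂) : t₂ * t₂ = 1 := by
  rw [e.w.t₂_eq, show σ * t₁ * σ⁻¹ * (σ * t₁ * σ⁻¹) = σ * (t₁ * t₁) * σ⁻¹ by group, e.t₁_sq, mul_one,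
    mul_inv_cancel]

theorem t₂_inv (e : WrExact (S : Subgroup G) K F H V f₁ f₂ t₁ t₂ σ u₁ z₁ u₂ z₂) : t₂⁻¹ = t₂ :=
  inv_eq_of_mul_eq_one_right e.t₂_sq

theorem σ_t₁ (e : WrExact (S : Subgroup G) K F H V f₁ f₂ t₁ t₂ σ u₁ z₁ u₂ z₂) : σ * t₁ * σ⁻¹ = t₂ := e.w.t₂_eq.symm

theorem σ_t₂ (e : WrExact (S : Subgroup G) K F H V f₁ f₂ t₁ t₂ σ u₁ z₁ u₂ z₂) : σ * t₂ * σ⁻¹ = t₁ := by
  rw [e.w.t₂_eq, show σ * (σ * t₁ * σ⁻¹) * σ⁻¹ = σ * σ * t₁ * (σ * σ)⁻¹ by group, e.σ_sq, one_mul, inv_one,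
    mul_one]

theorem pow_bp {g : G} {n : ℕ} (hn : n < 2) : g ^ n = bp g (decide (n = 1)) := by
  interval_cases n <;> simp

theorem dec (e : WrExact (S : Subgroup G) K F H V f₁ f₂ t₁ t₂ σ u₁ z₁ u₂ z₂) {s : G} (hs : s ∈ (S : Subgroup G)) :
    ∃ v ∈ V, ∃ i j k : Bool, s = v * bp t₁ i * bp t₂ j * bp σ k := by
  obtain ⟨r, hr, i, j, k, hi, hj, hk, he⟩ := e.w.decomp s hs
  rw [← e.w.t₂_eq, pow_bp hi, pow_bp hj, pow_bp hk] at he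
  exact ⟨r, e.R_eq ▸ hr, _, _, _, he⟩

/-- Elements of `S` moving `z₁` or not. -/
theorem dec_z (e : WrExact (S : Subgroup G) K F H V f₁ f₂ t₁ t₂ σ u₁ z₁ u₂ z₂) {v : G} (hv : v ∈ V) (i j : Bool) :
    v * bp t₁ i * bp t₂ j * z₁ * (v * bp t₁ i * bp t₂ j)⁻¹ = z₁ ∧
      v * bp t₁ i * bp t₂ j * z₂ * (v * bp t₁ i * bp t₂ j)⁻¹ = z₂ := by
  have hfix : ∀ a ∈ V, t₁ * a * t₁⁻¹ = a → t₂ * a * t₂⁻¹ = a →
      v * bp t₁ i * bp t₂ j * a * (v * bp t₁ i * bp t₂ j)⁻¹ = a := by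
    intro a ha h1 h2
    have h2' : bp t₂ j * a * (bp t₂ j)⁻¹ = a := by cases j <;> simp [h2]
    have h1' : bp t₁ i * a * (bp t₁ i)⁻¹ = a := by cases i <;> simp [h1]
    rw [show v * bp t₁ i * bp t₂ j * a * (v * bp t₁ i * bp t₂ j)⁻¹ =
      v * (bp t₁ i * (bp t₂ j * a * (bp t₂ j)⁻¹) * (bp t₁ i)⁻¹) * v⁻¹ by group, h2', h1', e.D.comm hv ha,
      mul_inv_cancel_right]
  exact ⟨hfix _ e.w.z₁_mem e.w.t₁z₁ e.w.t₂z₁, hfix _ (e.w.z₂_mem e.D) e.w.t₁z₂ e.w.t₂z₂⟩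

/-- The decomposition of the elements fixing `z₁`. -/
theorem dec_B (e : WrExact (S : Subgroup G) K F H V f₁ f₂ t₁ t₂ σ u₁ z₁ u₂ z₂) {s : G}
    (hs : s ∈ (S : Subgroup G)) (hz : s * z₁ = z₁ * s) :
    ∃ v ∈ V, ∃ i j : Bool, s = v * bp t₁ i * bp t₂ j := by
  obtain ⟨v, hv, i, j, k, rfl⟩ := e.dec hs
  cases k
  · exact ⟨v, hv, i, j, by simp⟩
  · exfalso
    refine e.w.z₁_ne_z₂ ?_
    have h1 : v * bp t₁ i * bp t₂ j * bp σ true * z₁ * (v * bp t₁ i * bp t₂ j * bp σ true)⁻¹ = z₁ := by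
      rw [hz, mul_inv_cancel_right]
    rw [show v * bp t₁ i * bp t₂ j * bp σ true * z₁ * (v * bp t₁ i * bp t₂ j * bp σ true)⁻¹ =
      v * bp t₁ i * bp t₂ j * (σ * z₁ * σ⁻¹) * (v * bp t₁ i * bp t₂ j)⁻¹ by simp only [bp_true]; group, e.w.σz₁,
      (e.dec_z hv i j).2] at h1
    exact h1.symm

theorem B_comm_z (e : WrExact (S : Subgroup G) K F H V f₁ f₂ t₁ t₂ σ u₁ z₁ u₂ z₂) {s : G}
    (hs : s ∈ (S : Subgroup G)) (hz : s * z₁ = z₁ * s) : s * z₂ = z₂ * s := by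
  obtain ⟨v, hv, i, j, rfl⟩ := e.dec_B hs hz
  exact mul_inv_eq_iff_eq_mul.mp (e.dec_z hv i j).2

/-- An element of `S` not fixing `z₁` is an element fixing it times `σ`. -/
theorem dec_σ (e : WrExact (S : Subgroup G) K F H V f₁ f₂ t₁ t₂ σ u₁ z₁ u₂ z₂) {s : G}
    (hs : s ∈ (S : Subgroup G)) (hz : s * z₁ ≠ z₁ * s) :
    ∃ b ∈ (S : Subgroup G), b * z₁ = z₁ * b ∧ s = b * σ := by
  obtain ⟨v, hv, i, j, k, rfl⟩ := e.dec hs
  cases k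
  · exact absurd (by simpa using mul_inv_eq_iff_eq_mul.mp (e.dec_z hv i j).1) hz
  · refine ⟨v * bp t₁ i * bp t₂ j, mul_mem (mul_mem (e.D.V_le_S hv) (bp_mem e.w.t_mem i)) (bp_mem e.w.t₂_mem j),
      mul_inv_eq_iff_eq_mul.mp (e.dec_z hv i j).1, by simp⟩

theorem z₁_sq (e : WrExact (S : Subgroup G) K F H V f₁ f₂ t₁ t₂ σ u₁ z₁ u₂ z₂) : z₁ * z₁ = 1 :=
  e.D.V_sq _ e.w.z₁_mem

/-- The four-group of `z₁` and `z₂`. -/
theorem mem_W (e : WrExact (S : Subgroup G) K F H V f₁ f₂ t₁ t₂ σ u₁ z₁ u₂ z₂) {x : G} :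
    x ∈ Subgroup.closure ({z₁ * z₂, z₁} : Set G) ↔ ∃ b d : Bool, x = bp z₁ b * bp z₂ d := by
  set W := Subgroup.closure ({z₁ * z₂, z₁} : Set G) with hW
  have h1 : z₁ ∈ W := Subgroup.subset_closure (Or.inr rfl)
  have h2 : z₂ ∈ W := by
    have := W.mul_mem h1 (Subgroup.subset_closure (Or.inl rfl) : z₁ * z₂ ∈ W)
    rwa [← mul_assoc, e.z₁_sq, one_mul] at this
  constructor
  · intro hx
    induction hx using Subgroup.closure_induction with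
    | mem y hy =>
      rcases hy with rfl | rfl
      · exact ⟨true, true, by simp⟩
      · exact ⟨true, false, by simp⟩
    | one => exact ⟨false, false, by simp⟩
    | mul a b _ _ iha ihb =>
      obtain ⟨b1, d1, rfl⟩ := iha
      obtain ⟨b2, d2, rfl⟩ := ihb
      refine ⟨xor b1 b2, xor d1 d2, ?_⟩
      have hc : Commute (bp z₂ d1) (bp z₁ b2) := e.D.comm (bp_mem (e.w.z₂_mem e.D) _) (bp_mem e.w.z₁_mem _)
      have hz2 : z₂ * z₂ = 1 := e.D.V_sq _ (e.w.z₂_mem e.D)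
      rw [hc.mul_mul_mul_comm]
      congr 1 <;> [cases b1 <;> cases b2; cases d1 <;> cases d2] <;> simp [e.z₁_sq, hz2]
    | inv a _ iha =>
      obtain ⟨b, d, rfl⟩ := iha
      refine ⟨b, d, ?_⟩
      rw [mul_inv_rev, e.D.inv_eq (bp_mem (e.w.z₂_mem e.D) d), e.D.inv_eq (bp_mem e.w.z₁_mem b),
        e.D.comm (bp_mem (e.w.z₂_mem e.D) d) (bp_mem e.w.z₁_mem b)]
  · rintro ⟨b, d, rfl⟩
    exact W.mul_mem (bp_mem h1 b) (bp_mem h2 d)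

theorem W_le_V (e : WrExact (S : Subgroup G) K F H V f₁ f₂ t₁ t₂ σ u₁ z₁ u₂ z₂) :
    Subgroup.closure ({z₁ * z₂, z₁} : Set G) ≤ V := fun x hx => by
  obtain ⟨b, d, rfl⟩ := e.mem_W.mp hx
  exact V.mul_mem (bp_mem e.w.z₁_mem b) (bp_mem (e.w.z₂_mem e.D) d)

/-- `W` is centralised by the elements fixing `z₁`. -/
theorem W_central (e : WrExact (S : Subgroup G) K F H V f₁ f₂ t₁ t₂ σ u₁ z₁ u₂ z₂) {b x : G}
    (hb : b ∈ (S : Subgroup G)) (hbz : b * z₁ = z₁ * b) (hx : x ∈ Subgroup.closure ({z₁ * z₂, z₁} : Set G)) :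
    b * x = x * b := by
  obtain ⟨i, j, rfl⟩ := e.mem_W.mp hx
  refine ((?_ : Commute b (bp z₁ i)).mul_right (?_ : Commute b (bp z₂ j))).eq
  · cases i
    · exact Commute.one_right b
    · exact hbz
  · cases j
    · exact Commute.one_right b
    · exact e.B_comm_z hb hbz

theorem S_norm_W (e : WrExact (S : Subgroup G) K F H V f₁ f₂ t₁ t₂ σ u₁ z₁ u₂ z₂) :
    (S : Subgroup G) ≤ Subgroup.normalizer ((Subgroup.closure ({z₁ * z₂, z₁} : Set G) : Subgroup G) : Set G) :=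
  Subgroup.le_normalizer_iff.mpr fun s hs x hx => by
    obtain ⟨i, j, rfl⟩ := e.mem_W.mp hx
    rw [← conj_mul, conj_bp, conj_bp]
    rcases e.w.conj_z e.D hs with ⟨e1, e2⟩ | ⟨e1, e2⟩ <;> rw [e1, e2]
    · exact e.mem_W.mpr ⟨i, j, rfl⟩
    · exact e.mem_W.mpr ⟨j, i, e.D.comm (bp_mem (e.w.z₂_mem e.D) i) (bp_mem e.w.z₁_mem j)⟩

/-- The commutators of an element fixing `z₁` with the generators. -/
theorem comm_gen (e : WrExact (S : Subgroup G) K F H V f₁ f₂ t₁ t₂ σ u₁ z₁ u₂ z₂) (a b c d i j : Bool) :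
    let q := bp u₁ a * bp z₁ b * (bp u₂ c * bp z₂ d) * bp t₁ i * bp t₂ j
    ⁅q, u₁⁆ = bp z₁ i ∧ ⁅q, u₂⁆ = bp z₂ j ∧ ⁅q, t₁⁆ = bp z₁ a ∧ ⁅q, t₂⁆ = bp z₂ c := by
  intro q
  have D := e.D
  have hz2V := e.w.z₂_mem D
  set v := bp u₁ a * bp z₁ b * (bp u₂ c * bp z₂ d) with hv'
  have hv : v ∈ V := V.mul_mem (V.mul_mem (bp_mem e.w.u₁_mem a) (bp_mem e.w.z₁_mem b))
    (V.mul_mem (bp_mem (e.w.u₂_mem D) c) (bp_mem hz2V d))
  have key : ∀ x : G, ⁅q, x⁆ = v * (bp t₁ i * (bp t₂ j * x * (bp t₂ j)⁻¹) * (bp t₁ i)⁻¹) * v⁻¹ * x⁻¹ := fun x => by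
    show ⁅v * bp t₁ i * bp t₂ j, x⁆ = _
    simp only [commutatorElement_def]; group
  have c1 : bp t₂ j * u₁ * (bp t₂ j)⁻¹ = u₁ := by cases j <;> simp [e.w.t₂u₁]
  have c2 : bp t₁ i * u₁ * (bp t₁ i)⁻¹ = bp z₁ i * u₁ := by
    cases i <;> simp [e.w.t₁u₁, D.comm e.w.z₁_mem e.w.u₁_mem]
  have c3 : bp t₂ j * u₂ * (bp t₂ j)⁻¹ = bp z₂ j * u₂ := by
    cases j <;> simp [e.w.t₂u₂, D.comm hz2V (e.w.u₂_mem D)]
  have c4 : bp t₁ i * (bp z₂ j * u₂) * (bp t₁ i)⁻¹ = bp z₂ j * u₂ := by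
    cases i
    · simp
    · rw [← conj_mul, conj_bp, bp_true, e.w.t₁z₂, e.w.t₁u₂]
  have c5 : bp t₂ j * t₁ * (bp t₂ j)⁻¹ = t₁ := by cases j <;> simp [← e.t_comm]
  have c6 : bp t₁ i * t₁ * (bp t₁ i)⁻¹ = t₁ := by cases i <;> simp
  have c7 : bp t₂ j * t₂ * (bp t₂ j)⁻¹ = t₂ := by cases j <;> simp
  have c8 : bp t₁ i * t₂ * (bp t₁ i)⁻¹ = t₂ := by cases i <;> simp [e.t_comm]
  have hvx : ∀ x ∈ V, v * x * v⁻¹ = x := fun x hx => by rw [D.comm hv hx, mul_inv_cancel_right]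
  refine ⟨?_, ?_, ?_, ?_⟩
  · rw [key, c1, c2, hvx _ (V.mul_mem (bp_mem e.w.z₁_mem i) e.w.u₁_mem), mul_inv_cancel_right]
  · rw [key, c3, c4, hvx _ (V.mul_mem (bp_mem hz2V j) (e.w.u₂_mem D)), mul_inv_cancel_right]
  · rw [key, c5, c6]
    calc v * t₁ * v⁻¹ * t₁⁻¹ = v * (t₁ * v⁻¹ * t₁⁻¹) := by group
      _ = v * (bp z₁ a * v) := by rw [D.inv_eq hv, hv', e.w.conj_t₁ D]
      _ = bp z₁ a := by rw [← mul_assoc, D.comm hv (bp_mem e.w.z₁_mem a), mul_assoc, D.V_sq v hv, mul_one]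
  · rw [key, c7, c8]
    calc v * t₂ * v⁻¹ * t₂⁻¹ = v * (t₂ * v⁻¹ * t₂⁻¹) := by group
      _ = v * (bp z₂ c * v) := by rw [D.inv_eq hv, hv', e.w.conj_t₂ D]
      _ = bp z₂ c := by rw [← mul_assoc, D.comm hv (bp_mem hz2V c), mul_assoc, D.V_sq v hv, mul_one]

/-- Coordinates of the elements fixing `z₁`. -/
theorem coords_B (e : WrExact (S : Subgroup G) K F H V f₁ f₂ t₁ t₂ σ u₁ z₁ u₂ z₂) {q : G}
    (hq : q ∈ (S : Subgroup G)) (hqz : q * z₁ = z₁ * q) :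
    ∃ a b c d i j : Bool, q = bp u₁ a * bp z₁ b * (bp u₂ c * bp z₂ d) * bp t₁ i * bp t₂ j := by
  obtain ⟨v, hv, i, j, rfl⟩ := e.dec_B hq hqz
  obtain ⟨a, b, c, d, rfl⟩ := e.w.coords v hv
  exact ⟨a, b, c, d, i, j, rfl⟩

/-- Elements fixing `z₁` commute modulo `W`. -/
theorem comm_B (e : WrExact (S : Subgroup G) K F H V f₁ f₂ t₁ t₂ σ u₁ z₁ u₂ z₂) {b q : G}
    (hb : b ∈ (S : Subgroup G)) (hbz : b * z₁ = z₁ * b) (hq : q ∈ (S : Subgroup G)) (hqz : q * z₁ = z₁ * q) :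
    ⁅b, q⁆ ∈ Subgroup.closure ({z₁ * z₂, z₁} : Set G) := by
  set W := Subgroup.closure ({z₁ * z₂, z₁} : Set G)
  obtain ⟨a, b', c, d, i, j, rfl⟩ := e.coords_B hq hqz
  obtain ⟨a0, b0, c0, d0, i0, j0, rfl⟩ := e.coords_B hb hbz
  obtain ⟨g1, g2, g3, g4⟩ := e.comm_gen a0 b0 c0 d0 i0 j0
  generalize bp u₁ a0 * bp z₁ b0 * (bp u₂ c0 * bp z₂ d0) * bp t₁ i0 * bp t₂ j0 = x at *
  have hWS : ∀ y ∈ (S : Subgroup G), ∀ w ∈ W, y * w * y⁻¹ ∈ W := fun y hy w hw =>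
    (Subgroup.mem_normalizer_iff.mp (e.S_norm_W hy) w).mp hw
  have hmul : ∀ {g g'}, g ∈ (S : Subgroup G) → ⁅x, g⁆ ∈ W → ⁅x, g'⁆ ∈ W → ⁅x, g * g'⁆ ∈ W := fun {g g'} hg h1 h2 => by
    rw [show ⁅x, g * g'⁆ = ⁅x, g⁆ * (g * ⁅x, g'⁆ * g⁻¹) by simp only [commutatorElement_def]; group]
    exact W.mul_mem h1 (hWS g hg _ h2)
  have hbp : ∀ {g}, ⁅x, g⁆ ∈ W → ∀ k, ⁅x, bp g k⁆ ∈ W := fun {g} hg k => by
    cases k
    · simp
    · exact hg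
  have hz1 : ⁅x, z₁⁆ ∈ W := by rw [commutatorElement_eq_one_iff_mul_comm.mpr hbz]; exact one_mem _
  have hz2 : ⁅x, z₂⁆ ∈ W := by
    rw [commutatorElement_eq_one_iff_mul_comm.mpr (e.B_comm_z hb hbz)]; exact one_mem _
  have hu1 : ⁅x, u₁⁆ ∈ W := by rw [g1]; exact e.mem_W.mpr ⟨i0, false, by simp⟩
  have hu2 : ⁅x, u₂⁆ ∈ W := by rw [g2]; exact e.mem_W.mpr ⟨false, j0, by simp⟩
  have ht1 : ⁅x, t₁⁆ ∈ W := by rw [g3]; exact e.mem_W.mpr ⟨a0, false, by simp⟩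
  have ht2 : ⁅x, t₂⁆ ∈ W := by rw [g4]; exact e.mem_W.mpr ⟨false, c0, by simp⟩
  have mu1 : bp u₁ a ∈ (S : Subgroup G) := bp_mem (e.D.V_le_S e.w.u₁_mem) a
  have mz1 : bp z₁ b' ∈ (S : Subgroup G) := bp_mem (e.D.V_le_S e.w.z₁_mem) b'
  have mu2 : bp u₂ c ∈ (S : Subgroup G) := bp_mem (e.D.V_le_S (e.w.u₂_mem e.D)) c
  have mz2 : bp z₂ d ∈ (S : Subgroup G) := bp_mem (e.D.V_le_S (e.w.z₂_mem e.D)) d
  exact hmul (mul_mem (mul_mem (mul_mem mu1 mz1) (mul_mem mu2 mz2)) (bp_mem e.w.t_mem i))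
    (hmul (mul_mem (mul_mem mu1 mz1) (mul_mem mu2 mz2))
      (hmul (mul_mem mu1 mz1) (hmul mu1 (hbp hu1 a) (hbp hz1 b')) (hmul mu2 (hbp hu2 c) (hbp hz2 d)))
      (hbp ht1 i)) (hbp ht2 j)

theorem bp_inj {g : G} (hg : g ≠ 1) {a b : Bool} (h : bp g a = bp g b) : a = b := by
  cases a <;> cases b <;> simp at h ⊢ <;> first | exact hg h | exact hg h.symm

/-- An element fixing `z₁` fixed modulo `W` by an element moving `z₁` is symmetric. -/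
theorem sym_of_comm (e : WrExact (S : Subgroup G) K F H V f₁ f₂ t₁ t₂ σ u₁ z₁ u₂ z₂) {x : G}
    (hx : x ∈ (S : Subgroup G)) (hxz : x * z₁ ≠ z₁ * x) {a b c d i j : Bool}
    (hcm : ⁅x, bp u₁ a * bp z₁ b * (bp u₂ c * bp z₂ d) * bp t₁ i * bp t₂ j⁆ ∈
      Subgroup.closure ({z₁ * z₂, z₁} : Set G)) : i = j ∧ a = c := by
  obtain ⟨g1, g2, g3, g4⟩ := e.comm_gen a b c d i j
  set W := Subgroup.closure ({z₁ * z₂, z₁} : Set G)
  obtain ⟨y, hy, hyz, rfl⟩ := e.dec_σ hx hxz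
  set q := bp u₁ a * bp z₁ b * (bp u₂ c * bp z₂ d) * bp t₁ i * bp t₂ j with hq'
  have hvV : bp u₁ a * bp z₁ b * (bp u₂ c * bp z₂ d) ∈ V := V.mul_mem (V.mul_mem (bp_mem e.w.u₁_mem a)
    (bp_mem e.w.z₁_mem b)) (V.mul_mem (bp_mem (e.w.u₂_mem e.D) c) (bp_mem (e.w.z₂_mem e.D) d))
  have hqS : q ∈ (S : Subgroup G) :=
    mul_mem (mul_mem (e.D.V_le_S hvV) (bp_mem e.w.t_mem i)) (bp_mem e.w.t₂_mem j)
  have hqz : q * z₁ = z₁ * q := mul_inv_eq_iff_eq_mul.mp (e.dec_z hvV i j).1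
  -- transport of a commutator
  have key : ∀ g g' : G, g' ∈ (S : Subgroup G) → g' * z₁ = z₁ * g' → σ * g * σ⁻¹ = g' →
      y * σ * ⁅q, g⁆ * (y * σ)⁻¹ = ⁅q, g'⁆ := by
    intro g g' hg' hg'z hgg
    set x := y * σ
    set w := ⁅x, q⁆ with hw
    set w' := ⁅y, g'⁆ with hw'
    have hw'W : w' ∈ W := e.comm_B hy hyz hg' hg'z
    have e1 : x * q * x⁻¹ = w * q := by simp only [hw, commutatorElement_def]; group
    have e2 : x * g * x⁻¹ = w' * g' := by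
      rw [show x * g * x⁻¹ = y * (σ * g * σ⁻¹) * y⁻¹ by simp only [x]; group, hgg]
      simp only [hw', commutatorElement_def]; group
    have cq : ∀ {v}, v ∈ W → Commute q v := fun hv => e.W_central hqS hqz hv
    have cg : ∀ {v}, v ∈ W → Commute g' v := fun hv => e.W_central hg' hg'z hv
    calc x * ⁅q, g⁆ * x⁻¹ = ⁅x * q * x⁻¹, x * g * x⁻¹⁆ := by simp only [commutatorElement_def]; group
      _ = (w * q) * (w' * g') * (w * q)⁻¹ * (w' * g')⁻¹ := by rw [e1, e2, commutatorElement_def]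
      _ = w * ((q * w') * g' * q⁻¹) * w⁻¹ * (g'⁻¹ * w'⁻¹) := by group
      _ = w * ((w' * q) * g' * q⁻¹) * (w⁻¹ * g'⁻¹) * w'⁻¹ := by rw [(cq hw'W).eq]; group
      _ = w * w' * (q * g' * q⁻¹ * g'⁻¹) * (w' * w)⁻¹ := by rw [← ((cg hcm).inv_inv).eq]; group
      _ = ⁅q, g'⁆ := by
        have c0 : Commute (q * g' * q⁻¹ * g'⁻¹) (w * w') :=
          (((cq (W.mul_mem hcm hw'W)).mul_left (cg (W.mul_mem hcm hw'W))).mul_left
            (cq (W.mul_mem hcm hw'W)).inv_left).mul_left (cg (W.mul_mem hcm hw'W)).inv_left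
        rw [e.D.comm (e.W_le_V hw'W) (e.W_le_V hcm), ← c0.eq, mul_inv_cancel_right, commutatorElement_def]
  have hconj : ∀ k, y * σ * bp z₁ k * (y * σ)⁻¹ = bp z₂ k := fun k => by
    rw [conj_bp, show y * σ * z₁ * (y * σ)⁻¹ = y * (σ * z₁ * σ⁻¹) * y⁻¹ by group, e.w.σz₁, e.B_comm_z hy hyz,
      mul_inv_cancel_right]
  have h1 := key u₁ u₂ (e.D.V_le_S (e.w.u₂_mem e.D)) (e.D.comm (e.w.u₂_mem e.D) e.w.z₁_mem) e.w.σu₁
  have h2 := key t₁ t₂ e.w.t₂_mem (mul_inv_eq_iff_eq_mul.mp e.w.t₂z₁) e.σ_t₁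
  rw [g1, g2, hconj] at h1
  rw [g3, g4, hconj] at h2
  exact ⟨bp_inj e.w.z₂_ne h1, bp_inj e.w.z₂_ne h2⟩

/-- An odd element of `M` normalising `V` is trivial. -/
theorem eq_one_of_norm (h : Hard G) (h4 : SectionalPRankLE 2 4 G)
    (e : WrExact (S : Subgroup G) K F H V f₁ f₂ t₁ t₂ σ u₁ z₁ u₂ z₂) {y : G}
    (hy : y ∈ centZ (S : Subgroup G)) (hyo : Odd (orderOf y))
    (hyV : y ∈ Subgroup.normalizer (V : Set G)) : y = 1 := by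
  have D := e.D
  set L := Subgroup.normalizer (V : Set G) with hL
  have hV2 : IsPGroup 2 ↥V := pow_two_two D.V_sq
  have hgood : Good L := h.good_normalizer hV2 fun eb => by
    have := D.card_V
    rw [eb, Subgroup.card_bot] at this
    omega
  have hcore : pCoreOf 2 L ≤ V := by
    rw [← e.R_eq]
    exact le_core (core_two L) ((core_le_sylow S (D.ov.S_le.trans D.V_norm)).trans D.ov.S_le)
      (D.V_norm.trans (le_normalizer_core L))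
  obtain ⟨N, -, -, -, hNy, -, -, -, heven⟩ := hgood.exists_oddPre h4
  have htL : t₁ ∈ L := D.V_norm (D.ov.S_le e.w.t_mem)
  obtain ⟨-, hcm, -⟩ := heven ⟨t₁, htL, fun hh => by
    have h1 : t₁ * u₁ * t₁⁻¹ = u₁ := by rw [D.comm (hcore hh) e.w.u₁_mem, mul_inv_cancel_right]
    rw [e.w.t₁u₁, mul_eq_left] at h1
    exact e.w.z₁_ne h1, 1, by rw [pow_one, pow_two, e.t₁_sq]; exact one_mem _⟩
  have hconjF : ∀ f ∈ F, ∀ v ∈ V, y * v = v * y → y * (f * v * f⁻¹) = f * v * f⁻¹ * y := by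
    intro f hf v hv hyv
    have hfL : f ∈ L := D.V_norm (D.ov.F_le hf)
    have hc := hcore (hcm f (hNy f hfL (D.ov.odd_order hf)) y (hNy y hyV hyo))
    refine mul_inv_eq_iff_eq_mul.mp ?_
    have hyv' : y * v * y⁻¹ = v := by rw [hyv, mul_inv_cancel_right]
    have hmem : y * (f * v * f⁻¹) * y⁻¹ ∈ V :=
      (Subgroup.mem_normalizer_iff.mp hyV _).mp (D.conj_V (D.ov.F_le hf) hv)
    calc y * (f * v * f⁻¹) * y⁻¹ = ⁅f, y⁆⁻¹ * (f * (y * v * y⁻¹) * f⁻¹) * ⁅f, y⁆ := by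
          simp only [commutatorElement_def]; group
      _ = f * v * f⁻¹ := by
        rw [hyv', D.comm (V.inv_mem hc) (D.conj_V (D.ov.F_le hf) hv), inv_mul_cancel_right]
  have hmul : ∀ {a b : G}, y * a = a * y → y * b = b * y → y * (a * b) = a * b * y := fun {a b} ha hb =>
    ((show Commute y a from ha).mul_right (show Commute y b from hb)).eq
  have hyz : y * (z₁ * z₂) = z₁ * z₂ * y := mem_centZ.mp hy _ (e.w.inZ_z D)
  have hz2V := e.w.z₂_mem D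
  set z₂' := f₁ * z₂ * f₁⁻¹ with hz₂'
  have hz₂'V : z₂' ∈ V := D.conj_V (D.ov.F_le e.w.f₁_mem) hz2V
  -- an element of `A₂` fixed by `y`
  set b := z₂ * z₂' with hb
  have hbV : b ∈ V := V.mul_mem hz2V hz₂'V
  have hyb : y * b = b * y := by
    have e1 : b = z₁ * z₂ * (f₁ * (z₁ * z₂) * f₁⁻¹) := by
      have hf1z : f₁ * z₁ * f₁⁻¹ = z₁ := by rw [e.w.f₁z₁, mul_inv_cancel_right]
      rw [← conj_mul, hf1z, ← hz₂', hb, D.comm e.w.z₁_mem hz2V, mul_assoc z₂, ← mul_assoc z₁, e.z₁_sq, one_mul]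
    rw [e1]
    exact hmul hyz (hconjF f₁ e.w.f₁_mem _ (V.mul_mem e.w.z₁_mem hz2V) hyz)
  have hgb : f₂ * b = b * f₂ :=
    ((show Commute f₂ z₂ from e.w.f₂z₂).mul_right (show Commute f₂ z₂' from
      IData.comm_conj e.w.f₂z₂ (by rw [D.ov.comm _ e.w.f₁_mem _ e.w.f₂_mem, mul_inv_cancel_right]))).eq
  have hb1 : b ≠ 1 := fun hh => by
    refine e.w.z₂_ne (e.w.indep z₂ hz2V (mul_inv_eq_iff_eq_mul.mp ?_) e.w.f₂z₂)
    rw [← hz₂']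
    exact (eq_inv_of_mul_eq_one_right hh).trans (D.inv_eq hz2V)
  set b' := f₁ * b * f₁⁻¹ with hb'
  have hb'V : b' ∈ V := D.conj_V (D.ov.F_le e.w.f₁_mem) hbV
  have hyb' : y * b' = b' * y := hconjF f₁ e.w.f₁_mem b hbV hyb
  have hgb' : f₂ * b' = b' * f₂ :=
    IData.comm_conj hgb (by rw [D.ov.comm _ e.w.f₁_mem _ e.w.f₂_mem, mul_inv_cancel_right])
  set A₂ := V ⊓ Subgroup.centralizer ({f₂} : Set G) with hA₂
  set C := A₂ ⊓ Subgroup.centralizer ({y} : Set G) with hC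
  have hmC : ∀ {a}, a ∈ V → f₂ * a = a * f₂ → y * a = a * y → a ∈ C := fun ha h1 h2 =>
    ⟨⟨ha, Subgroup.mem_centralizer_singleton_iff.mpr h1.symm⟩, Subgroup.mem_centralizer_singleton_iff.mpr h2.symm⟩
  have hA₂c : Nat.card A₂ ≤ 4 := by
    let φ : ↥A₂ → ↥(V ⊓ Subgroup.centralizer ({f₁} : Set G)) := fun a => ⟨σ * a * σ⁻¹, D.conj_V_S e.w.σ_mem a.2.1,
      Subgroup.mem_centralizer_singleton_iff.mpr
        (IData.comm_conj (Subgroup.mem_centralizer_singleton_iff.mp a.2.2).symm e.w.σ_f₂).symm⟩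
    rw [← e.w.card_A]
    refine Nat.card_le_card_of_injective φ fun p q epq => Subtype.ext ?_
    have e' : σ * (p : G) * σ⁻¹ = σ * q * σ⁻¹ := congrArg Subtype.val epq
    exact mul_left_cancel (mul_right_cancel e')
  have hC4 : C = A₂ := by
    refine Subgroup.eq_of_le_of_card_ge inf_le_left (hA₂c.trans ?_)
    have hne : b' ∉ Subgroup.zpowers b := fun hm => by
      rcases mem_two (D.V_sq b hbV) hm with hh | hh
      · exact hb1 (conj_eq_one_iff.mp hh)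
      · exact hb1 (e.w.indep b hbV (mul_inv_eq_iff_eq_mul.mp hh) hgb)
    have h2 := two_mul_card_le (Subgroup.zpowers_le.mpr (hmC hbV hgb hyb)) (hmC hb'V hgb' hyb') hne
    rw [card_zpowers_two (D.V_sq b hbV) hb1] at h2
    exact h2
  have hA₂y : ∀ a ∈ V, f₂ * a = a * f₂ → y * a = a * y := fun a ha hfa => by
    have : a ∈ C := hC4.ge ⟨ha, Subgroup.mem_centralizer_singleton_iff.mpr hfa.symm⟩
    exact (Subgroup.mem_centralizer_singleton_iff.mp this.2).symm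
  have hyz1 : y * z₁ = z₁ * y := by
    rw [show z₁ = z₁ * z₂ * z₂ by rw [mul_assoc, D.V_sq _ hz2V, mul_one]]
    exact hmul hyz (hA₂y z₂ hz2V e.w.f₂z₂)
  set c := f₂ * z₁ * f₂⁻¹ with hc'
  have hcV : c ∈ V := D.conj_V (D.ov.F_le e.w.f₂_mem) e.w.z₁_mem
  have hyc : y * c = c * y := hconjF f₂ e.w.f₂_mem z₁ e.w.z₁_mem hyz1
  have hfc : f₁ * c = c * f₁ :=
    IData.comm_conj e.w.f₁z₁ (by rw [D.ov.comm _ e.w.f₂_mem _ e.w.f₁_mem, mul_inv_cancel_right])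
  have hu1y : y * u₁ = u₁ * y := by
    obtain ⟨p, q, hpq⟩ := e.w.coords_A₁ c hcV hfc
    cases p
    · exfalso
      refine e.w.z₁_ne (e.w.indep z₁ e.w.z₁_mem e.w.f₁z₁ ?_)
      cases q <;> simp [hc'] at hpq
      · exact absurd hpq e.w.z₁_ne
      · exact mul_inv_eq_iff_eq_mul.mp hpq
    · cases q <;> simp at hpq
      · exact hpq ▸ hyc
      · rw [show u₁ = c * z₁ by rw [hpq, mul_assoc, e.z₁_sq, mul_one]]
        exact hmul hyc hyz1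
  refine eq_one_of_odd_mem (core_two L) hyo (hgood.charTwo y hyV fun q hq => ?_)
  obtain ⟨p, r, c1, d, rfl⟩ := e.w.coords q (hcore hq)
  have hbp : ∀ {g : G}, y * g = g * y → ∀ k, Commute y (bp g k) := fun {g} hg k => by
    cases k
    · exact Commute.one_right y
    · exact hg
  exact ((((hbp hu1y p).mul_right (hbp hyz1 r)).mul_right
    ((hbp (hA₂y _ (e.w.u₂_mem D) e.w.f₂u₂) c1).mul_right (hbp (hA₂y _ hz2V e.w.f₂z₂) d)))).eq.symm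

/-- KEY: a line of `F` in a subgroup whose 2-core inverts it modulo `V`. -/
theorem false_of_core (e : WrExact (S : Subgroup G) K F H V f₁ f₂ t₁ t₂ σ u₁ z₁ u₂ z₂) {L : Subgroup G}
    {c f : G} (hc : c ∈ pCoreOf 2 L) (hf : f ∈ F) (hfL : f ∈ L) (hf1 : f ≠ 1)
    (hinv : c * f * c⁻¹ * f ∈ V) : False := by
  have D := e.D
  have hfK := D.ov.F_le hf
  have hg : ⁅f, c⁆ ∈ pCoreOf 2 L := by
    rw [commutatorElement_def]; exact mul_mem (conj_mem_core hfL hc) (inv_mem hc)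
  set v := c * f * c⁻¹ * f with hv
  have e1 : ⁅f, c⁆ = f * f * v⁻¹ := by simp only [hv, commutatorElement_def]; group
  have hpow : ∀ n : ℕ, ∃ u ∈ V, (f * f * v⁻¹) ^ n = (f * f) ^ n * u := by
    intro n
    induction n with
    | zero => exact ⟨1, V.one_mem, by simp⟩
    | succ n ih =>
      obtain ⟨u, hu, hn⟩ := ih
      refine ⟨(f * f)⁻¹ * u * (f * f)⁻¹⁻¹ * v⁻¹,
        V.mul_mem (D.conj_V (K.inv_mem (K.mul_mem hfK hfK)) hu) (V.inv_mem hinv), ?_⟩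
      rw [pow_succ, hn, pow_succ]
      generalize (f * f) ^ n = a
      simp [mul_assoc]
  obtain ⟨k, hk⟩ := core_two L ⟨_, hg⟩
  obtain ⟨u, hu, hn⟩ := hpow (2 ^ k)
  have hk' : ⁅f, c⁆ ^ 2 ^ k = 1 := congrArg Subtype.val hk
  rw [e1, hn] at hk'
  have h1 : (f * f) ^ 2 ^ k ∈ pCoreOf 2 K := by
    rw [eq_inv_of_mul_eq_one_left hk']
    exact inv_mem (D.V_le hu)
  have h2 := D.ov.core_inter (F.pow_mem (F.mul_mem hf hf) _) h1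
  rw [← pow_two, ← pow_mul, ← pow_succ'] at h2
  exact hf1 (orderOf_eq_one_iff.mp (Nat.eq_one_of_dvd_coprimes
    ((Nat.coprime_two_right.mpr (D.ov.odd_order hf)).pow_right (k + 1)) dvd_rfl (orderOf_dvd_of_pow_eq_one h2)))

/-- The normaliser of an involution. -/
theorem good_inv (h : Hard G) {x : G} (hx : x * x = 1) (hx1 : x ≠ 1) :
    Good (Subgroup.normalizer ((Subgroup.zpowers x : Subgroup G) : Set G)) :=
  h.good_normalizer (pow_two_two fun a ha => by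
    rcases mem_two hx ha with rfl | rfl
    · exact one_mul 1
    · exact hx) fun eb => hx1 (Subgroup.zpowers_eq_bot.mp eb)

theorem mem_inv_norm {x g : G} (h : g * x = x * g) :
    g ∈ Subgroup.normalizer ((Subgroup.zpowers x : Subgroup G) : Set G) :=
  Subgroup.mem_normalizer_fintype fun a ha => by
    obtain ⟨i, rfl⟩ := Subgroup.mem_zpowers_iff.mp ha
    rw [((show Commute g x from h).zpow_right i).eq, mul_inv_cancel_right]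
    exact Subgroup.zpow_mem _ (Subgroup.mem_zpowers x) i

end WrExact

end CfsgLib.SRFour
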