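import Mathlib
import Cfsg.Agent.Lib.SRFour.ITypeWr

/-!
The end of the wreathed shape: `⟨z₁, z₂⟩` is neither normal in `M` nor moved by it.

Blueprint: `blueprint/S0517.md`, §4.
-/

set_option autoImplicit false
set_option linter.unusedSectionVars false
set_option linter.style.haveILetI false

namespace CfsgLib.SRFour

open Cfsg
open scoped commutatorElement

universe u

variable {G : Type u} [Group G] [Finite G] {S : Sylow 2 G} {K F H V : Subgroup G}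
  {f₁ f₂ t₁ t₂ σ u₁ z₁ u₂ z₂ : G}

namespace WrExact

theorem mem_W_gen (e : WrExact (S : Subgroup G) K F H V f₁ f₂ t₁ t₂ σ u₁ z₁ u₂ z₂) :
    z₁ ∈ Subgroup.closure ({z₁ * z₂, z₁} : Set G) ∧ z₂ ∈ Subgroup.closure ({z₁ * z₂, z₁} : Set G) :=
  ⟨e.mem_W.mpr ⟨true, false, by simp⟩, e.mem_W.mpr ⟨false, true, by simp⟩⟩

/-- Elements fixing `z₁` with no component outside `V`. -/
theorem mem_V_of_comm_u (e : WrExact (S : Subgroup G) K F H V f₁ f₂ t₁ t₂ σ u₁ z₁ u₂ z₂) {s : G}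
    (hs : s ∈ (S : Subgroup G)) (hsz : s * z₁ = z₁ * s) (hsp : s * (u₁ * u₂) = u₁ * u₂ * s) : s ∈ V := by
  obtain ⟨a, b, c, d, i, j, rfl⟩ := e.coords_B hs hsz
  obtain ⟨g1, g2, -, -⟩ := e.comm_gen a b c d i j
  generalize hq : bp u₁ a * bp z₁ b * (bp u₂ c * bp z₂ d) * bp t₁ i * bp t₂ j = q at *
  have h1 : ⁅q, u₁ * u₂⁆ = bp z₁ i * bp z₂ j := by
    rw [show ⁅q, u₁ * u₂⁆ = ⁅q, u₁⁆ * (u₁ * ⁅q, u₂⁆ * u₁⁻¹) by simp only [commutatorElement_def]; group, g1, g2,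
      e.D.comm e.w.u₁_mem (bp_mem (e.w.z₂_mem e.D) j), mul_inv_cancel_right]
  rw [commutatorElement_eq_one_iff_mul_comm.mpr hsp] at h1
  obtain ⟨rfl, rfl⟩ := e.w.bp_z_eq_one e.D h1.symm
  rw [← hq]
  simpa using V.mul_mem (V.mul_mem (bp_mem e.w.u₁_mem a) (bp_mem e.w.z₁_mem b))
    (V.mul_mem (bp_mem (e.w.u₂_mem e.D) c) (bp_mem (e.w.z₂_mem e.D) d))

/-- Elements fixing `z₁` centralising `t₁t₂`. -/
theorem coords_of_comm_c (e : WrExact (S : Subgroup G) K F H V f₁ f₂ t₁ t₂ σ u₁ z₁ u₂ z₂) {s : G}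
    (hs : s ∈ (S : Subgroup G)) (hsz : s * z₁ = z₁ * s) (hsc : s * (t₁ * t₂) = t₁ * t₂ * s) :
    ∃ b d i j : Bool, s = bp z₁ b * bp z₂ d * bp t₁ i * bp t₂ j := by
  obtain ⟨a, b, c, d, i, j, rfl⟩ := e.coords_B hs hsz
  obtain ⟨-, -, g3, g4⟩ := e.comm_gen a b c d i j
  generalize hq : bp u₁ a * bp z₁ b * (bp u₂ c * bp z₂ d) * bp t₁ i * bp t₂ j = q at *
  have h1 : ⁅q, t₁ * t₂⁆ = bp z₁ a * bp z₂ c := by
    rw [show ⁅q, t₁ * t₂⁆ = ⁅q, t₁⁆ * (t₁ * ⁅q, t₂⁆ * t₁⁻¹) by simp only [commutatorElement_def]; group, g3, g4,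
      conj_bp, e.w.t₁z₂]
  rw [commutatorElement_eq_one_iff_mul_comm.mpr hsc] at h1
  obtain ⟨rfl, rfl⟩ := e.w.bp_z_eq_one e.D h1.symm
  exact ⟨b, d, i, j, by rw [← hq]; simp⟩

/-- `M` does not normalise `⟨z₁, z₂⟩`. -/
theorem false_of_norm (h : Hard G) (h4 : SectionalPRankLE 2 4 G)
    (e : WrExact (S : Subgroup G) K F H V f₁ f₂ t₁ t₂ σ u₁ z₁ u₂ z₂)
    (hM : centZ (S : Subgroup G) ≤
      Subgroup.normalizer ((Subgroup.closure ({z₁ * z₂, z₁} : Set G) : Subgroup G) : Set G)) : False := by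
  have D := e.D
  set M := centZ (S : Subgroup G) with hMdef
  set Q := pCoreOf 2 M with hQ
  set W := Subgroup.closure ({z₁ * z₂, z₁} : Set G) with hW
  have hQS : Q ≤ (S : Subgroup G) := core_le_sylow S (le_centZ _)
  have hyz : ∀ y ∈ M, y * (z₁ * z₂) = z₁ * z₂ * y := fun y hy => mem_centZ.mp hy _ (e.w.inZ_z D)
  -- odd elements fix `z₁` and `z₂`
  have hfix : ∀ y ∈ M, Odd (orderOf y) → y * z₁ = z₁ * y ∧ y * z₂ = z₂ * y := by
    intro y hy hyo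
    have h12 : ∀ {y}, y * (z₁ * z₂) = z₁ * z₂ * y → y * z₁ = z₁ * y → y * z₂ = z₂ * y := fun {y} hh h1 => by
      have e2 : z₂ = z₁ * (z₁ * z₂) := by rw [← mul_assoc, e.z₁_sq, one_mul]
      rw [e2]
      exact ((show Commute y z₁ from h1).mul_right (show Commute y (z₁ * z₂) from hh)).eq
    suffices h1 : y * z₁ = z₁ * y from ⟨h1, h12 (hyz y hy) h1⟩
    obtain ⟨b, d, hbd⟩ := e.mem_W.mp ((Subgroup.mem_normalizer_iff.mp (hM hy) z₁).mp e.mem_W_gen.1)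
    cases b <;> cases d <;> simp at hbd
    · exact absurd hbd e.w.z₁_ne
    · have e3 : y * z₂ * y⁻¹ = z₁ := by
        calc y * z₂ * y⁻¹ = (y * z₁ * y⁻¹)⁻¹ * (y * (z₁ * z₂) * y⁻¹) := by group
          _ = z₂⁻¹ * (z₁ * z₂) := by rw [hbd, hyz y hy, mul_inv_cancel_right]
          _ = z₁ := by rw [D.comm e.w.z₁_mem (e.w.z₂_mem D), inv_mul_cancel_left]
      have h2 : Commute (y * y) z₁ := by
        refine mul_inv_eq_iff_eq_mul.mp ?_
        rw [show y * y * z₁ * (y * y)⁻¹ = y * (y * z₁ * y⁻¹) * y⁻¹ by group, hbd, e3]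
      obtain ⟨k, hk⟩ := hyo
      have h3 : (y * y) ^ (k + 1) = y := by
        rw [← pow_two, ← pow_mul, show 2 * (k + 1) = orderOf y + 1 by omega, pow_succ, pow_orderOf_eq_one, one_mul]
      rw [← h3]
      exact (h2.pow_left _).eq
    · exact mul_inv_eq_iff_eq_mul.mp hbd
    · exfalso
      refine e.w.z₂_ne ?_
      have h1 : z₁ = z₁ * z₂ := by
        calc z₁ = y⁻¹ * (y * z₁ * y⁻¹) * y := by group
          _ = z₁ * z₂ := by rw [hbd, mul_assoc, ← hyz y hy, inv_mul_cancel_left]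
      exact left_eq_mul.mp h1
  set A := Q ⊓ Subgroup.centralizer ({z₁} : Set G) with hA
  have hAm : ∀ {a}, a ∈ A ↔ a ∈ Q ∧ a * z₁ = z₁ * a := fun {a} => by
    simp [hA, Subgroup.mem_centralizer_singleton_iff]
  have hA2 : IsPGroup 2 ↥A := (core_two M).to_le inf_le_left
  -- odd elements move `A` only inside `V`
  have hcomm : ∀ y ∈ M, Odd (orderOf y) → ∀ a ∈ A, a⁻¹ * (y * a * y⁻¹) ∈ Q ⊓ V := by
    intro y hy hyo a ha
    obtain ⟨h1, h2⟩ := hfix y hy hyo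
    have hya : ∀ {a}, a ∈ A → y * a * y⁻¹ ∈ A := fun {a} ha =>
      hAm.mpr ⟨conj_mem_core hy (hAm.mp ha).1,
        (IData.comm_conj (hAm.mp ha).2.symm (by rw [h1, mul_inv_cancel_right])).symm⟩
    have hx : a⁻¹ * (y * a * y⁻¹) ∈ A := A.mul_mem (A.inv_mem ha) (hya ha)
    refine ⟨(hAm.mp hx).1, ?_⟩
    have hcore : ∀ zz : G, (∀ b ∈ A, b * zz = zz * b) → zz * zz = 1 → zz ≠ 1 → y * zz = zz * y →
        a⁻¹ * (y * a * y⁻¹) ∈ pCoreOf 2 (Subgroup.normalizer ((Subgroup.zpowers zz : Subgroup G) : Set G)) := by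
      intro zz hb hzz hz1 hyzz
      have := (good_inv h hzz hz1).commutator_mem h4 hA2 (fun b hb' => mem_inv_norm (hb b hb')) (A.inv_mem ha)
        (mem_inv_norm hyzz) hyo (by rw [inv_inv]; exact hya ha)
      rwa [show ⁅a⁻¹, y⁆ = a⁻¹ * (y * a * y⁻¹) by simp only [commutatorElement_def]; group] at this
    have hxS := hQS (hAm.mp hx).1
    have c1 := hcore z₁ (fun b hb => (hAm.mp hb).2) e.z₁_sq e.w.z₁_ne h1
    have c2 := hcore z₂ (fun b hb => e.B_comm_z (hQS (hAm.mp hb).1) (hAm.mp hb).2) (D.V_sq _ (e.w.z₂_mem D))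
      e.w.z₂_ne h2
    obtain ⟨v, hv, i, j, hd⟩ := e.dec_B hxS (hAm.mp hx).2
    rw [hd] at c1 c2 ⊢
    cases j
    · cases i
      · simpa using hv
      · exfalso
        refine e.false_of_core c2 e.w.f₂_mem (mem_inv_norm e.w.f₂z₂) (fun e0 => e.w.f₁_ne ?_) ?_
        · have h := e.w.σ_f₂
          rw [e0, mul_one, mul_inv_cancel] at h
          exact h.symm
        · simp only [bp_true, bp_false, mul_one]
          rw [show v * t₁ * f₂ * (v * t₁)⁻¹ = v * (t₁ * f₂ * t₁⁻¹) * v⁻¹ by group, e.w.t_f₂]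
          rw [show v * f₂⁻¹ * v⁻¹ * f₂ = v * (f₂⁻¹ * v⁻¹ * f₂⁻¹⁻¹) by group]
          exact V.mul_mem hv (D.conj_V (K.inv_mem (D.ov.F_le e.w.f₂_mem)) (V.inv_mem hv))
    · exfalso
      refine e.false_of_core c1 e.w.f₁_mem (mem_inv_norm e.w.f₁z₁) e.w.f₁_ne ?_
      have ht : bp t₁ i * t₂ * f₁ * (bp t₁ i * t₂)⁻¹ = f₁⁻¹ := by
        rw [show bp t₁ i * t₂ * f₁ * (bp t₁ i * t₂)⁻¹ = bp t₁ i * (t₂ * f₁ * t₂⁻¹) * (bp t₁ i)⁻¹ by group,
          e.w.t₂_f₁, ← conj_inv]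
        cases i <;> simp [e.w.t_f₁]
      simp only [bp_true]
      rw [show v * bp t₁ i * t₂ * f₁ * (v * bp t₁ i * t₂)⁻¹ = v * (bp t₁ i * t₂ * f₁ * (bp t₁ i * t₂)⁻¹) * v⁻¹ by
        group, ht, show v * f₁⁻¹ * v⁻¹ * f₁ = v * (f₁⁻¹ * v⁻¹ * f₁⁻¹⁻¹) by group]
      exact V.mul_mem hv (D.conj_V (K.inv_mem (D.ov.F_le e.w.f₁_mem)) (V.inv_mem hv))
  by_cases hQV : Q ≤ V
  · have hVQ : V ≤ Q := fun v hv =>
      (D.good_M h).charTwo v (D.V_le_M hv) fun q hq => D.comm (hQV hq) hv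
    refine D.moved ?_
    rw [← le_antisymm hQV hVQ]
    exact le_normalizer_core _
  -- an element of `Q` acting as `t₁t₂`
  have hconjQ : ∀ {s q}, s ∈ (S : Subgroup G) → q ∈ Q → s * q * s⁻¹ ∈ Q := fun hs hq => conj_mem_core (le_centZ _ hs) hq
  obtain ⟨g, hgQ, m, hm, hg⟩ : ∃ g ∈ Q, ∃ m ∈ V, g = m * (t₁ * t₂) := by
    obtain ⟨q, hq, hqV⟩ := Set.not_subset.mp hQV
    by_cases hqz : q * z₁ = z₁ * q
    · obtain ⟨v, hv, i, j, rfl⟩ := e.dec_B (hQS hq) hqz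
      have hσq := hconjQ e.w.σ_mem hq
      have hv' := D.conj_V_S e.w.σ_mem hv
      have hqq := mul_mem hq hσq
      rw [show σ * (v * bp t₁ i * bp t₂ j) * σ⁻¹ = (σ * v * σ⁻¹) * (σ * bp t₁ i * σ⁻¹) * (σ * bp t₂ j * σ⁻¹) by
        group, conj_bp, conj_bp, e.σ_t₁, e.σ_t₂] at hσq hqq
      cases i <;> cases j <;> simp only [bp_true, bp_false, mul_one] at hq hqV hσq hqq
      · exact absurd hv hqV
      · refine ⟨_, mul_mem hσq hq, σ * v * σ⁻¹ * (t₁ * v * t₁⁻¹), V.mul_mem hv' (D.conj_V_S e.w.t_mem hv), ?_⟩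
        group
      · refine ⟨_, hqq, v * (t₁ * (σ * v * σ⁻¹) * t₁⁻¹), V.mul_mem hv (D.conj_V_S e.w.t_mem hv'), ?_⟩
        group
      · exact ⟨_, hq, v, hv, by group⟩
    · obtain ⟨b, hb, hbz, rfl⟩ := e.dec_σ (hQS hq) hqz
      have hc : ⁅t₁, b * σ⁆⁻¹ ∈ Q := by
        rw [commutatorElement_def]
        exact inv_mem (mul_mem (hconjQ e.w.t_mem hq) (inv_mem hq))
      set w := ⁅b, t₂⁆ with hw
      have hwW : w ∈ W := e.comm_B hb hbz e.w.t₂_mem (mul_inv_eq_iff_eq_mul.mp e.w.t₂z₁)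
      refine ⟨_, inv_mem hc, t₁ * w * t₁⁻¹, D.conj_V_S e.w.t_mem (e.W_le_V hwW), ?_⟩
      rw [inv_inv, show ⁅t₁, b * σ⁆ = t₁ * (b * (σ * t₁ * σ⁻¹)⁻¹⁻¹⁻¹ * b⁻¹) by simp only [commutatorElement_def]; group,
        inv_inv, e.σ_t₁, e.t₂_inv, show b * t₂ * b⁻¹ = w * t₂ by simp only [hw, commutatorElement_def]; group]
      group
  set N₀ := Q ⊓ V with hN₀
  have hgz : g * z₁ = z₁ * g := by
    rw [hg]
    exact (Commute.mul_left (D.comm hm e.w.z₁_mem)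
      (Commute.mul_left (mul_inv_eq_iff_eq_mul.mp e.w.t₁z₁) (mul_inv_eq_iff_eq_mul.mp e.w.t₂z₁))).eq
  have hgA : g ∈ A := hAm.mpr ⟨hgQ, hgz⟩
  have hδW : ∀ n ∈ V, g * n * g⁻¹ * n ∈ W := by
    intro n hn
    obtain ⟨a, b, c, d, hco⟩ := e.w.coords n hn
    have e1 : g * n * g⁻¹ = bp z₁ a * bp z₂ c * n := by
      rw [hg, show m * (t₁ * t₂) * n * (m * (t₁ * t₂))⁻¹ = m * (t₁ * (t₂ * n * t₂⁻¹) * t₁⁻¹) * m⁻¹ by group, hco,
        e.w.conj_t₂ D, ← hco,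
        show t₁ * (bp z₂ c * n) * t₁⁻¹ = t₁ * bp z₂ c * t₁⁻¹ * (t₁ * n * t₁⁻¹) by group,
        show t₁ * n * t₁⁻¹ = bp z₁ a * n by rw [hco]; exact e.w.conj_t₁ D a b c d,
        conj_bp, e.w.t₁z₂, ← mul_assoc (bp z₂ c),
        D.comm (bp_mem (e.w.z₂_mem D) c) (bp_mem e.w.z₁_mem a),
        D.comm hm (V.mul_mem (V.mul_mem (bp_mem e.w.z₁_mem a) (bp_mem (e.w.z₂_mem D) c)) hn), mul_inv_cancel_right]
    rw [e1, mul_assoc, D.V_sq n hn, mul_one]
    exact e.mem_W.mpr ⟨a, c, rfl⟩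
  refine D.false_of_no_odd fun y hy hyo => ?_
  obtain ⟨h1, h2⟩ := hfix y hy hyo
  have hyW : ∀ x ∈ W, y * x = x * y := fun x hx => by
    obtain ⟨b, d, rfl⟩ := e.mem_W.mp hx
    refine (Commute.mul_right (?_ : Commute y (bp z₁ b)) (?_ : Commute y (bp z₂ d))).eq
    · cases b
      · exact Commute.one_right y
      · exact h1
    · cases d
      · exact Commute.one_right y
      · exact h2
  have hN : ∀ n ∈ N₀, y * n = n * y := by
    intro n hn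
    have hnA : n ∈ A := hAm.mpr ⟨hn.1, D.comm hn.2 e.w.z₁_mem⟩
    have hd := (hcomm y hy hyo n hnA).2
    set n' := y * n * y⁻¹ with hn'
    have hn'V : n' ∈ V := by
      have := V.mul_mem hn.2 hd
      rwa [mul_inv_cancel_left] at this
    set m0 := g⁻¹ * (y * g * y⁻¹) with hm0
    have hm0V : m0 ∈ V := (hcomm y hy hyo g hgA).2
    have hgK : g ∈ K := D.ov.S_le (hQS hgQ)
    have hfixδ : g * n' * g⁻¹ * n' = g * n * g⁻¹ * n := by
      have hh : y * (g * n * g⁻¹ * n) * y⁻¹ = g * n * g⁻¹ * n := by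
        rw [hyW _ (hδW n hn.2), mul_inv_cancel_right]
      calc g * n' * g⁻¹ * n' = g * (m0 * n' * m0⁻¹) * g⁻¹ * n' := by rw [D.comm hm0V hn'V, mul_inv_cancel_right]
        _ = y * (g * n * g⁻¹ * n) * y⁻¹ := by simp only [hm0, hn']; group
        _ = _ := hh
    refine fix_of_shift_mem (N := W) (pow_two_two fun a ha => D.V_sq a (e.W_le_V ha)) hyo hyW ?_
    have hd' : n⁻¹ * n' ∈ V := hd
    have hg1 : g * (n⁻¹ * n') * g⁻¹ = n⁻¹ * n' := by
      have e1 : g * n' * g⁻¹ = g * n * g⁻¹ * n * n'⁻¹ := eq_mul_inv_of_mul_eq hfixδ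
      calc g * (n⁻¹ * n') * g⁻¹ = (g * n * g⁻¹)⁻¹ * (g * n' * g⁻¹) := by group
        _ = n * n'⁻¹ := by rw [e1]; group
        _ = n⁻¹ * n' := by rw [D.inv_eq hn'V, D.inv_eq hn.2]
    rw [hg] at hg1
    have hg2 : t₁ * t₂ * (n⁻¹ * n') * (t₁ * t₂)⁻¹ = n⁻¹ * n' := by
      have hmem : t₁ * t₂ * (n⁻¹ * n') * (t₁ * t₂)⁻¹ ∈ V :=
        D.conj_V (D.ov.S_le (mul_mem e.w.t_mem e.w.t₂_mem)) hd'
      calc t₁ * t₂ * (n⁻¹ * n') * (t₁ * t₂)⁻¹ = m * (t₁ * t₂ * (n⁻¹ * n') * (t₁ * t₂)⁻¹) * m⁻¹ := by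
            rw [D.comm hm hmem, mul_inv_cancel_right]
        _ = m * (t₁ * t₂) * (n⁻¹ * n') * (m * (t₁ * t₂))⁻¹ := by group
        _ = _ := hg1
    obtain ⟨b, d, hbd⟩ := e.w.fix_c D hd' hg2
    exact e.mem_W.mpr ⟨b, d, hbd⟩
  have hAy : ∀ a ∈ A, y * a = a * y := fun a ha =>
    fix_of_shift_mem (N := N₀) ((core_two M).to_le inf_le_left) hyo hN (hcomm y hy hyo a ha)
  refine eq_one_of_odd_mem (core_two M) hyo ((D.good_M h).charTwo y hy fun q hq => ?_)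
  refine (fix_of_shift_mem hA2 hyo hAy (hAm.mpr ⟨mul_mem (inv_mem hq) (conj_mem_core hy hq), ?_⟩)).symm
  refine mul_inv_eq_iff_eq_mul.mp ?_
  have hy1 : y⁻¹ * z₁ * y = z₁ := by rw [mul_assoc, ← h1, inv_mul_cancel_left]
  have hyq : y * (q * z₁ * q⁻¹) * y⁻¹ = q * z₁ * q⁻¹ := by
    rcases e.w.conj_z D (hQS hq) with ⟨e1, -⟩ | ⟨e1, -⟩ <;> rw [e1]
    · rw [h1, mul_inv_cancel_right]
    · rw [h2, mul_inv_cancel_right]
  calc q⁻¹ * (y * q * y⁻¹) * z₁ * (q⁻¹ * (y * q * y⁻¹))⁻¹ = q⁻¹ * (y * (q * (y⁻¹ * z₁ * y) * q⁻¹) * y⁻¹) * q := by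
        group
    _ = z₁ := by rw [hy1, hyq]; group

/-- `M` does not move `⟨z₁, z₂⟩`. -/
theorem false_of_mover (h : Hard G) (h4 : SectionalPRankLE 2 4 G)
    (e : WrExact (S : Subgroup G) K F H V f₁ f₂ t₁ t₂ σ u₁ z₁ u₂ z₂)
    (hM : ¬ centZ (S : Subgroup G) ≤
      Subgroup.normalizer ((Subgroup.closure ({z₁ * z₂, z₁} : Set G) : Subgroup G) : Set G)) : False := by
  classical
  have D := e.D
  have hz2V := e.w.z₂_mem D
  set W := Subgroup.closure ({z₁ * z₂, z₁} : Set G) with hW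
  obtain ⟨M₁, F', hM₁, hov⟩ := exists_over h4 S (D.good_M h) (le_centZ _) e.S_norm_W hM
  have hzz : z₁ * z₂ * z₁ = z₂ := by rw [D.comm e.w.z₁_mem hz2V, mul_assoc, e.z₁_sq, mul_one]
  have md : MData (S : Subgroup G) M₁ F' (z₁ * z₂) z₁ :=
    { ov := hov, M_le := hM₁, z_mem := e.w.inZ_z D, z_ne := e.w.z_ne D, v_mem := D.V_le_S e.w.z₁_mem,
      v_sq := e.z₁_sq, v_ne := e.w.z₁_ne,
      v_ne_z := fun he => e.w.z₂_ne (left_eq_mul.mp he),
      sv := fun s hs => by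
        rw [hzz]
        exact (e.w.conj_z D hs).imp And.left And.left }
  set Q₁ := pCoreOf 2 M₁ with hQ₁
  have hQS : Q₁ ≤ (S : Subgroup G) := md.Q_le_S
  have hWQ : W ≤ Q₁ := (Subgroup.closure_le _).mpr (by rintro a (rfl | rfl); exacts [md.z_Q, md.v_Q])
  have hzW : Subgroup.zpowers (z₁ * z₂) ≤ W := Subgroup.zpowers_le.mpr (Subgroup.subset_closure (Or.inl rfl))
  obtain ⟨t, htQ, ht⟩ := md.exists_t
  rw [hzz] at ht
  have htS := hQS htQ
  have htz : t * z₁ ≠ z₁ * t := fun he => e.w.z₁_ne_z₂ (by rw [← ht, he, mul_inv_cancel_right])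
  obtain ⟨b₀, hb₀, hb₀z, htb⟩ := e.dec_σ htS htz
  have hQcomm : ∀ {s q}, q ∈ Q₁ → s ∈ (S : Subgroup G) → ⁅q, s⁆ ∈ Q₁ := fun {s q} hq hs => by
    rw [show ⁅q, s⁆ = q * (s * q⁻¹ * s⁻¹) by simp only [commutatorElement_def]; group]
    exact mul_mem hq (md.conj_mem_Q (md.S_le hs) (inv_mem hq))
  have hlift : ∀ g g', g ∈ (S : Subgroup G) → g' ∈ (S : Subgroup G) → g' * z₁ = z₁ * g' →
      σ * g * σ⁻¹ = g' → g⁻¹ = g → g' * g ∈ Q₁ := by
    intro g g' hg hg' hg'z hgg hinv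
    have h1 : ⁅t, g⁆ = ⁅b₀, g'⁆ * (g' * g) := by
      rw [commutatorElement_def, htb, hinv, show b₀ * σ * g * (b₀ * σ)⁻¹ = b₀ * (σ * g * σ⁻¹) * b₀⁻¹ by group, hgg]
      simp only [commutatorElement_def]; group
    have h2 := mul_mem (inv_mem (hWQ (e.comm_B hb₀ hb₀z hg' hg'z))) (hQcomm htQ hg)
    rwa [h1, inv_mul_cancel_left] at h2
  have hu₂S := D.V_le_S (e.w.u₂_mem D)
  have hu₁S := D.V_le_S e.w.u₁_mem
  have hpQ : u₁ * u₂ ∈ Q₁ := by
    rw [D.comm e.w.u₁_mem (e.w.u₂_mem D)]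
    exact hlift u₁ u₂ hu₁S hu₂S (D.comm (e.w.u₂_mem D) e.w.z₁_mem) e.w.σu₁ (D.inv_eq e.w.u₁_mem)
  have hcQ : t₁ * t₂ ∈ Q₁ := by
    rw [e.t_comm]
    exact hlift t₁ t₂ e.w.t_mem e.w.t₂_mem (mul_inv_eq_iff_eq_mul.mp e.w.t₂z₁) e.σ_t₁ e.t₁_inv
  have hsymQ : ∀ a b d i : Bool, bp u₁ a * bp z₁ b * (bp u₂ a * bp z₂ d) * bp t₁ i * bp t₂ i ∈ Q₁ := by
    intro a b d i
    have e1 : bp u₁ a * bp z₁ b * (bp u₂ a * bp z₂ d) = bp z₁ b * bp z₂ d * bp (u₁ * u₂) a := by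
      have c1 : Commute (bp z₁ b) (bp u₂ a) := D.comm (bp_mem e.w.z₁_mem b) (bp_mem (e.w.u₂_mem D) a)
      have c2 : Commute (bp z₁ b * bp z₂ d) (bp u₁ a * bp u₂ a) := D.comm
        (V.mul_mem (bp_mem e.w.z₁_mem b) (bp_mem hz2V d)) (V.mul_mem (bp_mem e.w.u₁_mem a) (bp_mem (e.w.u₂_mem D) a))
      rw [c1.mul_mul_mul_comm, ← c2.eq]
      cases a <;> simp
    have e2 : bp t₁ i * bp t₂ i = bp (t₁ * t₂) i := by cases i <;> simp
    rw [mul_assoc _ (bp t₁ i), e2, e1]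
    exact mul_mem (mul_mem (mul_mem (bp_mem (hWQ e.mem_W_gen.1) b) (bp_mem (hWQ e.mem_W_gen.2) d)) (bp_mem hpQ a))
      (bp_mem hcQ i)
  -- the conjugates of `z₁` fix `z₁`
  have hU1 : ∀ x ∈ md.U, x * z₁ = z₁ * x := by
    intro x hx
    by_contra hxz
    have hxS := hQS (md.U_le hx)
    have hWc : ∀ q ∈ Q₁, ⁅x, q⁆ ∈ W := fun q hq => by
      rw [show ⁅x, q⁆ = ⁅q, x⁆⁻¹ by simp only [commutatorElement_def]; group]
      exact W.inv_mem (hzW (md.comm_U hq hx))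
    have hnot : ∀ a i : Bool, ¬ (a = false ∧ i = false) →
        bp u₁ a * bp t₁ i ∉ Q₁ := by
      intro a i hai hq
      refine hai ?_
      have h1 := e.sym_of_comm hxS hxz (a := a) (b := false) (c := false) (d := false) (i := i) (j := false)
        (by simpa using hWc _ hq)
      exact ⟨h1.2, h1.1⟩
    have hsq : ∀ s ∈ (S : Subgroup G), s * s ∈ Q₁ := by
      intro s hs
      by_cases hsz : s * z₁ = z₁ * s
      · obtain ⟨a, b, c, d, i, j, rfl⟩ := e.coords_B hs hsz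
        obtain ⟨g1, g2, g3, g4⟩ := e.comm_gen a b c d i j
        -- the square lies in `W`
        set v := bp u₁ a * bp z₁ b * (bp u₂ c * bp z₂ d) with hv'
        set τ := bp t₁ i * bp t₂ j with hτ
        have hv : v ∈ V := V.mul_mem (V.mul_mem (bp_mem e.w.u₁_mem a) (bp_mem e.w.z₁_mem b))
          (V.mul_mem (bp_mem (e.w.u₂_mem D) c) (bp_mem hz2V d))
        have hτS : τ ∈ (S : Subgroup G) := mul_mem (bp_mem e.w.t_mem i) (bp_mem e.w.t₂_mem j)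
        have hτz : τ * z₁ = z₁ * τ := by
          have := mul_inv_eq_iff_eq_mul.mp (e.dec_z V.one_mem i j).1
          simpa [hτ] using this
        have hττ : τ * τ = 1 := by
          have hc : Commute (bp t₂ j) (bp t₁ i) := by
            cases i <;> cases j <;> simp [Commute, SemiconjBy, e.t_comm]
          rw [hτ, hc.mul_mul_mul_comm]
          cases i <;> cases j <;> simp [e.t₁_sq, e.t₂_sq]
        have hw := e.comm_B hτS hτz (D.V_le_S hv) (D.comm hv e.w.z₁_mem)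
        have e3 : v * bp t₁ i * bp t₂ j * (v * bp t₁ i * bp t₂ j) = v * ⁅τ, v⁆ * v := by
          have hi : τ⁻¹ = τ := inv_eq_of_mul_eq_one_right hττ
          rw [mul_assoc v, ← hτ, commutatorElement_def, hi, D.inv_eq hv]
          simp [mul_assoc, D.V_sq v hv]
        rw [e3, D.comm hv (e.W_le_V hw), mul_assoc, D.V_sq v hv, mul_one]
        exact hWQ hw
      · obtain ⟨y, hy, hyz, rfl⟩ := e.dec_σ hs hsz
        have hy' : σ * y * σ⁻¹ ∈ (S : Subgroup G) := mul_mem (mul_mem e.w.σ_mem hy) (inv_mem e.w.σ_mem)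
        have hy'z : σ * y * σ⁻¹ * z₁ = z₁ * (σ * y * σ⁻¹) := by
          refine (IData.comm_conj (g := σ) (f := z₂) (f' := z₁) (e.B_comm_z hy hyz).symm e.w.σz₂).symm
        obtain ⟨a, b, c, d, i, j, hco⟩ := e.coords_B hy hyz
        have e1 : y * σ * (y * σ) = y * (σ * y * σ⁻¹) := by
          rw [e.σ_inv]; group
        obtain ⟨a', b', c', d', i', j', hco'⟩ := e.coords_B (mul_mem hy hy')
          (((show Commute y z₁ from hyz).mul_left (show Commute (σ * y * σ⁻¹) z₁ from hy'z)).eq)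
        obtain ⟨p1, p2, p3, p4⟩ := e.comm_gen a b c d i j
        obtain ⟨q1, q2, q3, q4⟩ := e.comm_gen a' b' c' d' i' j'
        rw [← hco] at p1 p2 p3 p4
        rw [← hco'] at q1 q2 q3 q4
        have hsplit : ∀ g g', σ * g' * σ⁻¹ = g → ⁅y * (σ * y * σ⁻¹), g⁆ = y * (σ * ⁅y, g'⁆ * σ⁻¹) * y⁻¹ * ⁅y, g⁆ := by
          intro g g' hgg
          rw [show σ * ⁅y, g'⁆ * σ⁻¹ = ⁅σ * y * σ⁻¹, σ * g' * σ⁻¹⁆ by simp only [commutatorElement_def]; group, hgg]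
          simp only [commutatorElement_def]; group
        have hyV : ∀ k, y * bp z₁ k * y⁻¹ = bp z₁ k := fun k => by
          rw [conj_bp, hyz, mul_inv_cancel_right]
        have hyV₂ : ∀ k, y * bp z₂ k * y⁻¹ = bp z₂ k := fun k => by
          rw [conj_bp, e.B_comm_z hy hyz, mul_inv_cancel_right]
        rw [hsplit u₁ u₂ e.w.σu₂, p2, p1, conj_bp, e.w.σz₂, hyV] at q1
        rw [hsplit u₂ u₁ e.w.σu₁, p1, p2, conj_bp, e.w.σz₁, hyV₂] at q2
        rw [hsplit t₁ t₂ e.σ_t₂, p4, p3, conj_bp, e.w.σz₂, hyV] at q3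
        rw [hsplit t₂ t₁ e.σ_t₁, p3, p4, conj_bp, e.w.σz₁, hyV₂] at q4
        have hxor : ∀ {g : G}, g * g = 1 → ∀ p q, bp g p * bp g q = bp g (xor p q) := fun {g} hg p q => by
          cases p <;> cases q <;> simp [hg]
        rw [hxor e.z₁_sq] at q1 q3
        rw [hxor (D.V_sq _ hz2V)] at q2 q4
        have hi : i' = j' := by
          rw [← bp_inj e.w.z₁_ne q1, ← bp_inj e.w.z₂_ne q2, Bool.xor_comm]
        have ha : a' = c' := by
          rw [← bp_inj e.w.z₁_ne q3, ← bp_inj e.w.z₂_ne q4, Bool.xor_comm]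
        rw [e1, hco', hi, ha]
        exact hsymQ c' b' d' j'
    have h1 : u₁ ∉ Q₁ := by simpa using hnot true false (by simp)
    have h2 : t₁ ∉ Q₁ := by simpa using hnot false true (by simp)
    exact hnot true true (by simp) (by simpa using md.ov.mul_mem_core S.isPGroup' hsq hu₁S e.w.t_mem h1 h2)
  have hU2 : md.U ≤ Subgroup.centralizer (md.U : Set G) := by
    have h1 : ∀ m ∈ M₁, ∀ x ∈ md.U, x * (m * z₁ * m⁻¹) = m * z₁ * m⁻¹ * x := by
      intro m hm x hx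
      have h2 : m⁻¹ * x * m ∈ md.U := by
        have := (Subgroup.mem_normalizer_iff.mp (md.U_norm (M₁.inv_mem hm)) x).mp hx
        rwa [inv_inv] at this
      have h3 := hU1 _ h2
      calc x * (m * z₁ * m⁻¹) = m * (m⁻¹ * x * m * z₁) * m⁻¹ := by group
        _ = m * (z₁ * (m⁻¹ * x * m)) * m⁻¹ := by rw [h3]
        _ = m * z₁ * m⁻¹ * x := by group
    refine (Subgroup.closure_le _).mpr ?_
    rintro y (rfl | ⟨m, hm, rfl⟩) <;> refine Subgroup.mem_centralizer_iff.mpr fun x hx => ?_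
    · exact (md.comm_z (core_le M₁ (md.U_le hx)))
    · exact h1 m hm x hx
  have hUsq : ∀ u ∈ md.U, u * u = 1 := by
    intro u hu
    induction hu using Subgroup.closure_induction with
    | mem y hy =>
      rcases hy with rfl | ⟨m, -, rfl⟩
      · exact (e.w.inZ_z D).2.1
      · rw [show m * z₁ * m⁻¹ * (m * z₁ * m⁻¹) = m * (z₁ * z₁) * m⁻¹ by group, e.z₁_sq, mul_one, mul_inv_cancel]
    | one => exact one_mul 1
    | mul a b ha hb iha ihb =>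
      rw [(show Commute b a from Subgroup.mem_centralizer_iff.mp (hU2 ha) b hb).mul_mul_mul_comm, iha, ihb, one_mul]
    | inv a _ iha => rw [← mul_inv_rev, iha, inv_one]
  -- `U` lies in `W ∪ Wp ∪ Wc`
  have hUW : ∀ u ∈ md.U, u ∈ W ∨ (∃ w ∈ W, u = w * (u₁ * u₂)) ∨ ∃ w ∈ W, u = w * (t₁ * t₂) := by
    intro u hu
    obtain ⟨a, b, c, d, i, j, rfl⟩ := e.coords_B (hQS (md.U_le hu)) (hU1 _ hu)
    obtain ⟨rfl, rfl⟩ := e.sym_of_comm htS htz (hzW (md.comm_U htQ hu))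
    have hw : bp z₁ b * bp z₂ d ∈ W := e.mem_W.mpr ⟨b, d, rfl⟩
    have e1 : bp u₁ a * bp z₁ b * (bp u₂ a * bp z₂ d) = bp z₁ b * bp z₂ d * bp (u₁ * u₂) a := by
      have c1 : Commute (bp z₁ b) (bp u₂ a) := D.comm (bp_mem e.w.z₁_mem b) (bp_mem (e.w.u₂_mem D) a)
      have c2 : Commute (bp z₁ b * bp z₂ d) (bp u₁ a * bp u₂ a) := D.comm
        (V.mul_mem (bp_mem e.w.z₁_mem b) (bp_mem hz2V d)) (V.mul_mem (bp_mem e.w.u₁_mem a) (bp_mem (e.w.u₂_mem D) a))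
      rw [c1.mul_mul_mul_comm, ← c2.eq]
      cases a <;> simp
    have e2 : bp t₁ i * bp t₂ i = bp (t₁ * t₂) i := by cases i <;> simp
    have e3 : bp u₁ a * bp z₁ b * (bp u₂ a * bp z₂ d) * bp t₁ i * bp t₂ i =
        bp z₁ b * bp z₂ d * bp (u₁ * u₂) a * bp (t₁ * t₂) i := by rw [mul_assoc _ (bp t₁ i), e2, e1]
    rw [e3] at hu ⊢
    cases a <;> cases i
    · left; simpa using hw
    · right; right; exact ⟨_, hw, by simp⟩
    · right; left; exact ⟨_, hw, by simp⟩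
    · exfalso
      have h1 := hUsq _ hu
      simp only [bp_true] at h1
      set w := bp z₁ b * bp z₂ d with hw'
      set p := u₁ * u₂ with hp
      set c := t₁ * t₂ with hc
      have hp2 : p * p = 1 := D.V_sq _ (V.mul_mem e.w.u₁_mem (e.w.u₂_mem D))
      have hcS : c ∈ (S : Subgroup G) := mul_mem e.w.t_mem e.w.t₂_mem
      have hcz : c * z₁ = z₁ * c :=
        (Commute.mul_left (mul_inv_eq_iff_eq_mul.mp e.w.t₁z₁) (mul_inv_eq_iff_eq_mul.mp e.w.t₂z₁)).eq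
      have hww : w * w = 1 := D.V_sq _ (e.W_le_V hw)
      have hcw : Commute (p * c) w := by
        refine Commute.mul_left ?_ (e.W_central hcS hcz hw)
        exact D.comm (V.mul_mem e.w.u₁_mem (e.w.u₂_mem D)) (e.W_le_V hw)
      have hcp : c * p * c⁻¹ = p * (z₁ * z₂) := by
        have hh := e.w.conj_t₁ D
        rw [hp, hc, show t₁ * t₂ * (u₁ * u₂) * (t₁ * t₂)⁻¹ = t₁ * (t₂ * u₁ * t₂⁻¹) * t₁⁻¹ * (t₁ * (t₂ * u₂ * t₂⁻¹) * t₁⁻¹) by
          group, e.w.t₂u₁, e.w.t₁u₁, e.w.t₂u₂, show t₁ * (u₂ * z₂) * t₁⁻¹ = t₁ * u₂ * t₁⁻¹ * (t₁ * z₂ * t₁⁻¹) by group, e.w.t₁u₂, e.w.t₁z₂]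
        exact ((show Commute z₁ u₂ from D.comm e.w.z₁_mem (e.w.u₂_mem D)).mul_mul_mul_comm u₁ z₂)
      have hc2 : c * c = 1 := by
        rw [hc, (show Commute t₂ t₁ from e.t_comm.symm).mul_mul_mul_comm, e.t₁_sq, e.t₂_sq, one_mul]
      refine e.w.z_ne D ?_
      calc z₁ * z₂ = p * (p * (z₁ * z₂)) * (c * c) := by rw [← mul_assoc p, hp2, hc2, one_mul, mul_one]
        _ = p * c * (p * c) := by rw [← hcp]; group
        _ = w * (p * c) * (w * (p * c)) := by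
          rw [hcw.mul_mul_mul_comm, hww, one_mul]
        _ = 1 := by rw [← mul_assoc w]; exact h1
  -- `U` is not `W`
  have hUne : ¬ md.U ≤ W := fun hle => hov.not_le fun m hm => by
    refine md.mem_normalizer (md.conj_z hm) ?_
    obtain ⟨b, d, hbd⟩ := e.mem_W.mp (hle (md.conj_v_U hm))
    rw [hzz]
    cases b <;> cases d <;> simp at hbd
    · exact absurd hbd e.w.z₁_ne
    · exact Or.inr hbd
    · exact Or.inl hbd
    · exfalso
      refine md.v_ne_z ?_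
      calc z₁ = m⁻¹ * (m * z₁ * m⁻¹) * m := by group
        _ = z₁ * z₂ := by rw [hbd, mul_assoc, ← md.comm_z hm, inv_mul_cancel_left]
  have hWU : W ≤ md.U := (Subgroup.closure_le _).mpr (by rintro a (rfl | rfl); exacts [md.z_U, md.v_U])
  obtain ⟨u, hu, huW⟩ := Set.not_subset.mp hUne
  set C := M₁ ⊓ Subgroup.centralizer (md.U : Set G) with hC
  have hCn : M₁ ≤ Subgroup.normalizer (C : Set G) := Subgroup.le_normalizer_iff.mpr fun g hg a ha =>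
    ⟨M₁.mul_mem (M₁.mul_mem hg ha.1) (M₁.inv_mem hg), Subgroup.mem_centralizer_iff.mpr fun x hx =>
      (conj_mem_centralizer (L := M₁) md.U_norm hg (fun y hy => (Subgroup.mem_centralizer_iff.mp ha.2 y hy).symm)
        x hx).symm⟩
  have hCodd : ∀ y ∈ C, Odd (orderOf y) → y = 1 := fun y hy hyo => md.eq_one_of_fix hy.1 hyo
    (Or.inl (by rw [← Subgroup.mem_centralizer_iff.mp hy.2 z₁ md.v_U, mul_inv_cancel_right]))
  have hCS : C ≤ (S : Subgroup G) := (md.le_Q inf_le_left hCn hCodd).trans hQS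
  have hCz : ∀ a ∈ C, a * z₁ = z₁ * a := fun a ha => (Subgroup.mem_centralizer_iff.mp ha.2 z₁ md.v_U).symm
  obtain ⟨f, hf, hf1, hfo⟩ := md.exists_odd
  have hfM := hov.F_le hf
  rcases (hUW u hu).resolve_left huW with ⟨w, hw, rfl⟩ | ⟨w, hw, rfl⟩
  · -- `V` would be normal in `M₁`
    have hp : u₁ * u₂ ∈ md.U := by
      have := mul_mem (inv_mem (hWU hw)) hu
      rwa [inv_mul_cancel_left] at this
    have hUV : md.U ≤ V := by
      intro x hx
      rcases hUW x hx with hxW | ⟨w', hw', rfl⟩ | ⟨w', hw', rfl⟩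
      · exact e.W_le_V hxW
      · exact V.mul_mem (e.W_le_V hw') (V.mul_mem e.w.u₁_mem (e.w.u₂_mem D))
      · exfalso
        have hc : t₁ * t₂ ∈ md.U := by
          have := mul_mem (inv_mem (hWU hw')) hx
          rwa [inv_mul_cancel_left] at this
        have hcomm := Subgroup.mem_centralizer_iff.mp (hU2 hp) _ hc
        obtain ⟨b, d, hbd⟩ := e.w.fix_c D (V.mul_mem e.w.u₁_mem (e.w.u₂_mem D))
          (mul_inv_eq_iff_eq_mul.mpr hcomm)
        exact huW (W.mul_mem hw (e.mem_W.mpr ⟨b, d, hbd⟩))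
    have hCV : C = V := le_antisymm (fun a ha => e.mem_V_of_comm_u (hCS ha) (hCz a ha)
        (Subgroup.mem_centralizer_iff.mp ha.2 _ hp).symm)
      fun a ha => ⟨md.S_le (D.V_le_S ha), Subgroup.mem_centralizer_iff.mpr fun x hx => D.comm (hUV hx) ha⟩
    rw [hCV] at hCn
    exact hf1 (e.eq_one_of_norm h h4 (hM₁ hfM) hfo (hCn hfM))
  · -- `C = ⟨z₁, z₂, t₁, t₂⟩`
    have hc : t₁ * t₂ ∈ md.U := by
      have := mul_mem (inv_mem (hWU hw)) hu
      rwa [inv_mul_cancel_left] at this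
    have hUc : ∀ x ∈ md.U, x ∈ W ∨ ∃ w ∈ W, x = w * (t₁ * t₂) := by
      intro x hx
      rcases hUW x hx with hxW | ⟨w', hw', rfl⟩ | hh
      · exact Or.inl hxW
      · exfalso
        have hp : u₁ * u₂ ∈ md.U := by
          have := mul_mem (inv_mem (hWU hw')) hx
          rwa [inv_mul_cancel_left] at this
        have hcomm := Subgroup.mem_centralizer_iff.mp (hU2 hp) _ hc
        obtain ⟨b, d, hbd⟩ := e.w.fix_c D (V.mul_mem e.w.u₁_mem (e.w.u₂_mem D))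
          (mul_inv_eq_iff_eq_mul.mpr hcomm)
        have h1 : ⁅bp u₁ true * bp z₁ false * (bp u₂ true * bp z₂ false) * bp t₁ false * bp t₂ false, t₁⁆ =
            bp z₁ true := (e.comm_gen true false true false false false).2.2.1
        simp only [bp_true, bp_false, mul_one] at h1
        rw [hbd, commutatorElement_eq_one_iff_mul_comm.mpr
          (e.W_central e.w.t_mem (mul_inv_eq_iff_eq_mul.mp e.w.t₁z₁) (e.mem_W.mpr ⟨b, d, rfl⟩)).symm] at h1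
        exact e.w.z₁_ne h1.symm
      · exact Or.inr hh
    have hcd : ∀ a ∈ C, ∃ b d i j : Bool, a = bp z₁ b * bp z₂ d * bp t₁ i * bp t₂ j := fun a ha =>
      e.coords_of_comm_c (hCS ha) (hCz a ha) (Subgroup.mem_centralizer_iff.mp ha.2 _ hc).symm
    have hcW : ∀ {s}, s ∈ (S : Subgroup G) → s * z₁ = z₁ * s → s * (t₁ * t₂) = t₁ * t₂ * s → s ∈ C := by
      intro s hs hsz hsc
      refine ⟨md.S_le hs, Subgroup.mem_centralizer_iff.mpr fun x hx => ?_⟩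
      rcases hUc x hx with hxW | ⟨w', hw', rfl⟩
      · exact (e.W_central hs hsz hxW).symm
      · exact ((show Commute w' s from (e.W_central hs hsz hw').symm).mul_left hsc.symm).eq
    have ht₁z : t₁ * z₁ = z₁ * t₁ := mul_inv_eq_iff_eq_mul.mp e.w.t₁z₁
    have ht₂z : t₂ * z₁ = z₁ * t₂ := mul_inv_eq_iff_eq_mul.mp e.w.t₂z₁
    have ht₁t₂ : t₁ * (t₁ * t₂) = t₁ * t₂ * t₁ := by rw [mul_assoc t₁ t₂, ← e.t_comm]
    have ht₁C : t₁ ∈ C := hcW e.w.t_mem ht₁z ht₁t₂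
    have hz₁C : z₁ ∈ C := hcW (D.V_le_S e.w.z₁_mem) rfl
      ((show Commute z₁ t₁ from ht₁z.symm).mul_right (show Commute z₁ t₂ from ht₂z.symm)).eq
    have hCU : ∀ a ∈ C, a ∈ md.U ∨ t₁ * a ∈ md.U := by
      intro a ha
      obtain ⟨b, d, i, j, rfl⟩ := hcd a ha
      have hwU : bp z₁ b * bp z₂ d ∈ md.U := hWU (e.mem_W.mpr ⟨b, d, rfl⟩)
      have hwt : Commute t₁ (bp z₁ b * bp z₂ d) := e.W_central e.w.t_mem ht₁z (e.mem_W.mpr ⟨b, d, rfl⟩)
      cases i <;> cases j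
      · left; simpa using hwU
      · right
        simp only [bp_true, bp_false, mul_one]
        rw [← mul_assoc, hwt.eq, mul_assoc]
        exact mul_mem hwU hc
      · right
        simp only [bp_true, bp_false, mul_one]
        rw [← mul_assoc, hwt.eq, mul_assoc, e.t₁_sq, mul_one]
        exact hwU
      · left
        simp only [bp_true]
        rw [mul_assoc _ t₁]
        exact mul_mem hwU hc
    have hCsq : ∀ a ∈ C, a * a = 1 := by
      intro a ha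
      rcases hCU a ha with h1 | h1
      · exact hUsq a h1
      · have h2 : Commute a (t₁ * a) := (Subgroup.mem_centralizer_iff.mp ha.2 _ h1).symm
        have h4 : a * t₁ = t₁ * a := mul_right_cancel (show a * t₁ * a = t₁ * a * a by rw [mul_assoc a]; exact h2)
        calc a * a = (t₁ * t₁) * (a * a) := by rw [e.t₁_sq, one_mul]
          _ = t₁ * a * (t₁ * a) := by rw [(show Commute a t₁ from h4).mul_mul_mul_comm]
          _ = 1 := hUsq _ h1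
    have ht₁U : t₁ ∉ md.U := by
      intro hh
      have h1 := e.sym_of_comm htS htz (a := false) (b := false) (c := false) (d := false) (i := true) (j := false)
        (by simpa using hzW (md.comm_U htQ hh))
      simp at h1
    -- the order of `F'`
    have hU8 : Nat.card md.U ≤ 8 := by
      have h1 := card_le_of_classes (A := md.U) (N := W) (T := Bool) (fun x => decide (x ∈ W)) fun a ha b hb hab => by
        simp only [decide_eq_decide] at hab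
        by_cases haW : a ∈ W
        · exact W.mul_mem (W.inv_mem haW) (hab.mp haW)
        · obtain ⟨wa, hwa, rfl⟩ := (hUc a ha).resolve_left haW
          obtain ⟨wb, hwb, rfl⟩ := (hUc b hb).resolve_left fun hh => haW (hab.mpr hh)
          rw [show (wa * (t₁ * t₂))⁻¹ * (wb * (t₁ * t₂)) = (t₁ * t₂)⁻¹ * (wa⁻¹ * wb) * (t₁ * t₂)⁻¹⁻¹ by group]
          exact (Subgroup.mem_normalizer_iff.mp (e.S_norm_W (inv_mem (mul_mem e.w.t_mem e.w.t₂_mem))) _).mp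
            (W.mul_mem (W.inv_mem hwa) hwb)
      have h2 : Nat.card W ≤ 4 := by
        have h2 := Nat.card_le_card_of_surjective (α := Bool × Bool) (β := ↥W)
          (fun p => ⟨bp z₁ p.1 * bp z₂ p.2, e.mem_W.mpr ⟨p.1, p.2, rfl⟩⟩) fun x => by
          obtain ⟨b, d, hbd⟩ := e.mem_W.mp x.2
          exact ⟨(b, d), Subtype.ext hbd.symm⟩
        simpa using h2
      have h3 := Subgroup.card_le_of_le (inf_le_right : md.U ⊓ W ≤ W)
      simp only [Nat.card_eq_fintype_card (α := Bool), Fintype.card_bool] at h1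
      omega
    have hF3 : Nat.card F' = 3 := by
      have := md.card_F_le
      rcases hov.card with h3 | h5 | h7 | h9 <;> omega
    have hf3 : f ^ 3 = 1 := by
      rw [← hF3]
      exact congrArg Subtype.val (pow_card_eq_one' (x := (⟨f, hf⟩ : ↥F')))
    have hconjC : ∀ {g a}, g ∈ M₁ → a ∈ C → g * a * g⁻¹ ∈ C := fun hg ha =>
      (Subgroup.mem_normalizer_iff.mp (hCn hg) _).mp ha
    have hconjU : ∀ {g a}, g ∈ M₁ → a ∈ md.U → g * a * g⁻¹ ∈ md.U := fun hg ha =>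
      (Subgroup.mem_normalizer_iff.mp (md.U_norm hg) _).mp ha
    set a₁ := f * t₁ * f⁻¹ with ha₁
    set a₂ := f * a₁ * f⁻¹ with ha₂
    have ha₁C : a₁ ∈ C := hconjC hfM ht₁C
    have ha₂C : a₂ ∈ C := hconjC hfM ha₁C
    have hnotU : ∀ {g a}, g ∈ M₁ → a ∉ md.U → g * a * g⁻¹ ∉ md.U := fun {g a} hg ha hh => ha (by
      have := hconjU (M₁.inv_mem hg) hh
      rwa [show g⁻¹ * (g * a * g⁻¹) * g⁻¹⁻¹ = a by group] at this)
    have ha₁U := (hCU a₁ ha₁C).resolve_left (hnotU hfM ht₁U)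
    have ha₂U := (hCU a₂ ha₂C).resolve_left (hnotU hfM (hnotU hfM ht₁U))
    have hCc : ∀ a ∈ C, ∀ b ∈ C, a * b = b * a := comm_of_exp_two hCsq
    set ε := t₁ * (a₁ * a₂) with hε
    have hεfix : f * ε = ε * f := by
      refine mul_inv_eq_iff_eq_mul.mp ?_
      have h3' : f * a₂ * f⁻¹ = t₁ := by
        calc f * a₂ * f⁻¹ = f ^ 3 * t₁ * (f ^ 3)⁻¹ := by simp only [ha₂, ha₁, pow_succ, pow_zero, one_mul]; group
          _ = t₁ := by rw [hf3, one_mul, inv_one, mul_one]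
      rw [hε, ← conj_mul, ← conj_mul, ← ha₁, ← ha₂, h3', ← mul_assoc, hCc _ (C.mul_mem ha₁C ha₂C) _ ht₁C]
    have hεU : t₁ * ε ∈ md.U := by
      have h1 := mul_mem ha₁U ha₂U
      rwa [(show Commute a₁ t₁ from hCc _ ha₁C _ ht₁C).mul_mul_mul_comm, e.t₁_sq, one_mul,
        show a₁ * a₂ = t₁ * ε by rw [hε, ← mul_assoc t₁ t₁, e.t₁_sq, one_mul]] at h1
    -- up to `z` a conjugate of `t₁`
    obtain ⟨g, hgS, dd, hgd⟩ : ∃ g ∈ (S : Subgroup G), ∃ dd : Bool, g * t₁ * g⁻¹ = ε * bp (z₁ * z₂) dd := by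
      have hε' : ε = t₁ * (t₁ * ε) := by rw [← mul_assoc, e.t₁_sq, one_mul]
      have hu1t : u₁ * t₁ * u₁⁻¹ = z₁ * t₁ := by
        calc u₁ * t₁ * u₁⁻¹ = u₁ * (t₁ * u₁⁻¹ * t₁⁻¹) * t₁ := by group
          _ = z₁ * t₁ := by rw [D.inv_eq e.w.u₁_mem, e.w.t₁u₁, ← mul_assoc, D.V_sq _ e.w.u₁_mem, one_mul]
      have hu2t : u₂ * σ * t₁ * (u₂ * σ)⁻¹ = z₂ * t₂ := by
        calc u₂ * σ * t₁ * (u₂ * σ)⁻¹ = u₂ * (σ * t₁ * σ⁻¹) * u₂⁻¹ := by group
          _ = u₂ * (t₂ * u₂⁻¹ * t₂⁻¹) * t₂ := by rw [e.σ_t₁]; group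
          _ = z₂ * t₂ := by
            rw [D.inv_eq (e.w.u₂_mem D), e.w.t₂u₂, ← mul_assoc, D.V_sq _ (e.w.u₂_mem D), one_mul]
      have hzc : ∀ {s}, s ∈ (S : Subgroup G) → s * (z₁ * z₂) = z₁ * z₂ * s := fun hs => (e.w.inZ_z D).2.2 _ hs
      have hz22 := D.V_sq _ hz2V
      have hz12 := e.z₁_sq
      have z12c := D.comm e.w.z₁_mem hz2V
      have hz₂t : t₁ * z₂ = z₂ * t₁ := mul_inv_eq_iff_eq_mul.mp e.w.t₁z₂
      have hz₂t₂ : t₂ * z₂ = z₂ * t₂ := mul_inv_eq_iff_eq_mul.mp e.w.t₂z₂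
      have hz1z : z₁ * z₂ * z₂ = z₁ := by rw [mul_assoc, hz22, mul_one]
      rcases hUc _ hεU with hw' | ⟨w', hw', hw''⟩
      · obtain ⟨b, d, hbd⟩ := e.mem_W.mp hw'
        rw [hbd] at hε'
        cases b <;> cases d <;> simp at hε'
        · exact ⟨1, one_mem _, false, by simp [hε']⟩
        · refine ⟨u₁, hu₁S, true, ?_⟩
          rw [hu1t, hε', bp_true, hz₂t, mul_assoc, hzc e.w.t_mem, ← mul_assoc z₂,
            z12c, ← mul_assoc z₂ z₂, hz22, one_mul]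
        · exact ⟨u₁, hu₁S, false, by rw [hu1t, hε', bp_false, mul_one, ht₁z]⟩
        · exact ⟨1, one_mem _, true, by simp [hε', mul_assoc, (e.w.inZ_z D).2.1]⟩
      · obtain ⟨b, d, hbd⟩ := e.mem_W.mp hw'
        have hε2 : ε = bp z₁ b * bp z₂ d * t₂ := by
          rw [hε', hw'', ← mul_assoc, e.W_central e.w.t_mem ht₁z hw', mul_assoc, ← mul_assoc t₁, e.t₁_sq, one_mul,
            hbd]
        cases b <;> cases d <;> simp at hε2
        · exact ⟨σ, e.w.σ_mem, false, by simp [hε2, e.σ_t₁]⟩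
        · exact ⟨u₂ * σ, mul_mem hu₂S e.w.σ_mem, false, by rw [hu2t, hε2, bp_false, mul_one]⟩
        · refine ⟨u₂ * σ, mul_mem hu₂S e.w.σ_mem, true, ?_⟩
          rw [hu2t, hε2, bp_true, mul_assoc, hzc e.w.t₂_mem, ← mul_assoc z₁, ← mul_assoc z₁, hz12, one_mul]
        · refine ⟨σ, e.w.σ_mem, true, ?_⟩
          rw [hε2, bp_true, e.σ_t₁, mul_assoc, hzc e.w.t₂_mem, ← mul_assoc, (e.w.inZ_z D).2.1, one_mul]
    set f' := g⁻¹ * f * g with hf'
    have hf'M : f' ∈ M₁ := M₁.mul_mem (M₁.mul_mem (M₁.inv_mem (md.S_le hgS)) hfM) (md.S_le hgS)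
    have hf'o : Odd (orderOf f') := by
      refine Odd.of_dvd_nat (by decide : Odd 3) (orderOf_dvd_of_pow_eq_one ?_)
      calc f' ^ 3 = g⁻¹ * f ^ 3 * g := by simp only [hf', pow_succ, pow_zero, one_mul]; group
        _ = 1 := by rw [hf3, mul_one, inv_mul_cancel]
    have hf'1 : f' ≠ 1 := fun hh => hf1 (by
      calc f = g * f' * g⁻¹ := by rw [hf']; group
        _ = 1 := by rw [hh]; group)
    have hf't : f' * t₁ = t₁ * f' := by
      refine mul_inv_eq_iff_eq_mul.mp ?_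
      have hfix : f * (ε * bp (z₁ * z₂) dd) * f⁻¹ = ε * bp (z₁ * z₂) dd := by
        rw [← conj_mul, conj_bp, md.conj_z hfM, hεfix, mul_inv_cancel_right]
      calc f' * t₁ * f'⁻¹ = g⁻¹ * (f * (g * t₁ * g⁻¹) * f⁻¹) * g := by rw [hf']; group
        _ = t₁ := by rw [hgd, hfix, ← hgd]; group
    have htne : t₁ ≠ 1 := fun hh => by
      have h1 := e.w.t₁u₁
      rw [hh, one_mul, inv_one, mul_one, left_eq_mul] at h1
      exact e.w.z₁_ne h1
    have hC2 : IsPGroup 2 ↥C := pow_two_two hCsq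
    have hcore := (good_inv h e.t₁_sq htne).commutator_mem h4 hC2
      (fun a ha => mem_inv_norm (hCc a ha t₁ ht₁C)) hz₁C (mem_inv_norm hf't) hf'o
      (hconjC hf'M (C.inv_mem hz₁C))
    set n := f' * z₁ * f'⁻¹ with hn
    obtain ⟨w', hw', hnw⟩ := (hUc n (md.conj_v_U hf'M)).resolve_left fun hW' => hf'1 (by
      obtain ⟨b, d, hbd⟩ := e.mem_W.mp hW'
      cases b <;> cases d <;> simp [hn] at hbd
      · exact absurd hbd e.w.z₁_ne
      · exact md.eq_one_of_fix hf'M hf'o (Or.inr (by rw [hzz, hbd]))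
      · exact md.eq_one_of_fix hf'M hf'o (Or.inl hbd)
      · refine absurd ?_ md.v_ne_z
        calc z₁ = f'⁻¹ * (f' * z₁ * f'⁻¹) * f' := by group
          _ = z₁ * z₂ := by rw [hbd, mul_assoc, ← md.comm_z hf'M, inv_mul_cancel_left])
    have hninv : n⁻¹ = n := inv_eq_of_mul_eq_one_right (hUsq n (md.conj_v_U hf'M))
    rw [show ⁅z₁, f'⁆ = z₁ * n⁻¹ by simp only [hn, commutatorElement_def]; group, hninv, hnw] at hcore
    refine e.false_of_core hcore e.w.f₁_mem (mem_inv_norm (mul_inv_eq_iff_eq_mul.mp e.w.t_f₁).symm) e.w.f₁_ne ?_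
    have hv : z₁ * w' ∈ V := V.mul_mem e.w.z₁_mem (e.W_le_V hw')
    have hct : t₁ * t₂ * f₁ * (t₁ * t₂)⁻¹ = f₁⁻¹ := e.w.c_inv D f₁ e.w.f₁_mem
    set v := z₁ * w' with hvdef
    rw [← mul_assoc z₁ w', ← hvdef, show v * (t₁ * t₂) * f₁ * (v * (t₁ * t₂))⁻¹ =
      v * (t₁ * t₂ * f₁ * (t₁ * t₂)⁻¹) * v⁻¹ by group, hct,
      show v * f₁⁻¹ * v⁻¹ * f₁ = v * (f₁⁻¹ * v⁻¹ * f₁⁻¹⁻¹) by group]
    exact V.mul_mem hv (D.conj_V (K.inv_mem (D.ov.F_le e.w.f₁_mem)) (V.inv_mem hv))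

end WrExact

end CfsgLib.SRFour
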