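import Mathlib
import Cfsg.Agent.Lib.SRFour.ITypeEnd

/-!
The irreducible type is impossible.

Blueprint: `blueprint/S0517.md`, §4.
-/

set_option autoImplicit false
set_option linter.unusedSectionVars false
set_option linter.style.haveILetI false

namespace CfsgLib.SRFour

open Cfsg

universe u

variable {G : Type u} [Group G] [Finite G] {S : Sylow 2 G} {K F H V : Subgroup G}

/-- No mover of `C(Ω₁Z(S))` acts irreducibly on an elementary abelian group of order sixteen. -/
theorem iType (h : Hard G) (D : IData (S : Subgroup G) K F H V) : False := by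
  have h4 := h.sect
  rcases D.shape with hC | hC | ⟨f₁, f₂, t₁, σ, hw⟩
  · exact D.false_of_two h hC
  · exact D.false_of_four h hC
  · obtain ⟨u₁, z₁, u₂, z₂, w⟩ := D.exists_frame hw
    have e := D.exists_exact h h4 w
    by_cases hM : centZ (S : Subgroup G) ≤
        Subgroup.normalizer ((Subgroup.closure ({z₁ * z₂, z₁} : Set G) : Subgroup G) : Set G)
    · exact e.false_of_norm h h4 hM
    · exact e.false_of_mover h h4 hM

end CfsgLib.SRFour
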